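import Mathlib

/-!
Groups of automorphisms of an abelian group with a transvection generating a Sylow `p`-subgroup
of order `p` that is not normal.
-/

set_option autoImplicit false
set_option linter.unusedSectionVars false

namespace Cfsg.Agent.H90

/-- An element outside a subgroup of index `p` generates it modulo that subgroup. -/
theorem exists_pow_div_mem {E : Type*} [CommGroup E] {p : ℕ} [hp : Fact p.Prime]
    {N : Subgroup E} (hN : N.index = p) {a : E} (ha : a ∉ N) (x : E) :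
    ∃ i : ℕ, x * (a ^ i)⁻¹ ∈ N := by
  have hq : Nat.card (E ⧸ N) = p := by rw [← Subgroup.index_eq_card, hN]
  have : Finite (E ⧸ N) := Nat.finite_of_card_ne_zero (hq ▸ hp.out.ne_zero)
  have hne : QuotientGroup.mk' N a ≠ 1 := fun h => ha ((QuotientGroup.eq_one_iff a).1 h)
  obtain ⟨i, hi⟩ : QuotientGroup.mk' N x ∈ Submonoid.powers (QuotientGroup.mk' N a) :=
    mem_powers_of_prime_card hq hne
  refine ⟨i, (QuotientGroup.eq_one_iff _).1 ?_⟩
  show QuotientGroup.mk' N (x * (a ^ i)⁻¹) = 1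
  rw [map_mul, map_inv, map_pow, ← hi, mul_inv_cancel]

theorem exists_pow_eq {E : Type*} [CommGroup E] {p : ℕ} [hp : Fact p.Prime] {T : Subgroup E}
    (hT : Nat.card T = p) {a : E} (ha : a ∈ T) (ha1 : a ≠ 1) {x : E} (hx : x ∈ T) :
    ∃ i : ℕ, a ^ i = x := by
  obtain ⟨i, hi⟩ : (⟨x, hx⟩ : T) ∈ Submonoid.powers (⟨a, ha⟩ : T) :=
    mem_powers_of_prime_card hT fun h => ha1 (congrArg Subtype.val h)
  exact ⟨i, congrArg Subtype.val hi⟩

/-- The hypotheses: `u` generates a Sylow subgroup of order `p` of `A`, is not normal, fixes exactly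
`Z` of index `p` and moves by elements of `T` of order `p`. -/
structure TransData (p : ℕ) {E : Type*} [CommGroup E] (A : Subgroup (MulAut E)) (u : MulAut E)
    (Z T : Subgroup E) : Prop where
  mem : u ∈ A
  fix_iff : ∀ x, u x = x ↔ x ∈ Z
  diff : ∀ x, x⁻¹ * u x ∈ T
  le : T ≤ Z
  card : Nat.card T = p
  index : Z.index = p
  sylow : ∀ P : Subgroup (MulAut E), P ≤ A → IsPGroup p P → u ∈ P → P ≤ Subgroup.zpowers u
  not_normal : ∃ γ ∈ A, γ * u * γ⁻¹ ∉ Subgroup.zpowers u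

variable {p : ℕ} [hp : Fact p.Prime] {E : Type*} [CommGroup E] [Finite E]
  {A : Subgroup (MulAut E)} {u : MulAut E} {Z T : Subgroup E}

/-- Automorphisms moving every element inside `W`, and stabilising the series `1 ≤ T ≤ W`. -/
def seriesStab (A : Subgroup (MulAut E)) (T W : Subgroup E) : Subgroup (MulAut E) where
  carrier := {δ | δ ∈ A ∧ (∀ a ∈ T, δ a = a) ∧ (∀ b ∈ W, b⁻¹ * δ b ∈ T) ∧
    ∀ x, x⁻¹ * δ x ∈ W}
  one_mem' := ⟨A.one_mem, fun a _ => rfl, fun b _ => by simp, fun x => by simp⟩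
  mul_mem' {δ ε} hd he := by
    refine ⟨A.mul_mem hd.1 he.1, fun a ha => ?_, fun b hb => ?_, fun x => ?_⟩
    · rw [MulAut.mul_apply, he.2.1 a ha, hd.2.1 a ha]
    · have hy : ε b ∈ W := by
        have := W.mul_mem hb (he.2.2.2 b)
        rwa [mul_inv_cancel_left] at this
      have := T.mul_mem (he.2.2.1 b hb) (hd.2.2.1 _ hy)
      rwa [← mul_assoc, mul_inv_cancel_right] at this
    · have := W.mul_mem (he.2.2.2 x) (hd.2.2.2 (ε x))
      rwa [← mul_assoc, mul_inv_cancel_right] at this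
  inv_mem' {δ} hd := by
    have e : ∀ x, x⁻¹ * δ⁻¹ x = ((δ⁻¹ x)⁻¹ * δ (δ⁻¹ x))⁻¹ := fun x => by
      rw [MulAut.apply_inv_self, mul_inv_rev, inv_inv]
    refine ⟨A.inv_mem hd.1, fun a ha => ?_, fun b hb => ?_, fun x => ?_⟩
    · conv_lhs => rw [← hd.2.1 a ha, MulAut.inv_apply_self]
    · have hy : δ⁻¹ b ∈ W := by
        have := W.mul_mem hb (show b⁻¹ * δ⁻¹ b ∈ W by rw [e]; exact W.inv_mem (hd.2.2.2 _))
        rwa [mul_inv_cancel_left] at this
      rw [e]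
      exact T.inv_mem (hd.2.2.1 _ hy)
    · rw [e]
      exact W.inv_mem (hd.2.2.2 _)

theorem pow_apply_of_fix (δ : MulAut E) {x : E} (h : δ (x⁻¹ * δ x) = x⁻¹ * δ x) (n : ℕ) :
    (δ ^ n) x = x * (x⁻¹ * δ x) ^ n := by
  induction n with
  | zero => simp
  | succ n ih =>
    rw [pow_succ', MulAut.mul_apply, ih, map_mul, map_pow, h]
    generalize hy : δ x = y
    rw [pow_succ', ← mul_assoc, ← mul_assoc, mul_inv_cancel, one_mul]

theorem seriesStab_isPGroup {W : Subgroup E} (hT : ∀ a ∈ T, a ^ p = 1) (hW : ∀ b ∈ W, b ^ p = 1) :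
    IsPGroup p (seriesStab A T W) := by
  rintro ⟨δ, hd⟩
  refine ⟨2, Subtype.ext (MulEquiv.ext fun x => ?_)⟩
  show (δ ^ p ^ 2) x = x
  have hfix : ∀ b ∈ W, (δ ^ p) b = b := fun b hb => by
    rw [pow_apply_of_fix δ (hd.2.1 _ (hd.2.2.1 b hb)) p, hT _ (hd.2.2.1 b hb), mul_one]
  have hmem : x⁻¹ * (δ ^ p) x ∈ W := ((seriesStab A T W).pow_mem hd p).2.2.2 x
  rw [pow_two, pow_mul, pow_apply_of_fix (δ ^ p) (hfix _ hmem) p, hW _ hmem, mul_one]

namespace TransData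

variable (D : TransData p A u Z T)
include D

theorem T_pow : ∀ a ∈ T, a ^ p = 1 := by
  intro a ha
  have h : (⟨a, ha⟩ : T) ^ p = 1 := by rw [← D.card]; exact pow_card_eq_one'
  exact congrArg Subtype.val h

theorem u_fix : ∀ x ∈ Z, u x = x := fun x hx => (D.fix_iff x).2 hx

theorem zpowers_fix {δ : MulAut E} (hδ : δ ∈ Subgroup.zpowers u) {x : E} (hx : x ∈ Z) : δ x = x := by
  obtain ⟨i, rfl⟩ := hδ
  exact Subgroup.closure_induction (k := {u}) (p := fun g _ => g x = x)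
    (fun g hg => by rw [Set.mem_singleton_iff.1 hg]; exact D.u_fix x hx) rfl
    (fun g h _ _ h1 h2 => by rw [MulAut.mul_apply, h2, h1])
    (fun g _ h1 => by conv_lhs => rw [← h1, MulAut.inv_apply_self])
    (Subgroup.zpowers_eq_closure u ▸ Subgroup.zpow_mem_zpowers u i)

theorem conj_mem {η : MulAut E} (hη : η ∈ A) (h : ∀ a ∈ T, η a ∈ Z) :
    η⁻¹ * u * η ∈ Subgroup.zpowers u := by
  set v := η⁻¹ * u * η with hv
  let T' := T.map (η⁻¹ : MulAut E).toMonoidHom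
  have hvT : ∀ a ∈ T, v a = a := fun a ha => by
    rw [hv, MulAut.mul_apply, MulAut.mul_apply, D.u_fix _ (h a ha), MulAut.inv_apply_self]
  have hvT' : ∀ b ∈ T', v b = b := by
    rintro _ ⟨a, ha, rfl⟩
    show η⁻¹ (u (η (η⁻¹ a))) = η⁻¹ a
    rw [MulAut.apply_inv_self, D.u_fix _ (D.le ha)]
  have hvd : ∀ x, x⁻¹ * v x ∈ T' := fun x => ⟨(η x)⁻¹ * u (η x), D.diff _, by
    show η⁻¹ ((η x)⁻¹ * u (η x)) = x⁻¹ * v x
    rw [map_mul, map_inv, MulAut.inv_apply_self]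
    rfl⟩
  have hWfix : ∀ b ∈ T ⊔ T', v b = b := by
    intro b hb
    obtain ⟨a, ha, c, hc, rfl⟩ := Subgroup.mem_sup.1 hb
    rw [map_mul, hvT a ha, hvT' c hc]
  have hWp : ∀ b ∈ T ⊔ T', b ^ p = 1 := by
    intro b hb
    obtain ⟨a, ha, _, ⟨c, hc, rfl⟩, rfl⟩ := Subgroup.mem_sup.1 hb
    rw [mul_pow, D.T_pow a ha, one_mul, ← map_pow, D.T_pow c hc, map_one]
  refine D.sylow (seriesStab A T (T ⊔ T')) (fun δ hδ => hδ.1)
    (seriesStab_isPGroup D.T_pow hWp) ⟨D.mem, fun a ha => D.u_fix a (D.le ha), fun b _ => D.diff b,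
      fun x => le_sup_left (α := Subgroup E) (D.diff x)⟩
    ⟨A.mul_mem (A.mul_mem (A.inv_mem hη) D.mem) hη, hvT, fun b hb => ?_,
      fun x => le_sup_right (α := Subgroup E) (hvd x)⟩
  rw [hWfix b hb, inv_mul_cancel]
  exact T.one_mem

theorem key {η : MulAut E} (hη : η ∈ A) (h : ∀ a ∈ T, η a ∈ Z) {z : E} (hz : z ∈ Z) : η z ∈ Z := by
  have := D.zpowers_fix (D.conj_mem hη h) hz
  rw [MulAut.mul_apply, MulAut.mul_apply] at this
  refine (D.fix_iff _).1 ?_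
  conv_rhs => rw [← this, MulAut.apply_inv_self]

theorem stab_inv {η : MulAut E} (h : ∀ z ∈ Z, η z ∈ Z) {z : E} (hz : z ∈ Z) : η⁻¹ z ∈ Z := by
  obtain ⟨⟨w, hw⟩, e⟩ := Finite.surjective_of_injective
    (f := fun w : Z => (⟨η w, h w w.2⟩ : Z))
    (fun a b hab => Subtype.ext (η.injective (congrArg Subtype.val hab))) ⟨z, hz⟩
  have e' : η w = z := congrArg Subtype.val e
  rw [← e', MulAut.inv_apply_self]
  exact hw

theorem exists_gen : ∃ x, x⁻¹ * u x ≠ 1 := by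
  by_contra h
  push Not at h
  have htop : Z = ⊤ := eq_top_iff.2 fun x _ => (D.fix_iff x).1 (inv_mul_eq_one.1 (h x)).symm
  have := D.index
  rw [htop, Subgroup.index_top] at this
  exact hp.out.one_lt.ne this

theorem map_T {η : MulAut E} (hη : η ∈ A) (h : ∀ z ∈ Z, η z ∈ Z) {a : E} (ha : a ∈ T) :
    η a ∈ T := by
  have hv := D.conj_mem (A.inv_mem hη) fun a ha => D.stab_inv h (D.le ha)
  rw [inv_inv] at hv
  obtain ⟨x, hx⟩ := D.exists_gen
  obtain ⟨i, rfl⟩ := exists_pow_eq D.card (D.diff x) hx ha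
  rw [map_pow]
  refine T.pow_mem ?_ i
  have h1 : (η x)⁻¹ * (η * u * η⁻¹) (η x) ∈ T := by
    obtain ⟨j, hj⟩ := hv
    obtain ⟨n, hn⟩ : η * u * η⁻¹ ∈ Submonoid.powers u :=
      (isOfFinOrder_of_finite u).mem_powers_iff_mem_zpowers.2 ⟨j, hj⟩
    rw [← hn]
    show (η x)⁻¹ * (u ^ n) (η x) ∈ T
    rw [pow_apply_of_fix u (D.u_fix _ (D.le (D.diff _))) n, inv_mul_cancel_left]
    exact T.pow_mem (D.diff _) n
  rwa [MulAut.mul_apply, MulAut.mul_apply, MulAut.inv_apply_self, ← map_inv, ← map_mul] at h1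

/-- The fixed part, the moved part and the decomposition of `A`. -/
theorem structure_thm :
    ∃ (C W : Subgroup E) (K : Subgroup (MulAut E)),
      C ≤ Z ∧ (∀ c ∈ C, c ∈ T → c = 1) ∧ (∀ z ∈ Z, ∃ c ∈ C, ∃ a ∈ T, z = c * a) ∧
      (∀ α ∈ A, ∀ c ∈ C, α c ∈ C) ∧
      (∀ x, ∃ c ∈ C, x ^ p = c ^ p) ∧
      (T ≤ W ∧ Nat.card W ≤ p * p) ∧
      (K ≤ A ∧ (∀ k ∈ K, ∀ c ∈ C, k c = c) ∧ ∀ k ∈ K, ∀ x, x⁻¹ * k x ∈ W) ∧
      (∀ α ∈ A, ∃ k ∈ K, ∃ n ∈ A, α = k * n ∧ ∀ z ∈ Z, n z ∈ Z) ∧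
      (p ≠ 2 → ∃ t ∈ A, (∀ z ∈ Z, t z ∈ Z) ∧ (∀ c ∈ C, t c = c) ∧ ∀ a ∈ T, t a = a ^ 2) := by
  obtain ⟨γ, hγ, hγu⟩ := D.not_normal
  obtain ⟨a₀, ha₀, ha₀Z⟩ : ∃ a ∈ T, γ⁻¹ a ∉ Z := by
    by_contra h
    push Not at h
    have := D.conj_mem (A.inv_mem hγ) h
    rw [inv_inv] at this
    exact hγu this
  obtain ⟨a₁, ha₁, hb₁Z⟩ : ∃ a ∈ T, γ a ∉ Z := by
    by_contra h
    push Not at h
    exact ha₀Z (D.stab_inv (fun z hz => D.key hγ h hz) (D.le ha₀))
  have ha1 : a₁ ≠ 1 := fun e => hb₁Z (by rw [e, map_one]; exact Z.one_mem)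
  have hgT : ∀ {a : E}, a ∈ T → ∃ i : ℕ, a₁ ^ i = a := fun ha => exists_pow_eq D.card ha₁ ha1 ha
  -- the conjugate transvection
  set v := γ * u * γ⁻¹ with hvdef
  clear_value v
  have hvA : v ∈ A := hvdef ▸ A.mul_mem (A.mul_mem hγ D.mem) (A.inv_mem hγ)
  let H : Subgroup E := Z.comap (γ⁻¹ : MulAut E).toMonoidHom
  have hH : ∀ {x : E}, x ∈ H ↔ γ⁻¹ x ∈ Z := Iff.rfl
  have hHi : H.index = p := by
    rw [← D.index]
    exact Subgroup.index_comap_of_surjective _ (γ⁻¹ : MulAut E).surjective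
  have hvfix : ∀ x ∈ H, v x = x := fun x hx => by
    rw [hvdef, MulAut.mul_apply, MulAut.mul_apply, D.u_fix _ (hH.1 hx), MulAut.apply_inv_self]
  let T' := T.map γ.toMonoidHom
  have hvd : ∀ x, x⁻¹ * v x ∈ T' := fun x => ⟨(γ⁻¹ x)⁻¹ * u (γ⁻¹ x), D.diff _, by
    show γ ((γ⁻¹ x)⁻¹ * u (γ⁻¹ x)) = x⁻¹ * v x
    rw [map_mul, map_inv, MulAut.apply_inv_self, hvdef]
    rfl⟩
  have hT'H : ∀ b ∈ T', b ∈ H := by
    rintro _ ⟨a, ha, rfl⟩
    rw [hH]
    show γ⁻¹ (γ a) ∈ Z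
    rw [MulAut.inv_apply_self]
    exact D.le ha
  have hb₁ : γ a₁ ∈ T' := ⟨a₁, ha₁, rfl⟩
  have hb1 : γ a₁ ≠ 1 := fun e => hb₁Z (by rw [e]; exact Z.one_mem)
  have hT'gen : ∀ {b : E}, b ∈ T' → ∃ i : ℕ, (γ a₁) ^ i = b := by
    rintro _ ⟨a, ha, rfl⟩
    obtain ⟨i, rfl⟩ := hgT ha
    exact ⟨i, (map_pow γ a₁ i).symm⟩
  have ha₁H : a₁ ∉ H := fun h => by
    obtain ⟨i, rfl⟩ := hgT ha₀
    exact ha₀Z (by rw [map_pow]; exact Z.pow_mem h i)
  -- the moved part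
  let W := T ⊔ T'
  let K := Subgroup.closure ({u, v} : Set (MulAut E))
  let C := Z ⊓ H
  have hKA : K ≤ A := (Subgroup.closure_le A).2 (by
    rintro g (rfl | rfl)
    · exact D.mem
    · exact hvA)
  have hKfix : ∀ k ∈ K, ∀ c ∈ C, k c = c := by
    intro k hk c hc
    induction hk using Subgroup.closure_induction with
    | mem g hg =>
      rcases hg with rfl | rfl
      · exact D.u_fix c hc.1
      · exact hvfix c hc.2
    | one => rfl
    | mul g h _ _ hg hh => rw [MulAut.mul_apply, hh, hg]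
    | inv g _ hg => conv_lhs => rw [← hg, MulAut.inv_apply_self]
  have hKdiff : ∀ k ∈ K, ∀ x, x⁻¹ * k x ∈ W := by
    intro k hk
    induction hk using Subgroup.closure_induction with
    | mem g hg =>
      intro x
      rcases hg with rfl | rfl
      · exact le_sup_left (α := Subgroup E) (D.diff x)
      · exact le_sup_right (α := Subgroup E) (hvd x)
    | one => intro x; simp [W.one_mem]
    | mul g h _ _ hg hh =>
      intro x
      have := W.mul_mem (hh x) (hg (h x))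
      rwa [← mul_assoc, mul_inv_cancel_right] at this
    | inv g _ hg =>
      intro x
      have := W.inv_mem (hg (g⁻¹ x))
      rwa [MulAut.apply_inv_self, mul_inv_rev, inv_inv] at this
  have huK : u ∈ K := Subgroup.subset_closure (Or.inl rfl)
  have hvK : v ∈ K := Subgroup.subset_closure (Or.inr rfl)
  obtain ⟨d, hd, hd'⟩ : ∃ d, d ∈ T' ∧ a₁⁻¹ * v a₁ = d := ⟨_, hvd a₁, rfl⟩
  have hd1 : d ≠ 1 := by
    intro e
    refine ha₁H (hH.2 ((D.fix_iff _).1 ?_))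
    have h : v a₁ = a₁ := (inv_mul_eq_one.1 (hd'.trans e)).symm
    rw [hvdef, MulAut.mul_apply, MulAut.mul_apply] at h
    conv_rhs => rw [← h, MulAut.inv_apply_self]
  have hdZ : d ∉ Z := fun h => by
    obtain ⟨a, ha, rfl⟩ := hd
    have hane : a ≠ 1 := fun e => hd1 (by rw [e]; exact map_one _)
    obtain ⟨i, hi⟩ := exists_pow_eq D.card ha hane ha₁
    exact hb₁Z (by rw [← hi, map_pow]; exact Z.pow_mem h i)
  -- the decomposition
  have hdec : ∀ α ∈ A, ∃ k ∈ K, ∃ n ∈ A, α = k * n ∧ ∀ z ∈ Z, n z ∈ Z := by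
    intro α hα
    suffices h : ∃ k ∈ K, α⁻¹ (k a₁) ∈ Z by
      obtain ⟨k, hk, hka⟩ := h
      have hη : α⁻¹ * k ∈ A := A.mul_mem (A.inv_mem hα) (hKA hk)
      have hst : ∀ z ∈ Z, (α⁻¹ * k) z ∈ Z := fun z hz => D.key hη (fun a ha => by
        obtain ⟨i, rfl⟩ := hgT ha
        rw [map_pow]
        exact Z.pow_mem hka i) hz
      refine ⟨k, hk, k⁻¹ * α, A.mul_mem (A.inv_mem (hKA hk)) hα, by rw [mul_inv_cancel_left],
        fun z hz => ?_⟩
      have := D.stab_inv hst hz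
      rwa [mul_inv_rev, inv_inv] at this
    by_cases h0 : α⁻¹ a₁ ∈ Z
    · exact ⟨1, K.one_mem, h0⟩
    by_cases hdα : α⁻¹ d ∈ Z
    · -- move `a₁` into the line of `d`
      obtain ⟨e, he, he'⟩ : ∃ e, e ∈ T ∧ d⁻¹ * u d = e := ⟨_, D.diff d, rfl⟩
      have he1 : e ≠ 1 := fun h =>
        hdZ ((D.fix_iff d).1 (inv_mul_eq_one.1 (he'.trans h)).symm)
      obtain ⟨i, hi⟩ := exists_pow_eq D.card he he1 (T.inv_mem ha₁)
      refine ⟨u ^ i * v, K.mul_mem (K.pow_mem huK i) hvK, ?_⟩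
      have hud : (u ^ i) d = d * a₁⁻¹ := by
        rw [pow_apply_of_fix u (D.u_fix _ (D.le (D.diff d))) i, he', hi]
      have hua : (u ^ i) a₁ = a₁ := by
        rw [pow_apply_of_fix u (D.u_fix _ (D.le (D.diff a₁))) i,
          D.u_fix _ (D.le ha₁), inv_mul_cancel, one_pow, mul_one]
      rw [MulAut.mul_apply, show v a₁ = a₁ * d from inv_mul_eq_iff_eq_mul.1 hd', map_mul (u ^ i),
        hua, hud, mul_comm d, mul_inv_cancel_left]
      exact hdα
    · obtain ⟨j, hj⟩ := exists_pow_div_mem D.index hdα (α⁻¹ a₁)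
      obtain ⟨j', hj'⟩ := exists_pow_eq (T := Subgroup.zpowers d) (p := p) (by
        rw [Nat.card_zpowers]
        obtain ⟨a, ha, rfl⟩ := hd
        exact orderOf_eq_prime (by rw [← map_pow, D.T_pow a ha, map_one]) hd1)
        (Subgroup.mem_zpowers d) hd1 ((Subgroup.zpowers d).inv_mem
          ((Subgroup.zpowers d).pow_mem (Subgroup.mem_zpowers d) j))
      refine ⟨v ^ j', K.pow_mem hvK j', ?_⟩
      rw [pow_apply_of_fix v (hvfix _ (hT'H _ (hvd a₁))) j', hd', hj', map_mul, map_inv, map_pow]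
      exact hj
  have hCchar : ∀ c, c ∈ C ↔ ∀ α ∈ A, α c ∈ Z := by
    intro c
    refine ⟨fun hc α hα => ?_, fun h => ⟨h 1 A.one_mem, h _ (A.inv_mem hγ)⟩⟩
    obtain ⟨k, hk, n, -, e, hn⟩ := hdec α⁻¹ (A.inv_mem hα)
    have e' : α = n⁻¹ * k⁻¹ := by rw [← inv_inv α, e, mul_inv_rev]
    rw [e', MulAut.mul_apply, hKfix _ (K.inv_mem hk) c hc]
    exact D.stab_inv hn hc.1
  have hZdec : ∀ z ∈ Z, ∃ c ∈ C, ∃ a ∈ T, z = c * a := by
    intro z hz
    obtain ⟨i, hi⟩ := exists_pow_div_mem hHi ha₁H z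
    exact ⟨_, ⟨Z.mul_mem hz (Z.inv_mem (Z.pow_mem (D.le ha₁) i)), hi⟩, a₁ ^ i, T.pow_mem ha₁ i,
      (inv_mul_cancel_right z (a₁ ^ i)).symm⟩
  refine ⟨C, W, K, inf_le_left, fun c hc hcT => ?_, hZdec, fun α hα c hc => ?_, fun x => ?_,
    ⟨le_sup_left, ?_⟩, ⟨hKA, hKfix, hKdiff⟩, hdec, fun h2 => ?_⟩
  · by_contra hne
    obtain ⟨i, hi⟩ := exists_pow_eq D.card hcT hne ha₁
    exact ha₁H (hi ▸ H.pow_mem hc.2 i)
  · exact (hCchar _).2 fun β hβ => (hCchar c).1 hc (β * α) (A.mul_mem hβ hα)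
  · obtain ⟨i, hi⟩ := exists_pow_div_mem hHi ha₁H x
    obtain ⟨c, hc, a, ha, e⟩ := hZdec _ (hH.1 hi)
    refine ⟨γ c, (hCchar _).2 fun β hβ => (hCchar c).1 hc (β * γ) (A.mul_mem hβ hγ), ?_⟩
    have hx : x = γ c * γ a * a₁ ^ i := by
      rw [← map_mul, ← e, MulAut.apply_inv_self, inv_mul_cancel_right]
    rw [hx, mul_pow, mul_pow, ← map_pow γ a p, D.T_pow a ha, map_one, mul_one, ← pow_mul, mul_comm i,
      pow_mul, D.T_pow a₁ ha₁, one_pow, mul_one]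
  · have hs : Function.Surjective (fun z : T × T' => (⟨z.1 * z.2, Subgroup.mul_mem W
        (le_sup_left (α := Subgroup E) z.1.2) (le_sup_right (α := Subgroup E) z.2.2)⟩ : W)) := by
      rintro ⟨w, hw⟩
      obtain ⟨a, ha, b, hb, rfl⟩ := Subgroup.mem_sup.1 hw
      exact ⟨(⟨a, ha⟩, ⟨b, hb⟩), rfl⟩
    refine (Nat.card_le_card_of_surjective _ hs).trans (le_of_eq ?_)
    rw [Nat.card_prod, D.card, Subgroup.card_map_of_injective γ.injective, D.card]
  · -- a torus element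
    obtain ⟨j, hj⟩ := hT'gen hd
    obtain ⟨e, he, he'⟩ : ∃ e, e ∈ T ∧ d⁻¹ * u d = e := ⟨_, D.diff d, rfl⟩
    have he1 : e ≠ 1 := fun h => hdZ ((D.fix_iff d).1 (inv_mul_eq_one.1 (he'.trans h)).symm)
    obtain ⟨i, hi⟩ := exists_pow_eq D.card he he1 ha₁
    set u' := u ^ i with hu'
    have hu'a : u' a₁ = a₁ := by
      rw [hu', pow_apply_of_fix u (D.u_fix _ (D.le (D.diff a₁))) i, D.u_fix _ (D.le ha₁),
        inv_mul_cancel, one_pow, mul_one]
    have hu'd : u' d = d * a₁ := by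
      rw [hu', pow_apply_of_fix u (D.u_fix _ (D.le (D.diff d))) i, he', hi]
    have hva : v a₁ = a₁ * d := inv_mul_eq_iff_eq_mul.1 hd'
    have hvdd : v d = d := hvfix d (hT'H d hd)
    have hun : ∀ n : ℕ, (u' ^ n) a₁ = a₁ ∧ (u' ^ n) d = d * a₁ ^ n := by
      intro n
      induction n with
      | zero => simp
      | succ n ih =>
        rw [pow_succ', MulAut.mul_apply, MulAut.mul_apply, ih.1, ih.2, map_mul, map_pow, hu'a, hu'd]
        exact ⟨rfl, by rw [pow_succ', mul_assoc]⟩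
    have hvn : ∀ n : ℕ, (v ^ n) a₁ = a₁ * d ^ n ∧ (v ^ n) d = d := by
      intro n
      induction n with
      | zero => simp
      | succ n ih =>
        rw [pow_succ', MulAut.mul_apply, MulAut.mul_apply, ih.1, ih.2, map_mul, map_pow, hvdd, hva]
        exact ⟨by rw [pow_succ', mul_assoc], rfl⟩
    obtain ⟨h, hh⟩ : ∃ h, p = 2 * h + 1 := (hp.out.odd_of_ne_two h2)
    have hap : a₁ ^ p = 1 := D.T_pow a₁ ha₁
    have hdp : d ^ p = 1 := by
      obtain ⟨a, ha, rfl⟩ := hd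
      rw [← map_pow, D.T_pow a ha, map_one]
    refine ⟨u' * v * u' ^ h * v ^ (p - 2), ?_, ?_⟩
    · exact A.mul_mem (A.mul_mem (A.mul_mem (hKA (K.pow_mem huK i)) hvA)
        (A.pow_mem (hKA (K.pow_mem huK i)) h)) (A.pow_mem hvA _)
    have htK : u' * v * u' ^ h * v ^ (p - 2) ∈ K :=
      K.mul_mem (K.mul_mem (K.mul_mem (K.pow_mem huK i) hvK)
        (K.pow_mem (K.pow_mem huK i) h)) (K.pow_mem hvK _)
    have hta : (u' * v * u' ^ h * v ^ (p - 2)) a₁ = a₁ ^ 2 := by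
      rw [MulAut.mul_apply, MulAut.mul_apply, MulAut.mul_apply, (hvn _).1, map_mul, map_pow,
        (hun h).1, (hun h).2]
      simp only [map_mul, map_pow, hva, hvdd, hu'a, hu'd]
      calc a₁ * (d * a₁) * (d * a₁ * (a₁ * (d * a₁)) ^ h) ^ (p - 2)
          = a₁ ^ (2 + (2 * h + 1) * (p - 2)) * d ^ (1 + (h + 1) * (p - 2)) := by
            simp only [mul_pow, ← pow_mul]
            simp only [pow_add, pow_mul, pow_one, mul_pow, pow_two]
            ac_rfl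
        _ = a₁ ^ 2 := by
            have e1 : p ∣ 1 + (h + 1) * (p - 2) := ⟨h, by
              rw [hh]
              rcases h with _ | h
              · have := hp.out.two_le
                omega
              · rw [show 2 * (h + 1) + 1 - 2 = 2 * h + 1 by omega]
                ring⟩
            obtain ⟨m, hm⟩ := e1
            rw [hm, pow_mul, hdp, one_pow, mul_one, pow_add, ← hh, pow_mul a₁ p, hap, one_pow,
              mul_one]
    have htc := hKfix _ htK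
    refine ⟨fun z hz => ?_, htc, fun a ha => ?_⟩
    · obtain ⟨c, hc, a, ha, rfl⟩ := hZdec z hz
      obtain ⟨m, rfl⟩ := hgT ha
      rw [map_mul, htc c hc, map_pow, hta]
      exact Z.mul_mem hc.1 (Z.pow_mem (Z.pow_mem (D.le ha₁) 2) m)
    · obtain ⟨m, rfl⟩ := hgT ha
      rw [map_pow, hta, ← pow_mul, ← pow_mul, mul_comm]

end TransData

end Cfsg.Agent.H90
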