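import Cfsg.Agent.H90.Basic
import Cfsg.Prelude.Def_KGroupFacts

/-!
Transport of automizers along a map of a fusion system.
-/

set_option autoImplicit false

namespace Cfsg.Agent.H90

open Cfsg Cfsg.FusionSystem

variable {Ω : Type*} [Group Ω] {S : Subgroup Ω}

/-- The isomorphism of a map of the system onto its image. -/
noncomputable def imgEquiv (F : FusionSystem S) {P : Subgroup Ω} {φ : ↥P →* Ω} (h : φ ∈ F.Hom P) :
    ↥P ≃* ↥φ.range :=
  MonoidHom.ofInjective (F.injective_of_mem h)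

@[simp] theorem imgEquiv_coe (F : FusionSystem S) {P : Subgroup Ω} {φ : ↥P →* Ω}
    (h : φ ∈ F.Hom P) (x : ↥P) : ((imgEquiv F h x : ↥φ.range) : Ω) = φ x := rfl

theorem apply_imgEquiv_symm (F : FusionSystem S) {P : Subgroup Ω} {φ : ↥P →* Ω}
    (h : φ ∈ F.Hom P) (y : ↥φ.range) : φ ((imgEquiv F h).symm y) = y := by
  rw [← imgEquiv_coe F h, MulEquiv.apply_symm_apply]

theorem congr_mem_autGroup [Finite S] (F : FusionSystem S) {P : Subgroup Ω} {φ : ↥P →* Ω}
    (h : φ ∈ F.Hom P) {α : MulAut ↥P} (hα : α ∈ F.autGroup P) :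
    MulAut.congr (imgEquiv F h) α ∈ F.autGroup φ.range := by
  obtain ⟨ψ, hψ, hr, hl, hl'⟩ := exists_iso_inv F h rfl
  have hv : ∀ y, ψ y ∈ P := fun y => hr.le ⟨y, rfl⟩
  refine aut_mem_of_hom F (mem_of_agree F
    (comp₂_mem F (comp₂_mem F hψ (hom_of_aut_mem F (src_le F h) hα) hv) h
      (fun y => (α ⟨ψ y, hv y⟩).2)) fun y => ?_)
  show φ (α ((imgEquiv F h).symm y)) = φ ⟨(α ⟨ψ y, hv y⟩ : Ω), _⟩
  refine congrArg (fun z => φ (α z)) (Subtype.ext ?_)
  have h1 := hl ((imgEquiv F h).symm y) ⟨_, rfl⟩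
  rw [← h1]
  exact congrArg ψ (Subtype.ext (apply_imgEquiv_symm F h y))

theorem congr_symm_mem_autGroup [Finite S] (F : FusionSystem S) {P : Subgroup Ω} {φ : ↥P →* Ω}
    (h : φ ∈ F.Hom P) {β : MulAut ↥φ.range} (hβ : β ∈ F.autGroup φ.range) :
    (MulAut.congr (imgEquiv F h)).symm β ∈ F.autGroup P := by
  obtain ⟨ψ, hψ, hr, hl, hl'⟩ := exists_iso_inv F h rfl
  have hv : ∀ x, φ x ∈ φ.range := fun x => ⟨x, rfl⟩
  refine aut_mem_of_hom F (mem_of_agree F
    (comp₂_mem F (comp₂_mem F h (hom_of_aut_mem F (range_le F h) hβ) hv) hψ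
      (fun x => (β ⟨φ x, hv x⟩).2)) fun x => ?_)
  show (((imgEquiv F h).symm (β (imgEquiv F h x)) : ↥P) : Ω) = ψ (β ⟨φ x, hv x⟩)
  have h1 := hl ((imgEquiv F h).symm (β (imgEquiv F h x))) ⟨_, rfl⟩
  rw [← h1]
  exact congrArg ψ (Subtype.ext (apply_imgEquiv_symm F h _))

/-- The automizer of `P` is isomorphic to that of its image. -/
noncomputable def autEquiv [Finite S] (F : FusionSystem S) {P : Subgroup Ω} {φ : ↥P →* Ω}
    (h : φ ∈ F.Hom P) : ↥(F.autGroup P) ≃* ↥(F.autGroup φ.range) where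
  toFun α := ⟨_, congr_mem_autGroup F h α.2⟩
  invFun β := ⟨_, congr_symm_mem_autGroup F h β.2⟩
  left_inv α := Subtype.ext ((MulAut.congr (imgEquiv F h)).symm_apply_apply _)
  right_inv β := Subtype.ext ((MulAut.congr (imgEquiv F h)).apply_symm_apply _)
  map_mul' a b := Subtype.ext (map_mul (MulAut.congr (imgEquiv F h)) _ _)

end Cfsg.Agent.H90
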