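import Cfsg.Agent.H90.Transfer
import Cfsg.Agent.H90.Transport
import Cfsg.Agent.Fusion.PResidual
import Cfsg.Agent.PGroups.Basic
import Cfsg.Agent.H60.Amalgam

/-!
Tate's theorem for saturated fusion systems: the hyperfocal subgroup is detected modulo the
Frattini subgroup of `S`.
-/

set_option autoImplicit false

namespace Cfsg.Agent.H90

open Cfsg Cfsg.FusionSystem
open scoped IsMulCommutative commutatorElement

universe u

variable {Ω : Type u} [Group Ω] {S : Subgroup Ω}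

theorem hyp_le (F : FusionSystem S) (p : ℕ) : F.hyperfocalSubgroup p ≤ S :=
  (Subgroup.closure_le _).2 (by
    rintro _ ⟨P, α, x, hP, -, rfl⟩
    exact S.mul_mem (S.inv_mem (hP x.2)) (hP ((α : MulAut ↥P) x).2))

theorem mem_hyp (F : FusionSystem S) {p : ℕ} {P : Subgroup Ω} (hP : P ≤ S)
    {α : ↥(F.autGroup P)} (hα : α ∈ pResidual p ↥(F.autGroup P)) (x : ↥P) :
    (x : Ω)⁻¹ * (((α : MulAut ↥P) x : ↥P) : Ω) ∈ F.hyperfocalSubgroup p :=
  Subgroup.subset_closure ⟨P, α, x, hP, hα, rfl⟩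

theorem focal_le (F : FusionSystem S) : F.focalSubgroup ≤ S :=
  (Subgroup.closure_le _).2 (by
    rintro _ ⟨P, φ, x, h, rfl⟩
    exact S.mul_mem (S.inv_mem ((F.le_of_mem h).1 x.2)) ((F.le_of_mem h).2 x))

theorem hyp_le_focal [Finite S] (F : FusionSystem S) (p : ℕ) :
    F.hyperfocalSubgroup p ≤ F.focalSubgroup :=
  (Subgroup.closure_le _).2 (by
    rintro _ ⟨P, α, x, hP, -, rfl⟩
    exact Subgroup.subset_closure ⟨P, _, x, hom_of_aut_mem F hP α.2, rfl⟩)

theorem commutator_le_focal (F : FusionSystem S) : ⁅S, S⁆ ≤ F.focalSubgroup := by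
  refine Subgroup.commutator_le.2 fun a ha b hb => Subgroup.subset_closure
    ⟨S, _, ⟨a⁻¹, S.inv_mem ha⟩, F.conj_mem le_rfl hb, ?_⟩
  simp [conjHom, commutatorElement_def, mul_assoc]

theorem hyp_mono [Finite S] {F H : FusionSystem S} (h : H.IsSubsystemOf F) (p : ℕ) :
    H.hyperfocalSubgroup p ≤ F.hyperfocalSubgroup p :=
  (Subgroup.closure_le _).2 (by
    rintro _ ⟨P, α, x, hP, hα, rfl⟩
    have hle : H.autGroup P ≤ F.autGroup P :=
      (Subgroup.closure_le _).2 fun β hβ => Subgroup.subset_closure (h P hβ)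
    exact mem_hyp F hP
      (Fusion.map_pResidual_le (Subgroup.inclusion hle) ⟨α, hα, rfl⟩) x)

theorem hyp_conj [Finite S] (F : FusionSystem S) (p : ℕ) {g : Ω} (hg : g ∈ S) {y : Ω}
    (hy : y ∈ F.hyperfocalSubgroup p) : g * y * g⁻¹ ∈ F.hyperfocalSubgroup p := by
  suffices H : F.hyperfocalSubgroup p ≤
      (F.hyperfocalSubgroup p).comap (MulAut.conj g).toMonoidHom from H hy
  refine (Subgroup.closure_le _).2 ?_
  rintro _ ⟨P, α, x, hP, hα, rfl⟩
  have h := F.conj_mem hP hg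
  have hm : autEquiv F h α ∈ pResidual p ↥(F.autGroup (conjHom P g).range) :=
    Fusion.map_pResidual_le (autEquiv F h).toMonoidHom ⟨α, hα, rfl⟩
  show g * ((x : Ω)⁻¹ * _) * g⁻¹ ∈ F.hyperfocalSubgroup p
  convert mem_hyp F (range_le F h) hm (imgEquiv F h x) using 1
  show _ = (conjHom P g x)⁻¹ *
    (imgEquiv F h ((α : MulAut ↥P) ((imgEquiv F h).symm (imgEquiv F h x))) : Ω)
  rw [MulEquiv.symm_apply_apply, imgEquiv_coe]
  simp [conjHom, mul_assoc]

theorem hyp_normal [Finite S] (F : FusionSystem S) (p : ℕ) :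
    ((F.hyperfocalSubgroup p).subgroupOf S).Normal :=
  ⟨fun _ hn g => hyp_conj F p g.2 hn⟩

theorem pResidual_sup_sylow {G : Type*} [Group G] [Finite G] {p : ℕ} [Fact p.Prime]
    (T : Sylow p G) : pResidual p G ⊔ (T : Subgroup G) = ⊤ := by
  obtain ⟨n, hn⟩ := Fusion.index_pResidual (G := G) (p := p)
  have h1 : (pResidual p G ⊔ (T : Subgroup G)).index ∣ p ^ n :=
    hn ▸ Subgroup.index_dvd_of_le le_sup_left
  have h2 : (pResidual p G ⊔ (T : Subgroup G)).index ∣ (T : Subgroup G).index :=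
    Subgroup.index_dvd_of_le le_sup_right
  rw [← Subgroup.index_eq_one]
  refine Nat.eq_one_of_dvd_coprimes (Nat.Coprime.pow_left n ?_) h1 h2
  exact (Fact.out : p.Prime).coprime_iff_not_dvd.2 T.not_dvd_index

/-- Every map of a saturated system is conjugation modulo the hyperfocal subgroup. -/
theorem exists_modInner {p : ℕ} [Fact p.Prime] [Finite S] (hS : IsPGroup p S)
    {F : FusionSystem S} (hF : F.IsSaturated p) :
    ∀ (P : Subgroup Ω) (φ : ↥P →* Ω), φ ∈ F.Hom P →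
      ∃ θ ∈ S, ∀ x : ↥P, (θ * x * θ⁻¹)⁻¹ * φ x ∈ F.hyperfocalSubgroup p := by
  refine induction hS hF (fun P φ => ∃ θ ∈ S, ∀ x : ↥P,
    (θ * x * θ⁻¹)⁻¹ * φ x ∈ F.hyperfocalSubgroup p) ⟨?_, ?_, ?_⟩ ?_
  · rintro P R φ - ⟨θ, hθ, h⟩ hle
    exact ⟨θ, hθ, fun x => h ⟨x, hle x.2⟩⟩
  · rintro P Q φ ψ - - h ⟨θ, hθ, hh⟩ ⟨η, hη, hh'⟩
    refine ⟨η * θ, S.mul_mem hη hθ, fun x => ?_⟩
    have := (F.hyperfocalSubgroup p).mul_mem (hyp_conj F p hη (hh x)) (hh' ⟨φ x, h x⟩)
    convert this using 1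
    show _ = _ * ((η * φ x * η⁻¹)⁻¹ * ψ ⟨φ x, h x⟩)
    rw [comp₂_apply]
    group
  · rintro P R φ ψ - - hr hl ⟨θ, hθ, hh⟩
    refine ⟨θ⁻¹, S.inv_mem hθ, ?_⟩
    rintro ⟨y, hy⟩
    obtain ⟨x, rfl⟩ : y ∈ φ.range := hr.symm ▸ hy
    rw [hl x hy]
    have := hyp_conj F p (S.inv_mem hθ) ((F.hyperfocalSubgroup p).inv_mem (hh x))
    convert this using 1
    group
  intro R hR hA _ _ α hα
  haveI := finite_le hR
  obtain ⟨T, hT⟩ := hA.2
  have hmem : (⟨α, hα⟩ : ↥(F.autGroup R)) ∈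
      pResidual p ↥(F.autGroup R) ⊔ (T : Subgroup ↥(F.autGroup R)) := by
    rw [pResidual_sup_sylow T]
    trivial
  rw [← SetLike.mem_coe, Subgroup.normal_mul, hT] at hmem
  obtain ⟨m, hm, c, hc, hmc⟩ := hmem
  obtain ⟨g, hg, hgc⟩ := (mem_autInducedBy_iff hR).1 (Subgroup.mem_subgroupOf.1 hc)
  refine ⟨g, hg, fun x => ?_⟩
  have e : (α x : Ω) = (((m : MulAut ↥R) ((c : MulAut ↥R) x) : ↥R) : Ω) := by
    rw [show α = ((m * c : ↥(F.autGroup R)) : MulAut ↥R) from
      congrArg Subtype.val hmc.symm]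
    rfl
  show (g * (x : Ω) * g⁻¹)⁻¹ * (α x : Ω) ∈ _
  rw [e, ← hgc x]
  exact mem_hyp F hR hm ((c : MulAut ↥R) x)

theorem focal_eq {p : ℕ} [Fact p.Prime] [Finite S] (hS : IsPGroup p S) {F : FusionSystem S}
    (hF : F.IsSaturated p) : F.focalSubgroup = F.hyperfocalSubgroup p ⊔ ⁅S, S⁆ := by
  refine le_antisymm ((Subgroup.closure_le _).2 ?_)
    (sup_le (hyp_le_focal F p) (commutator_le_focal F))
  rintro _ ⟨P, φ, x, hφ, rfl⟩
  obtain ⟨θ, hθ, h⟩ := exists_modInner hS hF P φ hφ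
  rw [show (x : Ω)⁻¹ * φ x = ⁅(x : Ω)⁻¹, θ⁆ * ((θ * x * θ⁻¹)⁻¹ * φ x) by
    rw [commutatorElement_def]; group]
  exact Subgroup.mul_mem _ (Subgroup.mem_sup_right
    (Subgroup.commutator_mem_commutator (S.inv_mem ((F.le_of_mem hφ).1 x.2)) hθ))
    (Subgroup.mem_sup_left (h x))

theorem commutator_le_frattini_map {p : ℕ} [Fact p.Prime] [Finite S] (hS : IsPGroup p S) :
    ⁅S, S⁆ ≤ (frattini ↥S).map S.subtype := by
  have h := Subgroup.map_mono (f := S.subtype) (PGroups.commutator_le_frattini hS)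
  rwa [commutator_def, Subgroup.map_commutator, ← MonoidHom.range_eq_map,
    Subgroup.range_subtype] at h

theorem closure_pow_normal {G : Type*} [Group G] (T : Subgroup G) [hT : T.Normal] (p : ℕ) :
    (Subgroup.closure {y : G | ∃ t ∈ T, y = t ^ p}).Normal := by
  refine ⟨fun n hn g => ?_⟩
  have H : Subgroup.closure {y : G | ∃ t ∈ T, y = t ^ p} ≤
      (Subgroup.closure {y : G | ∃ t ∈ T, y = t ^ p}).comap (MulAut.conj g).toMonoidHom :=
    (Subgroup.closure_le _).2 (by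
      rintro _ ⟨t, ht, rfl⟩
      exact Subgroup.subset_closure ⟨g * t * g⁻¹, hT.conj_mem t ht g, by simp⟩)
  exact H hn

/-- Tate's theorem: a normal subgroup `K ≤ hyp(F)` covering `hyp(F)` modulo the Frattini subgroup
of `S` is the whole hyperfocal subgroup. -/
theorem hyp_eq_of_le_sup {p : ℕ} [Fact p.Prime] [Finite S] (hS : IsPGroup p S)
    {F : FusionSystem S} (hF : F.IsSaturated p) {K : Subgroup Ω}
    (hK : ∀ g ∈ S, ∀ y ∈ K, g * y * g⁻¹ ∈ K) (hKT : K ≤ F.hyperfocalSubgroup p)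
    (h : F.hyperfocalSubgroup p ≤ (frattini ↥S).map S.subtype ⊔ K) :
    F.hyperfocalSubgroup p = K := by
  refine le_antisymm ?_ hKT
  set T := (F.hyperfocalSubgroup p).subgroupOf S with hTdef
  haveI hTn : T.Normal := hyp_normal F p
  set K₀ := K.subgroupOf S with hK₀
  haveI hKn : K₀.Normal := ⟨fun _ hn g => hK _ g.2 _ hn⟩
  haveI := closure_pow_normal T p
  set W := Subgroup.closure {y : ↥S | ∃ t ∈ T, y = t ^ p} with hW
  set N := K₀ ⊔ ⁅T, (⊤ : Subgroup ↥S)⁆ ⊔ W with hN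
  have hK₀T : K₀ ≤ T := fun x hx => hKT hx
  -- the image of `T` is central of exponent `p`
  have hC : ∀ y ∈ T, QuotientGroup.mk' N y ∈ Subgroup.center (↥S ⧸ N) := by
    intro y hy
    rw [Subgroup.mem_center_iff]
    intro g
    obtain ⟨g, rfl⟩ := QuotientGroup.mk'_surjective N g
    rw [← commutatorElement_eq_one_iff_mul_comm, ← map_commutatorElement,
      QuotientGroup.mk'_apply, QuotientGroup.eq_one_iff, ← inv_mem_iff, commutatorElement_inv]
    exact Subgroup.mem_sup_left (Subgroup.mem_sup_right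
      (Subgroup.commutator_mem_commutator hy trivial))
  have hexp : ∀ y ∈ T, QuotientGroup.mk' N y ^ p = 1 := fun y hy => by
    rw [← map_pow, QuotientGroup.mk'_apply, QuotientGroup.eq_one_iff]
    exact Subgroup.mem_sup_right (Subgroup.subset_closure ⟨y, hy, rfl⟩)
  have hθ : ∀ (P : Subgroup Ω) (φ : ↥P →* Ω) (hφ : φ ∈ F.Hom P), ∃ θ : ↥S, ∀ u : ↥P,
      (θ * ⟨u, src_le F hφ u.2⟩ * θ⁻¹)⁻¹ * ⟨φ u, (F.le_of_mem hφ).2 u⟩ ∈ T := by
    intro P φ hφ
    obtain ⟨θ, hθ, hh⟩ := exists_modInner hS hF P φ hφ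
    exact ⟨⟨θ, hθ⟩, fun u => hh u⟩
  obtain ⟨k, t, hk, hinv, hpow, -⟩ := exists_transfer hS hF T (QuotientGroup.mk' N) hC hθ
  let g : ↥T →* ↥(Subgroup.center (↥S ⧸ N)) :=
    (powMonoidHom k).comp (((QuotientGroup.mk' N).comp T.subtype).codRestrict _
      fun y => hC y y.2) * t.comp T.subtype
  have hg : ∀ y : ↥T, (g y : ↥S ⧸ N) = QuotientGroup.mk' N (y : ↥S) ^ k * (t (y : ↥S) : _) :=
    fun y => rfl
  have hgp : ∀ y : ↥T, g y ^ p = 1 := fun y => Subtype.ext (by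
    have hc := Subgroup.mem_center_iff.1 (t (y : ↥S)).2 (QuotientGroup.mk' N (y : ↥S) ^ k)
    rw [SubgroupClass.coe_pow, hg, Commute.mul_pow hc, ← pow_mul, mul_comm k, pow_mul,
      hexp y y.2, one_pow, one_mul, ← SubgroupClass.coe_pow, hpow p hexp])
  -- `g` kills every generator of the hyperfocal subgroup
  have hinT : ∀ {P : Subgroup Ω} (hP : P ≤ S) {α : ↥(F.autGroup P)},
      ∀ (hα : α ∈ pResidual p ↥(F.autGroup P)) (u : ↥P),
      (⟨_, hyp_le F p (mem_hyp F hP hα u)⟩ : ↥S) ∈ T := fun hP _ hα u => mem_hyp F hP hα u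
  have hker : ∀ (P : Subgroup Ω) (hP : P ≤ S) (α : ↥(F.autGroup P))
      (hα : α ∈ pResidual p ↥(F.autGroup P)) (u : ↥P),
      g ⟨⟨_, hyp_le F p (mem_hyp F hP hα u)⟩, hinT hP hα u⟩ = 1 := by
    intro P hP α hα
    haveI := finite_le hP
    induction hα using Subgroup.closure_induction with
    | mem α hα =>
      intro u
      set c : ↥P := u⁻¹ * (α : MulAut ↥P) u with hc
      have hcT : (⟨c, hP c.2⟩ : ↥S) ∈ T :=
        mem_hyp F hP (Subgroup.subset_closure hα) u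
      have hαj : ∀ j : ℕ, α ^ j ∈ pResidual p ↥(F.autGroup P) := fun j =>
        pow_mem (Subgroup.subset_closure hα) j
      have key : ∀ j : ℕ, g ⟨⟨_, hyp_le F p (mem_hyp F hP (hαj j) u)⟩, hinT hP (hαj j) u⟩ =
          g ⟨⟨c, hP c.2⟩, hcT⟩ ^ j := by
        intro j
        induction j with
        | zero =>
          refine Eq.trans ?_ ((map_one g).trans (pow_zero _).symm)
          exact congrArg g (Subtype.ext (Subtype.ext (by simp)))
        | succ j ih =>
          have hψ := hom_of_aut_mem F hP (α ^ j).2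
          have hT' : (⟨(((α ^ j : ↥(F.autGroup P)) : MulAut ↥P) c : Ω),
              hP (((α ^ j : ↥(F.autGroup P)) : MulAut ↥P) c).2⟩ : ↥S) ∈ T := by
            have h1 := T.mul_mem hcT (hinT hP (hαj j) c)
            convert h1 using 1
            exact Subtype.ext (by simp)
          have h2 : g ⟨_, hT'⟩ = g ⟨⟨c, hP c.2⟩, hcT⟩ :=
            Subtype.ext (hinv P _ hψ c hcT).symm
          refine Eq.trans ?_ ((congrArg₂ (· * ·) ih h2).trans (pow_succ _ j).symm)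
          rw [← map_mul]
          refine congrArg g (Subtype.ext (Subtype.ext ?_))
          show (u : Ω)⁻¹ * ((((α ^ (j + 1) : ↥(F.autGroup P)) : MulAut ↥P) u : ↥P) : Ω) =
            (u : Ω)⁻¹ * ((((α ^ j : ↥(F.autGroup P)) : MulAut ↥P) u : ↥P) : Ω) *
              (((α ^ j : ↥(F.autGroup P)) : MulAut ↥P) c : Ω)
          rw [mul_assoc, ← Subgroup.coe_mul, ← map_mul, hc, mul_inv_cancel_left, pow_succ]
          rfl
      have hm := key (orderOf α)
      have h0 : g ⟨⟨c, hP c.2⟩, hcT⟩ ^ orderOf α = 1 := by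
        rw [← hm, ← map_one g]
        exact congrArg g (Subtype.ext (Subtype.ext (by simp [pow_orderOf_eq_one α])))
      have h3 := pow_gcd_eq_one.2 ⟨h0, hgp ⟨⟨c, hP c.2⟩, hcT⟩⟩
      rw [Nat.Coprime.gcd_eq_one hα, pow_one] at h3
      exact h3
    | one =>
      intro u
      rw [← map_one g]
      exact congrArg g (Subtype.ext (Subtype.ext (by simp)))
    | mul a b hae hbe ha hb =>
      intro u
      have h := map_mul g ⟨_, hinT hP hbe u⟩ ⟨_, hinT hP hae ((b : MulAut ↥P) u)⟩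
      rw [hb u, ha, one_mul] at h
      rw [← h]
      refine congrArg g (Subtype.ext (Subtype.ext ?_))
      show (u : Ω)⁻¹ * _ = (u : Ω)⁻¹ * ((b : MulAut ↥P) u : Ω) * _
      rw [mul_assoc, mul_inv_cancel_left]
      rfl
    | inv a hae ha =>
      intro u
      have h := ha ((a : MulAut ↥P)⁻¹ u)
      rw [← inv_eq_one, ← map_inv] at h
      rw [← h]
      refine congrArg g (Subtype.ext (Subtype.ext ?_))
      show (u : Ω)⁻¹ * (((a : MulAut ↥P)⁻¹ u : ↥P) : Ω) =
        ((((a : MulAut ↥P)⁻¹ u : ↥P) : Ω)⁻¹ *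
          (((a : MulAut ↥P) ((a : MulAut ↥P)⁻¹ u) : ↥P) : Ω))⁻¹
      rw [show (a : MulAut ↥P) ((a : MulAut ↥P)⁻¹ u) = u from
        (a : MulAut ↥P).apply_symm_apply u]
      simp
  have hgT : ∀ y : ↥T, g y = 1 := by
    have key : ∀ y (hy : y ∈ F.hyperfocalSubgroup p), g ⟨⟨y, hyp_le F p hy⟩, hy⟩ = 1 := by
      intro y hy
      induction hy using Subgroup.closure_induction with
      | mem y hy =>
        obtain ⟨P, α, u, hP, hα, rfl⟩ := hy
        exact hker P hP α hα u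
      | one => exact map_one g
      | mul a b ha hb iha ihb =>
        exact (map_mul g ⟨⟨a, hyp_le F p ha⟩, ha⟩ ⟨⟨b, hyp_le F p hb⟩, hb⟩).trans
          (by rw [iha, ihb, one_mul])
      | inv a ha iha =>
        exact (map_inv g ⟨⟨a, hyp_le F p ha⟩, ha⟩).trans (by rw [iha, inv_one])
    exact fun y => key _ y.2
  -- `t` vanishes on `T`
  have htΦ : frattini ↥S ≤ t.ker :=
    PGroups.frattini_le_of_commutator_le (p := p) _ (Abelianization.commutator_subset_ker t)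
      fun x => by rw [MonoidHom.mem_ker, map_pow, hpow p hexp]
  have htT : T ≤ t.ker := by
    intro y hy
    have hy' : (y : Ω) ∈ (frattini ↥S ⊔ K₀).map S.subtype := by
      rw [Subgroup.map_sup, hK₀, Subgroup.map_subgroupOf_eq_of_le (hKT.trans (hyp_le F p))]
      exact h hy
    obtain ⟨z, hz, hzy⟩ := hy'
    obtain rfl : z = y := Subtype.ext hzy
    refine sup_le htΦ (fun v hv => ?_) hz
    have hv' := hg ⟨v, hK₀T hv⟩
    rw [hgT, QuotientGroup.mk'_apply, (QuotientGroup.eq_one_iff v).2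
      (Subgroup.mem_sup_left (Subgroup.mem_sup_left hv)), one_pow, one_mul] at hv'
    exact Subtype.ext hv'.symm
  have hTN : T ≤ N := by
    intro y hy
    have h1 := hg ⟨y, hy⟩
    rw [hgT, show t y = 1 from htT hy, Subgroup.coe_one, mul_one] at h1
    have h2 := pow_gcd_eq_one.2 ⟨h1.symm, hexp y hy⟩
    rw [Nat.Coprime.gcd_eq_one
      (Nat.Coprime.symm ((Fact.out : p.Prime).coprime_iff_not_dvd.2 hk)), pow_one,
      QuotientGroup.mk'_apply, QuotientGroup.eq_one_iff] at h2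
    exact h2
  -- nilpotency
  haveI : Finite ↥(⊤ : Subgroup ↥S) := inferInstance
  have h1 : T ≤ K₀ ⊔ W := by
    refine H60.le_of_le_sup_commutator (Q := (⊤ : Subgroup ↥S))
      (hS.to_subgroup ⊤) le_top le_top ?_ ?_
    · rw [Subgroup.normalizer_eq_top]
    · rw [sup_right_comm] at hN
      exact hN ▸ hTN
  have h2 : K₀.subgroupOf T ⊔ frattini ↥T = ⊤ := by
    apply Subgroup.map_injective T.subtype_injective
    rw [← MonoidHom.range_eq_map, Subgroup.range_subtype]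
    refine le_antisymm (Subgroup.map_subtype_le _) (h1.trans ?_)
    rw [Subgroup.map_sup, Subgroup.map_subgroupOf_eq_of_le hK₀T]
    refine sup_le_sup_left ((Subgroup.closure_le _).2 ?_) _
    rintro _ ⟨s, hs, rfl⟩
    exact ⟨⟨s, hs⟩ ^ p, PGroups.pow_mem_frattini (hS.to_subgroup T) _, rfl⟩
  have h3 := frattini_nongenerating h2
  intro y hy
  exact (Subgroup.subgroupOf_eq_top.1 h3) (show (⟨y, hyp_le F p hy⟩ : ↥S) ∈ T from hy)

end Cfsg.Agent.H90
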