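import Cfsg.Agent.H90.Transvection
import Cfsg.Agent.FusionSys.Normal
import Cfsg.Agent.PGroups.Commutator
import Cfsg.Agent.PGroups.Extraspecial
import Cfsg.Agent.S0206

/-!
Saturated fusion systems on `p`-groups with centre of index `p ^ 2` and trivial core.
-/

set_option autoImplicit false
set_option linter.unusedSectionVars false
set_option linter.style.haveILetI false

namespace Cfsg.Agent.H90.CI

open Cfsg Cfsg.FusionSystem Cfsg.Agent.FusionSys
open scoped commutatorElement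

section GroupLevel

variable {G : Type*} [Group G] [Finite G] {p : ℕ} [hp : Fact p.Prime]

theorem pow_mem_center (hi : (Subgroup.center G).index = p ^ 2) (g : G) :
    g ^ p ∈ Subgroup.center G := by
  set q : G ⧸ Subgroup.center G := QuotientGroup.mk g
  have hd : orderOf q ∣ p ^ 2 := hi ▸ Subgroup.index_eq_card (Subgroup.center G) ▸ orderOf_dvd_natCard q
  obtain ⟨k, hk, hk'⟩ := (Nat.dvd_prime_pow hp.out).1 hd
  refine (QuotientGroup.eq_one_iff (N := Subgroup.center G) (g ^ p)).1 ?_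
  show q ^ p = 1
  interval_cases k
  · rw [orderOf_eq_one_iff.1 (show orderOf q = 1 by simpa using hk'), one_pow]
  · exact orderOf_dvd_iff_pow_eq_one.1 (by simp [hk'])
  · exfalso
    have : IsCyclic (G ⧸ Subgroup.center G) :=
      isCyclic_of_orderOf_eq_card q (by rw [hk', ← Subgroup.index_eq_card, hi])
    have hc := (MonoidHom.isMulCommutative_of_isCyclic_of_ker_le_center
      (QuotientGroup.mk' (Subgroup.center G)) (le_of_eq (QuotientGroup.ker_mk' _))).is_comm.comm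
    have htop : Subgroup.center G = ⊤ :=
      eq_top_iff.2 fun x _ => Subgroup.mem_center_iff.2 fun y => hc y x
    rw [htop, Subgroup.index_top] at hi
    exact (Nat.one_lt_pow two_ne_zero hp.out.one_lt).ne hi

theorem between (hi : (Subgroup.center G).index = p ^ 2) {H : Subgroup G}
    (h1 : Subgroup.center G < H) (h2 : H ≠ ⊤) :
    H.index = p ∧ (Subgroup.center G).relIndex H = p ∧ ∀ a ∈ H, ∀ b ∈ H, a * b = b * a := by
  have hm : (Subgroup.center G).relIndex H * H.index = p ^ 2 := by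
    rw [Subgroup.relIndex_mul_index h1.le, hi]
  obtain ⟨k, hk, hk'⟩ := (Nat.dvd_prime_pow hp.out).1 (hm ▸ dvd_mul_left H.index _)
  interval_cases k
  · exact absurd (Subgroup.index_eq_one.1 (by simpa using hk')) h2
  · rw [pow_one] at hk'
    rw [hk', pow_two] at hm
    have hr := Nat.eq_of_mul_eq_mul_right hp.out.pos hm
    refine ⟨hk', hr, fun a ha b hb => ?_⟩
    have : IsCyclic (↥H ⧸ (Subgroup.center G).subgroupOf H) := isCyclic_of_prime_card (p := p) (by
      rw [← Subgroup.index_eq_card]; exact hr)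
    have hc := (MonoidHom.isMulCommutative_of_isCyclic_of_ker_le_center
      (QuotientGroup.mk' ((Subgroup.center G).subgroupOf H))
      (by
        rw [QuotientGroup.ker_mk']
        exact fun x hx => Subgroup.mem_center_iff.2 fun y =>
          Subtype.ext (Subgroup.mem_center_iff.1 hx y))).is_comm.comm
    exact congrArg Subtype.val (hc ⟨a, ha⟩ ⟨b, hb⟩)
  · exfalso
    rw [hk'] at hm
    have hr : (Subgroup.center G).relIndex H = 1 :=
      Nat.eq_of_mul_eq_mul_right (pow_pos hp.out.pos 2) (by rw [hm, one_mul])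
    exact h1.not_ge (Subgroup.relIndex_eq_one.1 hr)

theorem card_commutator (hi : (Subgroup.center G).index = p ^ 2) :
    Nat.card (commutator G) = p := by
  classical
  have hcc : commutator G ≤ Subgroup.center G :=
    Cfsg.Agent.PGroups.commutator_le_of_index_dvd_sq _ (dvd_of_eq hi)
  have hne : Subgroup.center G ≠ ⊤ := fun h => by
    rw [h, Subgroup.index_top] at hi
    exact (Nat.one_lt_pow two_ne_zero hp.out.one_lt).ne hi
  obtain ⟨x, -, hx⟩ := SetLike.exists_of_lt hne.lt_top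
  obtain ⟨y, hy⟩ : ∃ y, ⁅y, x⁆ ≠ 1 := by
    by_contra h
    push Not at h
    exact hx (Subgroup.mem_center_iff.2 fun g => commutatorElement_eq_one_iff_mul_comm.1 (h g))
  let R : Subgroup (Subgroup.center G) :=
    Subgroup.zpowers (Cfsg.Agent.PGroups.commutatorHom hcc x y)
  have hR : R.map (Subgroup.center G).subtype = Subgroup.zpowers ⁅y, x⁆ := by
    rw [MonoidHom.map_zpowers]; rfl
  set M : Subgroup G := Subgroup.center G ⊔ Subgroup.zpowers x with hM
  have hxM : x ∈ M := le_sup_right (α := Subgroup G) (Subgroup.mem_zpowers x)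
  have hM1 : Subgroup.center G < M := lt_of_le_of_ne le_sup_left fun e => hx (by rw [e]; exact hxM)
  have hxy : ∀ m ∈ M, m * x = x * m := fun m hm => by
    have hle : M ≤ Subgroup.centralizer {x} := sup_le
      (fun z hz => Subgroup.mem_centralizer_singleton_iff.2 (Subgroup.mem_center_iff.1 hz x).symm)
      (Subgroup.zpowers_le.2 (Subgroup.mem_centralizer_singleton_iff.2 rfl))
    exact Subgroup.mem_centralizer_singleton_iff.1 (hle hm)
  have hyM : y ∉ M := fun h => hy (commutatorElement_eq_one_iff_mul_comm.2 (hxy y h))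
  have hM2 : M ≠ ⊤ := fun h => hyM (h ▸ Subgroup.mem_top y)
  obtain ⟨hMi, -, -⟩ := between hi hM1 hM2
  have htop : M ⊔ Subgroup.zpowers y = ⊤ := by
    have hlt : M < M ⊔ Subgroup.zpowers y := lt_of_le_of_ne le_sup_left fun e =>
      hyM (by rw [e]; exact le_sup_right (α := Subgroup G) (Subgroup.mem_zpowers y))
    by_contra h
    obtain ⟨h', -, -⟩ := between hi (hM1.trans hlt) h
    have h2 := Subgroup.relIndex_mul_index hlt.le
    rw [hMi, h'] at h2
    exact hlt.not_ge (Subgroup.relIndex_eq_one.1 (Nat.eq_of_mul_eq_mul_right hp.out.pos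
      (h2.trans (one_mul p).symm)))
  let Rz := Subgroup.zpowers ⁅y, x⁆
  have step : ∀ h : G, (∀ z : G, z ∈ Subgroup.center G → ⁅z, h⁆ ∈ Rz) → ⁅x, h⁆ ∈ Rz → ⁅y, h⁆ ∈ Rz →
      ∀ g : G, ⁅g, h⁆ ∈ Rz := by
    intro h hz hx' hy' g
    have hle : M ⊔ Subgroup.zpowers y ≤
        Rz.comap ((Subgroup.center G).subtype.comp (Cfsg.Agent.PGroups.commutatorHom hcc h)) :=
      sup_le (sup_le (fun z hz' => hz z hz') (Subgroup.zpowers_le.2 hx')) (Subgroup.zpowers_le.2 hy')
    exact hle (htop ▸ Subgroup.mem_top g)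
  have hz1 : ∀ z : G, z ∈ Subgroup.center G → ∀ h : G, ⁅z, h⁆ ∈ Rz := fun z hz h => by
    rw [commutatorElement_eq_one_iff_mul_comm.2 (Subgroup.mem_center_iff.1 hz h).symm]
    exact Rz.one_mem
  have hgx : ∀ g, ⁅g, x⁆ ∈ Rz := step x (fun z hz => hz1 z hz x)
    (by rw [commutatorElement_self]; exact Rz.one_mem) (Subgroup.mem_zpowers _)
  have hgy : ∀ g, ⁅g, y⁆ ∈ Rz := step y (fun z hz => hz1 z hz y)
    (by rw [← commutatorElement_inv]; exact Rz.inv_mem (Subgroup.mem_zpowers _))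
    (by rw [commutatorElement_self]; exact Rz.one_mem)
  have hall : ∀ g h : G, ⁅g, h⁆ ∈ Rz := fun g h =>
    step h (fun z hz => hz1 z hz h) (by rw [← commutatorElement_inv]; exact Rz.inv_mem (hgx h))
      (by rw [← commutatorElement_inv]; exact Rz.inv_mem (hgy h)) g
  have hc : commutator G = Rz := le_antisymm (Subgroup.commutator_le.2 fun g _ h _ => hall g h)
    (Subgroup.zpowers_le.2 (Subgroup.commutator_mem_commutator trivial trivial))
  rw [hc, Nat.card_zpowers]
  refine orderOf_eq_prime ?_ hy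
  have h1 : (Cfsg.Agent.PGroups.commutatorHom hcc x) (y ^ p) = 1 := Subtype.ext
    (commutatorElement_eq_one_iff_mul_comm.2
      (Subgroup.mem_center_iff.1 (pow_mem_center hi y) x).symm)
  rw [map_pow] at h1
  exact congrArg Subtype.val h1

end GroupLevel

variable {Ω : Type*} [Group Ω] {S : Subgroup Ω} [Finite S] {p : ℕ} [hp : Fact p.Prime]

/-- The centre of `S`, inside the ambient group. -/
def zc (S : Subgroup Ω) : Subgroup Ω := (Subgroup.center ↥S).map S.subtype

theorem mem_zc {z : Ω} : z ∈ zc S ↔ z ∈ S ∧ ∀ g ∈ S, g * z = z * g := by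
  constructor
  · rintro ⟨w, hw, rfl⟩
    exact ⟨w.2, fun g hg => congrArg Subtype.val (Subgroup.mem_center_iff.1 hw ⟨g, hg⟩)⟩
  · rintro ⟨hz, h⟩
    exact ⟨⟨z, hz⟩, Subgroup.mem_center_iff.2 fun g => Subtype.ext (h g g.2), rfl⟩

theorem zc_le : zc S ≤ S := Subgroup.map_subtype_le _

theorem zc_subgroupOf : (zc S).subgroupOf S = Subgroup.center ↥S :=
  Subgroup.comap_map_eq_self_of_injective S.subtype_injective _

theorem autGroup_hom {F : FusionSystem S} {P : Subgroup Ω} (hPS : P ≤ S) {α : MulAut ↥P}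
    (hα : α ∈ F.autGroup P) : P.subtype.comp α.toMonoidHom ∈ F.Hom P :=
  mem_hom_of_isMap ((mem_autGroup_iff hPS).1 hα) fun x => (autMap_coe α x).symm

theorem der_eq : ⁅S, S⁆ = (commutator ↥S).map S.subtype := by
  rw [commutator_def, Subgroup.map_commutator, ← MonoidHom.range_eq_map, Subgroup.range_subtype]

theorem der_le_zc (hi : (Subgroup.center ↥S).index = p ^ 2) : ⁅S, S⁆ ≤ zc S := by
  rw [der_eq]
  exact Subgroup.map_mono (Cfsg.Agent.PGroups.commutator_le_of_index_dvd_sq _ (dvd_of_eq hi))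

theorem card_der (hi : (Subgroup.center ↥S).index = p ^ 2) :
    Nat.card ↥(⁅S, S⁆ : Subgroup Ω) = p := by
  rw [der_eq, Subgroup.card_map_of_injective S.subtype_injective, card_commutator hi]

theorem conj_mem_of_zc_le (hi : (Subgroup.center ↥S).index = p ^ 2) {X : Subgroup Ω}
    (hX : X ≤ S) (hD : ⁅S, S⁆ ≤ X) {g x : Ω} (hg : g ∈ S) (hx : x ∈ X) : g * x * g⁻¹ ∈ X := by
  have := X.mul_mem (hD (Subgroup.commutator_mem_commutator hg (hX hx))) hx
  rwa [commutatorElement_def, inv_mul_cancel_right] at this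

/-- What is used about an essential subgroup. -/
structure Local (F : FusionSystem S) (p : ℕ) (E C W : Subgroup Ω) : Prop where
  cle : C ≤ zc S
  disj : ∀ c ∈ C, c ∈ ⁅S, S⁆ → c = 1
  dec : ∀ z ∈ zc S, ∃ c ∈ C, ∃ a ∈ ⁅S, S⁆, z = c * a
  inv : ∀ α ∈ F.autGroup E, ∀ c ∈ C, autMap α c ∈ C
  pow : ∀ x ∈ E, ∃ c ∈ C, x ^ p = c ^ p
  der : ⁅S, S⁆ ≤ W
  wle : W ≤ E
  card : Nat.card W ≤ p * p
  split : ∀ α ∈ F.autGroup E, ∃ β ∈ F.autGroup S, (∀ c ∈ C, autMap α c = autMap β c) ∧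
    ∀ x ∈ E, (autMap β x)⁻¹ * autMap α x ∈ W
  torus : p ≠ 2 → ∃ τ ∈ F.autGroup S, (∀ c ∈ C, autMap τ c = c) ∧
    ∀ a ∈ ⁅S, S⁆, autMap τ a = a ^ 2

section Setting

variable (hS : IsPGroup p S) (hi : (Subgroup.center ↥S).index = p ^ 2)
  {F : FusionSystem S} (hF : F.IsSaturated p)
include hS hi hF

theorem essential_facts {E : Subgroup Ω} (hE : F.IsEssential p E) :
    zc S ≤ E ∧ E ≤ S ∧ (E.subgroupOf S).index = p ∧ (zc S).relIndex E = p ∧
      ∀ a ∈ E, ∀ b ∈ E, a * b = b * a := by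
  have hES := lt_of_isEssential hS hF hE
  have hC := centralizerIn_le_of_isCentric hE.1
  have hZE : zc S ≤ E := fun z hz => hC (FusionSys.mem_centralizerIn.2
    ⟨zc_le hz, fun y hy => (mem_zc.1 hz).2 y (hES.le hy)⟩)
  have hne : zc S ≠ E := fun e => hES.ne (le_antisymm hES.le fun g hg =>
    hC (FusionSys.mem_centralizerIn.2 ⟨hg, fun y hy => ((mem_zc.1 (e.symm ▸ hy)).2 g hg).symm⟩))
  have h1 : Subgroup.center ↥S < E.subgroupOf S := by
    rw [← zc_subgroupOf]
    refine lt_of_le_of_ne (Subgroup.comap_mono hZE) fun e => hne ?_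
    rwa [Subgroup.subgroupOf_inj, inf_eq_left.2 zc_le, inf_eq_left.2 hES.le] at e
  have h2 : E.subgroupOf S ≠ ⊤ := fun e => hES.not_ge (Subgroup.subgroupOf_eq_top.1 e)
  obtain ⟨hi1, hi2, hc⟩ := between hi h1 h2
  refine ⟨hZE, hES.le, hi1, ?_, fun a ha b hb => congrArg Subtype.val
    (hc ⟨a, hES.le ha⟩ ha ⟨b, hES.le hb⟩ hb)⟩
  rw [← zc_subgroupOf, Subgroup.relIndex_subgroupOf hES.le] at hi2
  exact hi2

theorem sup_eq_of_index {E : Subgroup Ω} (hi1 : (E.subgroupOf S).index = p)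
    {M : Subgroup ↥S} (hM : E.subgroupOf S ≤ M) {s : ↥S} (hs : (s : Ω) ∉ E) (hsM : s ∈ M) :
    M = ⊤ := by
  have h := Subgroup.relIndex_mul_index hM
  rw [hi1] at h
  rcases (Nat.dvd_prime hp.out).1 (h ▸ dvd_mul_left M.index _) with h1 | h1
  · exact Subgroup.index_eq_one.1 h1
  · rw [h1] at h
    exact absurd (Subgroup.relIndex_eq_one.1
      (Nat.eq_of_mul_eq_mul_right hp.out.pos (h.trans (one_mul p).symm)) hsM) hs

theorem local_data {E : Subgroup Ω} (hE : F.IsEssential p E) :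
    ∃ C W : Subgroup Ω, Local F p E C W := by
  obtain ⟨hZE, hES, hEi, hZi, hEc⟩ := essential_facts hS hi hF hE
  haveI := finite_of_le hES
  letI : CommGroup ↥E :=
    { (inferInstance : Group ↥E) with mul_comm := fun a b => Subtype.ext (hEc a a.2 b b.2) }
  have hDZ := der_le_zc hi
  have hDE : ⁅S, S⁆ ≤ E := hDZ.trans hZE
  obtain ⟨s, hsS, hsE⟩ := SetLike.exists_of_lt (lt_of_isEssential hS hF hE)
  have hnorm : ∀ g ∈ S, g ∈ Subgroup.normalizer (E : Set Ω) := fun g hg =>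
    mem_normalizer_of_maps fun y hy => conj_mem_of_zc_le hi hES hDE hg hy
  set u : MulAut ↥E := conjAut (hnorm s hsS) with hu
  have huA : u ∈ F.autGroup E := conjAut_mem_autGroup F hES ⟨hsS, hnorm s hsS⟩
  -- every automorphism induced by `S` is a power of `u`
  have hind : autInducedBy S E ≤ Subgroup.zpowers u := by
    intro α hα
    obtain ⟨g, hg, hn, rfl⟩ := mem_autInducedBy.1 hα
    let φ : ↥S →* MulAut ↥E :=
      (conjAutIn S E).comp (Subgroup.inclusion (show S ≤ normalizerIn S E from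
        fun x hx => ⟨hx, hnorm x hx⟩))
    have htop : (Subgroup.zpowers u).comap φ = ⊤ :=
      sup_eq_of_index hS hi hF hEi (fun e he => by
        rw [Subgroup.mem_comap, show φ e = 1 from
          conjAutIn_eq_one_iff.2 (FusionSys.mem_centralizerIn.2
            ⟨e.2, fun y hy => hEc y hy e he⟩)]
        exact one_mem _) (s := ⟨s, hsS⟩) hsE (Subgroup.mem_zpowers u)
    exact (htop.ge (Subgroup.mem_top (⟨g, hg⟩ : ↥S)) : φ ⟨g, hg⟩ ∈ Subgroup.zpowers u)
  have hind' : Subgroup.zpowers u ≤ autInducedBy S E :=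
    Subgroup.zpowers_le.2 (mem_autInducedBy.2 ⟨s, hsS, hnorm s hsS, rfl⟩)
  have hIE : Inn ↥E = ⊥ := eq_bot_iff.2 (by
    rintro _ ⟨e, rfl⟩
    refine MulEquiv.ext fun y => ?_
    show e * y * e⁻¹ = y
    rw [mul_comm e y, mul_inv_cancel_right])
  have hfix : ∀ x : ↥E, u x = x ↔ x ∈ (zc S).subgroupOf E := by
    intro x
    constructor
    · intro h
      have h' : s * (x : Ω) * s⁻¹ = x := congrArg Subtype.val h
      refine mem_zc.2 ⟨hES x.2, fun g hg => ?_⟩
      let M : Subgroup ↥S := (Subgroup.centralizer ({(x : Ω)} : Set Ω)).subgroupOf S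
      have hM : M = ⊤ := sup_eq_of_index hS hi hF hEi
        (fun e he => Subgroup.mem_centralizer_singleton_iff.2 (hEc e he x x.2))
        (s := ⟨s, hsS⟩) hsE
        (Subgroup.mem_centralizer_singleton_iff.2 (mul_inv_eq_iff_eq_mul.1 h'))
      exact Subgroup.mem_centralizer_singleton_iff.1 (hM.ge (Subgroup.mem_top (⟨g, hg⟩ : ↥S)))
    · intro h
      refine Subtype.ext ?_
      show s * (x : Ω) * s⁻¹ = x
      have h' : s * (x : Ω) = x * s := (mem_zc.1 h).2 s hsS
      rw [h', mul_inv_cancel_right]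
  have hu1 : u ≠ 1 := fun h => by
    have htop : (zc S).subgroupOf E = ⊤ :=
      eq_top_iff.2 fun x _ => (hfix x).1 (by rw [h]; rfl)
    have h1 : ((zc S).subgroupOf E).index = p := hZi
    rw [htop, Subgroup.index_top] at h1
    exact hp.out.one_lt.ne h1
  haveI := finite_mulAut_of_le (S := S) hES
  have D : TransData p (F.autGroup E) u ((zc S).subgroupOf E) ((⁅S, S⁆ : Subgroup Ω).subgroupOf E) := by
    refine ⟨huA, hfix, fun x => ?_, Subgroup.comap_mono hDZ, ?_, hZi, ?_, ?_⟩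
    · show (x : Ω)⁻¹ * (s * x * s⁻¹) ∈ ⁅S, S⁆
      rw [show (x : Ω)⁻¹ * (s * x * s⁻¹) = ⁅(x : Ω)⁻¹, s⁆ by
        rw [commutatorElement_def, inv_inv]; simp only [mul_assoc]]
      exact Subgroup.commutator_mem_commutator (S.inv_mem (hES x.2)) hsS
    · rw [Nat.card_congr (Subgroup.subgroupOfEquivOfLe hDE).toEquiv, card_der hi]
    · intro P hPA hPp huP
      obtain ⟨-, T, hT⟩ := isFullyAutomized_of_isFullyNormalized hS hF hE.2.1
      obtain ⟨Q, hQ⟩ := (hPp.of_equiv (Subgroup.subgroupOfEquivOfLe hPA).symm).exists_le_sylow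
      have h1 : Nat.card P ≤ Nat.card (Subgroup.zpowers u) := by
        refine le_trans ?_ (Subgroup.card_le_of_le hind)
        rw [← Nat.card_congr (Subgroup.subgroupOfEquivOfLe hPA).toEquiv,
          ← Nat.card_congr (Subgroup.subgroupOfEquivOfLe (autInducedBy_le_autGroup F hES)).toEquiv,
          ← hT]
        exact (Subgroup.card_le_of_le hQ).trans
          (Nat.card_congr (Sylow.equiv Q T).toEquiv).le
      exact (Subgroup.eq_of_le_of_card_ge (Subgroup.zpowers_le.2 huP) h1).ge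
    · by_contra hn
      push Not at hn
      have hUp : IsPGroup p (Subgroup.zpowers u) := (isPGroup_autInducedBy hS E).to_le hind'
      let U := (Subgroup.zpowers u).subgroupOf (F.autGroup E)
      have hUn : U.Normal := by
        refine ⟨fun x hx γ => ?_⟩
        obtain ⟨i, hi'⟩ := hx
        refine Subgroup.mem_subgroupOf.2 ?_
        show (γ : MulAut ↥E) * (x : MulAut ↥E) * (γ : MulAut ↥E)⁻¹ ∈ _
        rw [show (x : MulAut ↥E) = u ^ i from hi'.symm, ← conj_zpow]
        exact Subgroup.zpow_mem _ (hn γ γ.2) i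
      have hUle : U ≤ pCore p (F.autGroup E) := le_sSup
        ⟨hUn, hUp.of_equiv (Subgroup.subgroupOfEquivOfLe (Subgroup.zpowers_le.2 huA)).symm⟩
      have hmem : u ∈ (pCore p (F.autGroup E)).map (F.autGroup E).subtype :=
        ⟨⟨u, huA⟩, hUle (Subgroup.mem_subgroupOf.2 (Subgroup.mem_zpowers u)), rfl⟩
      rw [(isRadical_of_isEssential hS hE).2, hIE, Subgroup.mem_bot] at hmem
      exact hu1 hmem
  obtain ⟨C, W, K, hC1, hC2, hC3, hC4, hC5, ⟨hW1, hW2⟩, ⟨-, hK2, hK3⟩, hsplit, htor⟩ :=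
    D.structure_thm
  -- extension to `S`
  have hext : ∀ n ∈ F.autGroup E, (∀ z ∈ (zc S).subgroupOf E, n z ∈ (zc S).subgroupOf E) →
      ∃ β ∈ F.autGroup S, ∀ x ∈ E, autMap β x = autMap n x := by
    intro n hn hnZ
    have hninv : n⁻¹ ∈ F.autGroup E := (F.autGroup E).inv_mem hn
    have hcj := D.conj_mem hninv fun a ha => D.stab_inv hnZ (D.le ha)
    rw [inv_inv] at hcj
    have hN : ∀ g ∈ S, InExt S E (autMap n) g := by
      intro g hg
      obtain ⟨i, hi'⟩ := hind (mem_autInducedBy.2 ⟨g, hg, hnorm g hg, rfl⟩)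
      have hm : n * conjAut (hnorm g hg) * n⁻¹ ∈ autInducedBy S E := by
        rw [show conjAut (hnorm g hg) = u ^ i from hi'.symm, ← conj_zpow]
        exact Subgroup.zpow_mem _ (hind' hcj) i
      obtain ⟨h, hhS, hhn, hh⟩ := mem_autInducedBy.1 hm
      refine ⟨hg, hnorm g hg, h, hhS, fun y hy => ?_⟩
      have := congrArg (fun a : MulAut ↥E => autMap a (autMap n y)) hh
      rw [autMap_conjAut hhn (autMap_mem _ hy), autMap_mul _ _ (autMap_mem _ hy),
        ← autMap_mul _ _ hy, inv_mul_cancel,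
        show autMap (1 : MulAut ↥E) y = y by rw [autMap_apply _ hy]; rfl,
        autMap_mul _ _ hy, autMap_conjAut _ hy] at this
      exact this
    obtain ⟨g, hg, hge⟩ := receptive_extend (receptive_of_isFullyNormalized hS hF hE.2.1)
      (isIso_autMap hES hn) hN
    have hgS : IsMap F S g := hg.mono le_sup_left
    obtain ⟨β, hβ, hβe⟩ := (IsIso.mk hgS
      (hgS.image_eq_of_mapsTo fun x hx => hgS.mem_S hx)).exists_aut
    exact ⟨β, hβ, fun x hx => (hβe x (hES hx)).trans (hge x hx)⟩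
  let up : Subgroup ↥E → Subgroup Ω := fun X => X.map E.subtype
  have hmem : ∀ {X : Subgroup ↥E} {x : Ω}, x ∈ up X ↔ ∃ hx : x ∈ E, (⟨x, hx⟩ : ↥E) ∈ X :=
    fun {X x} => ⟨fun ⟨y, hy, e⟩ => e ▸ ⟨y.2, hy⟩, fun ⟨hx, h⟩ => ⟨_, h, rfl⟩⟩
  refine ⟨up C, up W, ?_, ?_, ?_, ?_, ?_, ?_, Subgroup.map_subtype_le _, ?_, ?_, ?_⟩
  · rintro _ ⟨c, hc, rfl⟩
    exact hC1 hc
  · rintro _ ⟨c, hc, rfl⟩ hcD
    exact congrArg Subtype.val (hC2 c hc hcD)
  · intro z hz
    obtain ⟨c, hc, a, ha, e⟩ := hC3 ⟨z, hZE hz⟩ hz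
    exact ⟨c, ⟨c, hc, rfl⟩, a, ha, congrArg Subtype.val e⟩
  · rintro α hα _ ⟨c, hc, rfl⟩
    exact ⟨α c, hC4 α hα c hc, (autMap_coe α c).symm⟩
  · intro x hx
    obtain ⟨c, hc, e⟩ := hC5 ⟨x, hx⟩
    exact ⟨c, ⟨c, hc, rfl⟩, congrArg Subtype.val e⟩
  · exact fun a ha => hmem.2 ⟨hDE ha, hW1 ha⟩
  · rw [Subgroup.card_map_of_injective E.subtype_injective]
    exact hW2
  · intro α hα
    obtain ⟨k, hk, n, hn, rfl, hnZ⟩ := hsplit α hα
    obtain ⟨β, hβ, hβe⟩ := hext n hn hnZ
    refine ⟨β, hβ, ?_, fun x hx => ?_⟩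
    · rintro _ ⟨c, hc, rfl⟩
      rw [show E.subtype c = (c : Ω) from rfl, autMap_coe, hβe _ c.2, autMap_coe, MulAut.mul_apply,
        hK2 k hk _ (hC4 n hn c hc)]
    · rw [hβe x hx, autMap_apply _ hx, autMap_apply _ hx]
      exact ⟨_, hK3 k hk (n ⟨x, hx⟩), rfl⟩
  · intro h2
    obtain ⟨t, ht, htZ, htC, htD⟩ := htor h2
    obtain ⟨τ, hτ, hτe⟩ := hext t ht htZ
    refine ⟨τ, hτ, ?_, fun a ha => ?_⟩
    · rintro _ ⟨c, hc, rfl⟩
      rw [show E.subtype c = (c : Ω) from rfl, hτe _ c.2, autMap_coe, htC c hc]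
    · rw [hτe a (hDE ha), autMap_apply _ (hDE ha), htD ⟨a, hDE ha⟩ ha]
      rfl

theorem aut_zc {β : MulAut ↥S} {z : Ω} (hz : z ∈ zc S) : autMap β z ∈ zc S := by
  refine mem_zc.2 ⟨autMap_mem β (zc_le hz), fun g hg => ?_⟩
  have := (mem_zc.1 hz).2 _ (autMap_mem β⁻¹ hg)
  have h' : β (β⁻¹ ⟨g, hg⟩ * ⟨z, zc_le hz⟩) = β (⟨z, zc_le hz⟩ * β⁻¹ ⟨g, hg⟩) := by
    congr 1
    refine Subtype.ext ?_
    rwa [autMap_apply _ hg] at this
  rw [map_mul, map_mul, MulAut.apply_inv_self] at h'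
  rw [autMap_apply _ (zc_le hz)]
  exact congrArg Subtype.val h'

theorem aut_der {β : MulAut ↥S} {z : Ω} (hz : z ∈ ⁅S, S⁆) : autMap β z ∈ ⁅S, S⁆ := by
  rw [der_eq] at hz ⊢
  obtain ⟨w, hw, rfl⟩ := hz
  refine ⟨β w, ?_, (autMap_coe β w).symm⟩
  exact Subgroup.characteristic_iff_le_comap.1
    (inferInstance : (commutator ↥S).Characteristic) β hw

theorem exists_pow_inner {β : MulAut ↥S} (hβ : β ∈ F.autGroup S) :
    ∃ m : ℕ, ¬ p ∣ m ∧ ∃ g ∈ S, ∀ x ∈ S, autMap (β ^ m) x = g * x * g⁻¹ := by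
  haveI := finite_autGroup F (le_refl S)
  obtain ⟨-, T, hT⟩ := isFullyAutomized_of_isFullyNormalized hS hF (isFullyNormalized_S F)
  rw [← inn_eq_autInducedBy_self] at hT
  haveI : (T : Subgroup (F.autGroup S)).Normal := hT ▸ inn_subgroupOf_normal S (F.autGroup S)
  refine ⟨(T : Subgroup (F.autGroup S)).index, T.not_dvd_index, ?_⟩
  have := (T : Subgroup (F.autGroup S)).pow_index_mem ⟨β, hβ⟩
  rw [hT] at this
  obtain ⟨g, hg⟩ := this
  rw [hT]
  refine ⟨g, g.2, fun x hx => ?_⟩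
  rw [show (β ^ _ : MulAut ↥S) = MulAut.conj g from hg.symm, autMap_apply _ hx]
  rfl

/-- Automorphisms of `S` fixing complements of the derived group with the same action on it have
the same complement. -/
theorem fixed_eq {C C' : Subgroup Ω} (hC : C ≤ zc S) (hC' : C' ≤ zc S)
    (hdec' : ∀ z ∈ zc S, ∃ c ∈ C', ∃ a ∈ ⁅S, S⁆, z = c * a)
    {τ τ' : MulAut ↥S} (hτ : τ ∈ F.autGroup S) (hτ' : τ' ∈ F.autGroup S)
    (h1 : ∀ c ∈ C, autMap τ c = c) (h1' : ∀ c ∈ C', autMap τ' c = c)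
    (h3 : ∀ a ∈ ⁅S, S⁆, autMap τ a = a ^ 2) (h3' : ∀ a ∈ ⁅S, S⁆, autMap τ' a = a ^ 2) :
    C ≤ C' := by
  have hDZ := der_le_zc hi
  have hap : ∀ a ∈ ⁅S, S⁆, a ^ p = 1 := fun a ha => by
    have h : (⟨a, ha⟩ : ↥(⁅S, S⁆ : Subgroup Ω)) ^ p = 1 := by
      conv_lhs => rw [← card_der hi]
      exact pow_card_eq_one'
    exact congrArg Subtype.val h
  have hfix : ∀ {D : Subgroup Ω} {σ : MulAut ↥S}, (∀ z ∈ zc S, ∃ c ∈ D, ∃ a ∈ ⁅S, S⁆, z = c * a) →
      (∀ c ∈ D, autMap σ c = c) → (∀ a ∈ ⁅S, S⁆, autMap σ a = a ^ 2) → D ≤ zc S → σ ∈ F.autGroup S →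
      ∀ z ∈ zc S, autMap σ z = z → z ∈ D := by
    intro D σ hD hc ha hle hσ z hz e
    obtain ⟨c, hcD, a, haD, rfl⟩ := hD z hz
    rw [((mem_autGroup_iff le_rfl).1 hσ).map_mul (zc_le (hle hcD)) (zc_le (hDZ haD)), hc c hcD,
      ha a haD, mul_left_cancel_iff, pow_two, mul_eq_left] at e
    rwa [e, mul_one]
  intro c hc
  have hcS := zc_le (hC hc)
  obtain ⟨c', hc', a, ha, hce⟩ := hdec' c (hC hc)
  have hmul : ∀ {σ : MulAut ↥S}, σ ∈ F.autGroup S → ∀ {x y : Ω}, x ∈ S → y ∈ S →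
      autMap σ (x * y) = autMap σ x * autMap σ y :=
    fun hσ x y hx hy => ((mem_autGroup_iff le_rfl).1 hσ).map_mul hx hy
  have hτ'c : autMap τ' c = c * a := by
    rw [hce, hmul hτ' (zc_le (hC' hc')) (zc_le (hDZ ha)), h1' c' hc', h3' a ha, pow_two, mul_assoc]
  -- the two maps commute on the centre
  set d := (τ' * τ)⁻¹ * (τ * τ') with hd'
  have hdA : d ∈ F.autGroup S := (F.autGroup S).mul_mem
    ((F.autGroup S).inv_mem ((F.autGroup S).mul_mem hτ' hτ)) ((F.autGroup S).mul_mem hτ hτ')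
  have hdD : ∀ b ∈ ⁅S, S⁆, autMap d b = b := by
    intro b hb
    have hbS := zc_le (hDZ hb)
    have e : autMap (τ * τ') b = autMap (τ' * τ) b := by
      rw [autMap_mul _ _ hbS, autMap_mul _ _ hbS, h3' b hb, h3 b hb,
        h3 _ ((⁅S, S⁆ : Subgroup Ω).pow_mem hb 2), h3' _ ((⁅S, S⁆ : Subgroup Ω).pow_mem hb 2)]
    rw [hd', autMap_mul _ _ hbS, e, ← autMap_mul _ _ hbS, inv_mul_cancel, autMap_apply _ hbS]
    rfl
  have haS := zc_le (hDZ ha)
  have hb : autMap (τ' * τ)⁻¹ a ∈ ⁅S, S⁆ := aut_der hS hi hF ha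
  set b := autMap (τ' * τ)⁻¹ a
  have hdc : autMap d c = c * b := by
    have e1 : autMap (τ * τ') c = autMap (τ' * τ) c * a := by
      rw [autMap_mul _ _ hcS, autMap_mul _ _ hcS, hτ'c, hmul hτ hcS haS, h1 c hc, h3 a ha, hτ'c,
        pow_two, mul_assoc]
    have hinv := (F.autGroup S).inv_mem ((F.autGroup S).mul_mem hτ' hτ)
    rw [hd', autMap_mul _ _ hcS, e1, hmul hinv (autMap_mem _ hcS) haS,
      ← autMap_mul _ _ hcS, inv_mul_cancel, autMap_apply _ hcS]
    rfl
  have hbS := zc_le (hDZ hb)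
  have hdn : ∀ n : ℕ, autMap (d ^ n) c = c * b ^ n := by
    intro n
    induction n with
    | zero => rw [pow_zero, autMap_apply _ hcS, pow_zero, mul_one]; rfl
    | succ n ih =>
      rw [pow_succ', autMap_mul _ _ hcS, ih, hmul hdA hcS (S.pow_mem hbS n), hdc,
        hdD _ ((⁅S, S⁆ : Subgroup Ω).pow_mem hb n), mul_assoc, ← pow_succ']
  obtain ⟨m, hm, g, hg, hgm⟩ := exists_pow_inner hS hi hF hdA
  have hbm : b ^ m = 1 := by
    have := hdn m
    rwa [hgm c hcS, (mem_zc.1 (hC hc)).2 g hg, mul_inv_cancel_right, eq_comm, mul_eq_left] at this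
  have hb1 : b = 1 := orderOf_eq_one_iff.1 (Nat.eq_one_of_dvd_coprimes
    (hp.out.coprime_iff_not_dvd.2 hm) (orderOf_dvd_of_pow_eq_one (hap b hb))
    (orderOf_dvd_of_pow_eq_one hbm))
  have ha1 : a = 1 := by
    have e := autMap_inv_apply (τ' * τ) haS
    rw [show autMap (τ' * τ)⁻¹ a = 1 from hb1] at e
    rw [← e, autMap_apply _ (one_mem S)]
    exact congrArg Subtype.val (map_one (τ' * τ))
  exact hfix hdec' h1' h3' hC' hτ' c (hC hc) (by rw [hτ'c, ha1, mul_one])

/-- With trivial core, `S` is generated by an elementary abelian essential subgroup and an element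
of order `p`, and the complements are trivial. -/
theorem setup (hbot : ∀ Q, F.IsNormal Q → Q = ⊥) (hne : S ≠ ⊥) :
    ∃ E, F.IsEssential p E ∧
      (∀ z ∈ zc S, z ^ p = 1) ∧ (∀ P, F.IsEssential p P → ∀ x ∈ P, x ^ p = 1) ∧
      ∃ x₀ ∈ S, x₀ ∉ E ∧ x₀ ^ p = 1 := by
  have himg : ∀ {P Q : Subgroup Ω}, Q ≤ P → P ≤ S → ∀ {α : MulAut ↥P}, α ∈ F.autGroup P →
      (∀ x ∈ Q, autMap α x ∈ Q) → autMap α '' (Q : Set Ω) = Q := by
    intro P Q hQP hPS α hα h
    haveI := finite_of_le (hQP.trans hPS)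
    exact (((mem_autGroup_iff hPS).1 hα).mono hQP).image_eq_of_mapsTo h
  obtain ⟨E, hE⟩ : ∃ E, F.IsEssential p E := by
    by_contra h
    push Not at h
    refine hne (hbot S (isNormal_of_essential hS hF fun P hP => ?_))
    obtain rfl := hP.resolve_right (h P)
    exact ⟨le_rfl, fun α _ => image_autMap α⟩
  have hcomm : ∀ a ∈ zc S, ∀ b ∈ zc S, a * b = b * a :=
    fun a ha b hb => (mem_zc.1 hb).2 a (zc_le ha)
  let Q : Subgroup Ω :=
    { carrier := {y | ∃ z ∈ zc S, z ^ p = y}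
      one_mem' := ⟨1, one_mem _, one_pow _⟩
      mul_mem' := by
        rintro _ _ ⟨a, ha, rfl⟩ ⟨b, hb, rfl⟩
        exact ⟨a * b, mul_mem ha hb, Commute.mul_pow (hcomm a ha b hb) p⟩
      inv_mem' := by
        rintro _ ⟨a, ha, rfl⟩
        exact ⟨a⁻¹, inv_mem ha, inv_pow _ _⟩ }
  have hQZ : Q ≤ zc S := by
    rintro _ ⟨z, hz, rfl⟩
    exact pow_mem hz p
  have hQN : F.IsNormal Q := by
    refine isNormal_of_essential hS hF fun P hP => ?_
    rcases hP with rfl | hP
    · refine ⟨hQZ.trans zc_le, fun α hα => himg (hQZ.trans zc_le) le_rfl hα ?_⟩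
      rintro _ ⟨z, hz, rfl⟩
      exact ⟨_, aut_zc hS hi hF hz, (((mem_autGroup_iff le_rfl).1 hα).map_pow (zc_le hz) p).symm⟩
    · obtain ⟨hZP, hPS, -⟩ := essential_facts hS hi hF hP
      obtain ⟨C, W, L⟩ := local_data hS hi hF hP
      refine ⟨hQZ.trans hZP, fun α hα => himg (hQZ.trans hZP) hPS hα ?_⟩
      rintro _ ⟨z, hz, rfl⟩
      obtain ⟨c, hc, e⟩ := L.pow z (hZP hz)
      rw [e]
      exact ⟨_, L.cle (L.inv α hα c hc),
        (((mem_autGroup_iff hPS).1 hα).map_pow (hZP (L.cle hc)) p).symm⟩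
  have hQ := hbot Q hQN
  have hz1 : ∀ z ∈ zc S, z ^ p = 1 := fun z hz => by
    have h : z ^ p ∈ Q := ⟨z, hz, rfl⟩
    rwa [hQ, Subgroup.mem_bot] at h
  have hP1 : ∀ P, F.IsEssential p P → ∀ x ∈ P, x ^ p = 1 := fun P hP x hx => by
    obtain ⟨C, W, L⟩ := local_data hS hi hF hP
    obtain ⟨c, hc, e⟩ := L.pow x hx
    rw [e]
    exact hz1 c (L.cle hc)
  refine ⟨E, hE, hz1, hP1, ?_⟩
  by_contra h
  push Not at h
  obtain ⟨hZE, hES, hEi, hEr, -⟩ := essential_facts hS hi hF hE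
  have hin : ∀ x ∈ S, x ^ p = 1 → x ∈ E := fun x hx hxp => by
    by_contra hxE
    exact h x hx hxE hxp
  have hEN : F.IsNormal E := by
    refine isNormal_of_essential hS hF fun P hP => ?_
    rcases hP with rfl | hP
    · refine ⟨hES, fun α hα => himg hES le_rfl hα fun x hx => hin _ (autMap_mem α (hES hx)) ?_⟩
      rw [← ((mem_autGroup_iff le_rfl).1 hα).map_pow (hES hx) p, hP1 E hE x hx,
        ((mem_autGroup_iff le_rfl).1 hα).map_one]
    · obtain ⟨hZP, hPS, -, hPr, -⟩ := essential_facts hS hi hF hP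
      have hle : P ≤ E := fun x hx => hin x (hPS hx) (hP1 P hP x hx)
      have hEP : E ≤ P := by
        have h2 := Subgroup.relIndex_mul_relIndex (zc S) P E hZP hle
        rw [hPr, hEr] at h2
        exact Subgroup.relIndex_eq_one.1 (Nat.eq_of_mul_eq_mul_left hp.out.pos
          (h2.trans (mul_one p).symm))
      exact ⟨hEP, fun α hα => himg hEP hPS hα fun x hx => hle (autMap_mem α (hEP hx))⟩
  have := hbot E hEN
  rw [this, Subgroup.relIndex_bot_right] at hEr
  exact hp.out.one_lt.ne hEr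

/-- For odd `p` the centre is the derived group. -/
theorem zc_eq_odd (h2 : p ≠ 2) (hbot : ∀ Q, F.IsNormal Q → Q = ⊥) {E : Subgroup Ω}
    (hE : F.IsEssential p E) : zc S = ⁅S, S⁆ := by
  obtain ⟨C, W, L⟩ := local_data hS hi hF hE
  obtain ⟨τ, hτ, hτC, hτD⟩ := L.torus h2
  have hDZ := der_le_zc hi
  have hCS : C ≤ S := L.cle.trans zc_le
  have hN : F.IsNormal C := by
    refine isNormal_of_essential hS hF fun P hP => ?_
    rcases hP with rfl | hP
    · refine ⟨hCS, fun β hβ => ?_⟩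
      haveI := finite_of_le hCS
      have hm := (mem_autGroup_iff le_rfl).1 hβ
      refine (hm.mono hCS).image_eq_of_mapsTo fun c hc => ?_
      -- the image of `C` is fixed by a conjugate of `τ`
      let C' : Subgroup Ω := imgSub (autMap β) C
      have hC'mem : ∀ {y : Ω}, y ∈ C' ↔ ∃ x ∈ C, autMap β x = y := (hm.mono hCS).mem_imgSub
      have hC'le : C' ≤ zc P := fun y hy => by
        obtain ⟨x, hx, rfl⟩ := hC'mem.1 hy
        exact aut_zc hS hi hF (L.cle hx)
      have hdec' : ∀ z ∈ zc P, ∃ c ∈ C', ∃ a ∈ ⁅P, P⁆, z = c * a := by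
        intro z hz
        obtain ⟨x, hx, a, ha, e⟩ := L.dec _ (aut_zc hS hi hF (β := β⁻¹) hz)
        refine ⟨_, hC'mem.2 ⟨x, hx, rfl⟩, _, aut_der hS hi hF (β := β) ha, ?_⟩
        rw [← hm.map_mul (hCS hx) (zc_le (hDZ ha)), ← e, autMap_inv_apply β (zc_le hz)]
      have hcC : autMap β c ∈ C' := hC'mem.2 ⟨c, hc, rfl⟩
      have hτ' := (F.autGroup P).mul_mem ((F.autGroup P).mul_mem hβ hτ) ((F.autGroup P).inv_mem hβ)
      refine fixed_eq hS hi hF hC'le L.cle L.dec hτ' hτ ?_ hτC ?_ hτD hcC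
      · intro y hy
        obtain ⟨x, hx, rfl⟩ := hC'mem.1 hy
        rw [autMap_mul _ _ (autMap_mem _ (hCS hx)), autMap_mul _ _ (autMap_mem _ (autMap_mem _ (hCS hx))),
          ← autMap_mul β⁻¹ β (hCS hx), inv_mul_cancel,
          show autMap (1 : MulAut ↥P) x = x by rw [autMap_apply _ (hCS hx)]; rfl, hτC x hx]
      · intro a ha
        have haP := zc_le (hDZ ha)
        rw [autMap_mul _ _ haP, autMap_mul _ _ (autMap_mem _ haP), hτD _ (aut_der hS hi hF ha),
          hm.map_pow (autMap_mem _ haP) 2, autMap_inv_apply β haP]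
    · obtain ⟨hZP, hPS, -⟩ := essential_facts hS hi hF hP
      obtain ⟨C', W', L'⟩ := local_data hS hi hF hP
      obtain ⟨τ', hτ', hτ'C, hτ'D⟩ := L'.torus h2
      obtain rfl : C = C' := le_antisymm
        (fixed_eq hS hi hF L.cle L'.cle L'.dec hτ hτ' hτC hτ'C hτD hτ'D)
        (fixed_eq hS hi hF L'.cle L.cle L.dec hτ' hτ hτ'C hτC hτ'D hτD)
      refine ⟨L'.cle.trans hZP, fun α hα => ?_⟩
      haveI := finite_of_le (L'.cle.trans zc_le)
      exact (((mem_autGroup_iff hPS).1 hα).mono (L'.cle.trans hZP)).image_eq_of_mapsTo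
        fun c hc => L'.inv α hα c hc
  have hC := hbot C hN
  refine le_antisymm (fun z hz => ?_) hDZ
  obtain ⟨c, hc, a, ha, rfl⟩ := L.dec z hz
  rw [hC, Subgroup.mem_bot] at hc
  rwa [hc, one_mul]

/-- For `p = 2` the focal subgroup is proper unless `S` has order `8`. -/
theorem card_le_two (h2 : p = 2) (hbot : ∀ Q, F.IsNormal Q → Q = ⊥)
    (hhyp : F.hyperfocalSubgroup p = S) {E : Subgroup Ω} (hE : F.IsEssential p E)
    (hz1 : ∀ z ∈ zc S, z ^ p = 1) (hP1 : ∀ P, F.IsEssential p P → ∀ x ∈ P, x ^ p = 1)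
    {x₀ : Ω} (hx₀S : x₀ ∈ S) (hx₀E : x₀ ∉ E) (hx₀p : x₀ ^ p = 1) :
    Nat.card S ≤ 8 := by
  subst h2
  obtain ⟨hZE, hES, hEi, hEr, hEc⟩ := essential_facts hS hi hF hE
  have hDZ := der_le_zc hi
  let E₂ : Subgroup Ω := zc S ⊔ Subgroup.zpowers x₀
  have hcov : ∀ g ∈ S, g ^ 2 = 1 → g ∈ E ∨ g ∈ E₂ := by
    intro g hg hg2
    by_cases hgE : g ∈ E
    · exact Or.inl hgE
    right
    have he : g * x₀⁻¹ ∈ E := by
      have h := (Subgroup.mul_mem_iff_of_index_two hEi
        (a := (⟨g, hg⟩ : ↥S)) (b := (⟨x₀, hx₀S⟩ : ↥S)⁻¹))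
      exact h.2 (iff_of_false hgE fun h' => hx₀E (inv_mem_iff.1 h'))
    set e := g * x₀⁻¹
    have hge : g = e * x₀ := (inv_mul_cancel_right g x₀).symm
    have hinv : x₀⁻¹ = x₀ := inv_eq_of_mul_eq_one_right (by rw [← pow_two]; exact hx₀p)
    have heinv : e⁻¹ = e := inv_eq_of_mul_eq_one_right (by rw [← pow_two]; exact hP1 E hE e he)
    have hec : e * x₀ = x₀ * e := by
      have h1 : (e * x₀) * (e * x₀) = 1 := by rw [← pow_two, ← hge, hg2]
      have h3 := eq_inv_of_mul_eq_one_left h1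
      rw [mul_inv_rev, hinv, heinv] at h3
      exact h3
    have heS : e ∈ S := hES he
    have hez : e ∈ zc S := by
      refine mem_zc.2 ⟨heS, fun k hk => ?_⟩
      have hM := sup_eq_of_index hS hi hF hEi
        (M := (Subgroup.centralizer ({e} : Set Ω)).subgroupOf S)
        (fun y hy => Subgroup.mem_centralizer_singleton_iff.2 (hEc y hy e he))
        (s := ⟨x₀, hx₀S⟩) hx₀E (Subgroup.mem_centralizer_singleton_iff.2 hec.symm)
      exact Subgroup.mem_centralizer_singleton_iff.1 (hM.ge (Subgroup.mem_top (⟨k, hk⟩ : ↥S)))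
    rw [hge]
    exact mul_mem (le_sup_left (α := Subgroup Ω) hez)
      (le_sup_right (α := Subgroup Ω) (Subgroup.mem_zpowers x₀))
  have hE₂S : E₂ ≤ S := sup_le zc_le (Subgroup.zpowers_le.2 hx₀S)
  haveI := finite_of_le hES
  haveI := finite_of_le hE₂S
  have hunion : ∀ {X : Subgroup Ω}, X ≤ S → (∀ x ∈ X, x ^ 2 = 1) → X ≤ E ∨ X ≤ E₂ := by
    intro X hX hX1
    by_contra h
    push Not at h
    obtain ⟨a, haX, haE⟩ := SetLike.not_le_iff_exists.1 h.1
    obtain ⟨b, hbX, hbE⟩ := SetLike.not_le_iff_exists.1 h.2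
    have ha2 := (hcov a (hX haX) (hX1 a haX)).resolve_left haE
    have hb1 := (hcov b (hX hbX) (hX1 b hbX)).resolve_right hbE
    have hab := mul_mem haX hbX
    rcases hcov _ (hX hab) (hX1 _ hab) with h' | h'
    · exact haE (by simpa using mul_mem h' (inv_mem hb1))
    · exact hbE (by simpa using mul_mem (inv_mem ha2) h')
  have hcard2 : Nat.card E₂ = Nat.card E := by
    have h1 : Subgroup.center ↥S < E₂.subgroupOf S := by
      rw [← zc_subgroupOf]
      refine lt_of_le_of_ne (Subgroup.comap_mono le_sup_left) fun e => hx₀E (hZE ?_)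
      have : (⟨x₀, hx₀S⟩ : ↥S) ∈ (zc S).subgroupOf S :=
        e ▸ le_sup_right (α := Subgroup Ω) (Subgroup.mem_zpowers x₀)
      exact this
    have h2 : E₂.subgroupOf S ≠ ⊤ := fun e => by
      have hle : S ≤ E₂ := Subgroup.subgroupOf_eq_top.1 e
      have hc : ∀ g ∈ S, g * x₀ = x₀ * g := fun g hg => by
        have hle' : E₂ ≤ Subgroup.centralizer {x₀} := sup_le
          (fun z hz => Subgroup.mem_centralizer_singleton_iff.2 ((mem_zc.1 hz).2 x₀ hx₀S).symm)
          (Subgroup.zpowers_le.2 (Subgroup.mem_centralizer_singleton_iff.2 rfl))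
        exact Subgroup.mem_centralizer_singleton_iff.1 (hle' (hle hg))
      exact hx₀E (hZE (mem_zc.2 ⟨hx₀S, hc⟩))
    have h3 := (between hi h1 h2).1
    have h4 := Subgroup.card_mul_index (E₂.subgroupOf S)
    have h5 := Subgroup.card_mul_index (E.subgroupOf S)
    rw [h3, Nat.card_congr (Subgroup.subgroupOfEquivOfLe hE₂S).toEquiv] at h4
    rw [hEi, Nat.card_congr (Subgroup.subgroupOfEquivOfLe hES).toEquiv] at h5
    omega
  have hEE₂ : E ≠ E₂ := fun e => hx₀E (e ▸ le_sup_right (α := Subgroup Ω) (Subgroup.mem_zpowers x₀))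
  have hkind : ∀ P, F.IsEssential 2 P → P = E ∨ P = E₂ := by
    intro P hP
    obtain ⟨-, hPS, hPi, -, -⟩ := essential_facts hS hi hF hP
    haveI := finite_of_le hPS
    have hc : Nat.card P = Nat.card E := by
      have h4 := Subgroup.card_mul_index (P.subgroupOf S)
      have h5 := Subgroup.card_mul_index (E.subgroupOf S)
      rw [hPi, Nat.card_congr (Subgroup.subgroupOfEquivOfLe hPS).toEquiv] at h4
      rw [hEi, Nat.card_congr (Subgroup.subgroupOfEquivOfLe hES).toEquiv] at h5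
      omega
    rcases hunion hPS (hP1 P hP) with h | h
    · exact Or.inl (Subgroup.eq_of_le_of_card_ge h hc.ge)
    · exact Or.inr (Subgroup.eq_of_le_of_card_ge h (by omega))
  -- automorphisms of `S` fix `E`
  have hmapE : ∀ β ∈ F.autGroup S, ∀ x ∈ E, autMap β x ∈ E := by
    intro β hβ
    have hm := (mem_autGroup_iff le_rfl).1 hβ
    have hXS : imgSub (autMap β) E ≤ S := (hm.mono hES).imgSub_le
    rcases hunion hXS (fun y hy => by
      obtain ⟨x, hx, rfl⟩ := (hm.mono hES).mem_imgSub.1 hy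
      rw [← hm.map_pow (hES hx) 2, hP1 E hE x hx, hm.map_one]) with h | h
    · exact fun x hx => h ((hm.mono hES).mem_imgSub.2 ⟨x, hx, rfl⟩)
    exfalso
    have hswap : ∀ x ∈ E, autMap β x ∈ E₂ := fun x hx => h ((hm.mono hES).mem_imgSub.2 ⟨x, hx, rfl⟩)
    have hsurj : ∀ y ∈ E₂, ∃ x ∈ E, autMap β x = y := by
      intro y hy
      have hc := (hm.mono hES).isIso.card_eq
      have := Subgroup.eq_of_le_of_card_ge h (by omega)
      exact (hm.mono hES).mem_imgSub.1 (this.symm ▸ hy)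
    have hback : ∀ y ∈ E₂, autMap β y ∈ E := by
      have hXS2 : imgSub (autMap β) E₂ ≤ S := (hm.mono hE₂S).imgSub_le
      have hE₂1 : ∀ y ∈ E₂, y ^ 2 = 1 := fun y hy => by
        obtain ⟨x, hx, rfl⟩ := hsurj y hy
        rw [← hm.map_pow (hES hx) 2, hP1 E hE x hx, hm.map_one]
      rcases hunion hXS2 (fun y hy => by
        obtain ⟨x, hx, rfl⟩ := (hm.mono hE₂S).mem_imgSub.1 hy
        rw [← hm.map_pow (hE₂S hx) 2, hE₂1 x hx, hm.map_one]) with h' | h'
      · exact fun y hy => h' ((hm.mono hE₂S).mem_imgSub.2 ⟨y, hy, rfl⟩)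
      · intro y hy
        obtain ⟨x, hx, hxy⟩ := hsurj (autMap β y) (h' ((hm.mono hE₂S).mem_imgSub.2 ⟨y, hy, rfl⟩))
        have : x = y := hm.injOn (hES hx) (hE₂S hy) hxy
        exact absurd (fun z hz => by
          obtain ⟨w, hw, hwz⟩ := hsurj (autMap β z) (h' ((hm.mono hE₂S).mem_imgSub.2 ⟨z, hz, rfl⟩))
          exact hm.injOn (hES hw) (hE₂S hz) hwz ▸ hw)
          (fun hle => hEE₂ (Subgroup.eq_of_le_of_card_ge (K := E) (H := E₂) hle hcard2.ge).symm)
    have hpow : ∀ k : ℕ, ∀ x ∈ E, autMap (β ^ (2 * k + 1)) x ∈ E₂ := by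
      intro k
      induction k with
      | zero => simpa using hswap
      | succ k ih =>
        intro x hx
        rw [show 2 * (k + 1) + 1 = 2 + (2 * k + 1) by ring, pow_add, autMap_mul _ _ (hES hx),
          pow_two, autMap_mul _ _ (autMap_mem _ (hES hx))]
        exact hswap _ (hback _ (ih x hx))
    obtain ⟨m, hm2, g, hg, hgm⟩ := exists_pow_inner hS hi hF hβ
    obtain ⟨k, rfl⟩ : Odd m := Nat.not_even_iff_odd.1 fun h => hm2 h.two_dvd
    have hEsub : E ≤ E₂ := fun y hy => by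
      have hy' : g⁻¹ * y * g⁻¹⁻¹ ∈ E :=
        conj_mem_of_zc_le hi hES (hDZ.trans hZE) (S.inv_mem hg) hy
      have := hpow k _ hy'
      rw [hgm _ (hES hy')] at this
      simpa [mul_assoc] using this
    exact hEE₂ (Subgroup.eq_of_le_of_card_ge hEsub hcard2.le)
  -- a second essential subgroup
  obtain ⟨E', hE', hne'⟩ : ∃ P, F.IsEssential 2 P ∧ P ≠ E := by
    by_contra h
    push Not at h
    have hEN : F.IsNormal E := by
      refine isNormal_of_essential hS hF fun P hP => ?_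
      rcases hP with rfl | hP
      · exact ⟨hES, fun β hβ => (((mem_autGroup_iff le_rfl).1 hβ).mono hES).image_eq_of_mapsTo
          (hmapE β hβ)⟩
      · obtain rfl := h P hP
        exact ⟨le_rfl, fun β _ => image_autMap β⟩
    have := hbot E hEN
    rw [this, Subgroup.relIndex_bot_right] at hEr
    exact absurd hEr (by norm_num)
  obtain rfl : E' = E₂ := (hkind E' hE').resolve_left hne'
  obtain ⟨hZE', hE'S, hE'i, -, hE'c⟩ := essential_facts hS hi hF hE'
  have hmapE' : ∀ β ∈ F.autGroup S, ∀ x ∈ E₂, autMap β x ∈ E₂ := by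
    intro β hβ x hx
    have hm := (mem_autGroup_iff le_rfl).1 hβ
    rcases hunion (hm.mono hE₂S).imgSub_le (fun y hy => by
      obtain ⟨x, hx, rfl⟩ := (hm.mono hE₂S).mem_imgSub.1 hy
      rw [← hm.map_pow (hE₂S hx) 2, hP1 _ hE' x hx, hm.map_one]) with h | h
    · exfalso
      refine hEE₂ (Subgroup.eq_of_le_of_card_ge (fun y hy => ?_) hcard2.ge).symm
      have := hmapE β⁻¹ ((F.autGroup S).inv_mem hβ) _ (h ((hm.mono hE₂S).mem_imgSub.2 ⟨y, hy, rfl⟩))
      rwa [← autMap_mul _ _ (hE₂S hy), inv_mul_cancel, autMap_apply _ (hE₂S hy)] at this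
    · exact h ((hm.mono hE₂S).mem_imgSub.2 ⟨x, hx, rfl⟩)
  obtain ⟨C₁, W₁, L₁⟩ := local_data hS hi hF hE
  obtain ⟨C₂, W₂, L₂⟩ := local_data hS hi hF hE'
  have hrestr : ∀ {P : Subgroup Ω}, P ≤ S → ∀ β ∈ F.autGroup S, (∀ x ∈ P, autMap β x ∈ P) →
      ∃ α ∈ F.autGroup P, ∀ x ∈ P, autMap α x = autMap β x := by
    intro P hP β hβ h
    haveI := finite_of_le hP
    have hm := ((mem_autGroup_iff le_rfl).1 hβ).mono hP
    exact (IsIso.mk hm (hm.image_eq_of_mapsTo h)).exists_aut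
  have hC₁ : ∀ β ∈ F.autGroup S, ∀ c ∈ C₁, autMap β c ∈ C₁ := fun β hβ c hc => by
    obtain ⟨α, hα, he⟩ := hrestr hES β hβ (hmapE β hβ)
    rw [← he c (hZE (L₁.cle hc))]
    exact L₁.inv α hα c hc
  have hC₂ : ∀ β ∈ F.autGroup S, ∀ c ∈ C₂, autMap β c ∈ C₂ := fun β hβ c hc => by
    obtain ⟨α, hα, he⟩ := hrestr hE'S β hβ (hmapE' β hβ)
    rw [← he c (hZE' (L₂.cle hc))]
    exact L₂.inv α hα c hc
  have hC : C₁ ⊓ C₂ = ⊥ := by
    refine hbot _ (isNormal_of_essential hS hF fun P hP => ?_)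
    have hle : C₁ ⊓ C₂ ≤ zc S := inf_le_left.trans L₁.cle
    haveI := finite_of_le (hle.trans zc_le)
    rcases hP with rfl | hP
    · exact ⟨hle.trans zc_le, fun β hβ => (((mem_autGroup_iff le_rfl).1 hβ).mono
        (hle.trans zc_le)).image_eq_of_mapsTo fun c hc => ⟨hC₁ β hβ c hc.1, hC₂ β hβ c hc.2⟩⟩
    · rcases hkind P hP with rfl | rfl
      · refine ⟨hle.trans hZE, fun α hα => (((mem_autGroup_iff hES).1 hα).mono
          (hle.trans hZE)).image_eq_of_mapsTo fun c hc => ?_⟩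
        obtain ⟨β, hβ, hβc, -⟩ := L₁.split α hα
        rw [hβc c hc.1]
        exact ⟨hC₁ β hβ c hc.1, hC₂ β hβ c hc.2⟩
      · refine ⟨hle.trans hZE', fun α hα => (((mem_autGroup_iff hE'S).1 hα).mono
          (hle.trans hZE')).image_eq_of_mapsTo fun c hc => ?_⟩
        obtain ⟨β, hβ, hβc, -⟩ := L₂.split α hα
        rw [hβc c hc.2]
        exact ⟨hC₁ β hβ c hc.1, hC₂ β hβ c hc.2⟩
  have hDfix : ∀ β ∈ F.autGroup S, ∀ a ∈ ⁅S, S⁆, autMap β a = a := by
    intro β hβ a ha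
    have hm := (mem_autGroup_iff le_rfl).1 hβ
    by_cases ha1 : a = 1
    · rw [ha1, hm.map_one]
    have haS := zc_le (hDZ ha)
    have hb := aut_der hS hi hF (β := β) ha
    haveI := finite_of_le ((hDZ.trans zc_le : (⁅S, S⁆ : Subgroup Ω) ≤ S))
    obtain ⟨y, hy, hy'⟩ := (Nat.card_eq_two_iff' (1 : ↥(⁅S, S⁆ : Subgroup Ω))).1 (card_der hi)
    have e1 : (⟨a, ha⟩ : ↥(⁅S, S⁆ : Subgroup Ω)) = y :=
      hy' _ fun e => ha1 (congrArg Subtype.val e)
    have e2 : (⟨_, hb⟩ : ↥(⁅S, S⁆ : Subgroup Ω)) = y := hy' _ fun e => ha1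
      (hm.injOn haS S.one_mem ((congrArg Subtype.val e).trans hm.map_one.symm))
    exact congrArg Subtype.val (e2.trans e1.symm)
  -- the centre is fixed by the automorphisms of `S`
  have hZfix : ∀ β ∈ F.autGroup S, ∀ z ∈ zc S, autMap β z = z := by
    intro β hβ z hz
    have hm := (mem_autGroup_iff le_rfl).1 hβ
    obtain ⟨c, hc, a, ha, rfl⟩ := L₁.dec z hz
    have hcS := zc_le (L₁.cle hc)
    have haS := zc_le (hDZ ha)
    obtain ⟨d, hd, b, hb, e⟩ := L₂.dec c (L₁.cle hc)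
    have hdS := zc_le (L₂.cle hd)
    have key : c⁻¹ * autMap β c ∈ C₁ ⊓ C₂ := by
      refine ⟨C₁.mul_mem (C₁.inv_mem hc) (hC₁ β hβ c hc), ?_⟩
      show c⁻¹ * autMap β c ∈ C₂
      rw [e, hm.map_mul hdS (zc_le (hDZ hb)), hDfix β hβ b hb, mul_inv_rev]
      have hcomm : autMap β d * b = b * autMap β d :=
        (mem_zc.1 (hDZ hb)).2 _ (autMap_mem _ hdS)
      rw [show b⁻¹ * d⁻¹ * (autMap β d * b) = d⁻¹ * autMap β d by
        have hcomm' : (d⁻¹ * autMap β d) * b = b * (d⁻¹ * autMap β d) :=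
          (mem_zc.1 (hDZ hb)).2 _ (mul_mem (S.inv_mem hdS) (autMap_mem _ hdS))
        calc b⁻¹ * d⁻¹ * (autMap β d * b) = b⁻¹ * ((d⁻¹ * autMap β d) * b) := by group
          _ = d⁻¹ * autMap β d := by rw [hcomm', inv_mul_cancel_left]]
      exact C₂.mul_mem (C₂.inv_mem hd) (hC₂ β hβ d hd)
    rw [hC, Subgroup.mem_bot, inv_mul_eq_one] at key
    rw [hm.map_mul hcS haS, ← key, hDfix β hβ a ha]
  -- hence they are inner
  have hinn : ∀ β ∈ F.autGroup S, ∀ x ∈ S, x⁻¹ * autMap β x ∈ ⁅S, S⁆ := by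
    intro β hβ
    have hm := (mem_autGroup_iff le_rfl).1 hβ
    have hZd : ∀ x ∈ S, x⁻¹ * autMap β x ∈ zc S := by
      let Z' := (zc S).subgroupOf S
      have hn : Z'.Normal := by rw [show Z' = Subgroup.center ↥S from zc_subgroupOf]; infer_instance
      let M : Subgroup ↥S := MonoidHom.eqLocus ((QuotientGroup.mk' Z').comp β.toMonoidHom)
        (QuotientGroup.mk' Z')
      have key : ∀ {X : Subgroup Ω}, zc S ≤ X → X ≤ S → (X.subgroupOf S).index = 2 →
          (∀ x ∈ X, autMap β x ∈ X) → X.subgroupOf S ≤ M := by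
        intro X hZX hXS hXi hinv x hx
        show QuotientGroup.mk' Z' (β x) = QuotientGroup.mk' Z' x
        refine (QuotientGroup.eq.2 ?_).symm
        show ((x⁻¹ * β x : ↥S) : Ω) ∈ zc S
        by_cases hxZ : (x : Ω) ∈ zc S
        · refine mul_mem (inv_mem hxZ) ?_
          rw [← autMap_coe]
          exact aut_zc hS hi hF hxZ
        have hbx : ((β x : ↥S) : Ω) ∈ X := autMap_coe β x ▸ hinv x hx
        have hbxZ : ((β x : ↥S) : Ω) ∉ zc S := fun h => hxZ (by
          have := aut_zc hS hi hF (β := β⁻¹) h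
          rwa [autMap_coe, MulAut.inv_apply_self] at this)
        have hri : ((zc S).subgroupOf X).index = 2 := by
          have h6 := Subgroup.relIndex_mul_index (Subgroup.comap_mono (f := S.subtype) hZX)
          rw [show ((zc S).comap S.subtype).index = 2 ^ 2 by
            show ((zc S).subgroupOf S).index = _
            rw [zc_subgroupOf, hi]] at h6
          rw [show (X.comap S.subtype).index = 2 from hXi] at h6
          have h7 : ((zc S).subgroupOf S).relIndex (X.subgroupOf S) = 2 :=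
            Nat.eq_of_mul_eq_mul_right two_pos h6
          rwa [Subgroup.relIndex_subgroupOf hXS] at h7
        have h := Subgroup.mul_mem_iff_of_index_two hri (a := (⟨(x : Ω), hx⟩ : ↥X)⁻¹)
          (b := (⟨_, hbx⟩ : ↥X))
        exact h.2 (iff_of_false (fun h' => hxZ (inv_mem_iff.1 h')) hbxZ)
      intro x hx
      have hle := key hZE hES hEi (hmapE β hβ)
      have htop : M = ⊤ := sup_eq_of_index hS hi hF hEi hle (s := ⟨x₀, hx₀S⟩) hx₀E
        (key hZE' hE'S hE'i (hmapE' β hβ)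
          (le_sup_right (α := Subgroup Ω) (Subgroup.mem_zpowers x₀)))
      have := (QuotientGroup.eq (s := Z')).1
        (htop.ge (Subgroup.mem_top (⟨x, hx⟩ : ↥S)) :
          QuotientGroup.mk' Z' (β ⟨x, hx⟩) = QuotientGroup.mk' Z' ⟨x, hx⟩).symm
      rw [autMap_apply _ hx]
      exact this
    obtain ⟨m, hm2, g, hg, hgm⟩ := exists_pow_inner hS hi hF hβ
    obtain ⟨k, rfl⟩ : Odd m := Nat.not_even_iff_odd.1 fun h => hm2 h.two_dvd
    intro x hx
    have hsq : ∀ k : ℕ, autMap (β ^ (2 * k + 1)) x = autMap β x := by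
      intro k
      induction k with
      | zero => simp
      | succ k ih =>
        rw [show 2 * (k + 1) + 1 = 2 + (2 * k + 1) by ring, pow_add, autMap_mul _ _ hx, ih,
          pow_two, autMap_mul _ _ (autMap_mem _ hx)]
        obtain ⟨y, hy⟩ : ∃ y, y = autMap β x := ⟨_, rfl⟩
        rw [← hy]
        obtain ⟨d, hd, hy1⟩ : ∃ d ∈ zc S, y = x * d :=
          ⟨_, hZd x hx, by rw [hy, mul_inv_cancel_left]⟩
        have hby : autMap β y = x * d * d := by
          rw [hy1, hm.map_mul hx (zc_le hd), ← hy, hy1, hZfix β hβ d hd]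
        rw [hby, mul_assoc x d d, ← pow_two, hz1 d hd, mul_one, ← hy]
    have e := hsq k
    rw [hgm x hx] at e
    rw [← e, show x⁻¹ * (g * x * g⁻¹) = ⁅x⁻¹, g⁆ by
      rw [commutatorElement_def, inv_inv]; simp only [mul_assoc]]
    exact Subgroup.commutator_mem_commutator (S.inv_mem hx) hg
  -- so every map moves inside `W₁ ⊔ W₂`
  let N : Subgroup Ω := W₁ ⊔ W₂
  have hDN : ⁅S, S⁆ ≤ N := L₁.der.trans le_sup_left
  have hsplit : ∀ {P W : Subgroup Ω} {C : Subgroup Ω}, P ≤ S → W ≤ N → Local F 2 P C W →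
      ∀ α ∈ F.autGroup P, ∀ x ∈ P, x⁻¹ * autMap α x ∈ N := by
    intro P W C hPS hWN L α hα x hx
    obtain ⟨β, hβ, -, hW⟩ := L.split α hα
    have := mul_mem (hDN (hinn β hβ x (hPS hx))) (hWN (hW x hx))
    rwa [mul_assoc, mul_inv_cancel_left] at this
  let G : FusionSystem S := subSys F (fun P f => ∀ x ∈ P, x⁻¹ * f x ∈ N)
    (fun P f g h he x hx => (he x hx).symm ▸ h x hx)
    (fun P a hP ha x hx => by
      rw [conjMap_apply, show x⁻¹ * (a * x * a⁻¹) = ⁅x⁻¹, a⁆ by
        rw [commutatorElement_def, inv_inv]; simp only [mul_assoc]]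
      exact hDN (Subgroup.commutator_mem_commutator (S.inv_mem (hP hx)) ha))
    (fun P Q f g _ _ hfQ h1 h2 x hx => by
      have := mul_mem (h1 x hx) (h2 _ (hfQ x hx))
      rwa [mul_assoc, mul_inv_cancel_left] at this)
    (fun P Q f g hf _ hgf h y hy => by
      obtain ⟨x, hx, rfl⟩ := hf.exists_preimage hy
      rw [hgf x hx]
      simpa using inv_mem (h x hx))
  have hall : ∀ (P : Subgroup Ω), P ≤ S → ∀ α ∈ F.autGroup P, ∀ x : ↥P,
      (x : Ω)⁻¹ * ((α x : ↥P) : Ω) ∈ N := by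
    have hle : F ≤ G := le_of_autGroup_essential hS hF fun P hP α hα => by
      have hPS : P ≤ S := by
        rcases hP with rfl | hP
        · exact le_rfl
        · exact hP.1.1
      refine mem_autGroup_of_isMap ?_
      obtain ⟨φ, hφ, hφf⟩ := (mem_autGroup_iff hPS).1 hα
      refine ⟨φ, ⟨hφ, fun x hx => ?_⟩, hφf⟩
      rw [homFun_mem φ hx, hφf ⟨x, hx⟩]
      rcases hP with rfl | hP
      · exact hDN (hinn α hα x hx)
      rcases hkind P hP with rfl | rfl
      · exact hsplit hPS le_sup_left L₁ α hα x hx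
      · exact hsplit hPS le_sup_right L₂ α hα x hx
    intro P hPS α hα x
    have := (hle P (autGroup_hom hPS hα)).2 x x.2
    rwa [homFun_mem _ x.2] at this
  have hSN : S ≤ N := hhyp ▸ (Subgroup.closure_le N).2 (by
    rintro _ ⟨P, α, x, hP, -, rfl⟩
    exact hall P hP α α.2 x)
  -- count modulo the derived group
  let q := QuotientGroup.mk' (commutator ↥S)
  let q' : ↥S →* Abelianization ↥S := q
  have himage : ∀ {W : Subgroup Ω}, ⁅S, S⁆ ≤ W → W ≤ S → Nat.card W ≤ 2 * 2 →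
      Nat.card ((W.subgroupOf S).map q') ≤ 2 := by
    intro W hDW hWS hW
    have hle : commutator ↥S ≤ W.subgroupOf S := fun x hx => hDW (by rw [der_eq]; exact ⟨x, hx, rfl⟩)
    rw [← Subgroup.relIndex_ker (W.subgroupOf S) q']
    rw [show q'.ker = commutator ↥S from QuotientGroup.ker_mk' _]
    have h1 := Subgroup.card_mul_index ((commutator ↥S).subgroupOf (W.subgroupOf S))
    rw [Nat.card_congr (Subgroup.subgroupOfEquivOfLe hle).toEquiv, card_commutator hi,
      Nat.card_congr (Subgroup.subgroupOfEquivOfLe hWS).toEquiv] at h1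
    show ((commutator ↥S).subgroupOf (W.subgroupOf S)).index ≤ 2
    omega
  have hW₁S : W₁ ≤ S := L₁.wle.trans hES
  have hW₂S : W₂ ≤ S := L₂.wle.trans hE'S
  set A₁ := (W₁.subgroupOf S).map q'
  set A₂ := (W₂.subgroupOf S).map q'
  have htop : A₁ ⊔ A₂ = ⊤ := by
    have hsup : W₁.subgroupOf S ⊔ W₂.subgroupOf S = ⊤ := by
      rw [← Subgroup.subgroupOf_sup hW₁S hW₂S]
      exact Subgroup.subgroupOf_eq_top.2 hSN
    rw [← Subgroup.map_sup, hsup]
    exact Subgroup.map_top_of_surjective q' (QuotientGroup.mk'_surjective _)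
  have hcardA : Nat.card (Abelianization ↥S) ≤ 2 * 2 := by
    have hsurj : Function.Surjective
        (fun z : ↥A₁ × ↥A₂ => (z.1 : Abelianization ↥S) * z.2) := by
      intro y
      obtain ⟨a, ha, b, hb, e⟩ := Subgroup.mem_sup.1 (htop.ge (Subgroup.mem_top y))
      exact ⟨(⟨a, ha⟩, ⟨b, hb⟩), e⟩
    refine (Nat.card_le_card_of_surjective _ hsurj).trans ?_
    rw [Nat.card_prod]
    exact Nat.mul_le_mul (himage L₁.der hW₁S L₁.card) (himage L₂.der hW₂S L₂.card)
  have h2 := Subgroup.card_eq_card_quotient_mul_card_subgroup (commutator ↥S)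
  rw [card_commutator hi] at h2
  have : Nat.card (↥S ⧸ commutator ↥S) ≤ 4 := hcardA
  omega

/-- `S` is extraspecial of order `p ^ 3`, of exponent `p` for odd `p` and dihedral for `p = 2`. -/
theorem main (hbot : ∀ Q, F.IsNormal Q → Q = ⊥) (hne : S ≠ ⊥)
    (hhyp : F.hyperfocalSubgroup p = S) :
    Cfsg.IsExtraspecial p ↥S ∧ Nat.card S = p ^ 3 ∧ (p ≠ 2 → Monoid.exponent ↥S = p) ∧
      (p = 2 → Nonempty (↥S ≃* DihedralGroup 4)) := by
  obtain ⟨E, hE, hz1, hP1, x₀, hx₀S, hx₀E, hx₀p⟩ := setup hS hi hF hbot hne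
  obtain ⟨hZE, hES, hEi, hEr, -⟩ := essential_facts hS hi hF hE
  have hDZ := der_le_zc hi
  have hcc : commutator ↥S ≤ Subgroup.center ↥S :=
    Cfsg.Agent.PGroups.commutator_le_of_index_dvd_sq _ (dvd_of_eq hi)
  have hmul := Subgroup.card_mul_index (Subgroup.center ↥S)
  rw [hi] at hmul
  have hcen : Subgroup.center ↥S = commutator ↥S := by
    by_cases h2 : p = 2
    · have h8 := card_le_two hS hi hF h2 hbot hhyp hE hz1 hP1 hx₀S hx₀E hx₀p
      refine (Subgroup.eq_of_le_of_card_ge hcc ?_).symm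
      rw [card_commutator hi]
      subst h2
      omega
    · have e := zc_eq_odd hS hi hF h2 hbot hE
      rw [der_eq] at e
      exact Subgroup.map_injective S.subtype_injective e
  have hcardZ : Nat.card (Subgroup.center ↥S) = p := by rw [hcen, card_commutator hi]
  have hcard : Nat.card S = p ^ 3 := by rw [← hmul, hcardZ]; ring
  have hfr : frattini ↥S = Subgroup.center ↥S := by
    refine le_antisymm (Cfsg.Agent.PGroups.frattini_le_of_commutator_le (p := p) _ hcc
      (pow_mem_center hi)) ?_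
    rw [hcen]
    exact Cfsg.Agent.PGroups.commutator_le_frattini hS
  refine ⟨⟨⟨hS, hfr, hcen.symm⟩, hcardZ⟩, hcard, fun h2 => ?_, fun h2 => ?_⟩
  · have hc2 : p ∣ p.choose 2 :=
      hp.out.dvd_choose_self two_ne_zero (lt_of_le_of_ne hp.out.two_le (Ne.symm h2))
    let M : Subgroup ↥S :=
      { carrier := {g | g ^ p = 1}
        one_mem' := one_pow _
        mul_mem' := fun {a b} ha hb => by
          show (a * b) ^ p = 1
          have hm := Subgroup.commutator_mem_commutator (Subgroup.mem_top b) (Subgroup.mem_top a)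
          have hc1 : ⁅b, a⁆ ^ p = 1 := by
            have h : (⟨⁅b, a⁆, hm⟩ : ↥(commutator ↥S)) ^ p = 1 := by
              conv_lhs => rw [← card_commutator hi]
              exact pow_card_eq_one'
            exact congrArg Subtype.val h
          obtain ⟨k, hk⟩ := hc2
          rw [Cfsg.Agent.PGroups.mul_pow_of_commutator_mem_center (hcc hm), show a ^ p = 1 from ha,
            show b ^ p = 1 from hb, hk, pow_mul, hc1, one_pow, mul_one, mul_one]
        inv_mem' := fun {a} ha => by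
          show a⁻¹ ^ p = 1
          rw [inv_pow, show a ^ p = 1 from ha, inv_one] }
    have hM : M = ⊤ := sup_eq_of_index hS hi hF hEi
      (fun e he => Subtype.ext (by simpa using hP1 E hE e he)) (s := ⟨x₀, hx₀S⟩) hx₀E
      (Subtype.ext (by simpa using hx₀p))
    haveI : Nontrivial ↥S := (Subgroup.nontrivial_iff_ne_bot S).2 hne
    exact (Monoid.exponent_eq_prime_iff hp.out).2 fun g hg =>
      orderOf_eq_prime (hM.ge (Subgroup.mem_top g)) hg
  · subst h2
    obtain ⟨e, heE, heZ⟩ : ∃ e ∈ E, e ∉ zc S := by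
      refine SetLike.exists_of_lt (lt_of_le_of_ne hZE fun h => ?_)
      rw [h, Subgroup.relIndex_self] at hEr
      exact absurd hEr (by norm_num)
    set a : ↥S := ⟨e, hES heE⟩
    set b : ↥S := ⟨x₀, hx₀S⟩
    have ha2 : a ^ 2 = 1 := Subtype.ext (by simpa [a] using hP1 E hE e heE)
    have hb2 : b ^ 2 = 1 := Subtype.ext (by simpa [b] using hx₀p)
    have haE : a ∈ E.subgroupOf S := heE
    have hbE : b ∉ E.subgroupOf S := hx₀E
    have hab : a ≠ b := fun h => hbE (h ▸ haE)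
    have hbn : b ≠ 1 := fun h => hbE (h ▸ one_mem _)
    have han : a ≠ 1 := fun h => heZ (by
      rw [show e = 1 from congrArg Subtype.val h]; exact one_mem _)
    have hcomm : a * b ≠ b * a := by
      intro h
      refine heZ (mem_zc.2 ⟨hES heE, fun g hg => ?_⟩)
      obtain ⟨-, -, -, -, hEc⟩ := essential_facts hS hi hF hE
      have hM := sup_eq_of_index hS hi hF hEi (M := Subgroup.centralizer {a})
        (fun y hy => Subgroup.mem_centralizer_singleton_iff.2 (Subtype.ext (hEc y hy e heE)))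
        (s := b) hx₀E (Subgroup.mem_centralizer_singleton_iff.2 h.symm)
      exact congrArg Subtype.val (Subgroup.mem_centralizer_singleton_iff.1
        (hM.ge (Subgroup.mem_top (⟨g, hg⟩ : ↥S))))
    have ho : orderOf (a * b) = 4 := by
      refine orderOf_eq_prime_pow (p := 2) (n := 1) ?_ ?_
      · rw [pow_one, pow_two]
        intro h
        have h3 := eq_inv_of_mul_eq_one_left h
        rw [mul_inv_rev, inv_eq_of_mul_eq_one_right (show a * a = 1 by rw [← pow_two]; exact ha2),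
          inv_eq_of_mul_eq_one_right (show b * b = 1 by rw [← pow_two]; exact hb2)] at h3
        exact hcomm h3
      · have h1 := pow_mem_center hi (a * b)
        have h2 : ((a * b) ^ 2) ^ 2 = 1 :=
          Subtype.ext (by simpa using hz1 _ ⟨_, h1, rfl⟩)
        rwa [← pow_mul] at h2
    obtain ⟨φ⟩ := S0206.result a b (orderOf_eq_prime ha2 han) (orderOf_eq_prime hb2 hbn) hab
    rw [ho] at φ
    have htop : Subgroup.closure ({a, b} : Set ↥S) = ⊤ := Subgroup.eq_top_of_card_eq _ (by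
      rw [Nat.card_congr φ.toEquiv, DihedralGroup.nat_card, hcard]
      norm_num)
    exact ⟨Subgroup.topEquiv.symm.trans ((MulEquiv.subgroupCongr htop).symm.trans φ)⟩

end Setting

end Cfsg.Agent.H90.CI
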