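import Cfsg.Agent.FusionSys.Alperin
import Cfsg.Agent.Fusion.PResidual

/-!
A saturated subsystem over a subgroup of `U` lies in every subsystem over `U` of `p`-power index.
-/

set_option autoImplicit false
set_option linter.unusedSectionVars false
set_option linter.style.haveILetI false

namespace Cfsg.Agent.H90.PPC

open Cfsg Cfsg.FusionSystem Cfsg.Agent.FusionSys

variable {Ω : Type*} [Group Ω] {U T : Subgroup Ω}

/-- The maps of a system between subgroups of `T`. -/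
def restr (F : FusionSystem U) (hT : T ≤ U) : FusionSystem T where
  Hom P := {φ | φ ∈ F.Hom P ∧ P ≤ T ∧ ∀ x, φ x ∈ T}
  le_of_mem h := ⟨h.2.1, h.2.2⟩
  injective_of_mem h := F.injective_of_mem h.1
  conj_mem {P g} hP hg := ⟨F.conj_mem (hP.trans hT) (hT hg), hP,
    fun x => T.mul_mem (T.mul_mem hg (hP x.2)) (T.inv_mem hg)⟩
  comp_mem hφ hψ h := ⟨F.comp_mem hφ.1 hψ.1 h, hφ.2.1, fun _ => hψ.2.2 _⟩
  inv_mem {P φ} hφ := by
    obtain ⟨ψ, hψ, hψe⟩ := F.inv_mem hφ.1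
    refine ⟨ψ, ⟨hψ, ?_, ?_⟩, hψe⟩
    · rintro _ ⟨x, rfl⟩
      exact hφ.2.2 x
    · rintro ⟨_, ⟨x, rfl⟩⟩
      rw [hψe x]
      exact hφ.2.1 x.2

theorem main {S : Subgroup Ω} [Finite S] {p : ℕ} [Fact p.Prime] (hS : IsPGroup p S)
    {F : FusionSystem S} (hTS : T ≤ S) {E : FusionSystem T} (hE : E.IsSaturated p)
    (hEF : E.IsSubsystemOf F) (hTU : T ≤ U) {F₀ : FusionSystem U}
    (hidx : ∀ P : Subgroup Ω, P ≤ U →
      (pResidual p (F.autGroup P)).map (F.autGroup P).subtype ≤ F₀.autGroup P) :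
    E.IsSubsystemOf F₀ := by
  haveI := finite_of_le hTS
  have hT : IsPGroup p T := hS.to_le hTS
  suffices h : E ≤ restr F₀ hTU from fun P φ hφ => (h P hφ).1
  refine le_of_autGroup_fullyNormalized hT hE fun R hR _ => ?_
  haveI := finite_autGroup E hR.1
  have hmap : ∀ {α : MulAut ↥R}, α ∈ F₀.autGroup R → α ∈ (restr F₀ hTU).autGroup R := fun {α} h => by
    obtain ⟨φ, hφ, hφe⟩ := (mem_autGroup_iff (hR.1.trans hTU)).1 h
    refine mem_autGroup_of_isMap ⟨φ, ⟨hφ, hR.1, fun x => ?_⟩, hφe⟩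
    rw [hφe x]
    exact hR.1 (autMap_mem α x.2)
  obtain ⟨-, P, hP⟩ := isFullyAutomized_of_isFullyNormalized hT hE hR
  have htop : ((restr F₀ hTU).autGroup R).subgroupOf (E.autGroup R) = ⊤ := by
    refine top_le_iff.1 ((Fusion.sylow_sup_pResidual P).ge.trans (sup_le ?_ ?_))
    · rw [hP]
      exact Subgroup.comap_mono (autInducedBy_le_autGroup _ hR.1)
    · refine (Subgroup.closure_le _).2 fun a ha => hmap ?_
      have haF : (a : MulAut ↥R) ∈ F.autGroup R := by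
        obtain ⟨φ, hφ, hφe⟩ := (mem_autGroup_iff hR.1).1 a.2
        exact (mem_autGroup_iff (hR.1.trans hTS)).2 ⟨φ, hEF R hφ, hφe⟩
      refine hidx R (hR.1.trans hTU) ⟨⟨a, haF⟩, Subgroup.subset_closure ?_, rfl⟩
      show Nat.Coprime (orderOf (⟨(a : MulAut ↥R), haF⟩ : F.autGroup R)) p
      rw [Subgroup.orderOf_mk, Subgroup.orderOf_coe]
      exact ha
  exact fun a ha => (htop.ge (Subgroup.mem_top (⟨a, ha⟩ : E.autGroup R)) : _)

end Cfsg.Agent.H90.PPC
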