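import Mathlib.GroupTheory.GroupAction.Quotient
import Mathlib.GroupTheory.GroupAction.Blocks
import Mathlib.Algebra.BigOperators.Group.Finset.Basic
import Mathlib.Data.Set.Card
import Mathlib.GroupTheory.Index
import Mathlib.Algebra.BigOperators.Ring.Finset
import Mathlib.Algebra.Ring.Int.Defs
import Mathlib.Algebra.Ring.Divisibility.Basic

/-!
Tables of marks: finite sets with group actions are determined by their fixed-point counts, and
Burnside's congruence for fixed-point counts.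
-/

set_option autoImplicit false

namespace Cfsg.Agent.H90

open MulAction

variable {G : Type*} [Group G] {X Y : Type*} [MulAction G X] [MulAction G Y]

/-- The points of `A` fixed by every element of `K`. -/
def fixIn (K : Subgroup G) (A : Set X) : Set X := {x | x ∈ A ∧ ∀ g ∈ K, g • x = x}

/-- The number of points fixed by every element of `K`. -/
noncomputable def fixCard (K : Subgroup G) (X : Type*) [MulAction G X] : ℕ :=
  Nat.card {x : X // ∀ g ∈ K, g • x = x}

theorem ncard_fixIn_univ (K : Subgroup G) :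
    (fixIn K (Set.univ : Set X)).ncard = fixCard K X := by
  rw [← Nat.card_coe_set_eq, fixCard]
  exact Nat.card_congr (Equiv.subtypeEquivRight fun x => by simp [fixIn])

theorem exists_bijOn [Finite X] [Finite Y] [Finite G] :
    ∀ (n : ℕ) (A : Set X) (B : Set Y), A.ncard = n → (∀ g : G, ∀ x ∈ A, g • x ∈ A) →
      (∀ g : G, ∀ y ∈ B, g • y ∈ B) →
      (∀ K : Subgroup G, (fixIn K A).ncard = (fixIn K B).ncard) → A.Nonempty →
      ∃ f : X → Y, Set.BijOn f A B ∧ ∀ g : G, ∀ x ∈ A, f (g • x) = g • f x := by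
  intro n
  induction n using Nat.strong_induction_on with
  | _ n ih =>
  intro A B hn hA hB h hne
  classical
  obtain ⟨x₀, hx₀, hmax⟩ :=
    (Set.toFinite A).exists_maximalFor (fun x => stabilizer G x) A hne
  obtain ⟨y₀, hy₀, hy₀'⟩ : (fixIn (stabilizer G x₀) B).Nonempty := by
    rw [← Set.ncard_pos, ← h, Set.ncard_pos]
    exact ⟨x₀, hx₀, fun g hg => hg⟩
  obtain ⟨x₁, hx₁, hx₁'⟩ : (fixIn (stabilizer G y₀) A).Nonempty := by
    rw [← Set.ncard_pos, h, Set.ncard_pos]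
    exact ⟨y₀, hy₀, fun g hg => hg⟩
  have hle : stabilizer G x₀ ≤ stabilizer G y₀ := fun g hg => hy₀' g hg
  have hle' : stabilizer G y₀ ≤ stabilizer G x₁ := fun g hg => hx₁' g hg
  have hst : stabilizer G x₀ = stabilizer G y₀ :=
    le_antisymm hle (hle'.trans (hmax hx₁ (hle.trans hle')))
  have key : ∀ g g' : G, g • x₀ = g' • x₀ ↔ g • y₀ = g' • y₀ := by
    intro g g'
    rw [← inv_smul_eq_iff, ← inv_smul_eq_iff, ← mul_smul, ← mul_smul, ← mem_stabilizer_iff,
      ← mem_stabilizer_iff, hst]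
  have hOA : orbit G x₀ ⊆ A := by
    rintro _ ⟨g, rfl⟩
    exact hA g x₀ hx₀
  have hOB : orbit G y₀ ⊆ B := by
    rintro _ ⟨g, rfl⟩
    exact hB g y₀ hy₀
  -- the map on the orbits
  let f₀ : X → Y := fun x => if hx : x ∈ orbit G x₀ then hx.choose • y₀ else y₀
  have hf₀ : ∀ g : G, f₀ (g • x₀) = g • y₀ := fun g => by
    have hx : g • x₀ ∈ orbit G x₀ := ⟨g, rfl⟩
    simp only [f₀, dif_pos hx]
    exact (key _ _).1 hx.choose_spec
  have hbij₀ : Set.BijOn f₀ (orbit G x₀) (orbit G y₀) := by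
    refine ⟨?_, ?_, ?_⟩
    · rintro _ ⟨g, rfl⟩
      exact ⟨g, (hf₀ g).symm⟩
    · rintro _ ⟨g, rfl⟩ _ ⟨g', rfl⟩ he
      rw [hf₀, hf₀] at he
      exact (key g g').2 he
    · rintro _ ⟨g, rfl⟩
      exact ⟨g • x₀, ⟨g, rfl⟩, hf₀ g⟩
  -- fixed points on the orbits
  have hfix₀ : ∀ K : Subgroup G,
      (fixIn K (orbit G x₀)).ncard = (fixIn K (orbit G y₀)).ncard := by
    intro K
    refine Set.ncard_congr (fun x _ => f₀ x) ?_ ?_ ?_
    · rintro _ ⟨⟨g, rfl⟩, hfx⟩
      refine ⟨⟨g, (hf₀ g).symm⟩, fun k hk => ?_⟩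
      show k • f₀ (g • x₀) = f₀ (g • x₀)
      rw [hf₀, ← mul_smul]
      exact (key _ _).1 (by rw [mul_smul]; exact hfx k hk)
    · rintro a b ⟨ha, -⟩ ⟨hb, -⟩ he
      exact hbij₀.2.1 ha hb he
    · rintro _ ⟨⟨g, rfl⟩, hfy⟩
      refine ⟨g • x₀, ⟨⟨g, rfl⟩, fun k hk => ?_⟩, hf₀ g⟩
      rw [← mul_smul]
      exact (key _ _).2 (by rw [mul_smul]; exact hfy k hk)
  have hinvA : ∀ g : G, ∀ x ∈ A \ orbit G x₀, g • x ∈ A \ orbit G x₀ := fun g x hx =>
    ⟨hA g x hx.1, fun hc => hx.2 (by simpa using mem_orbit_of_mem_orbit g⁻¹ hc)⟩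
  have hinvB : ∀ g : G, ∀ y ∈ B \ orbit G y₀, g • y ∈ B \ orbit G y₀ := fun g y hy =>
    ⟨hB g y hy.1, fun hc => hy.2 (by simpa using mem_orbit_of_mem_orbit g⁻¹ hc)⟩
  have hdiff : ∀ K : Subgroup G,
      (fixIn K (A \ orbit G x₀)).ncard = (fixIn K (B \ orbit G y₀)).ncard := by
    intro K
    have e1 : fixIn K (A \ orbit G x₀) = fixIn K A \ fixIn K (orbit G x₀) := by
      ext; simp [fixIn]; tauto
    have e2 : fixIn K (B \ orbit G y₀) = fixIn K B \ fixIn K (orbit G y₀) := by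
      ext; simp [fixIn]; tauto
    have s1 : fixIn K (orbit G x₀) ⊆ fixIn K A := fun x hx => ⟨hOA hx.1, hx.2⟩
    have s2 : fixIn K (orbit G y₀) ⊆ fixIn K B := fun y hy => ⟨hOB hy.1, hy.2⟩
    rw [e1, e2, Set.ncard_sdiff s1, Set.ncard_sdiff s2, h, hfix₀]
  rcases (A \ orbit G x₀).eq_empty_or_nonempty with he | hne'
  · have hAe : A = orbit G x₀ :=
      Set.Subset.antisymm (Set.sdiff_eq_empty.1 he) hOA
    have hBe : B = orbit G y₀ := by
      refine Set.Subset.antisymm (fun y hy => ?_) hOB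
      by_contra hc
      have h0 := hdiff ⊥
      rw [he] at h0
      have e : fixIn (⊥ : Subgroup G) (∅ : Set X) = ∅ := by ext; simp [fixIn]
      rw [e, Set.ncard_empty] at h0
      have hmem : y ∈ fixIn (⊥ : Subgroup G) (B \ orbit G y₀) :=
        ⟨⟨hy, hc⟩, fun g hg => by rw [Subgroup.mem_bot.1 hg, one_smul]⟩
      exact ((Set.ncard_pos (Set.toFinite _)).2 ⟨y, hmem⟩).ne h0
    subst hAe hBe
    refine ⟨f₀, hbij₀, ?_⟩
    rintro g _ ⟨g', rfl⟩
    show f₀ (g • g' • x₀) = g • f₀ (g' • x₀)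
    rw [← mul_smul, hf₀, hf₀, mul_smul]
  · have hlt : (A \ orbit G x₀).ncard < n := hn ▸
      Set.ncard_lt_ncard ⟨Set.sdiff_subset, fun hs => (hs hx₀).2 (mem_orbit_self x₀)⟩
    obtain ⟨f₁, hf₁, hf₁'⟩ := ih _ hlt _ _ rfl hinvA hinvB hdiff hne'
    let f : X → Y := fun x => if x ∈ orbit G x₀ then f₀ x else f₁ x
    have hfO : ∀ x ∈ orbit G x₀, f x = f₀ x := fun x hx => if_pos hx
    have hfN : ∀ x, x ∉ orbit G x₀ → f x = f₁ x := fun x hx => if_neg hx
    refine ⟨f, ⟨fun x hx => ?_, fun a ha b hb he => ?_, fun y hy => ?_⟩, fun g x hx => ?_⟩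
    · by_cases hxO : x ∈ orbit G x₀
      · rw [hfO x hxO]; exact hOB (hbij₀.1 hxO)
      · rw [hfN x hxO]; exact (hf₁.1 ⟨hx, hxO⟩).1
    · by_cases haO : a ∈ orbit G x₀ <;> by_cases hbO : b ∈ orbit G x₀
      · rw [hfO a haO, hfO b hbO] at he; exact hbij₀.2.1 haO hbO he
      · rw [hfO a haO, hfN b hbO] at he
        exact absurd (he ▸ hbij₀.1 haO) (hf₁.1 ⟨hb, hbO⟩).2
      · rw [hfN a haO, hfO b hbO] at he
        exact absurd (he.symm ▸ hbij₀.1 hbO) (hf₁.1 ⟨ha, haO⟩).2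
      · rw [hfN a haO, hfN b hbO] at he; exact hf₁.2.1 ⟨ha, haO⟩ ⟨hb, hbO⟩ he
    · by_cases hyO : y ∈ orbit G y₀
      · obtain ⟨x, hx, rfl⟩ := hbij₀.2.2 hyO
        exact ⟨x, hOA hx, hfO x hx⟩
      · obtain ⟨x, hx, rfl⟩ := hf₁.2.2 ⟨hy, hyO⟩
        exact ⟨x, hx.1, hfN x hx.2⟩
    · by_cases hxO : x ∈ orbit G x₀
      · rw [hfO x hxO, hfO _ (mem_orbit_of_mem_orbit g hxO)]
        obtain ⟨g', rfl⟩ := hxO
        show f₀ (g • g' • x₀) = g • f₀ (g' • x₀)
        rw [← mul_smul, hf₀, hf₀, mul_smul]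
      · rw [hfN x hxO, hfN _ (hinvA g x ⟨hx, hxO⟩).2]
        exact hf₁' g x ⟨hx, hxO⟩

/-- Finite sets with group actions having the same fixed-point counts are isomorphic. -/
theorem exists_equiv_of_fixCard [Finite X] [Finite Y] [Finite G]
    (h : ∀ K : Subgroup G, fixCard K X = fixCard K Y) :
    ∃ e : X ≃ Y, ∀ (g : G) (x : X), e (g • x) = g • e x := by
  rcases isEmpty_or_nonempty X with hX | hX
  · have hY : IsEmpty Y := by
      have h0 := h ⊥
      rw [fixCard, Nat.card_of_isEmpty, fixCard, eq_comm, Nat.card_eq_zero] at h0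
      rcases h0 with h0 | h0
      · exact ⟨fun y => h0.false ⟨y, fun g hg => by rw [Subgroup.mem_bot.1 hg, one_smul]⟩⟩
      · exact absurd h0 (not_infinite_iff_finite.2 inferInstance)
    exact ⟨Equiv.equivOfIsEmpty X Y, fun _ x => isEmptyElim x⟩
  · obtain ⟨f, hf, hfe⟩ := exists_bijOn (Set.univ (α := X)).ncard Set.univ (Set.univ : Set Y) rfl
      (fun _ _ _ => trivial) (fun _ _ _ => trivial)
      (fun K : Subgroup G => by rw [ncard_fixIn_univ, ncard_fixIn_univ, h]) Set.univ_nonempty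
    exact ⟨Equiv.ofBijective f (Set.bijOn_univ.1 hf), fun g x => hfe g x trivial⟩

/-- Burnside's congruence: fixed-point counts of two sets agree modulo `[N : E]` as soon as they
agree on all strictly larger subgroups `E ⊔ ⟨a⟩`, `a ∈ N`. -/
theorem fixCard_congr [Finite G] {G' : Type*} [Group G'] [MulAction G' Y] [Finite X] [Finite Y]
    (N E : Subgroup G) (hEN : E ≤ N) (hN : N ≤ Subgroup.normalizer (E : Set G)) (Ψ : ↥N →* G')
    (h : ∀ a : ↥N, (a : G) ∉ E → fixCard (E ⊔ Subgroup.zpowers (a : G)) X =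
      fixCard (((E ⊔ Subgroup.zpowers (a : G)).subgroupOf N).map Ψ) Y) :
    (E.relIndex N : ℤ) ∣ (fixCard E X : ℤ) - fixCard ((E.subgroupOf N).map Ψ) Y := by
  classical
  haveI : Fintype ↥N := Fintype.ofFinite _
  haveI hEn : (E.subgroupOf N).Normal :=
    (Subgroup.normal_subgroupOf_iff_le_normalizer hEN).2 hN
  -- the two sets of fixed points, with the actions of `N`
  letI : MulAction ↥N {x : X // ∀ g ∈ E, g • x = x} :=
    { smul := fun a x => ⟨(a : G) • (x : X), fun g hg => by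
        have hg' : (a : G)⁻¹ * g * (a : G) ∈ E := (Subgroup.mem_normalizer_iff''.1 (hN a.2) g).1 hg
        have := x.2 _ hg'
        rw [mul_smul, mul_smul, inv_smul_eq_iff] at this
        exact this⟩
      one_smul := fun x => Subtype.ext (one_smul _ _)
      mul_smul := fun a b x => Subtype.ext (mul_smul _ _ _) }
  letI : MulAction ↥N {y : Y // ∀ g ∈ (E.subgroupOf N).map Ψ, g • y = y} :=
    { smul := fun a y => ⟨Ψ a • (y : Y), by
        rintro g ⟨e, he, rfl⟩
        have hg' : a⁻¹ * e * a ∈ E.subgroupOf N := by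
          simpa using hEn.conj_mem e he a⁻¹
        have := y.2 _ ⟨_, hg', rfl⟩
        rw [map_mul, map_mul, map_inv, mul_smul, mul_smul, inv_smul_eq_iff] at this
        exact this⟩
      one_smul := fun y => Subtype.ext (by show Ψ 1 • (y : Y) = y; rw [map_one, one_smul])
      mul_smul := fun a b y => Subtype.ext (by
        show Ψ (a * b) • (y : Y) = Ψ a • Ψ b • (y : Y)
        rw [map_mul, mul_smul]) }
  haveI : Fintype X := Fintype.ofFinite _
  haveI : Fintype Y := Fintype.ofFinite _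
  -- fixed points of single elements
  have hX : ∀ a : ↥N, Nat.card (fixedBy {x : X // ∀ g ∈ E, g • x = x} a) =
      fixCard (E ⊔ Subgroup.zpowers (a : G)) X := by
    intro a
    refine Nat.card_congr ⟨fun x => ⟨x.1.1, ?_⟩, fun x => ⟨⟨x.1, fun g hg =>
      x.2 g (Subgroup.mem_sup_left hg)⟩, Subtype.ext
        (x.2 _ (Subgroup.mem_sup_right (Subgroup.mem_zpowers _)))⟩, fun x => rfl, fun x => rfl⟩
    intro g hg
    have hle : E ⊔ Subgroup.zpowers (a : G) ≤ stabilizer G (x.1.1 : X) :=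
      sup_le (fun g hg => x.1.2 g hg) (Subgroup.zpowers_le.2 (congrArg Subtype.val x.2))
    exact hle hg
  have hY : ∀ a : ↥N,
      Nat.card (fixedBy {y : Y // ∀ g ∈ (E.subgroupOf N).map Ψ, g • y = y} a) =
      fixCard (((E ⊔ Subgroup.zpowers (a : G)).subgroupOf N).map Ψ) Y := by
    intro a
    have e : (E ⊔ Subgroup.zpowers (a : G)).subgroupOf N =
        E.subgroupOf N ⊔ Subgroup.zpowers a := by
      rw [Subgroup.subgroupOf_sup hEN (Subgroup.zpowers_le.2 a.2)]
      congr 1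
      apply Subgroup.map_injective N.subtype_injective
      rw [Subgroup.map_subgroupOf_eq_of_le (Subgroup.zpowers_le.2 a.2), MonoidHom.map_zpowers]
      rfl
    rw [e, Subgroup.map_sup, MonoidHom.map_zpowers]
    refine Nat.card_congr ⟨fun y => ⟨y.1.1, ?_⟩, fun y => ⟨⟨y.1, fun g hg =>
      y.2 g (Subgroup.mem_sup_left hg)⟩, Subtype.ext
        (y.2 _ (Subgroup.mem_sup_right (Subgroup.mem_zpowers _)))⟩, fun y => rfl, fun y => rfl⟩
    intro g hg
    have hle : (E.subgroupOf N).map Ψ ⊔ Subgroup.zpowers (Ψ a) ≤ stabilizer G' (y.1.1 : Y) :=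
      sup_le (fun g hg => y.1.2 g hg) (Subgroup.zpowers_le.2 (congrArg Subtype.val y.2))
    exact hle hg
  have bX : (Nat.card ↥N : ℤ) ∣ ∑ a : ↥N, (fixCard (E ⊔ Subgroup.zpowers (a : G)) X : ℤ) := by
    rw [← Nat.cast_sum, Int.natCast_dvd_natCast]
    refine ⟨Fintype.card (Quotient (orbitRel ↥N {x : X // ∀ g ∈ E, g • x = x})), ?_⟩
    simp only [← hX, Nat.card_eq_fintype_card]
    rw [sum_card_fixedBy_eq_card_orbits_mul_card_group, mul_comm]
  have bY : (Nat.card ↥N : ℤ) ∣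
      ∑ a : ↥N, (fixCard (((E ⊔ Subgroup.zpowers (a : G)).subgroupOf N).map Ψ) Y : ℤ) := by
    rw [← Nat.cast_sum, Int.natCast_dvd_natCast]
    refine ⟨Fintype.card (Quotient (orbitRel ↥N
      {y : Y // ∀ g ∈ (E.subgroupOf N).map Ψ, g • y = y})), ?_⟩
    simp only [← hY, Nat.card_eq_fintype_card]
    rw [sum_card_fixedBy_eq_card_orbits_mul_card_group, mul_comm]
  have hsum := dvd_sub bX bY
  rw [← Finset.sum_sub_distrib] at hsum
  have hval : ∀ a : ↥N, ((fixCard (E ⊔ Subgroup.zpowers (a : G)) X : ℤ) -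
      fixCard (((E ⊔ Subgroup.zpowers (a : G)).subgroupOf N).map Ψ) Y) =
      if a ∈ E.subgroupOf N then ((fixCard E X : ℤ) - fixCard ((E.subgroupOf N).map Ψ) Y)
      else 0 := by
    intro a
    by_cases ha : (a : G) ∈ E
    · rw [if_pos (Subgroup.mem_subgroupOf.2 ha), sup_eq_left.2 (Subgroup.zpowers_le.2 ha)]
    · rw [if_neg (fun hc => ha (Subgroup.mem_subgroupOf.1 hc)), h a ha, sub_self]
  rw [Finset.sum_congr rfl (fun a _ => hval a), Finset.sum_ite, Finset.sum_const_zero, add_zero,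
    Finset.sum_const, nsmul_eq_mul] at hsum
  have hc : (Finset.univ.filter fun a : ↥N => a ∈ E.subgroupOf N).card =
      Nat.card ↥(E.subgroupOf N) := by
    rw [Nat.card_eq_fintype_card, Fintype.card_subtype]
  rw [hc, ← Subgroup.card_mul_index (E.subgroupOf N), Nat.cast_mul] at hsum
  exact Int.dvd_of_mul_dvd_mul_left (by exact_mod_cast Nat.card_pos.ne') hsum

end Cfsg.Agent.H90
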