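import Cfsg.Agent.H90.Basic
import Cfsg.Agent.H90.Marks
import Mathlib.GroupTheory.Sylow

/-!
Every saturated fusion system has a stable biset of order prime to `p` (after dividing by `|S|`)
all of whose point stabilizers are twisted diagonal subgroups of maps of the system.
-/

set_option autoImplicit false

namespace Cfsg.Agent.H90

open Cfsg Cfsg.FusionSystem MulAction

universe u

variable {Ω : Type u} [Group Ω] {S : Subgroup Ω} {F : FusionSystem S}

/-! ### Twisted diagonal subgroups -/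

/-- The projection to the first coordinate. -/
def srcHom (S : Subgroup Ω) : ↥S × ↥S →* Ω := S.subtype.comp (MonoidHom.fst ↥S ↥S)

/-- The first projection of a subgroup of `S × S`. -/
def src (K : Subgroup (↥S × ↥S)) : Subgroup Ω := K.map (srcHom S)

theorem fst_mem_src {K : Subgroup (↥S × ↥S)} {k : ↥S × ↥S} (hk : k ∈ K) : (k.1 : Ω) ∈ src K :=
  ⟨k, hk, rfl⟩

theorem src_le_top (K : Subgroup (↥S × ↥S)) : src K ≤ S := by
  rintro _ ⟨k, -, rfl⟩
  exact k.1.2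

/-- `K` is the twisted diagonal subgroup of a map of `F`. -/
def IsTw (F : FusionSystem S) (K : Subgroup (↥S × ↥S)) : Prop :=
  ∃ φ ∈ F.Hom (src K), ∀ k, ∀ hk : k ∈ K, φ ⟨(k.1 : Ω), fst_mem_src hk⟩ = (k.2 : Ω)

theorem IsTw.eq_of_fst {K : Subgroup (↥S × ↥S)} (h : IsTw F K) {k k' : ↥S × ↥S} (hk : k ∈ K)
    (hk' : k' ∈ K) (he : k.1 = k'.1) : k = k' := by
  obtain ⟨φ, -, hφ⟩ := h
  refine Prod.ext he (Subtype.ext ?_)
  rw [← hφ k hk, ← hφ k' hk']
  exact congrArg φ (Subtype.ext (by show (k.1 : Ω) = (k'.1 : Ω); rw [he]))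

theorem IsTw.card_src {K : Subgroup (↥S × ↥S)} (h : IsTw F K) :
    Nat.card ↥(src K) = Nat.card ↥K := by
  refine (Nat.card_congr (Equiv.ofBijective
    (fun k : ↥K => (⟨((k : ↥S × ↥S).1 : Ω), fst_mem_src k.2⟩ : ↥(src K))) ⟨?_, ?_⟩)).symm
  · intro k k' he
    exact Subtype.ext (h.eq_of_fst k.2 k'.2 (Subtype.ext (congrArg (fun z => (z.1 : Ω)) he)))
  · rintro ⟨_, k, hk, rfl⟩
    exact ⟨⟨k, hk⟩, rfl⟩

theorem IsTw.mono {K K' : Subgroup (↥S × ↥S)} (h : IsTw F K) (hle : K' ≤ K) : IsTw F K' := by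
  obtain ⟨φ, hφ, hk⟩ := h
  exact ⟨res φ (Subgroup.map_mono hle), res_mem F hφ _, fun k hk' => hk k (hle hk')⟩

/-- Two pairs correspond under `ψ₁ × ψ₂`. -/
def Rel {M₁ M₂ : Subgroup Ω} (ψ₁ : ↥M₁ →* Ω) (ψ₂ : ↥M₂ →* Ω) (k k' : ↥S × ↥S) : Prop :=
  (∃ h : (k.1 : Ω) ∈ M₁, ψ₁ ⟨_, h⟩ = (k'.1 : Ω)) ∧ ∃ h : (k.2 : Ω) ∈ M₂, ψ₂ ⟨_, h⟩ = (k'.2 : Ω)

theorem isTw_of_rel {M₁ M₂ : Subgroup Ω} {ψ₁ : ↥M₁ →* Ω} {ψ₂ : ↥M₂ →* Ω} (h₁ : ψ₁ ∈ F.Hom M₁)
    (h₂ : ψ₂ ∈ F.Hom M₂) {K K' : Subgroup (↥S × ↥S)} (hK : IsTw F K)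
    (r : ∀ k ∈ K, ∃ k' ∈ K', Rel ψ₁ ψ₂ k k') (r' : ∀ k' ∈ K', ∃ k ∈ K, Rel ψ₁ ψ₂ k k') :
    IsTw F K' ∧ F.IsConj (src K) (src K') := by
  obtain ⟨φ, hφ, hφk⟩ := hK
  have hle : src K ≤ M₁ := by
    rintro _ ⟨k, hk, rfl⟩
    obtain ⟨k', -, ⟨h, -⟩, -⟩ := r k hk
    exact h
  have hχ := res_mem F h₁ hle
  have hr : (res ψ₁ hle).range = src K' := by
    refine le_antisymm ?_ ?_
    · rintro _ ⟨⟨_, k, hk, rfl⟩, rfl⟩
      obtain ⟨k', hk', ⟨h, he⟩, -⟩ := r k hk
      refine ⟨k', hk', ?_⟩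
      exact he.symm
    · rintro _ ⟨k', hk', rfl⟩
      obtain ⟨k, hk, ⟨h, he⟩, -⟩ := r' k' hk'
      exact ⟨⟨_, fst_mem_src hk⟩, he⟩
  refine ⟨?_, _, hχ, hr⟩
  obtain ⟨χ', hχ', hr', hl, -⟩ := exists_iso_inv F hχ hr
  have m1 : ∀ y, χ' y ∈ src K := fun y => hr' ▸ ⟨y, rfl⟩
  have m2 : ∀ y, comp₂ φ χ' m1 y ∈ M₂ := by
    intro y
    obtain ⟨k, hk, he⟩ := m1 y
    obtain ⟨k', -, -, h, -⟩ := r k hk
    rw [comp₂_apply, show (⟨χ' y, m1 y⟩ : ↥(src K)) = ⟨k.1, fst_mem_src hk⟩ from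
      Subtype.ext he.symm, hφk k hk]
    exact h
  refine ⟨comp₂ ψ₂ (comp₂ φ χ' m1) m2, comp₂_mem F (comp₂_mem F hχ' hφ m1) h₂ m2, ?_⟩
  intro k' hk'
  obtain ⟨k, hk, ⟨ha, hae⟩, hb, hbe⟩ := r' k' hk'
  rw [comp₂_apply, ← hbe]
  refine congrArg ψ₂ (Subtype.ext ?_)
  show comp₂ φ χ' m1 ⟨(k'.1 : Ω), fst_mem_src hk'⟩ = (k.2 : Ω)
  rw [comp₂_apply, ← hφk k hk]
  refine congrArg φ (Subtype.ext ?_)
  have := hl ⟨(k.1 : Ω), fst_mem_src hk⟩ (hr ▸ ⟨_, rfl⟩)
  refine Eq.trans (congrArg χ' (Subtype.ext ?_)) this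
  exact hae.symm

theorem isTw_iff_of_rel {M₁ M₂ : Subgroup Ω} {ψ₁ : ↥M₁ →* Ω} {ψ₂ : ↥M₂ →* Ω} (h₁ : ψ₁ ∈ F.Hom M₁)
    (h₂ : ψ₂ ∈ F.Hom M₂) {K K' : Subgroup (↥S × ↥S)}
    (r : ∀ k ∈ K, ∃ k' ∈ K', Rel ψ₁ ψ₂ k k') (r' : ∀ k' ∈ K', ∃ k ∈ K, Rel ψ₁ ψ₂ k k') :
    IsTw F K ↔ IsTw F K' := by
  refine ⟨fun h => (isTw_of_rel h₁ h₂ h r r').1, fun h => ?_⟩
  obtain ⟨ψ₁', hψ₁', -, hl₁, -⟩ := exists_iso_inv F h₁ rfl
  obtain ⟨ψ₂', hψ₂', -, hl₂, -⟩ := exists_iso_inv F h₂ rfl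
  have conv : ∀ k k' : ↥S × ↥S, Rel ψ₁ ψ₂ k k' → Rel ψ₁' ψ₂' k' k := by
    rintro k k' ⟨⟨a, ha⟩, b, hb⟩
    refine ⟨⟨⟨_, ha⟩, ?_⟩, ⟨_, hb⟩, ?_⟩
    · refine Eq.trans (congrArg ψ₁' (Subtype.ext ha.symm)) (hl₁ ⟨_, a⟩ ⟨_, rfl⟩)
    · refine Eq.trans (congrArg ψ₂' (Subtype.ext hb.symm)) (hl₂ ⟨_, b⟩ ⟨_, rfl⟩)
  refine (isTw_of_rel hψ₁' hψ₂' h (fun k' hk' => ?_) fun k hk => ?_).1
  · obtain ⟨k, hk, hR⟩ := r' k' hk'
    exact ⟨k, hk, conv k k' hR⟩
  · obtain ⟨k', hk', hR⟩ := r k hk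
    exact ⟨k', hk', conv k k' hR⟩

theorem conj_rel (g : ↥S × ↥S) (k : ↥S × ↥S) :
    Rel (conjHom S (g.1 : Ω)) (conjHom S (g.2 : Ω)) k (g * k * g⁻¹) :=
  ⟨⟨k.1.2, rfl⟩, k.2.2, rfl⟩

theorem isTw_conj {K : Subgroup (↥S × ↥S)} (g : ↥S × ↥S) (h : IsTw F K) :
    IsTw F (K.map (MulAut.conj g).toMonoidHom) ∧
      F.IsConj (src K) (src (K.map (MulAut.conj g).toMonoidHom)) :=
  isTw_of_rel (F.conj_mem le_rfl g.1.2) (F.conj_mem le_rfl g.2.2) h
    (fun k hk => ⟨_, ⟨k, hk, rfl⟩, conj_rel g k⟩)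
    (by rintro _ ⟨k, hk, rfl⟩; exact ⟨k, hk, conj_rel g k⟩)

theorem map_conj_inv_map_conj {G : Type*} [Group G] (g : G) (E : Subgroup G) :
    (E.map (MulAut.conj g).toMonoidHom).map (MulAut.conj g⁻¹).toMonoidHom = E := by
  rw [Subgroup.map_map]
  convert Subgroup.map_id E
  ext x
  simp [mul_assoc]

/-! ### Marks -/

/-- Fixed points of a conjugate. -/
theorem fixCard_conj {G X : Type*} [Group G] [MulAction G X] (g : G) (E : Subgroup G) :
    fixCard (E.map (MulAut.conj g).toMonoidHom) X = fixCard E X := by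
  refine Nat.card_congr ⟨fun x => ⟨g⁻¹ • (x : X), fun e he => ?_⟩,
    fun x => ⟨g • (x : X), ?_⟩, fun x => Subtype.ext (smul_inv_smul g (x : X)),
    fun x => Subtype.ext (inv_smul_smul g (x : X))⟩
  · have := x.2 _ ⟨e, he, rfl⟩
    simp only [MulEquiv.coe_toMonoidHom, MulAut.conj_apply, mul_smul] at this
    rw [eq_inv_smul_iff]
    exact this
  · rintro _ ⟨e, he, rfl⟩
    simp only [MulEquiv.coe_toMonoidHom, MulAut.conj_apply, mul_smul, inv_smul_smul]
    rw [x.2 e he]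

theorem fixCard_sigma {G : Type*} [Group G] {ι : Type*} [Fintype ι] (Z : ι → Type*)
    [∀ i, MulAction G (Z i)] [∀ i, Finite (Z i)] (K : Subgroup G) :
    fixCard K (Σ i, Z i) = ∑ i, fixCard K (Z i) := by
  unfold fixCard
  rw [← Nat.card_sigma]
  exact Nat.card_congr
    { toFun := fun x => ⟨x.1.1, x.1.2, fun g hg => eq_of_heq (Sigma.mk.inj (x.2 g hg)).2⟩
      invFun := fun y => ⟨⟨y.1, y.2.1⟩, fun g hg => Sigma.ext rfl (heq_of_eq (y.2.2 g hg))⟩
      left_inv := fun x => rfl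
      right_inv := fun y => rfl }

theorem exists_conj_of_fixCard_ne {G : Type*} [Group G] {E D : Subgroup G}
    (h : fixCard E (G ⧸ D) ≠ 0) : ∃ g : G, E.map (MulAut.conj g).toMonoidHom ≤ D := by
  obtain ⟨⟨x, hx⟩⟩ := (Nat.card_ne_zero.1 h).1
  induction x using QuotientGroup.induction_on with
  | _ a =>
    refine ⟨a⁻¹, ?_⟩
    rintro _ ⟨e, he, rfl⟩
    have := hx e he
    rw [MulAction.Quotient.smul_mk, smul_eq_mul, eq_comm, QuotientGroup.eq] at this
    simpa [mul_assoc] using this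

theorem fixCard_self {G : Type*} [Group G] [Finite G] (D : Subgroup G) :
    fixCard D (G ⧸ D) = D.relIndex (Subgroup.normalizer (D : Set G)) := by
  refine (Nat.card_congr ((Equiv.subtypeEquivRight fun x => ?_).trans
    (Sylow.fixedPointsMulLeftCosetsEquivQuotient D))).trans rfl
  rw [MulAction.mem_fixedPoints]
  exact ⟨fun h a => h a.1 a.2, fun h g hg => h ⟨g, hg⟩⟩

theorem relIndex_dvd_card {G : Type*} [Group G] (D : Subgroup G) :
    D.relIndex (Subgroup.normalizer (D : Set G)) ∣ Nat.card G :=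
  (Subgroup.index_dvd_card _).trans (Subgroup.card_subgroup_dvd_card _)

/-- The finite set with `c D` orbits of type `D`. -/
abbrev OrbSet {G : Type u} [Group G] (c : Subgroup G → ℕ) : Type u :=
  Σ i : (Σ D : Subgroup G, Fin (c D)), G ⧸ i.1

/-- The subgroups of a finite group form a finite type. -/
noncomputable local instance instFintypeSubgroup {G : Type*} [Group G] [Finite G] :
    Fintype (Subgroup G) := Fintype.ofFinite _

section

variable {G : Type u} [Group G] [Finite G]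

/-- The number of fixed points of `E` on `OrbSet c`. -/
noncomputable def mark (c : Subgroup G → ℕ) (E : Subgroup G) : ℕ :=
  ∑ D : Subgroup G, c D * fixCard E (G ⧸ D)

theorem fixCard_orbSet (c : Subgroup G → ℕ) (E : Subgroup G) :
    fixCard E (OrbSet c) = mark c E := by
  show fixCard E (Σ i : (Σ D : Subgroup G, Fin (c D)), G ⧸ i.1) = _
  rw [fixCard_sigma, Fintype.sum_sigma]
  exact Finset.sum_congr rfl fun D _ => by
    show ∑ _y : Fin (c D), fixCard E (G ⧸ D) = _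
    rw [Finset.sum_const, Finset.card_univ, Fintype.card_fin, smul_eq_mul]

theorem mark_conj (c : Subgroup G → ℕ) (g : G) (E : Subgroup G) :
    mark c (E.map (MulAut.conj g).toMonoidHom) = mark c E := by
  simp only [mark, fixCard_conj]

theorem mark_le (c : Subgroup G → ℕ) (E : Subgroup G) :
    mark c E ≤ Nat.card G * ∑ D : Subgroup G, c D := by
  rw [Finset.mul_sum]
  refine Finset.sum_le_sum fun D _ => ?_
  rw [mul_comm (Nat.card G)]
  exact Nat.mul_le_mul_left _ ((Nat.card_le_card_of_injective _ Subtype.val_injective).trans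
    (Nat.card_le_card_of_surjective _ QuotientGroup.mk_surjective))

end

/-- The number of orbits of `S` on the quotient by the free right action. -/
noncomputable def kOf [Finite S] (c : Subgroup (↥S × ↥S) → ℕ) : ℕ :=
  ∑ D : Subgroup (↥S × ↥S), c D * ((src D).subgroupOf S).index

/-- Stability down to order `n`. -/
structure Stable [Finite S] (F : FusionSystem S) (n : ℕ) (c : Subgroup (↥S × ↥S) → ℕ) : Prop where
  supp : ∀ D, c D ≠ 0 → IsTw F D ∧ n ≤ Nat.card D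
  eq : ∀ K K', IsTw F K → IsTw F K' → n ≤ Nat.card K → F.IsConj (src K) (src K') →
    mark c K = mark c K'

theorem card_eq_of_isConj [Finite S] {P Q : Subgroup Ω} (h : F.IsConj P Q) :
    Nat.card P = Nat.card Q := by
  obtain ⟨φ, hφ, rfl⟩ := h
  exact (card_range_eq F hφ).symm

theorem Stable.mark_eq_zero [Finite S] {n : ℕ} {c : Subgroup (↥S × ↥S) → ℕ}
    (h : Stable F n c) {E : Subgroup (↥S × ↥S)} (hE : ¬ IsTw F E) : mark c E = 0 := by
  refine Finset.sum_eq_zero fun D _ => ?_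
  by_contra hne
  obtain ⟨hc, hf⟩ := mul_ne_zero_iff.1 hne
  obtain ⟨g, hg⟩ := exists_conj_of_fixCard_ne hf
  refine hE ?_
  rw [← map_conj_inv_map_conj g E]
  exact (isTw_conj g⁻¹ ((h.supp D hc).1.mono hg)).1

theorem Stable.mark_rel [Finite S] {n : ℕ} {c : Subgroup (↥S × ↥S) → ℕ} (h : Stable F n c)
    {M₁ M₂ : Subgroup Ω} {ψ₁ : ↥M₁ →* Ω} {ψ₂ : ↥M₂ →* Ω} (h₁ : ψ₁ ∈ F.Hom M₁)
    (h₂ : ψ₂ ∈ F.Hom M₂) {K K' : Subgroup (↥S × ↥S)}
    (r : ∀ k ∈ K, ∃ k' ∈ K', Rel ψ₁ ψ₂ k k') (r' : ∀ k' ∈ K', ∃ k ∈ K, Rel ψ₁ ψ₂ k k')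
    (hn : n ≤ Nat.card K) : mark c K = mark c K' := by
  by_cases hK : IsTw F K
  · obtain ⟨hK', hc⟩ := isTw_of_rel h₁ h₂ hK r r'
    exact h.eq K K' hK hK' hn hc
  · rw [h.mark_eq_zero hK, h.mark_eq_zero (fun hc => hK ((isTw_iff_of_rel h₁ h₂ r r').2 hc))]

theorem card_lt_of_lt' {G : Type*} [Group G] [Finite G] {A B : Subgroup G} (h : A < B) :
    Nat.card A < Nat.card B := by
  show Nat.card ↥(A : Set G) < Nat.card ↥(B : Set G)
  rw [Nat.card_coe_set_eq, Nat.card_coe_set_eq]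
  exact Set.ncard_lt_ncard (SetLike.coe_ssubset_coe.2 h) (Set.toFinite _)

theorem dvd_index_of_card_lt {p : ℕ} [hp : Fact p.Prime] [Finite S] (hS : IsPGroup p S)
    {P : Subgroup Ω} (hP : P ≤ S) (h : Nat.card P < Nat.card S) :
    p ∣ (P.subgroupOf S).index := by
  obtain ⟨k, hk⟩ := hS.index (P.subgroupOf S)
  rcases k with _ | k
  · refine absurd ?_ h.ne
    rw [pow_zero, Subgroup.index_eq_one, Subgroup.subgroupOf_eq_top] at hk
    rw [le_antisymm hP hk]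
  · rw [hk]
    exact dvd_pow_self p (Nat.succ_ne_zero k)

/-- The diagonal copy of `R`. -/
def diag (S : Subgroup Ω) (R : Subgroup Ω) : Subgroup (↥S × ↥S) :=
  (R.subgroupOf S).map ((MonoidHom.id ↥S).prod (MonoidHom.id ↥S))

theorem mem_diag {R : Subgroup Ω} {k : ↥S × ↥S} : k ∈ diag S R ↔ (k.1 : Ω) ∈ R ∧ k.1 = k.2 := by
  constructor
  · rintro ⟨x, hx, rfl⟩
    exact ⟨hx, rfl⟩
  · rintro ⟨h, he⟩
    exact ⟨k.1, h, Prod.ext rfl he⟩

/-- The key congruence. -/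
theorem exists_congr {p : ℕ} [Fact p.Prime] [Finite S] (hS : IsPGroup p S) {n : ℕ}
    {c : Subgroup (↥S × ↥S) → ℕ} (h : Stable F (n + 1) c) {E : Subgroup (↥S × ↥S)}
    (hE : IsTw F E) (hn : Nat.card E = n) {R : Subgroup Ω} (hc : F.IsConj (src E) R)
    (hA : F.IsFullyAutomized p R) (hR : F.IsReceptive R) :
    (E.relIndex (Subgroup.normalizer (E : Set (↥S × ↥S))) : ℤ) ∣
      (mark c E : ℤ) - mark c (diag S R) := by
  obtain ⟨φ, hφ, hφE⟩ := hE
  have hPS := src_le_top E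
  obtain ⟨χ, hχ, hχR, ψ₁, hψ₁, hag, -⟩ := exists_extending hS F hc hA hR
  obtain ⟨φ', hφ', hr', hl, hrt⟩ := exists_iso_inv F hφ rfl
  have m : ∀ y, φ' y ∈ src E := fun y => hr'.le ⟨y, rfl⟩
  let σ := comp₂ χ φ' m
  have hσ : σ ∈ F.Hom φ.range := comp₂_mem F hφ' hχ m
  have hσφ : ∀ x : ↥(src E), ∀ hx : φ x ∈ φ.range, σ ⟨φ x, hx⟩ = χ x := fun x hx =>
    congrArg χ (Subtype.ext (hl x hx))
  have hσR : σ.range = R := by
    rw [← hχR]
    refine le_antisymm ?_ ?_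
    · rintro _ ⟨y, rfl⟩
      exact ⟨_, rfl⟩
    · rintro _ ⟨x, rfl⟩
      exact ⟨⟨φ x, x, rfl⟩, hσφ x _⟩
  obtain ⟨ψ₂, hψ₂, hext⟩ := hR.2 _ σ hσ hσR
  set N := Subgroup.normalizer (E : Set (↥S × ↥S))
  have := finite_le hPS
  have m1 : ∀ a : ↥N, (((a : ↥S × ↥S).1 : ↥S) : Ω) ∈ normalizerIn S (src E) := by
    intro a
    refine ⟨((a : ↥S × ↥S).1).2, normal_of_conj ?_⟩
    rintro _ ⟨k, hk, rfl⟩
    exact ⟨_, (Subgroup.mem_normalizer_iff.1 a.2 k).1 hk, rfl⟩
  have := finite_le (range_le F hφ)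
  have m2 : ∀ a : ↥N, (((a : ↥S × ↥S).2 : ↥S) : Ω) ∈ extender S φ.range σ := by
    intro a
    have hconj : ∀ k, ∀ hk : k ∈ E, (a : ↥S × ↥S) * k * (a : ↥S × ↥S)⁻¹ ∈ E :=
      fun k hk => (Subgroup.mem_normalizer_iff.1 a.2 k).1 hk
    refine Subgroup.subset_closure ⟨((a : ↥S × ↥S).2).2, normal_of_conj ?_,
      ψ₁ ⟨_, m1 a⟩, (F.le_of_mem hψ₁).2 _, ?_⟩
    · rintro _ ⟨⟨_, k, hk, rfl⟩, rfl⟩
      refine ⟨⟨_, fst_mem_src (hconj k hk)⟩, ?_⟩
      rw [hφE _ (hconj k hk)]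
      show _ = _ * φ ⟨(k.1 : Ω), fst_mem_src hk⟩ * _
      rw [hφE k hk]
      rfl
    · rintro ⟨_, ⟨_, k, hk, rfl⟩, rfl⟩ hx
      have e1 : (⟨_, hx⟩ : ↥φ.range) =
          ⟨φ ⟨_, fst_mem_src (hconj k hk)⟩, ⟨_, rfl⟩⟩ := by
        refine Subtype.ext ?_
        show _ * φ ⟨(k.1 : Ω), fst_mem_src hk⟩ * _ = φ _
        rw [hφE _ (hconj k hk), hφE k hk]
        rfl
      rw [e1]
      erw [hσφ ⟨_, fst_mem_src (hconj k hk)⟩, hσφ ⟨_, fst_mem_src hk⟩]
      rw [hag _ (fst_mem_src (hconj k hk)) (le_normalizerIn hPS (fst_mem_src (hconj k hk)))]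
      show _ = _ * χ ⟨(k.1 : Ω), fst_mem_src hk⟩ * _
      rw [hag _ (fst_mem_src hk) (le_normalizerIn hPS (fst_mem_src hk)), ← map_inv, ← map_mul,
        ← map_mul]
      rfl
  let Ψ : ↥N →* ↥S × ↥S := MonoidHom.prod
    ((ψ₁.comp (((srcHom S).comp N.subtype).codRestrict _ m1)).codRestrict S
      fun _ => (F.le_of_mem hψ₁).2 _)
    ((ψ₂.comp ((S.subtype.comp ((MonoidHom.snd ↥S ↥S).comp N.subtype)).codRestrict _ m2)).codRestrict
      S fun _ => (F.le_of_mem hψ₂).2 _)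
  have hΨ : ∀ a : ↥N, Rel ψ₁ ψ₂ (a : ↥S × ↥S) (Ψ a) := fun a => ⟨⟨m1 a, rfl⟩, m2 a, rfl⟩
  have hEN : E ≤ N := Subgroup.le_normalizer
  have hEmap : (E.subgroupOf N).map Ψ = diag S R := by
    have key : ∀ a : ↥N, ∀ ha : (a : ↥S × ↥S) ∈ E,
        ((Ψ a).1 : Ω) = χ ⟨_, fst_mem_src ha⟩ ∧ ((Ψ a).2 : Ω) = χ ⟨_, fst_mem_src ha⟩ := by
      intro a ha
      have hφa := hφE _ ha
      refine ⟨(hag _ (fst_mem_src ha) (m1 a)).symm, ?_⟩
      have hin : (((a : ↥S × ↥S).2 : ↥S) : Ω) ∈ φ.range := ⟨_, hφa⟩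
      show ψ₂ ⟨_, m2 a⟩ = _
      rw [hext _ hin (m2 a), ← hσφ ⟨_, fst_mem_src ha⟩ ⟨_, rfl⟩]
      exact congrArg σ (Subtype.ext hφa.symm)
    ext k
    rw [mem_diag]
    constructor
    · rintro ⟨a, ha, rfl⟩
      obtain ⟨e1, e2⟩ := key a ha
      exact ⟨e1 ▸ hχR ▸ ⟨_, rfl⟩, Subtype.ext (e1.trans e2.symm)⟩
    · rintro ⟨hk, he⟩
      obtain ⟨⟨_, k₀, hk₀, rfl⟩, hx⟩ : (k.1 : Ω) ∈ χ.range := hχR.symm ▸ hk
      obtain ⟨e1, e2⟩ := key ⟨k₀, hEN hk₀⟩ hk₀
      exact ⟨⟨k₀, hEN hk₀⟩, hk₀,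
        Prod.ext (Subtype.ext (e1.trans hx)) (Subtype.ext ((e2.trans hx).trans
          (congrArg Subtype.val he)))⟩
  have hcong := fixCard_congr (X := OrbSet c) (Y := OrbSet c) N E hEN le_rfl Ψ ?_
  · rwa [hEmap, fixCard_orbSet, fixCard_orbSet] at hcong
  intro a ha
  rw [fixCard_orbSet, fixCard_orbSet]
  refine h.mark_rel hψ₁ hψ₂ ?_ ?_ ?_
  · intro k hk
    have hkN : k ∈ N := (sup_le hEN (Subgroup.zpowers_le.2 a.2)) hk
    exact ⟨Ψ ⟨k, hkN⟩, ⟨⟨k, hkN⟩, hk, rfl⟩, hΨ ⟨k, hkN⟩⟩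
  · rintro _ ⟨b, hb, rfl⟩
    exact ⟨_, hb, hΨ b⟩
  · rw [← hn, Nat.succ_le_iff]
    exact card_lt_of_lt' (lt_of_le_of_ne le_sup_left fun he => ha (by
      rw [he]; exact Subgroup.mem_sup_right (Subgroup.mem_zpowers _)))

theorem exists_step {p : ℕ} [Fact p.Prime] [Finite S] (hS : IsPGroup p S) (hF : F.IsSaturated p)
    {n : ℕ} (hn : n < Nat.card S) {c : Subgroup (↥S × ↥S) → ℕ} (h : Stable F (n + 1) c) :
    ∃ c', Stable F n c' ∧ (p ∣ kOf c' ↔ p ∣ kOf c) := by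
  classical
  let R : Subgroup Ω → Subgroup Ω := fun P => Classical.epsilon fun R =>
    F.IsConj P R ∧ F.IsFullyAutomized p R ∧ F.IsReceptive R
  have hR : ∀ P ≤ S, F.IsConj P (R P) ∧ F.IsFullyAutomized p (R P) ∧ F.IsReceptive (R P) :=
    fun P hP => Classical.epsilon_spec (hF P hP)
  have hRc : ∀ P Q, F.IsConj P Q → R P = R Q := by
    intro P Q hc
    simp only [R]
    congr 1
    funext X
    exact propext ⟨fun hx => ⟨isConj_trans F (isConj_symm F hc) hx.1, hx.2⟩,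
      fun hx => ⟨isConj_trans F hc hx.1, hx.2⟩⟩
  let M := Nat.card (↥S × ↥S) * ∑ D : Subgroup (↥S × ↥S), c D
  let target : Subgroup Ω → ℕ := fun P => mark c (diag S (R P)) + M
  let rep : Subgroup (↥S × ↥S) → Subgroup (↥S × ↥S) := fun E => Classical.epsilon fun D =>
    ∃ g : (↥S × ↥S), D = E.map (MulAut.conj g).toMonoidHom
  have hrep : ∀ E, ∃ g : (↥S × ↥S), rep E = E.map (MulAut.conj g).toMonoidHom := fun E =>
    Classical.epsilon_spec (p := fun D => ∃ g : (↥S × ↥S), D = E.map (MulAut.conj g).toMonoidHom)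
      ⟨_, 1, rfl⟩
  have hrepc : ∀ E (g : (↥S × ↥S)), rep (E.map (MulAut.conj g).toMonoidHom) = rep E := by
    intro E g
    simp only [rep]
    congr 1
    funext X
    apply propext
    constructor
    · rintro ⟨g', rfl⟩
      refine ⟨g' * g, ?_⟩
      rw [Subgroup.map_map]
      congr 1
      ext1 x
      simp only [MonoidHom.coe_comp, MulEquiv.coe_toMonoidHom, Function.comp_apply,
        MulAut.conj_apply]
      group
    · rintro ⟨g', rfl⟩
      refine ⟨g' * g⁻¹, ?_⟩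
      rw [Subgroup.map_map]
      congr 1
      ext1 x
      simp only [MonoidHom.coe_comp, MulEquiv.coe_toMonoidHom, Function.comp_apply,
        MulAut.conj_apply]
      group
  let extra : Subgroup (↥S × ↥S) → ℕ := fun D =>
    if IsTw F D ∧ Nat.card D = n ∧ rep D = D then
      (target (src D) - mark c D) / D.relIndex (Subgroup.normalizer (D : Set (↥S × ↥S))) else 0
  have hextra : ∀ D, extra D ≠ 0 → IsTw F D ∧ Nat.card D = n ∧ rep D = D := fun D hD => by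
    by_contra hc
    exact hD (if_neg hc)
  refine ⟨fun D => c D + extra D, ⟨fun D hD => ?_, ?_⟩, ?_⟩
  · rcases eq_or_ne (c D) 0 with h0 | h0
    · have := hextra D (by simpa [h0] using hD)
      exact ⟨this.1, this.2.1.ge⟩
    · exact ⟨(h.supp D h0).1, (Nat.le_succ n).trans (h.supp D h0).2⟩
  · have hadd : ∀ K, mark (fun D => c D + extra D) K = mark c K + mark extra K := fun K => by
      simp only [mark, add_mul, Finset.sum_add_distrib]
    have hbig : ∀ K : Subgroup (↥S × ↥S), n < Nat.card K → mark extra K = 0 := by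
      intro K hK
      refine Finset.sum_eq_zero fun D _ => ?_
      by_contra hne
      obtain ⟨he, hf⟩ := mul_ne_zero_iff.1 hne
      obtain ⟨g, hg⟩ := exists_conj_of_fixCard_ne hf
      have := Subgroup.card_le_of_le hg
      rw [Subgroup.card_map_of_injective (MulAut.conj g).injective, (hextra D he).2.1] at this
      omega
    have hsmall : ∀ K : Subgroup (↥S × ↥S), IsTw F K → Nat.card K = n →
        mark c K + mark extra K = target (src K) := by
      intro K hK hKn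
      obtain ⟨g, hg⟩ := hrep K
      have hK' := isTw_conj g hK
      have hD : IsTw F (rep K) ∧ Nat.card (rep K) = n ∧ rep (rep K) = rep K := by
        rw [hg]
        exact ⟨hK'.1, (Subgroup.card_map_of_injective (MulAut.conj g).injective).trans hKn,
          (hrepc K g).trans hg⟩
      have hsum : mark extra K = extra (rep K) * fixCard K ((↥S × ↥S) ⧸ rep K) := by
        refine Finset.sum_eq_single_of_mem _ (Finset.mem_univ _) fun D _ hne => ?_
        by_contra hne'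
        obtain ⟨he, hf⟩ := mul_ne_zero_iff.1 hne'
        obtain ⟨g', hg'⟩ := exists_conj_of_fixCard_ne hf
        have hDe : K.map (MulAut.conj g').toMonoidHom = D := by
          refine SetLike.coe_injective (Set.eq_of_subset_of_ncard_le
            (SetLike.coe_subset_coe.2 hg') ?_ (Set.toFinite _))
          rw [← Nat.card_coe_set_eq, ← Nat.card_coe_set_eq]
          show Nat.card D ≤ Nat.card ↥(K.map (MulAut.conj g').toMonoidHom)
          rw [Subgroup.card_map_of_injective (MulAut.conj g').injective, hKn, (hextra D he).2.1]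
        exact hne (by rw [← (hextra D he).2.2, ← hDe, hrepc])
      have hfix : fixCard K ((↥S × ↥S) ⧸ rep K) =
          (rep K).relIndex (Subgroup.normalizer (rep K : Set (↥S × ↥S))) := by
        rw [← fixCard_self, ← fixCard_conj g K, ← hg]
      have htar : target (src (rep K)) = target (src K) := by
        simp only [target]
        rw [hg, ← hRc _ _ hK'.2]
      have hmk : mark c (rep K) = mark c K := by rw [hg, mark_conj]
      obtain ⟨hc1, hc2, hc3⟩ := hR _ (src_le_top (rep K))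
      have hcong := exists_congr hS h hD.1 hD.2.1 hc1 hc2 hc3
      have hM : (rep K).relIndex (Subgroup.normalizer (rep K : Set (↥S × ↥S))) ∣ M :=
        (relIndex_dvd_card _).trans (dvd_mul_right _ _)
      have hle : mark c (rep K) ≤ target (src (rep K)) :=
        (mark_le c _).trans (Nat.le_add_left M _)
      have hdvd : (rep K).relIndex (Subgroup.normalizer (rep K : Set (↥S × ↥S))) ∣
          target (src (rep K)) - mark c (rep K) := by
        rw [← Int.natCast_dvd_natCast, Nat.cast_sub hle]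
        have := Int.dvd_sub (Int.natCast_dvd_natCast.2 hM) hcong
        rw [show target (src (rep K)) = mark c (diag S (R (src (rep K)))) + M from rfl,
          Nat.cast_add]
        rwa [show ((mark c (diag S (R (src (rep K)))) : ℤ) + M - mark c (rep K)) =
          (M : ℤ) - ((mark c (rep K) : ℤ) - mark c (diag S (R (src (rep K))))) by omega]
      rw [hsum, hfix, show extra (rep K) = _ from if_pos hD, Nat.div_mul_cancel hdvd, ← htar,
        ← hmk, Nat.add_sub_cancel' hle]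
    intro K K' hK hK' hKn hc
    have hcard : Nat.card K' = Nat.card K := by
      rw [← hK.card_src, ← hK'.card_src, card_eq_of_isConj hc]
    rw [hadd, hadd]
    rcases hKn.eq_or_lt with hKe | hlt
    · rw [hsmall K hK hKe.symm, hsmall K' hK' (hcard.trans hKe.symm)]
      simp only [target, hRc _ _ hc]
    · rw [hbig K hlt, hbig K' (hcard ▸ hlt), h.eq K K' hK hK' hlt hc]
  · have hk : kOf (fun D => c D + extra D) = kOf c + kOf extra := by
      simp only [kOf, add_mul, Finset.sum_add_distrib]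
    have hp : p ∣ kOf extra := by
      refine Finset.dvd_sum fun D _ => ?_
      rcases eq_or_ne (extra D) 0 with h0 | h0
      · simp [h0]
      · obtain ⟨h1, h2, -⟩ := hextra D h0
        exact Dvd.dvd.mul_left
          (dvd_index_of_card_lt hS (src_le_top D) (by rw [h1.card_src, h2]; exact hn)) _
    rw [hk]
    exact ⟨fun hh => (Nat.dvd_add_left hp).1 hh, fun hh => (Nat.dvd_add_left hp).2 hh⟩

/-- The graph of an automorphism of `S`. -/
def graph (α : MulAut ↥S) : Subgroup (↥S × ↥S) :=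
  ((MonoidHom.id ↥S).prod α.toMonoidHom).range

theorem mem_graph {α : MulAut ↥S} {k : ↥S × ↥S} : k ∈ graph α ↔ α k.1 = k.2 := by
  constructor
  · rintro ⟨x, rfl⟩
    rfl
  · intro h
    exact ⟨k.1, Prod.ext rfl h⟩

theorem src_graph (α : MulAut ↥S) : src (graph α) = S := by
  refine le_antisymm (src_le_top _) fun x hx => ?_
  exact ⟨(⟨x, hx⟩, α ⟨x, hx⟩), mem_graph.2 rfl, rfl⟩

theorem isTw_graph [Finite S] {α : MulAut ↥S} (h : α ∈ F.autGroup S) : IsTw F (graph α) := by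
  refine ⟨res (S.subtype.comp α.toMonoidHom) (src_le_top _),
    res_mem F (hom_of_aut_mem F le_rfl h) _, fun k hk => ?_⟩
  exact congrArg Subtype.val (mem_graph.1 hk)

theorem exists_graph [Finite S] {K : Subgroup (↥S × ↥S)} (hK : IsTw F K)
    (hn : Nat.card S ≤ Nat.card K) : ∃ α ∈ F.autGroup S, K = graph α := by
  have hs : src K = S := eq_of_le_card le_rfl (src_le_top K) (hK.card_src ▸ hn)
  obtain ⟨φ, hφ, hk⟩ := hK
  have hS' : res φ hs.ge ∈ F.Hom S := res_mem F hφ _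
  refine ⟨_, toAut_mem F hS' (F.le_of_mem hS').2, ?_⟩
  ext k
  rw [mem_graph]
  constructor
  · intro hkK
    refine Subtype.ext ?_
    rw [toAut_coe, res_apply]
    exact hk k hkK
  · intro h
    obtain ⟨k', hk', he⟩ : (k.1 : Ω) ∈ src K := hs.symm ▸ k.1.2
    have h1 : k'.1 = k.1 := Subtype.ext he
    have h2 : k'.2 = k.2 := by
      refine Subtype.ext ?_
      rw [← h, toAut_coe, res_apply, ← hk k' hk']
      exact congrArg φ (Subtype.ext he)
    rwa [← Prod.ext h1 h2]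

theorem fixCard_graph [Finite S] (α : MulAut ↥S) :
    fixCard (graph α) ((↥S × ↥S) ⧸ graph α) =
      fixCard (graph (1 : MulAut ↥S)) ((↥S × ↥S) ⧸ graph (1 : MulAut ↥S)) := by
  let e : ↥S × ↥S ≃* ↥S × ↥S := MulEquiv.prodCongr α (MulEquiv.refl _)
  have he : (graph α).map e.toMonoidHom = graph 1 := by
    ext k
    constructor
    · rintro ⟨k', hk', rfl⟩
      exact mem_graph.2 ((mem_graph (α := α)).1 hk')
    · intro hk
      refine ⟨(α⁻¹ k.1, k.2), mem_graph.2 ?_, Prod.ext (α.apply_symm_apply k.1) rfl⟩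
      exact (α.apply_symm_apply k.1).trans (mem_graph.1 hk)
  rw [fixCard_self, fixCard_self, ← he]
  have hn := Subgroup.map_equiv_normalizer_eq (graph α) e
  exact ((congrArg (fun X => Subgroup.relIndex ((graph α).map e.toMonoidHom) X) hn.symm).trans
    (Subgroup.relIndex_map_map_of_injective _ _ e.injective)).symm

theorem exists_top {p : ℕ} [Fact p.Prime] [Finite S] (hF : F.IsSaturated p) :
    ∃ c, Stable F (Nat.card S) c ∧ ¬ p ∣ kOf c := by
  classical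
  let A := F.autGroup S
  let I : Subgroup ↥A := (autInducedBy S S).subgroupOf A
  obtain ⟨T, hT⟩ : ∃ T : Sylow p ↥A, (T : Subgroup ↥A) = I := (top_fullyAutomized hF).1.2
  haveI : Fintype (↥A ⧸ I) := Fintype.ofFinite _
  let c : Subgroup (↥S × ↥S) → ℕ := fun D =>
    (Finset.univ.filter fun q : ↥A ⧸ I => graph (q.out : MulAut ↥S) = D).card
  have hc : ∀ D, c D ≠ 0 → ∃ q : ↥A ⧸ I, graph (q.out : MulAut ↥S) = D := fun D hD => by
    obtain ⟨q, hq⟩ := Finset.card_pos.1 (Nat.pos_of_ne_zero hD)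
    exact ⟨q, (Finset.mem_filter.1 hq).2⟩
  refine ⟨c, ⟨fun D hD => ?_, ?_⟩, ?_⟩
  · obtain ⟨q, rfl⟩ := hc D hD
    have h := isTw_graph (q.out).2
    exact ⟨h, by rw [← h.card_src, src_graph]⟩
  · have key : ∀ K, IsTw F K → Nat.card S ≤ Nat.card K → mark c K =
        fixCard (graph (1 : MulAut ↥S)) ((↥S × ↥S) ⧸ graph (1 : MulAut ↥S)) := by
      intro K hK hn
      obtain ⟨β, hβ, rfl⟩ := exists_graph hK hn
      have e : mark c (graph β) =
          ∑ q : ↥A ⧸ I, fixCard (graph β) ((↥S × ↥S) ⧸ graph (q.out : MulAut ↥S)) := by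
        rw [mark, ← Finset.sum_fiberwise Finset.univ fun q : ↥A ⧸ I => graph (q.out : MulAut ↥S)]
        refine Finset.sum_congr rfl fun D _ => ?_
        rw [Finset.sum_congr rfl (fun q hq => by rw [(Finset.mem_filter.1 hq).2]),
          Finset.sum_const, smul_eq_mul]
      let b : ↥A := ⟨β, hβ⟩
      rw [e, Finset.sum_eq_single_of_mem (QuotientGroup.mk b) (Finset.mem_univ _)]
      · obtain ⟨⟨i, hi⟩, hiI⟩ := QuotientGroup.mk_out_eq_mul I b
        rw [hiI]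
        obtain ⟨a, ha, hia⟩ := (mem_autInducedBy_iff (le_refl S)).1
          (Subgroup.mem_subgroupOf.1 hi)
        let g : ↥S × ↥S := (⟨a⁻¹, S.inv_mem ha⟩, 1)
        have hg : (graph β).map (MulAut.conj g).toMonoidHom = graph ((b * i : ↥A) : MulAut ↥S) := by
          have hix : ∀ x : ↥S, (i : MulAut ↥S) x = ⟨a, ha⟩ * x * ⟨a, ha⟩⁻¹ := fun x =>
            Subtype.ext (hia x)
          ext k
          constructor
          · rintro ⟨k', hk', rfl⟩
            refine mem_graph.2 ?_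
            show β ((i : MulAut ↥S) (⟨a⁻¹, _⟩ * k'.1 * ⟨a⁻¹, _⟩⁻¹)) = 1 * k'.2 * 1⁻¹
            rw [hix, one_mul, inv_one, mul_one, ← mem_graph.1 hk']
            congr 1
            exact Subtype.ext (by simp [mul_assoc])
          · intro hk
            refine ⟨((i : MulAut ↥S) k.1, k.2), mem_graph.2 ((mem_graph (α := ((b * i : ↥A) : MulAut ↥S))).1 hk), ?_⟩
            rw [hix]
            exact Prod.ext (Subtype.ext (by simp [g, mul_assoc])) (by simp [g])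
        rw [← fixCard_conj g, hg, fixCard_graph]
      · intro q _ hq
        by_contra hne
        obtain ⟨g, hg⟩ := exists_conj_of_fixCard_ne hne
        refine hq ?_
        rw [← q.out_eq', QuotientGroup.eq, Subgroup.mem_subgroupOf]
        refine (mem_autInducedBy_iff le_rfl).2 ?_
        -- `β x = g₂⁻¹ α (g₁ x g₁⁻¹) g₂`
        set α : MulAut ↥S := (q.out : MulAut ↥S) with hα
        have hx : ∀ x : ↥S, α (g.1 * x * g.1⁻¹) = g.2 * β x * g.2⁻¹ := fun x =>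
          mem_graph.1 (hg ⟨(x, β x), mem_graph.2 rfl, rfl⟩)
        refine ⟨((α⁻¹ g.2)⁻¹ * g.1 : ↥S), Subtype.coe_prop _, fun x => ?_⟩
        have h1 : β x = g.2⁻¹ * α (g.1 * x * g.1⁻¹) * g.2 := by rw [hx]; group
        have h2 : α⁻¹ (β x) = (α⁻¹ g.2)⁻¹ * (g.1 * x * g.1⁻¹) * α⁻¹ g.2 := by
          rw [h1, map_mul, map_mul, map_inv,
            show α⁻¹ (α (g.1 * x * g.1⁻¹)) = g.1 * x * g.1⁻¹ from α.symm_apply_apply _]
        show ((α⁻¹ (β x) : ↥S) : Ω) = _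
        rw [h2]
        simp [mul_assoc]
    intro K K' hK hK' hn hc'
    have hcard : Nat.card K' = Nat.card K := by
      rw [← hK.card_src, ← hK'.card_src, card_eq_of_isConj hc']
    rw [key K hK hn, key K' hK' (hcard ▸ hn)]
  · have hk : kOf c = I.index := by
      rw [kOf, Subgroup.index_eq_card, Nat.card_eq_fintype_card, ← Finset.card_univ,
        Finset.card_eq_sum_card_fiberwise (f := fun q : ↥A ⧸ I => graph (q.out : MulAut ↥S))
          (t := Finset.univ) (fun _ _ => Finset.mem_univ _)]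
      refine Finset.sum_congr rfl fun D _ => ?_
      rcases eq_or_ne (c D) 0 with h0 | h0
      · simp only [c] at h0 ⊢
        rw [h0, zero_mul]
      · obtain ⟨q, hq⟩ := hc D h0
        rw [← hq, src_graph, Subgroup.subgroupOf_self, Subgroup.index_top, mul_one]
    rw [hk, ← hT]
    exact T.not_dvd_index

theorem exists_stable {p : ℕ} [Fact p.Prime] [Finite S] (hS : IsPGroup p S)
    (hF : F.IsSaturated p) : ∃ c, Stable F 1 c ∧ ¬ p ∣ kOf c := by
  have hcard : 0 < Nat.card S := Nat.card_pos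
  suffices H : ∀ j, j < Nat.card S → ∃ c, Stable F (Nat.card S - j) c ∧ ¬ p ∣ kOf c by
    have h := H (Nat.card S - 1) (by omega)
    rwa [show Nat.card S - (Nat.card S - 1) = 1 by omega] at h
  intro j
  induction j with
  | zero => exact fun _ => exists_top hF
  | succ j ih =>
    intro hj
    obtain ⟨c, hc, hk⟩ := ih (by omega)
    rw [show Nat.card S - j = (Nat.card S - (j + 1)) + 1 by omega] at hc
    obtain ⟨c', hc', hiff⟩ := exists_step hS hF (by omega) hc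
    exact ⟨c', hc', fun h => hk (hiff.1 h)⟩

theorem fixCard_compHom {H G X : Type*} [Group H] [Group G] [inst : MulAction G X] (f : H →* G)
    (K : Subgroup H) : @fixCard _ _ K X (MulAction.compHom X f) = fixCard (K.map f) X :=
  Nat.card_congr (Equiv.subtypeEquivRight fun x =>
    ⟨fun h g ⟨k, hk, e⟩ => e ▸ h k hk, fun h k hk => h _ ⟨k, hk, rfl⟩⟩)

/-- The disjoint union of the transitive biset actions with stabilisers `D i`. -/
abbrev BiSet {ι : Type u} (D : ι → Subgroup (↥S × ↥S)) : Type u := Σ i, (↥S × ↥S) ⧸ D i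

/-- A saturated fusion system has an `F`-stable family of twisted diagonals of `p'`-degree. -/
theorem exists_biset {p : ℕ} [Fact p.Prime] [Finite S] (hS : IsPGroup p S)
    (hF : F.IsSaturated p) :
    ∃ (ι : Type u) (_ : Fintype ι) (D : ι → Subgroup (↥S × ↥S)),
      (∀ i, IsTw F (D i)) ∧ ¬ p ∣ ∑ i, ((src (D i)).subgroupOf S).index ∧
      ∀ (R : Subgroup Ω) (hR : R ≤ S) (ψ : ↥R →* Ω) (hψ : ψ ∈ F.Hom R),
        ∃ θ : BiSet D ≃ BiSet D, ∀ (u : ↥R) (s : ↥S) (x : BiSet D),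
          θ (((⟨u, hR u.2⟩ : ↥S), s) • x) = ((⟨ψ u, (F.le_of_mem hψ).2 u⟩ : ↥S), s) • θ x := by
  obtain ⟨c, hc, hk⟩ := exists_stable hS hF
  refine ⟨Σ D : Subgroup (↥S × ↥S), Fin (c D), inferInstance, fun i => i.1, fun i => ?_, ?_, ?_⟩
  · exact (hc.supp i.1 (Nat.pos_iff_ne_zero.1 (Fin.pos i.2))).1
  · have e : ∑ i : (Σ D : Subgroup (↥S × ↥S), Fin (c D)), ((src i.1).subgroupOf S).index =
        kOf c := by
      rw [Fintype.sum_sigma]
      exact Finset.sum_congr rfl fun D _ => by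
        show ∑ _y : Fin (c D), ((src D).subgroupOf S).index = _
        rw [Finset.sum_const, Finset.card_univ, Fintype.card_fin, smul_eq_mul]
    rwa [e]
  · intro R hR ψ hψ
    haveI := finite_le hR
    let f₁ : ↥R × ↥S →* ↥S × ↥S := MonoidHom.prodMap (Subgroup.inclusion hR) (MonoidHom.id _)
    let f₂ : ↥R × ↥S →* ↥S × ↥S :=
      MonoidHom.prodMap (ψ.codRestrict S (F.le_of_mem hψ).2) (MonoidHom.id _)
    obtain ⟨θ, hθ⟩ := @exists_equiv_of_fixCard _ _ (OrbSet c) (OrbSet c)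
      (MulAction.compHom _ f₁) (MulAction.compHom _ f₂) _ _ _ (fun K => by
        rw [fixCard_compHom, fixCard_compHom, fixCard_orbSet, fixCard_orbSet]
        have hrel : ∀ k : ↥R × ↥S, Rel ψ S.subtype (f₁ k) (f₂ k) := fun k =>
          ⟨⟨k.1.2, rfl⟩, k.2.2, rfl⟩
        refine hc.mark_rel hψ (subtype_mem F le_rfl) ?_ ?_ Nat.card_pos
        · rintro _ ⟨k, hk, rfl⟩
          exact ⟨_, ⟨k, hk, rfl⟩, hrel k⟩
        · rintro _ ⟨k, hk, rfl⟩
          exact ⟨_, ⟨k, hk, rfl⟩, hrel k⟩)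
    exact ⟨θ, fun u s x => hθ (u, s) x⟩

end Cfsg.Agent.H90
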