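import Cfsg.Agent.H90.Basic

/-!
Normal subgroups of saturated fusion systems: nilpotency from automizers, and the criterion by
strongly closed subgroups with a weakly closed central series.
-/

set_option autoImplicit false

namespace Cfsg.Agent.H90

open Cfsg Cfsg.FusionSystem
open scoped commutatorElement

variable {Ω : Type*} [Group Ω] {S : Subgroup Ω}

theorem fix_of_fix_diff {P : Type*} [Group P] [Finite P] {p : ℕ} [Fact p.Prime]
    (hP : IsPGroup p P) (β : MulAut P) (hm : (orderOf β).Coprime p) (x : P)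
    (h : β (x⁻¹ * β x) = x⁻¹ * β x) : β x = x := by
  set c := x⁻¹ * β x with hc
  have hx : β x = x * c := by simp [hc]
  have key : ∀ n : ℕ, (β ^ n) x = x * c ^ n := by
    intro n
    induction n with
    | zero => simp
    | succ n ih =>
      rw [pow_succ', pow_succ']
      show β ((β ^ n) x) = _
      rw [ih, map_mul, map_pow, h, hx, mul_assoc]
  have h1 := key (orderOf β)
  rw [pow_orderOf_eq_one] at h1
  have hd : orderOf c ∣ orderOf β := orderOf_dvd_of_pow_eq_one (mul_left_cancel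
    (h1.symm.trans (mul_one x).symm))
  obtain ⟨k, hk⟩ := hP c
  have hd2 : orderOf c ∣ p ^ k := orderOf_dvd_of_pow_eq_one hk
  have : orderOf c = 1 := Nat.eq_one_of_dvd_coprimes (hm.pow_right k) hd hd2
  rw [hx, orderOf_eq_one_iff.1 this, mul_one]

theorem isPGroup_of_coprime_eq_one {G : Type*} [Group G] [Finite G] {p : ℕ} [hp : Fact p.Prime]
    (h : ∀ g : G, (orderOf g).Coprime p → g = 1) : IsPGroup p G := by
  intro g
  obtain ⟨k, m, hm, he⟩ := Nat.exists_eq_pow_mul_and_not_dvd (orderOf_pos g).ne' p hp.out.ne_one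
  refine ⟨k, h _ ?_⟩
  rw [orderOf_pow_of_dvd (pow_ne_zero _ hp.out.ne_zero) (he ▸ dvd_mul_right _ _), he,
    Nat.mul_div_cancel_left _ (pow_pos hp.out.pos _)]
  exact Nat.Coprime.symm ((Nat.Prime.coprime_iff_not_dvd hp.out).2 hm)

theorem mem_of_mem_sup {P Q X Y : Subgroup Ω} (ψ : ↥X →* Ω) (hP : P ≤ X) (hQ : Q ≤ X)
    (h1 : ∀ x (hx : x ∈ P), ψ ⟨x, hP hx⟩ ∈ Y) (h2 : ∀ x (hx : x ∈ Q), ψ ⟨x, hQ hx⟩ ∈ Y)
    (x : ↥X) (hx : (x : Ω) ∈ P ⊔ Q) : ψ x ∈ Y := by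
  have : P ⊔ Q ≤ (Y.comap ψ).map X.subtype :=
    sup_le (fun y hy => ⟨⟨y, hP hy⟩, h1 y hy, rfl⟩) fun y hy => ⟨⟨y, hQ hy⟩, h2 y hy, rfl⟩
  obtain ⟨y, hy, he⟩ := this hx
  rwa [← Subtype.ext he]

/-! ### Systems with `p`-group automizers are inner -/

theorem inner_isStable (F : FusionSystem S) :
    IsStable F fun P φ => ∃ g ∈ S, ∀ x : ↥P, φ x = g * (x : Ω) * g⁻¹ where
  res := by
    rintro P R φ - ⟨g, hg, h⟩ hR
    exact ⟨g, hg, fun x => h ⟨x, hR x.2⟩⟩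
  comp := by
    rintro P Q φ ψ - - hv ⟨a, ha, h1⟩ ⟨b, hb, h2⟩
    refine ⟨b * a, S.mul_mem hb ha, fun x => ?_⟩
    rw [comp₂_apply, h2]
    show b * φ x * b⁻¹ = _
    rw [h1]
    simp [mul_assoc]
  inv := by
    rintro P R φ ψ - - hr hi ⟨g, hg, h⟩
    refine ⟨g⁻¹, S.inv_mem hg, fun y => ?_⟩
    obtain ⟨x, hx⟩ : (y : Ω) ∈ φ.range := hr ▸ y.2
    have hxR : φ x ∈ R := hr ▸ ⟨x, rfl⟩
    rw [show y = ⟨φ x, hxR⟩ from Subtype.ext hx.symm, hi]
    show (x : Ω) = g⁻¹ * φ x * g⁻¹⁻¹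
    rw [h]
    simp [mul_assoc]

/-- A saturated system in which every automizer is a `p`-group is the inner one. -/
theorem eq_inner_of_autGroup_isPGroup {p : ℕ} [Fact p.Prime] (hS : IsPGroup p S) [Finite S]
    {F : FusionSystem S} (hF : F.IsSaturated p)
    (h : ∀ R : Subgroup Ω, R ≤ S → IsPGroup p ↥(F.autGroup R)) (P : Subgroup Ω) :
    F.Hom P = (innerFusionSystem S).Hom P := by
  refine Set.Subset.antisymm ?_ ?_
  · intro φ hφ
    refine ⟨src_le F hφ, induction hS hF _ (inner_isStable F) ?_ P φ hφ⟩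
    intro R hRS hA _ _ α hα
    obtain ⟨T, hT⟩ := hA.2
    have htop : IsPGroup p (⊤ : Subgroup ↥(F.autGroup R)) :=
      (h R hRS).to_subgroup _
    have hTt := T.is_maximal' htop le_top
    have : (⟨α, hα⟩ : ↥(F.autGroup R)) ∈ (T : Subgroup _) := by rw [← hTt]; trivial
    rw [hT] at this
    obtain ⟨g, hg, hgx⟩ := (mem_autInducedBy_iff hRS).1 (Subgroup.mem_subgroupOf.1 this)
    exact ⟨g, hg, hgx⟩
  · rintro φ ⟨hP, g, hg, h⟩
    exact mem_of_agree F (F.conj_mem hP hg) h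

theorem inner_autGroup_isPGroup {p : ℕ} (hS : IsPGroup p S) [Finite S] {R : Subgroup Ω}
    (hR : R ≤ S) : IsPGroup p ↥((innerFusionSystem S).autGroup R) := by
  refine (autInducedBy_isPGroup hS hR).to_le fun α hα => ?_
  obtain ⟨-, g, hg, h⟩ := hom_of_aut_mem (innerFusionSystem S) hR hα
  exact (mem_autInducedBy_iff hR).2 ⟨g, hg, h⟩

/-! ### Extensions stabilizing a subgroup -/

/-- `φ` extends to a map on `⟨P, Q⟩` carrying `Q` into itself. -/
def NormExt (F : FusionSystem S) (Q P : Subgroup Ω) (φ : ↥P →* Ω) : Prop :=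
  ∃ ψ ∈ F.Hom (P ⊔ Q), (∀ x : ↥P, ψ (Subgroup.inclusion le_sup_left x) = φ x) ∧
    ∀ x : ↥Q, ψ (Subgroup.inclusion le_sup_right x) ∈ Q

theorem map_eq_of_mem [Finite S] {F : FusionSystem S} {X Q : Subgroup Ω} (hQS : Q ≤ S)
    {ψ : ↥X →* Ω} (hψ : ψ ∈ F.Hom X) (hQX : Q ≤ X)
    (h : ∀ x (hx : x ∈ Q), ψ ⟨x, hQX hx⟩ ∈ Q) : (res ψ hQX).range = Q :=
  eq_of_le_card hQS (by rintro _ ⟨x, rfl⟩; exact h x x.2) (card_range_eq F (res_mem F hψ hQX)).ge

theorem isNormal_iff_normExt [Finite S] (F : FusionSystem S) {Q : Subgroup Ω} :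
    F.IsNormal Q ↔ Q ≤ S ∧ ∀ (P : Subgroup Ω) (φ : ↥P →* Ω), φ ∈ F.Hom P → NormExt F Q P φ := by
  refine ⟨fun h => ⟨h.1, fun P φ hφ => ?_⟩, fun h => ⟨h.1, fun P φ hφ => ?_⟩⟩
  · obtain ⟨ψ, hψ, he, hm⟩ := h.2 P φ hφ
    exact ⟨ψ, hψ, he, fun x => hm.le ⟨_, Subgroup.mem_subgroupOf.2 x.2, rfl⟩⟩
  · obtain ⟨ψ, hψ, he, hm⟩ := h.2 P φ hφ
    refine ⟨ψ, hψ, he, le_antisymm ?_ ?_⟩
    · rintro _ ⟨x, hx, rfl⟩
      exact hm ⟨x, Subgroup.mem_subgroupOf.1 hx⟩
    · intro x hx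
      obtain ⟨y, hy⟩ : x ∈ (res ψ (le_sup_right : Q ≤ P ⊔ Q)).range :=
        (map_eq_of_mem h.1 hψ le_sup_right fun z hz => hm ⟨z, hz⟩).ge hx
      exact ⟨_, Subgroup.mem_subgroupOf.2 y.2, hy⟩

theorem normExt_isStable [Finite S] (F : FusionSystem S) {Q : Subgroup Ω} (hQS : Q ≤ S) :
    IsStable F fun P φ => NormExt F Q P φ where
  res := by
    rintro P R φ - ⟨ψ, hψ, he, hm⟩ hR
    exact ⟨res ψ (sup_le_sup_right hR Q), res_mem F hψ _, fun x => he ⟨x, hR x.2⟩, hm⟩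
  comp := by
    rintro P R φ χ - - hv ⟨ψ₁, hψ₁, he₁, hm₁⟩ ⟨ψ₂, hψ₂, he₂, hm₂⟩
    have hv' : ∀ x, ψ₁ x ∈ R ⊔ Q := fun x => mem_of_mem_sup ψ₁ le_sup_left le_sup_right
      (fun y hy => by
        rw [show ψ₁ ⟨y, _⟩ = φ ⟨y, hy⟩ from he₁ ⟨y, hy⟩]
        exact Subgroup.mem_sup_left (hv ⟨y, hy⟩))
      (fun y hy => Subgroup.mem_sup_right (hm₁ ⟨y, hy⟩)) x x.2
    refine ⟨comp₂ ψ₂ ψ₁ hv', comp₂_mem F hψ₁ hψ₂ hv', fun x => ?_, fun x => ?_⟩
    · rw [comp₂_apply, comp₂_apply, ← he₂ ⟨φ x, hv x⟩]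
      exact congrArg ψ₂ (Subtype.ext (he₁ x))
    · have := hm₂ ⟨_, hm₁ x⟩
      rw [comp₂_apply]
      exact this
  inv := by
    rintro P R φ χ - - hr hi ⟨ψ, hψ, he, hm⟩
    obtain ⟨ψ', hψ', hr', hl, -⟩ := exists_iso_inv F hψ rfl
    have hQ : ∀ x ∈ Q, ∃ y : ↥Q, ψ (Subgroup.inclusion le_sup_right y) = x := fun x hx => by
      obtain ⟨y, hy⟩ : x ∈ (res ψ (le_sup_right : Q ≤ P ⊔ Q)).range :=
        (map_eq_of_mem hQS hψ le_sup_right fun z hz => hm ⟨z, hz⟩).ge hx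
      exact ⟨y, hy⟩
    have hle : R ⊔ Q ≤ ψ.range := sup_le (fun y hy => by
        obtain ⟨x, hx⟩ : y ∈ φ.range := hr.ge hy
        exact ⟨_, (he x).trans hx⟩)
      fun x hx => by
        obtain ⟨y, hy⟩ := hQ x hx
        exact ⟨_, hy⟩
    refine ⟨res ψ' hle, res_mem F hψ' hle, fun y => ?_, fun x => ?_⟩
    · obtain ⟨x, hx⟩ : (y : Ω) ∈ φ.range := hr.ge y.2
      have hxR : φ x ∈ R := hr ▸ ⟨x, rfl⟩
      rw [show χ y = χ ⟨φ x, hxR⟩ from congrArg χ (Subtype.ext hx.symm), hi]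
      refine Eq.trans (congrArg ψ' (Subtype.ext ?_)) (hl (Subgroup.inclusion le_sup_left x) ⟨_, rfl⟩)
      exact ((he x).trans hx).symm
    · obtain ⟨y, hy⟩ := hQ x x.2
      have hl' := hl (Subgroup.inclusion le_sup_right y) ⟨_, rfl⟩
      show ψ' ⟨(x : Ω), _⟩ ∈ Q
      rw [show (⟨(x : Ω), hle (Subgroup.inclusion le_sup_right x).2⟩ : ↥ψ.range) =
        ⟨_, ⟨_, rfl⟩⟩ from Subtype.ext hy.symm]
      exact hl'.symm ▸ y.2

theorem normExt_conj [Finite S] (F : FusionSystem S) {Q P : Subgroup Ω} (hP : P ≤ S) (hQS : Q ≤ S)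
    (hQn : ∀ g ∈ S, ∀ x ∈ Q, g * x * g⁻¹ ∈ Q) {g : Ω} (hg : g ∈ S) {φ : ↥P →* Ω}
    (h : ∀ x : ↥P, φ x = g * (x : Ω) * g⁻¹) : NormExt F Q P φ :=
  ⟨conjHom _ g, F.conj_mem (sup_le hP hQS) hg, fun x => (h x).symm, fun x => hQn g hg x x.2⟩

theorem normal_in_top_of_stronglyClosed (F : FusionSystem S) {Q : Subgroup Ω}
    (h : F.StronglyClosed Q) (g : Ω) (hg : g ∈ S) (x : Ω) (hx : x ∈ Q) : g * x * g⁻¹ ∈ Q :=
  h.2 Q le_rfl _ (F.conj_mem h.1 hg) ⟨x, hx⟩

theorem stronglyClosed_of_isNormal [Finite S] (F : FusionSystem S) {Q : Subgroup Ω}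
    (h : F.IsNormal Q) : F.StronglyClosed Q := by
  refine ⟨h.1, fun R hR φ hφ x => ?_⟩
  obtain ⟨ψ, -, he, hm⟩ := ((isNormal_iff_normExt F).1 h).2 R φ hφ
  rw [← he x]
  exact hm ⟨x, hR x.2⟩

theorem aut_mem_of_stronglyClosed [Finite S] (F : FusionSystem S) {Q R : Subgroup Ω}
    (h : F.StronglyClosed Q) (hR : R ≤ S) {α : MulAut ↥R} (hα : α ∈ F.autGroup R) (x : ↥R)
    (hx : (x : Ω) ∈ Q) : ((α x : ↥R) : Ω) ∈ Q :=
  h.2 (R ⊓ Q) inf_le_right _ (res_mem F (hom_of_aut_mem F hR hα) inf_le_left) ⟨x, x.2, hx⟩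

/-! ### The group stabilizing a chain -/

theorem mul_diff {P : Type*} [Group P] (α β : MulAut P) (x : P) :
    x⁻¹ * (α * β) x = (x⁻¹ * β x) * ((β x)⁻¹ * α (β x)) := by
  show x⁻¹ * α (β x) = _
  group

/-- The automorphisms in `F.autGroup R` acting trivially on the factors of an invariant chain. -/
def chainStab [Finite S] (F : FusionSystem S) (R : Subgroup Ω) (c : ℕ → Subgroup Ω)
    (_hmono : Monotone c)
    (hinv : ∀ α ∈ F.autGroup R, ∀ (k : ℕ) (x : ↥R), (x : Ω) ∈ c k → ((α x : ↥R) : Ω) ∈ c k) :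
    Subgroup ↥(F.autGroup R) where
  carrier := {α | ∀ (k : ℕ) (x : ↥R), (x : Ω) ∈ c (k + 1) →
    (x : Ω)⁻¹ * (((α : MulAut ↥R) x : ↥R) : Ω) ∈ c k}
  one_mem' k x _ := by simp
  mul_mem' := by
    intro α β ha hb k x hx
    have h2 := congrArg (Subtype.val (p := (· ∈ R))) (mul_diff (α : MulAut ↥R) (β : MulAut ↥R) x)
    refine Eq.mpr (congrArg (· ∈ c k) h2) ?_
    exact (c k).mul_mem (hb k x hx) (ha k _ (hinv _ β.2 (k + 1) x hx))
  inv_mem' := by
    intro α ha k x hx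
    have hy : ((((α : MulAut ↥R)⁻¹) x : ↥R) : Ω) ∈ c (k + 1) :=
      hinv _ ((F.autGroup R).inv_mem α.2) (k + 1) x hx
    have := (c k).inv_mem (ha k _ hy)
    rw [show (α : MulAut ↥R) ((α : MulAut ↥R)⁻¹ x) = x from
      (α : MulAut ↥R).apply_symm_apply x] at this
    simpa using this

theorem chainStab_normal [Finite S] (F : FusionSystem S) (R : Subgroup Ω) (c : ℕ → Subgroup Ω)
    (hmono : Monotone c)
    (hinv : ∀ α ∈ F.autGroup R, ∀ (k : ℕ) (x : ↥R), (x : Ω) ∈ c k → ((α x : ↥R) : Ω) ∈ c k) :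
    (chainStab F R c hmono hinv).Normal where
  conj_mem := by
    intro α ha γ k x hx
    let y : ↥R := (γ : MulAut ↥R)⁻¹ x
    have hy : (y : Ω) ∈ c (k + 1) := hinv _ ((F.autGroup R).inv_mem γ.2) (k + 1) x hx
    have h := hinv _ γ.2 k (y⁻¹ * (α : MulAut ↥R) y) (ha k y hy)
    rw [map_mul, map_inv, show (γ : MulAut ↥R) y = x from (γ : MulAut ↥R).apply_symm_apply x] at h
    exact h

theorem chainStab_isPGroup {p : ℕ} [Fact p.Prime] (hS : IsPGroup p S) [Finite S]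
    (F : FusionSystem S) (R : Subgroup Ω) (hR : R ≤ S) (c : ℕ → Subgroup Ω)
    (hmono : Monotone c)
    (hinv : ∀ α ∈ F.autGroup R, ∀ (k : ℕ) (x : ↥R), (x : Ω) ∈ c k → ((α x : ↥R) : Ω) ∈ c k)
    (h0 : c 0 = ⊥) {N : ℕ} (hN : R ≤ c N) :
    IsPGroup p (chainStab F R c hmono hinv) := by
  have := finite_le hR
  refine isPGroup_of_coprime_eq_one fun α hα => Subtype.ext (Subtype.ext (MulEquiv.ext fun x => ?_))
  suffices H : ∀ (k : ℕ) (y : ↥R), (y : Ω) ∈ c k →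
      ((α : ↥(F.autGroup R)) : MulAut ↥R) y = y from H N x (hN x.2)
  intro k
  induction k with
  | zero =>
    intro y hy
    rw [h0, Subgroup.mem_bot] at hy
    rw [show y = 1 from Subtype.ext hy, map_one]
  | succ k ih =>
    intro y hy
    refine fix_of_fix_diff (hS.to_le hR) _ ?_ y (ih _ (α.2 k y hy))
    rwa [Subgroup.orderOf_coe, Subgroup.orderOf_coe]

theorem exists_mem_normalizer {p : ℕ} [Fact p.Prime] (hS : IsPGroup p S) [Finite S]
    {R A : Subgroup Ω} (hR : R ≤ S) (hA : A ≤ S) (hn : R ≤ Subgroup.normalizer (A : Set Ω))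
    (hAR : ¬ A ≤ R) : ∃ g ∈ A, g ∉ R ∧ g ∈ Subgroup.normalizer (R : Set Ω) := by
  have hXS : R ⊔ A ≤ S := sup_le hR hA
  have := finite_le hXS
  have hlt : R < R ⊔ A :=
    le_sup_left.lt_of_ne fun h => hAR (le_sup_right.trans h.ge)
  obtain ⟨g, hg, hgR⟩ := SetLike.exists_of_lt (lt_normalizerIn (hS.to_le hXS) hlt)
  have hgX : g ∈ ((R ⊔ A : Subgroup Ω) : Set Ω) := hg.1
  rw [Subgroup.coe_mul_of_left_le_normalizer_right R A hn] at hgX
  obtain ⟨r, hr, a, ha, rfl⟩ := hgX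
  refine ⟨a, ha, fun h => hgR (R.mul_mem hr h), ?_⟩
  have := (Subgroup.normalizer (R : Set Ω)).mul_mem
    ((Subgroup.normalizer (R : Set Ω)).inv_mem (Subgroup.le_normalizer hr)) hg.2
  simpa using this

/-! ### The criterion -/

/-- A strongly closed subgroup with a central series of weakly closed subgroups is normal. -/
theorem isNormal_of_series {p : ℕ} [Fact p.Prime] (hS : IsPGroup p S) [Finite S]
    {F : FusionSystem S} (hF : F.IsSaturated p) {Q : Subgroup Ω} (hQ : F.StronglyClosed Q)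
    (D : ℕ → Subgroup Ω) (n : ℕ) (h0 : D 0 = ⊥) (hn : D n = Q) (hmono : Monotone D)
    (hcent : ∀ i < n, ⁅D (i + 1), Q⁆ ≤ D i) (hw : ∀ i < n, F.WeaklyClosed (D i)) :
    F.IsNormal Q := by
  classical
  have hQn := normal_in_top_of_stronglyClosed F hQ
  refine (isNormal_iff_normExt F).2 ⟨hQ.1, induction hS hF _ (normExt_isStable F hQ.1) ?_⟩
  intro R hRS hA hR IH α hα
  by_cases hQR : Q ≤ R
  · have hle : R ⊔ Q ≤ R := sup_le le_rfl hQR
    exact ⟨res _ hle, res_mem F (hom_of_aut_mem F hRS hα) hle, fun x => rfl,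
      fun x => aut_mem_of_stronglyClosed F hQ hRS hα ⟨x, hQR x.2⟩ x.2⟩
  have hex : ∃ i, ¬ D (i + 1) ≤ R := by
    cases n with
    | zero => exact absurd (hn ▸ h0 ▸ bot_le) hQR
    | succ m => exact ⟨m, hn ▸ hQR⟩
  obtain ⟨i, hi, hmin⟩ := Nat.findX hex
  have hin : i < n := by
    by_contra hc
    cases n with
    | zero => exact hQR (hn ▸ h0 ▸ bot_le)
    | succ m => exact hmin m (by omega) (hn ▸ hQR)
  have hle : ∀ k ≤ i, D k ≤ R := by
    intro k hk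
    cases k with
    | zero => exact h0 ▸ bot_le
    | succ k => exact not_not.1 (hmin k (by omega))
  have hDQ : ∀ k ≤ n, D k ≤ Q := fun k hk => hn ▸ hmono hk
  let c : ℕ → Subgroup Ω := fun k => if k ≤ i then D k else if k = i + 1 then R ⊓ Q else R
  have hcmono : Monotone c := monotone_nat_of_le_succ fun k => by
    simp only [c]
    split_ifs <;> first
      | (exfalso; omega)
      | exact hmono (Nat.le_succ k)
      | exact le_inf (hle k (by omega)) (hDQ k (by omega))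
      | exact hle k (by omega)
      | exact inf_le_left
      | exact le_rfl
  have hcinv : ∀ β ∈ F.autGroup R, ∀ (k : ℕ) (x : ↥R), (x : Ω) ∈ c k →
      ((β x : ↥R) : Ω) ∈ c k := by
    intro β hβ k x
    simp only [c]
    split_ifs with h1 h2
    · intro hx
      have := (hw k (by omega)).2 _ (res_mem F (hom_of_aut_mem F hRS hβ) (hle k h1))
      rw [← this]
      exact ⟨⟨x, hx⟩, rfl⟩
    · exact fun hx => ⟨(β x).2, aut_mem_of_stronglyClosed F hQ hRS hβ x hx.2⟩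
    · exact fun _ => (β x).2
  let M := chainStab F R c hcmono hcinv
  have hMp : IsPGroup p M := chainStab_isPGroup hS F R hRS c hcmono hcinv
    (by simp [c, h0]) (N := i + 2) (by simp [c])
  obtain ⟨m, β, hm, he, X, hRX, hX, ψ, hψ, hext⟩ :=
    aut_decomp hA hR M (chainStab_normal F R c hcmono hcinv) ⟨α, hα⟩
  -- a new element acting trivially on the chain
  have hiS : D (i + 1) ≤ S := (hDQ _ hin).trans hQ.1
  have hnorm : R ≤ Subgroup.normalizer ((D (i + 1) : Subgroup Ω) : Set Ω) := fun r hr => by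
    have := finite_le hiS
    refine normal_of_conj fun x hx => ?_
    rcases (Nat.succ_le_of_lt hin).eq_or_lt with h | h
    · rw [show D (i + 1) = Q by rw [← hn, ← h]] at hx ⊢
      exact hQn r (hRS hr) x hx
    · exact ((hw _ h).2 _ (F.conj_mem hiS (hRS hr))).le ⟨⟨x, hx⟩, rfl⟩
  obtain ⟨g, hgD, hgR, hgN⟩ := exists_mem_normalizer hS hRS hiS hnorm hi
  have hgQ : g ∈ Q := hDQ _ hin hgD
  have hgM : (⟨_, normAut_mem_aut F hRS (hiS hgD) hgN⟩ : ↥(F.autGroup R)) ∈ M := by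
    intro k x
    show (x : Ω) ∈ c (k + 1) → (x : Ω)⁻¹ * (g * x * g⁻¹) ∈ c k
    have e : (x : Ω)⁻¹ * (g * x * g⁻¹) = ⁅(x : Ω)⁻¹, g⁆ := by
      simp [commutatorElement_def, mul_assoc]
    rw [e]
    simp only [c]
    split_ifs with h1 h2 h3 h4 <;> try (exfalso; omega)
    · intro hx
      exact hcent k (by omega) (Subgroup.commutator_mem_commutator ((D (k + 1)).inv_mem hx) hgQ)
    · intro hx
      have hk : k = i := by omega
      subst hk
      rw [← inv_mem_iff, commutatorElement_inv]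
      exact hcent k hin (Subgroup.commutator_mem_commutator hgD (Q.inv_mem hx.2))
    · intro _
      rw [← e]
      exact ⟨R.mul_mem (R.inv_mem x.2) ((Subgroup.mem_normalizer_iff.1 hgN x).1 x.2),
        by
          have := hQn _ (S.inv_mem (hRS x.2)) g hgQ
          have := Q.mul_mem this (Q.inv_mem hgQ)
          simpa [mul_assoc] using this⟩
    · intro _
      rw [← e]
      exact R.mul_mem (R.inv_mem x.2) ((Subgroup.mem_normalizer_iff.1 hgN x).1 x.2)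
  have hgX : g ∈ X := hX g (hiS hgD) hgN _ hgM
  have hXcard : Nat.card R < Nat.card X :=
    card_lt_of_lt (src_le F hψ) (hRX.lt_of_ne fun h => hgR (h ▸ hgX))
  have hβ : NormExt F Q R (R.subtype.comp (β : MulAut ↥R).toMonoidHom) := by
    have h := (normExt_isStable F hQ.1).res ψ hψ (IH X ψ hψ hXcard) hRX
    rwa [show res ψ hRX = R.subtype.comp (β : MulAut ↥R).toMonoidHom from
      MonoidHom.ext fun x => hext x] at h
  -- the chain stabilizer consists of maps induced by `S`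
  obtain ⟨T, hT⟩ := hA.2
  have := chainStab_normal F R c hcmono hcinv
  have hmT : m ∈ (T : Subgroup ↥(F.autGroup R)) := (IsPGroup.le_sylow_of_normal hMp T) hm
  rw [hT] at hmT
  obtain ⟨a, haS, ha⟩ := (mem_autInducedBy_iff hRS).1 (Subgroup.mem_subgroupOf.1 hmT)
  have hmN : NormExt F Q R (R.subtype.comp (m : MulAut ↥R).toMonoidHom) :=
    normExt_conj F hRS hQ.1 hQn haS ha
  have h := (normExt_isStable F hQ.1).comp _ _ (hom_of_aut_mem F hRS β.2)
    (hom_of_aut_mem F hRS m.2) (fun x => ((β : MulAut ↥R) x).2) hβ hmN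
  have he' : α = (m : MulAut ↥R) * (β : MulAut ↥R) := congrArg Subtype.val he
  rw [he']
  exact h

/-- A subgroup normal in the system has weakly closed lower central terms. -/
theorem weaklyClosed_lowerCentralSeries [Finite S] {F : FusionSystem S} {Q : Subgroup Ω}
    (h : F.IsNormal Q) (k : ℕ) : F.WeaklyClosed (Subgroup.lowerCentralSeries Q k) := by
  have hkQ := Subgroup.lowerCentralSeries_le_self Q k
  refine ⟨hkQ.trans h.1, fun φ hφ => ?_⟩
  obtain ⟨ψ, hψ, he, hm⟩ := ((isNormal_iff_normExt F).1 h).2 _ φ hφ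
  have hQ2 : (res ψ (le_sup_right : Q ≤ Subgroup.lowerCentralSeries Q k ⊔ Q)).range = Q :=
    map_eq_of_mem h.1 hψ le_sup_right fun z hz => hm ⟨z, hz⟩
  have e1 := Subgroup.map_lowerCentralSeries (S := (⊤ : Subgroup ↥Q))
    (res ψ (le_sup_right : Q ≤ Subgroup.lowerCentralSeries Q k ⊔ Q)) k
  rw [← MonoidHom.range_eq_map, hQ2] at e1
  have e2 := Subgroup.top_subtype_lowerCentralSeries Q k
  refine le_antisymm ?_ ?_
  · rintro _ ⟨x, rfl⟩
    obtain ⟨y, hy, hyx⟩ := e2.ge x.2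
    exact e1.le ⟨y, hy, (congrArg ψ (Subtype.ext hyx)).trans (he x)⟩
  · intro z hz
    obtain ⟨y, hy, rfl⟩ := e1.ge hz
    exact ⟨⟨_, e2.le ⟨y, hy, rfl⟩⟩, (he _).symm⟩

theorem series_of_isNormal {p : ℕ} [Fact p.Prime] (hS : IsPGroup p S) [Finite S]
    {F : FusionSystem S} {Q : Subgroup Ω} (h : F.IsNormal Q) :
    ∃ (n : ℕ) (D : ℕ → Subgroup Ω), D 0 = ⊥ ∧ D n = Q ∧ Monotone D ∧
      (∀ i < n, ⁅D (i + 1), Q⁆ ≤ D i) ∧ ∀ i, F.WeaklyClosed (D i) := by
  have := finite_le h.1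
  have : Group.IsNilpotent ↥Q := (hS.to_le h.1).isNilpotent
  obtain ⟨n, hn⟩ := (Subgroup.isNilpotent_iff_lowerCentralSeries Q).1 inferInstance
  refine ⟨n, fun i => Subgroup.lowerCentralSeries Q (n - i), by simpa using hn, by simp, ?_, ?_,
    fun i => weaklyClosed_lowerCentralSeries h _⟩
  · exact fun a b hab => Subgroup.lowerCentralSeries_antitone Q (by omega)
  · intro i hi
    show ⁅Subgroup.lowerCentralSeries Q (n - (i + 1)), Q⁆ ≤ Subgroup.lowerCentralSeries Q (n - i)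
    rw [show n - i = n - (i + 1) + 1 by omega]
    exact le_rfl

end Cfsg.Agent.H90
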