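import Cfsg.Agent.H90.Normal

/-!
Subgroups normal in a weakly normal subsystem and invariant under its automizer.
-/

set_option autoImplicit false

namespace Cfsg.Agent.H90

open Cfsg Cfsg.FusionSystem

variable {Ω : Type*} [Group Ω] {S T : Subgroup Ω}

theorem isNormal_bot [Finite S] (F : FusionSystem S) : F.IsNormal ⊥ := by
  refine (isNormal_iff_normExt F).2 ⟨bot_le, fun P φ hφ => ?_⟩
  have h : P ⊔ ⊥ ≤ P := (sup_bot_eq P).le
  refine ⟨res φ h, res_mem F hφ h, fun x => rfl, fun x => ?_⟩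
  rw [show Subgroup.inclusion (le_sup_right : (⊥ : Subgroup Ω) ≤ P ⊔ ⊥) x = 1 from
    Subtype.ext (Subgroup.mem_bot.1 x.2), map_one]
  exact one_mem _

theorem isNormal_sup [Finite S] (F : FusionSystem S) {A B : Subgroup Ω} (hA : F.IsNormal A)
    (hB : F.IsNormal B) : F.IsNormal (A ⊔ B) := by
  refine (isNormal_iff_normExt F).2 ⟨sup_le hA.1 hB.1, fun P φ hφ => ?_⟩
  obtain ⟨ψ, hψ, he, hm⟩ := ((isNormal_iff_normExt F).1 hA).2 P φ hφ
  obtain ⟨χ, hχ, he', hm'⟩ := ((isNormal_iff_normExt F).1 hB).2 _ ψ hψ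
  have h : P ⊔ (A ⊔ B) ≤ P ⊔ A ⊔ B := (sup_assoc P A B).ge
  refine ⟨res χ h, res_mem F hχ h, fun x => ?_, fun x => ?_⟩
  · exact (he' (Subgroup.inclusion le_sup_left x)).trans (he x)
  · have hh : A ⊔ B ≤ P ⊔ A ⊔ B := le_sup_right.trans h
    exact mem_of_mem_sup χ (le_sup_left.trans hh) (le_sup_right.trans hh)
      (fun y hy => (he' ⟨y, Subgroup.mem_sup_right hy⟩).symm ▸ Subgroup.mem_sup_left (hm ⟨y, hy⟩))
      (fun y hy => Subgroup.mem_sup_right (hm' ⟨y, hy⟩))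
      ⟨(x : Ω), hh x.2⟩ x.2

theorem lowerCentralSeries_mem_of_hom {R : Subgroup Ω} (f : ↥R →* Ω) (hf : ∀ x, f x ∈ R)
    (k : ℕ) (x : ↥R) (hx : (x : Ω) ∈ Subgroup.lowerCentralSeries R k) :
    f x ∈ Subgroup.lowerCentralSeries R k := by
  obtain ⟨y, hy, hyx⟩ := (Subgroup.top_subtype_lowerCentralSeries R k).ge hx
  rw [show x = y from Subtype.ext hyx.symm]
  have : f y ∈ Subgroup.lowerCentralSeries ((⊤ : Subgroup ↥R).map f) k :=
    (Subgroup.map_lowerCentralSeries (⊤ : Subgroup ↥R) f k).le ⟨y, hy, rfl⟩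
  exact Subgroup.lowerCentralSeries_mono k (show (⊤ : Subgroup ↥R).map f ≤ R by
    rintro _ ⟨z, -, rfl⟩; exact hf z) this

theorem autApply_hom [Finite T] (F : FusionSystem S) [Finite S] (hT : T ≤ S) {α : MulAut ↥T}
    (hα : α ∈ F.autGroup T) {P : Subgroup Ω} (hP : P ≤ T) :
    res (T.subtype.comp α.toMonoidHom) hP ∈ F.Hom P :=
  res_mem F (hom_of_aut_mem F hT hα) hP

/-- A subgroup normal in a weakly normal subsystem and invariant under the automizer of its base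
is normal in the whole system. -/
theorem isNormal_of_weaklyNormal {p : ℕ} [Fact p.Prime] (hS : IsPGroup p S) [Finite S]
    {F : FusionSystem S} {E : FusionSystem T} (hE : E.IsWeaklyNormalIn F p) {R : Subgroup Ω}
    (hR : E.IsNormal R)
    (hinv : ∀ α ∈ F.autGroup T, ∀ x : ↥T, (x : Ω) ∈ R → ((α x : ↥T) : Ω) ∈ R) :
    F.IsNormal R := by
  obtain ⟨-, hF, hsub, hTc, -, hfr⟩ := hE
  have hTS : T ≤ S := hTc.1
  have : Finite ↥T := finite_le hTS
  have hRE := stronglyClosed_of_isNormal E hR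
  have hsc : F.StronglyClosed R := by
    refine ⟨hR.1.trans hTS, fun P hP φ hφ x => ?_⟩
    obtain ⟨α, hα, φ₀, hφ₀, he⟩ := hfr P (hP.trans hR.1) φ hφ
    rw [he x ((E.le_of_mem hφ₀).2 x)]
    exact hinv α hα _ (hRE.2 P hP φ₀ hφ₀ x)
  obtain ⟨n, hn⟩ : ∃ n, Subgroup.lowerCentralSeries R n = ⊥ := by
    have := finite_le (hR.1.trans hTS)
    have : Group.IsNilpotent ↥R := (hS.to_le (hR.1.trans hTS)).isNilpotent
    exact (Subgroup.isNilpotent_iff_lowerCentralSeries R).1 inferInstance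
  refine isNormal_of_series hS hF hsc (fun i => Subgroup.lowerCentralSeries R (n - i)) n
    (by simpa using hn) (by simp) ?_ ?_ ?_
  · exact fun a b hab => Subgroup.lowerCentralSeries_antitone R (by omega)
  · intro i hi
    show ⁅Subgroup.lowerCentralSeries R (n - (i + 1)), R⁆ ≤ Subgroup.lowerCentralSeries R (n - i)
    rw [show n - i = n - (i + 1) + 1 by omega]
    exact le_rfl
  · intro i _
    have hL := Subgroup.lowerCentralSeries_le_self R (n - i)
    refine ⟨hL.trans (hR.1.trans hTS), fun φ hφ => ?_⟩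
    obtain ⟨α, hα, φ₀, hφ₀, he⟩ := hfr _ (hL.trans hR.1) φ hφ
    refine eq_of_le_card (hL.trans (hR.1.trans hTS)) ?_ (card_range_eq F hφ).ge
    rintro _ ⟨x, rfl⟩
    rw [he x ((E.le_of_mem hφ₀).2 x)]
    have h0 : φ₀ x ∈ Subgroup.lowerCentralSeries R (n - i) :=
      ((weaklyClosed_lowerCentralSeries hR (n - i)).2 _ hφ₀).le ⟨x, rfl⟩
    exact lowerCentralSeries_mem_of_hom (res (T.subtype.comp α.toMonoidHom) hR.1)
      (fun y => hinv α hα _ y.2) _ ⟨φ₀ x, hL h0⟩ h0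

/-- The image of a subgroup normal in an invariant subsystem under an element of the automizer is
again normal in the subsystem. -/
theorem isNormal_image [Finite S] {F : FusionSystem S} {E : FusionSystem T}
    (hE : E.IsInvariantIn F) {R : Subgroup Ω} (hR : E.IsNormal R) {α : MulAut ↥T}
    (hα : α ∈ F.autGroup T) :
    E.IsNormal ((R.subgroupOf T).map (T.subtype.comp α.toMonoidHom)) := by
  obtain ⟨-, hTc, hi, -⟩ := hE
  have : Finite ↥T := finite_le hTc.1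
  have hRT : (R.subgroupOf T).map (T.subtype.comp α.toMonoidHom) ≤ T := by
    rintro _ ⟨x, -, rfl⟩
    exact (α x).2
  refine (isNormal_iff_normExt E).2 ⟨hRT, fun P φ hφ => ?_⟩
  have hPT : P ≤ T := src_le E hφ
  -- transport `φ` back
  obtain ⟨χ, hχ, hχe⟩ := hi P hPT φ hφ α⁻¹ ((F.autGroup T).inv_mem hα)
  obtain ⟨ψ, hψ, he, hm⟩ := ((isNormal_iff_normExt E).1 hR).2 _ χ hχ
  have hXT := src_le E hψ
  obtain ⟨ω, hω, hωe⟩ := hi _ hXT ψ hψ α hα
  have hle : P ⊔ (R.subgroupOf T).map (T.subtype.comp α.toMonoidHom) ≤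
      (((P.subgroupOf T).map (T.subtype.comp (α⁻¹ : MulAut ↥T).toMonoidHom) ⊔ R).subgroupOf T).map
        (T.subtype.comp α.toMonoidHom) := by
    refine sup_le (fun x hx => ?_) (Subgroup.map_mono fun y hy => ?_)
    · exact ⟨α⁻¹ ⟨x, hPT hx⟩, Subgroup.mem_subgroupOf.2 (Subgroup.mem_sup_left
        ⟨⟨x, hPT hx⟩, Subgroup.mem_subgroupOf.2 hx, rfl⟩),
        congrArg Subtype.val (α.apply_symm_apply ⟨x, hPT hx⟩)⟩
    · exact Subgroup.mem_subgroupOf.2 (Subgroup.mem_sup_right (Subgroup.mem_subgroupOf.1 hy))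
  refine ⟨res ω hle, res_mem E hω hle, fun x => ?_, fun x => ?_⟩
  · have hx' : ((α⁻¹ ⟨(x : Ω), hPT x.2⟩ : ↥T) : Ω) ∈
        (P.subgroupOf T).map (T.subtype.comp (α⁻¹ : MulAut ↥T).toMonoidHom) :=
      ⟨⟨x, hPT x.2⟩, Subgroup.mem_subgroupOf.2 x.2, rfl⟩
    have h1 := hχe x ((E.le_of_mem hφ).2 x) hx'
    have h2 := he ⟨_, hx'⟩
    have h3 := hωe ⟨_, Subgroup.mem_sup_left hx'⟩ ((E.le_of_mem hψ).2 _)
      ⟨_, Subgroup.mem_subgroupOf.2 (Subgroup.mem_sup_left hx'), rfl⟩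
    refine Eq.trans (congrArg ω (Subtype.ext ?_)) (h3.trans ?_)
    · exact (congrArg Subtype.val (α.apply_symm_apply ⟨(x : Ω), hPT x.2⟩)).symm
    · refine Eq.trans (congrArg (fun z => ((α z : ↥T) : Ω)) (Subtype.ext (h2.trans h1))) ?_
      exact congrArg Subtype.val (α.apply_symm_apply _)
  · obtain ⟨r, hr, hrx⟩ := x.2
    have hr' : (r : Ω) ∈ R := Subgroup.mem_subgroupOf.1 hr
    have h3 := hωe ⟨(r : Ω), Subgroup.mem_sup_right hr'⟩ ((E.le_of_mem hψ).2 _)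
      ⟨r, Subgroup.mem_subgroupOf.2 (Subgroup.mem_sup_right hr'), rfl⟩
    refine ⟨⟨ψ ⟨(r : Ω), Subgroup.mem_sup_right hr'⟩, (E.le_of_mem hψ).2 _⟩,
      Subgroup.mem_subgroupOf.2 (hm ⟨(r : Ω), hr'⟩), ?_⟩
    exact h3.symm.trans (congrArg ω (Subtype.ext hrx))

theorem inner_isSaturated {p : ℕ} [Fact p.Prime] {Q : Subgroup Ω} (hQ : IsPGroup p Q) [Finite Q] :
    (innerFusionSystem Q).IsSaturated p := by
  intro P hP
  refine ⟨P, ⟨_, subtype_mem (innerFusionSystem Q) hP, Subgroup.range_subtype P⟩, ⟨hP, ?_⟩, hP, ?_⟩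
  · have := finite_le hP
    have htop : IsPGroup p ↥(⊤ : Subgroup ↥((innerFusionSystem Q).autGroup P)) :=
      (inner_autGroup_isPGroup hQ hP).to_subgroup _
    obtain ⟨T, hT⟩ := htop.exists_le_sylow
    refine ⟨T, (top_le_iff.1 hT).trans (Eq.symm ?_)⟩
    rw [Subgroup.subgroupOf_eq_top]
    intro α hα
    obtain ⟨-, g, hg, h⟩ := hom_of_aut_mem (innerFusionSystem Q) hP hα
    exact (mem_autInducedBy_iff hP).2 ⟨g, hg, h⟩
  · rintro P' φ ⟨hP', g, hg, h⟩ -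
    exact ⟨conjHom _ g, (innerFusionSystem Q).conj_mem ((extender_le P' φ).trans inf_le_left) hg,
      fun x hx _ => (h ⟨x, hx⟩).symm⟩

end Cfsg.Agent.H90
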