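import Cfsg.Agent.H90.Normal
import Cfsg.Agent.PGroups.Basic
import Mathlib.GroupTheory.Frattini

/-!
For odd `p`, an automorphism of order prime to `p` of a finite `p`-group fixing every element of
order `p` is trivial.
-/

set_option autoImplicit false

namespace Cfsg.Agent.H90

open scoped commutatorElement

theorem fix_of_fix_order_p {p : ℕ} [hp : Fact p.Prime] (h2 : p ≠ 2) {P : Type*} [Group P] [Finite P]
    (hP : IsPGroup p P) (β : MulAut P) (hm : (orderOf β).Coprime p)
    (hfix : ∀ x : P, x ^ p = 1 → β x = x) (x : P) : β x = x := by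
  obtain ⟨n, hn⟩ : ∃ n, Nat.card P = n := ⟨_, rfl⟩
  induction n using Nat.strong_induction_on generalizing P with
  | _ n ih =>
  rcases subsingleton_or_nontrivial P with hsub | hnt
  · exact Subsingleton.elim _ _
  -- invariant proper subgroups are fixed pointwise
  have hprop : ∀ H : Subgroup P, (∀ y ∈ H, β y ∈ H) → H ≠ ⊤ → ∀ y ∈ H, β y = y := by
    intro H hH hne y hy
    have hmap : H.map β.toMonoidHom = H := by
      refine eq_of_le_card le_top (S := ⊤) ?_ (Subgroup.card_map_of_injective β.injective).ge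
      rintro _ ⟨z, hz, rfl⟩
      exact hH z hz
    let γ : MulAut ↥H := (β.subgroupMap H).trans (MulEquiv.subgroupCongr hmap)
    have hγ : ∀ (k : ℕ) (z : ↥H), (((γ ^ k) z : ↥H) : P) = (β ^ k) (z : P) := by
      intro k
      induction k with
      | zero => intro z; rfl
      | succ k ihk =>
        intro z
        rw [pow_succ', pow_succ']
        show β (((γ ^ k) z : ↥H) : P) = β ((β ^ k) (z : P))
        rw [ihk]
    have hd : orderOf γ ∣ orderOf β := orderOf_dvd_of_pow_eq_one (MulEquiv.ext fun z =>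
      Subtype.ext (by rw [hγ, pow_orderOf_eq_one]; rfl))
    have hlt : Nat.card ↥H < n :=
      hn ▸ lt_of_le_of_ne (Subgroup.card_le_card_group H) fun h => hne (H.card_eq_iff_eq_top.1 h)
    have h := ih _ hlt (hP.to_subgroup H) γ (hm.coprime_dvd_left hd)
      (fun z hz => Subtype.ext (hfix z (congrArg Subtype.val hz))) ⟨y, hy⟩ rfl
    exact congrArg Subtype.val h
  let W : Subgroup P := Subgroup.closure {c | ∃ z, c = z⁻¹ * β z}
  have hWinv : ∀ y ∈ W, β y ∈ W := by
    intro y hy
    have h : W.map β.toMonoidHom ≤ W := by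
      rw [MonoidHom.map_closure]
      refine Subgroup.closure_mono ?_
      rintro _ ⟨_, ⟨z, rfl⟩, rfl⟩
      exact ⟨β z, by simp⟩
    exact h ⟨y, hy, rfl⟩
  by_cases hW : W = ⊤
  swap
  · exact fix_of_fix_diff hP β hm x (hprop W hWinv hW _ (Subgroup.subset_closure ⟨x, rfl⟩))
  have hΦ : frattini P ≠ ⊤ := fun h => bot_ne_top (frattini_nongenerating (G := P) (K := ⊥)
    (by rw [h]; exact top_le_iff.1 le_sup_right))
  have hΦinv : ∀ y ∈ frattini P, β y ∈ frattini P := fun y hy =>
    (Subgroup.characteristic_iff_map_eq.1 (inferInstance : (frattini P).Characteristic) β).le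
      ⟨y, hy, rfl⟩
  have hΦfix := hprop _ hΦinv hΦ
  -- the Frattini subgroup is central
  have hcent : ∀ y ∈ frattini P, ∀ c : P, c * y = y * c := by
    intro y hy c
    have hc : c ∈ W := hW ▸ trivial
    have h : W ≤ Subgroup.centralizer ((frattini P : Subgroup P) : Set P) := by
      refine (Subgroup.closure_le _).2 ?_
      rintro _ ⟨z, rfl⟩
      refine Subgroup.mem_centralizer_iff.2 fun u hu => ?_
      have hu' : z * u * z⁻¹ ∈ frattini P :=
        (inferInstance : (frattini P).Normal).conj_mem u hu z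
      have h1 := hΦfix _ hu'
      rw [map_mul, map_mul, hΦfix u hu, map_inv] at h1
      have h2 : β z * u = z * u * z⁻¹ * β z := by rw [← h1, inv_mul_cancel_right]
      calc u * (z⁻¹ * β z) = z⁻¹ * (z * u * z⁻¹ * β z) := by simp [mul_assoc]
        _ = z⁻¹ * β z * u := by rw [← h2, mul_assoc]
    exact (Subgroup.mem_centralizer_iff.1 (h hc) y hy).symm
  have hpow : x ^ p ∈ frattini P := Cfsg.Agent.PGroups.pow_mem_frattini hP x
  obtain ⟨c, hc⟩ : ∃ c, c = x⁻¹ * β x := ⟨_, rfl⟩
  -- the commutator of `x` and `c` has order dividing `p`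
  obtain ⟨d, hd⟩ : ∃ d, d = ⁅c, x⁆ := ⟨_, rfl⟩
  have hdΦ : d ∈ frattini P := Cfsg.Agent.PGroups.commutator_le_frattini hP
    (hd ▸ Subgroup.commutator_mem_commutator (Subgroup.mem_top _) (Subgroup.mem_top _))
  have hcx : c * x = d * x * c := by simp [hd, commutatorElement_def, mul_assoc]
  have hdc : ∀ k : ℕ, c ^ k * x = d ^ k * x * c ^ k := by
    intro k
    induction k with
    | zero => simp
    | succ k ihk =>
      rw [pow_succ' c, mul_assoc c, ihk, pow_succ' d]
      calc c * (d ^ k * x * c ^ k) = (c * d ^ k) * x * c ^ k := by simp [mul_assoc]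
        _ = (d ^ k * c) * x * c ^ k := by rw [hcent _ (pow_mem hdΦ k) c]
        _ = d ^ k * (c * x) * c ^ k := by simp [mul_assoc]
        _ = d ^ k * (d * x * c) * c ^ k := by rw [hcx]
        _ = _ := by
          simp only [mul_assoc, ← pow_succ']
          rw [← mul_assoc, ← pow_succ]
  have hdp : d ^ p = 1 := by
    have h := hdc p
    rw [← hcent _ (Cfsg.Agent.PGroups.pow_mem_frattini hP c) x, mul_assoc] at h
    exact mul_right_cancel (h.symm.trans (one_mul _).symm)
  have hprod : ∀ k : ℕ, (x * c) ^ k = d ^ (k.choose 2) * (x ^ k * c ^ k) := by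
    intro k
    induction k with
    | zero => simp
    | succ k ihk =>
      rw [pow_succ (x * c), ihk, Nat.choose_succ_succ, Nat.choose_one_right, pow_add,
        pow_succ x, pow_succ c]
      calc d ^ k.choose 2 * (x ^ k * c ^ k) * (x * c)
          = d ^ k.choose 2 * (x ^ k * (c ^ k * x) * c) := by simp [mul_assoc]
        _ = d ^ k.choose 2 * (x ^ k * d ^ k * x * c ^ k * c) := by
            rw [hdc]; simp [mul_assoc]
        _ = d ^ k.choose 2 * (d ^ k * x ^ k * x * c ^ k * c) := by
            rw [hcent _ (pow_mem hdΦ k) (x ^ k)]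
        _ = d ^ k * d ^ k.choose 2 * (x ^ k * x * (c ^ k * c)) := by
            rw [← pow_add, add_comm, pow_add]
            simp [mul_assoc]
  have hch : p ∣ p.choose 2 :=
    hp.out.dvd_choose_self (by norm_num) (lt_of_le_of_ne hp.out.two_le (Ne.symm h2))
  obtain ⟨m, hm'⟩ := hch
  have h1 := hprod p
  rw [hm', pow_mul, hdp, one_pow, one_mul, show x * c = β x by simp [hc], ← map_pow,
    hΦfix _ hpow] at h1
  have hcp : c ^ p = 1 := mul_left_cancel (h1.symm.trans (mul_one _).symm)
  exact fix_of_fix_diff hP β hm x (hc ▸ hfix c hcp)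

end Cfsg.Agent.H90
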