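import Cfsg.Prelude.Def_FusionSystem
import Mathlib.GroupTheory.Nilpotent

/-!
Small core of saturated fusion systems: morphism calculus, automorphism groups, extension to
fully automized receptive subgroups and the Alperin-type induction principle.
-/

set_option autoImplicit false

namespace Cfsg.Agent.H90

open Cfsg Cfsg.FusionSystem

variable {Ω : Type*} [Group Ω] {S : Subgroup Ω}

/-- Two maps agree on the common part of their sources. -/
def Agree {P R : Subgroup Ω} (φ : ↥P →* Ω) (ψ : ↥R →* Ω) : Prop :=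
  ∀ x (hP : x ∈ P) (hR : x ∈ R), φ ⟨x, hP⟩ = ψ ⟨x, hR⟩

/-- Restriction of a map to a subgroup of its source. -/
def res {P R : Subgroup Ω} (φ : ↥P →* Ω) (h : R ≤ P) : ↥R →* Ω :=
  φ.comp (Subgroup.inclusion h)

@[simp] theorem res_apply {P R : Subgroup Ω} (φ : ↥P →* Ω) (h : R ≤ P) (x : ↥R) :
    res φ h x = φ ⟨x, h x.2⟩ := rfl

theorem hom_ext {P : Subgroup Ω} {φ ψ : ↥P →* Ω} (h : Agree φ ψ) : φ = ψ :=
  MonoidHom.ext fun x => h x x.2 x.2

theorem subtype_mem (F : FusionSystem S) {P : Subgroup Ω} (hP : P ≤ S) : P.subtype ∈ F.Hom P := by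
  have h := F.conj_mem hP S.one_mem
  have e : conjHom P (1 : Ω) = P.subtype := by
    ext x
    simp [conjHom]
  rwa [e] at h

theorem src_le (F : FusionSystem S) {P : Subgroup Ω} {φ : ↥P →* Ω} (h : φ ∈ F.Hom P) : P ≤ S :=
  (F.le_of_mem h).1

theorem range_le (F : FusionSystem S) {P : Subgroup Ω} {φ : ↥P →* Ω} (h : φ ∈ F.Hom P) :
    φ.range ≤ S := by
  rintro _ ⟨x, rfl⟩
  exact (F.le_of_mem h).2 x

theorem res_mem (F : FusionSystem S) {P R : Subgroup Ω} {φ : ↥P →* Ω} (h : φ ∈ F.Hom P)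
    (hR : R ≤ P) : res φ hR ∈ F.Hom R :=
  F.comp_mem (subtype_mem F (hR.trans (src_le F h))) h (fun x => hR x.2)

/-- The composite of two maps. -/
def comp₂ {P Q : Subgroup Ω} (ψ : ↥Q →* Ω) (φ : ↥P →* Ω) (h : ∀ x, φ x ∈ Q) : ↥P →* Ω :=
  ψ.comp (φ.codRestrict Q h)

@[simp] theorem comp₂_apply {P Q : Subgroup Ω} (ψ : ↥Q →* Ω) (φ : ↥P →* Ω) (h : ∀ x, φ x ∈ Q)
    (x : ↥P) : comp₂ ψ φ h x = ψ ⟨φ x, h x⟩ := rfl

theorem comp₂_mem (F : FusionSystem S) {P Q : Subgroup Ω} {ψ : ↥Q →* Ω} {φ : ↥P →* Ω}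
    (hφ : φ ∈ F.Hom P) (hψ : ψ ∈ F.Hom Q) (h : ∀ x, φ x ∈ Q) : comp₂ ψ φ h ∈ F.Hom P :=
  F.comp_mem hφ hψ h

theorem mem_of_agree (F : FusionSystem S) {P : Subgroup Ω} {φ ψ : ↥P →* Ω} (h : φ ∈ F.Hom P)
    (ha : ∀ x, ψ x = φ x) : ψ ∈ F.Hom P := by
  have : ψ = φ := MonoidHom.ext ha
  rwa [this]

theorem card_range_eq (F : FusionSystem S) {P : Subgroup Ω} {φ : ↥P →* Ω} (h : φ ∈ F.Hom P) :
    Nat.card φ.range = Nat.card P :=
  (Nat.card_congr (MonoidHom.ofInjective (F.injective_of_mem h)).toEquiv).symm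

theorem finite_le [Finite S] {P : Subgroup Ω} (h : P ≤ S) : Finite P :=
  Finite.of_injective _ (Subgroup.inclusion_injective h)

theorem eq_of_le_card [Finite S] {P Q : Subgroup Ω} (hQ : Q ≤ S) (hle : P ≤ Q)
    (hc : Nat.card Q ≤ Nat.card P) : P = Q := by
  have := finite_le hQ
  exact SetLike.coe_injective
    (Set.eq_of_subset_of_ncard_le (SetLike.coe_subset_coe.2 hle)
      (by rwa [← Nat.card_coe_set_eq, ← Nat.card_coe_set_eq]) (Set.toFinite _))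

theorem card_lt_of_lt [Finite S] {P Q : Subgroup Ω} (hQ : Q ≤ S) (h : P < Q) :
    Nat.card P < Nat.card Q := by
  by_contra hc
  exact h.ne (eq_of_le_card hQ h.le (not_lt.1 hc))

/-! ### Automorphism groups -/

/-- The automorphism of `P` given by a map with values in `P`. -/
noncomputable def toAut [Finite S] (F : FusionSystem S) {P : Subgroup Ω} {φ : ↥P →* Ω}
    (h : φ ∈ F.Hom P) (hv : ∀ x, φ x ∈ P) : MulAut ↥P :=
  have := finite_le (src_le F h)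
  MulEquiv.ofBijective (φ.codRestrict P hv)
    (Finite.injective_iff_bijective.1
      fun _ _ hab => F.injective_of_mem h (congrArg Subtype.val hab))

@[simp] theorem toAut_coe [Finite S] (F : FusionSystem S) {P : Subgroup Ω} {φ : ↥P →* Ω}
    (h : φ ∈ F.Hom P) (hv : ∀ x, φ x ∈ P) (x : ↥P) : ((toAut F h hv x : ↥P) : Ω) = φ x := rfl

theorem aut_mem_of_hom (F : FusionSystem S) {P : Subgroup Ω} {α : MulAut ↥P}
    (h : P.subtype.comp α.toMonoidHom ∈ F.Hom P) : α ∈ F.autGroup P :=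
  Subgroup.subset_closure h

theorem toAut_mem [Finite S] (F : FusionSystem S) {P : Subgroup Ω} {φ : ↥P →* Ω}
    (h : φ ∈ F.Hom P) (hv : ∀ x, φ x ∈ P) : toAut F h hv ∈ F.autGroup P :=
  aut_mem_of_hom F (mem_of_agree F h fun x => toAut_coe F h hv x)

theorem hom_of_aut_mem [Finite S] (F : FusionSystem S) {P : Subgroup Ω} (hP : P ≤ S)
    {α : MulAut ↥P} (h : α ∈ F.autGroup P) : P.subtype.comp α.toMonoidHom ∈ F.Hom P := by
  induction h using Subgroup.closure_induction with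
  | mem x hx => exact hx
  | one => exact mem_of_agree F (subtype_mem F hP) fun x => rfl
  | mul x y _ _ hx hy =>
    exact mem_of_agree F (comp₂_mem F hy hx fun z => (y z).2) fun z => rfl
  | inv x _ hx =>
    obtain ⟨ψ, hψ, hi⟩ := F.inv_mem hx
    have hr : P ≤ (P.subtype.comp x.toMonoidHom).range := fun z hz =>
      ⟨x⁻¹ ⟨z, hz⟩, congrArg Subtype.val (x.apply_symm_apply ⟨z, hz⟩)⟩
    refine mem_of_agree F (res_mem F hψ hr) fun z => ?_
    have := hi (x⁻¹ z)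
    refine Eq.trans this.symm ?_
    exact congrArg ψ (Subtype.ext
      (show ((x (x⁻¹ z) : ↥P) : Ω) = (z : Ω) from congrArg Subtype.val (x.apply_symm_apply z)))

/-- Conjugation by an element normalizing `P`, as an automorphism of `P`. -/
def normAut (P : Subgroup Ω) (g : Ω) (hg : g ∈ Subgroup.normalizer (P : Set Ω)) : MulAut ↥P where
  toFun x := ⟨g * x * g⁻¹, (Subgroup.mem_normalizer_iff.1 hg x).1 x.2⟩
  invFun x := ⟨g⁻¹ * x * g, (Subgroup.mem_normalizer_iff''.1 hg x).1 x.2⟩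
  left_inv x := Subtype.ext (by simp [mul_assoc])
  right_inv x := Subtype.ext (by simp [mul_assoc])
  map_mul' x y := Subtype.ext (by simp [mul_assoc])

@[simp] theorem normAut_coe (P : Subgroup Ω) (g : Ω)
    (hg : g ∈ Subgroup.normalizer (P : Set Ω)) (x : ↥P) :
    ((normAut P g hg x : ↥P) : Ω) = g * x * g⁻¹ := rfl

theorem normAut_mem_aut (F : FusionSystem S) {P : Subgroup Ω} (hP : P ≤ S) {g : Ω} (hgS : g ∈ S)
    (hg : g ∈ Subgroup.normalizer (P : Set Ω)) : normAut P g hg ∈ F.autGroup P :=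
  aut_mem_of_hom F (mem_of_agree F (F.conj_mem hP hgS) fun _ => rfl)

/-- The subgroup of `MulAut P` of conjugations by elements of `N_K(P)`. -/
theorem mem_autInducedBy_iff {K P : Subgroup Ω} (hP : P ≤ K) [Finite K] {α : MulAut ↥P} :
    α ∈ autInducedBy K P ↔ ∃ g ∈ K, ∀ x : ↥P, ((α x : ↥P) : Ω) = g * (x : Ω) * g⁻¹ := by
  refine ⟨fun h => ?_, fun h => Subgroup.subset_closure h⟩
  induction h using Subgroup.closure_induction with
  | mem x hx => exact hx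
  | one => exact ⟨1, K.one_mem, fun x => by simp⟩
  | mul x y _ _ hx hy =>
    obtain ⟨a, ha, hax⟩ := hx
    obtain ⟨b, hb, hby⟩ := hy
    refine ⟨a * b, K.mul_mem ha hb, fun z => ?_⟩
    show ((x (y z) : ↥P) : Ω) = _
    rw [hax, hby]
    simp [mul_assoc]
  | inv x _ hx =>
    obtain ⟨a, ha, hax⟩ := hx
    refine ⟨a⁻¹, K.inv_mem ha, fun z => ?_⟩
    have h1 := hax (x⁻¹ z)
    rw [show x (x⁻¹ z) = z from x.apply_symm_apply z] at h1
    rw [h1]
    simp [mul_assoc]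

theorem normal_of_conj {g : Ω} {P : Subgroup Ω} [Finite P] (h : ∀ x ∈ P, g * x * g⁻¹ ∈ P) :
    g ∈ Subgroup.normalizer (P : Set Ω) := by
  rw [Subgroup.mem_normalizer_iff_map_conj_eq]
  have hle : P.map (MulAut.conj g).toMonoidHom ≤ P := by
    rintro _ ⟨x, hx, rfl⟩
    exact h x hx
  exact SetLike.coe_injective
    (Set.eq_of_subset_of_ncard_le (SetLike.coe_subset_coe.2 hle)
      (le_of_eq (by
        rw [← Nat.card_coe_set_eq, ← Nat.card_coe_set_eq]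
        exact (Subgroup.card_map_of_injective (MulAut.conj g).injective).symm))
      (Set.toFinite _))

theorem exists_norm_of_autInducedBy [Finite S] {P : Subgroup Ω} (hP : P ≤ S) {α : MulAut ↥P}
    (h : α ∈ autInducedBy S P) :
    ∃ (g : Ω) (hg : g ∈ Subgroup.normalizer (P : Set Ω)), g ∈ S ∧ α = normAut P g hg := by
  obtain ⟨g, hgS, hg⟩ := (mem_autInducedBy_iff hP).1 h
  have := finite_le hP
  have hn : g ∈ Subgroup.normalizer (P : Set Ω) :=
    normal_of_conj fun x hx => hg ⟨x, hx⟩ ▸ (α ⟨x, hx⟩).2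
  exact ⟨g, hn, hgS, MulEquiv.ext fun x => Subtype.ext (hg x)⟩

theorem autInducedBy_le (F : FusionSystem S) [Finite S] {P : Subgroup Ω} (hP : P ≤ S) :
    autInducedBy S P ≤ F.autGroup P := fun α h => by
  obtain ⟨g, hg, hgS, rfl⟩ := exists_norm_of_autInducedBy hP h
  exact normAut_mem_aut F hP hgS hg

theorem autInducedBy_isPGroup {p : ℕ} (hS : IsPGroup p S) [Finite S] {P : Subgroup Ω} (hP : P ≤ S) :
    IsPGroup p (autInducedBy S P) := fun α => by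
  obtain ⟨g, hg, hgS, he⟩ := exists_norm_of_autInducedBy hP α.2
  obtain ⟨k, hk⟩ := hS ⟨g, hgS⟩
  refine ⟨k, Subtype.ext ?_⟩
  have hk' : g ^ p ^ k = 1 := congrArg Subtype.val hk
  have key : ∀ n : ℕ, ∀ x : ↥P,
      ((((α : MulAut ↥P) ^ n) x : ↥P) : Ω) = g ^ n * x * (g ^ n)⁻¹ := by
    intro n
    induction n with
    | zero => intro x; simp
    | succ n ih =>
      intro x
      rw [pow_succ', pow_succ']
      show (((α : MulAut ↥P) (((α : MulAut ↥P) ^ n) x) : ↥P) : Ω) = _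
      rw [he, normAut_coe, ← he, ih]
      simp [mul_assoc]
  refine MulEquiv.ext fun x => Subtype.ext ?_
  simpa [hk'] using key (p ^ k) x

/-! ### Maps into a chosen representative -/

theorem exists_iso_inv (F : FusionSystem S) {P R : Subgroup Ω} {χ : ↥P →* Ω} (hχ : χ ∈ F.Hom P)
    (hr : χ.range = R) :
    ∃ χ' : ↥R →* Ω, χ' ∈ F.Hom R ∧ χ'.range = P ∧
      (∀ (x : ↥P) (h : χ x ∈ R), χ' ⟨χ x, h⟩ = x) ∧
      ∀ (y : ↥R) (h : χ' y ∈ P), χ ⟨χ' y, h⟩ = y := by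
  subst hr
  obtain ⟨ψ, hψ, hi⟩ := F.inv_mem hχ
  refine ⟨ψ, hψ, le_antisymm ?_ ?_, fun x _ => hi x, ?_⟩
  · rintro _ ⟨⟨_, x, rfl⟩, rfl⟩
    exact (hi x).symm ▸ x.2
  · exact fun x hx => ⟨_, hi ⟨x, hx⟩⟩
  · rintro ⟨_, x, rfl⟩ h
    exact congrArg χ (Subtype.ext (hi x))

theorem le_normalizerIn {P : Subgroup Ω} (hP : P ≤ S) : P ≤ normalizerIn S P :=
  le_inf hP Subgroup.le_normalizer

/-- In a finite `p`-group normalizers grow. -/
theorem lt_normalizerIn {p : ℕ} [Fact p.Prime] (hS : IsPGroup p S) [Finite S] {P : Subgroup Ω}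
    (hP : P < S) : P < normalizerIn S P := by
  refine (le_normalizerIn hP.le).lt_of_ne fun he => ?_
  have : Group.IsNilpotent ↥S := hS.isNilpotent
  have hn := Group.normalizerCondition_of_isNilpotent (G := ↥S)
  have hne : P.subgroupOf S < ⊤ :=
    lt_top_iff_ne_top.2 fun h => hP.not_ge (Subgroup.subgroupOf_eq_top.1 h)
  obtain ⟨g, hg, hgP⟩ := SetLike.exists_of_lt (hn _ hne)
  refine hgP (Subgroup.mem_subgroupOf.2 ?_)
  rw [he]
  refine ⟨g.2, ?_⟩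
  have := finite_le hP.le
  refine normal_of_conj fun x hx => ?_
  exact Subgroup.mem_subgroupOf.1
    ((Subgroup.mem_normalizer_iff.1 hg ⟨x, hP.le hx⟩).1 (Subgroup.mem_subgroupOf.2 hx))

theorem extender_le (P : Subgroup Ω) (φ : ↥P →* Ω) : extender S P φ ≤ normalizerIn S P :=
  (Subgroup.closure_le _).2 fun _ hg => ⟨hg.1, hg.2.1⟩

/-- Every map onto a fully automized receptive subgroup can be modified to one that extends to the
whole normalizer of its source. -/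
theorem exists_extending {p : ℕ} [Fact p.Prime] (hS : IsPGroup p S) [Finite S]
    (F : FusionSystem S) {P R : Subgroup Ω} (hc : F.IsConj P R)
    (hA : F.IsFullyAutomized p R) (hR : F.IsReceptive R) :
    ∃ χ ∈ F.Hom P, χ.range = R ∧ ∃ ψ ∈ F.Hom (normalizerIn S P),
      Agree χ ψ ∧ ∀ x, ψ x ∈ normalizerIn S R := by
  obtain ⟨φ, hφ, hφR⟩ := hc
  have hPS := src_le F hφ
  obtain ⟨φ', hφ', hφ'P, h1, h2⟩ := exists_iso_inv F hφ hφR
  have hv : ∀ x : ↥P, φ x ∈ R := fun x => hφR ▸ ⟨x, rfl⟩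
  have hv' : ∀ y : ↥R, φ' y ∈ P := fun y => hφ'P ▸ ⟨y, rfl⟩
  let e : ↥P ≃* ↥R :=
    { toFun := fun x => ⟨φ x, hv x⟩
      invFun := fun y => ⟨φ' y, hv' y⟩
      left_inv := fun x => Subtype.ext (h1 x (hv x))
      right_inv := fun y => Subtype.ext (h2 y (hv' y))
      map_mul' := fun x y => Subtype.ext (map_mul φ x y) }
  have := finite_le hA.1
  let A : Subgroup (MulAut ↥R) := (autInducedBy S P).map (MulAut.congr e).toMonoidHom
  have hAp : IsPGroup p A := (autInducedBy_isPGroup hS hPS).map _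
  have hAle : A ≤ F.autGroup R := by
    rintro _ ⟨α, hα, rfl⟩
    have hα' := hom_of_aut_mem F hPS (autInducedBy_le F hPS hα)
    refine aut_mem_of_hom F (mem_of_agree F
      (comp₂_mem F (comp₂_mem F hφ' hα' hv') hφ (fun y => (α ⟨φ' y, hv' y⟩).2)) fun y => rfl)
  obtain ⟨T, hT⟩ := hA.2
  have hA' : IsPGroup p (A.subgroupOf (F.autGroup R)) :=
    hAp.comap_of_injective _ (Subgroup.subtype_injective _)
  obtain ⟨T', hT'⟩ := hA'.exists_le_sylow
  obtain ⟨β, hβ⟩ := MulAction.exists_smul_eq (F.autGroup R) T' T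
  have hβh := hom_of_aut_mem F hA.1 β.2
  refine ⟨comp₂ (R.subtype.comp (β : MulAut ↥R).toMonoidHom) φ hv, comp₂_mem F hφ hβh hv, ?_, ?_⟩
  · refine le_antisymm ?_ fun y hy => ?_
    · rintro _ ⟨x, rfl⟩
      exact ((β : MulAut ↥R) ⟨φ x, hv x⟩).2
    · obtain ⟨z, hz⟩ := (β : MulAut ↥R).surjective ⟨y, hy⟩
      obtain ⟨x, hx⟩ : (z : Ω) ∈ φ.range := hφR.symm ▸ z.2
      refine ⟨x, ?_⟩
      rw [comp₂_apply]
      exact (congrArg (fun w => (((β : MulAut ↥R) w : ↥R) : Ω))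
        (Subtype.ext hx : (⟨φ x, hv x⟩ : ↥R) = z)).trans (congrArg Subtype.val hz)
  · set χ := comp₂ (R.subtype.comp (β : MulAut ↥R).toMonoidHom) φ hv with hχdef
    have hχ : χ ∈ F.Hom P := comp₂_mem F hφ hβh hv
    have hχR : χ.range = R := by
      refine eq_of_le_card hA.1 ?_ ?_
      · rintro _ ⟨x, rfl⟩
        exact ((β : MulAut ↥R) ⟨φ x, hv x⟩).2
      · rw [card_range_eq F hχ, ← hφR, card_range_eq F hφ]
    obtain ⟨ψ, hψ, hext⟩ := hR.2 P χ hχ hχR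
    have hN : normalizerIn S P ≤ extender S P χ := by
      rintro g ⟨hgS, hg⟩
      refine Subgroup.subset_closure ⟨hgS, hg, ?_⟩
      have ha : MulAut.congr e (normAut P g hg) ∈ A :=
        Subgroup.mem_map_of_mem _ ((mem_autInducedBy_iff hPS).2 ⟨g, hgS, fun x => rfl⟩)
      let a : ↥(F.autGroup R) := ⟨_, hAle ha⟩
      have haT : a ∈ (T' : Subgroup (F.autGroup R)) := hT' ha
      have hmem : β * a * β⁻¹ ∈ (T : Subgroup (F.autGroup R)) := by
        rw [← hβ, Sylow.coe_subgroup_smul]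
        exact ⟨a, haT, rfl⟩
      rw [hT] at hmem
      obtain ⟨h, hhS, hh⟩ := (mem_autInducedBy_iff hA.1).1 (Subgroup.mem_subgroupOf.1 hmem)
      refine ⟨h, hhS, fun x hx => ?_⟩
      have key := hh ((β : MulAut ↥R) ⟨φ x, hv x⟩)
      refine Eq.trans ?_ key
      show (((β : MulAut ↥R) ⟨φ ⟨g * x * g⁻¹, hx⟩, _⟩ : ↥R) : Ω) =
        (((β : MulAut ↥R) (MulAut.congr e (normAut P g hg)
          (((β : MulAut ↥R)⁻¹) ((β : MulAut ↥R) ⟨φ x, hv x⟩)))) : ↥R)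
      rw [show ((β : MulAut ↥R)⁻¹) ((β : MulAut ↥R) ⟨φ x, hv x⟩) = ⟨φ x, hv x⟩ from
        (β : MulAut ↥R).symm_apply_apply _]
      refine congrArg (fun w => (((β : MulAut ↥R) w : ↥R) : Ω)) (Subtype.ext ?_)
      show φ ⟨g * x * g⁻¹, hx⟩ = φ (normAut P g hg (e.symm (e x)))
      rw [e.symm_apply_apply]
      exact congrArg φ (Subtype.ext rfl)
    refine ⟨res ψ hN, res_mem F hψ hN, fun x hP hN' => (hext x hP (hN hN')).symm, fun x => ?_⟩
    refine ⟨(F.le_of_mem hψ).2 _, ?_⟩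
    have := finite_le hA.1
    refine normal_of_conj fun y hy => ?_
    obtain ⟨z, rfl⟩ : y ∈ χ.range := hχR.symm ▸ hy
    have hxP : (x : Ω) * z * (x : Ω)⁻¹ ∈ P := (Subgroup.mem_normalizer_iff.1 x.2.2 z).1 z.2
    have hz : χ z = ψ ⟨z, hN (le_normalizerIn hPS z.2)⟩ := (hext z z.2 _).symm
    rw [hz, res_apply, ← map_inv, ← map_mul, ← map_mul]
    refine hχR ▸ ⟨⟨_, hxP⟩, ?_⟩
    exact (hext _ hxP (hN (le_normalizerIn hPS hxP))).symm

theorem exists_rep {p : ℕ} {F : FusionSystem S} (hF : F.IsSaturated p) {P : Subgroup Ω}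
    (hP : P ≤ S) :
    ∃ R, F.IsConj P R ∧ R ≤ S ∧ F.IsFullyAutomized p R ∧ F.IsReceptive R := by
  obtain ⟨Q, h1, h2, h3⟩ := hF P hP
  exact ⟨Q, h1, h2.1, h2, h3⟩

theorem isConj_top [Finite S] (F : FusionSystem S) {R : Subgroup Ω} (h : F.IsConj S R) : R = S := by
  obtain ⟨φ, hφ, rfl⟩ := h
  exact eq_of_le_card le_rfl (range_le F hφ) (card_range_eq F hφ).ge

theorem top_fullyAutomized [Finite S] {p : ℕ} {F : FusionSystem S} (hF : F.IsSaturated p) :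
    F.IsFullyAutomized p S ∧ F.IsReceptive S := by
  obtain ⟨R, hc, -, h1, h2⟩ := exists_rep hF (le_refl S)
  obtain rfl := isConj_top F hc
  exact ⟨h1, h2⟩

theorem isConj_trans (F : FusionSystem S) {P Q R : Subgroup Ω} (h1 : F.IsConj P Q)
    (h2 : F.IsConj Q R) : F.IsConj P R := by
  obtain ⟨φ, hφ, rfl⟩ := h1
  obtain ⟨ψ, hψ, rfl⟩ := h2
  refine ⟨comp₂ ψ φ fun x => ⟨x, rfl⟩, comp₂_mem F hφ hψ _, le_antisymm ?_ ?_⟩
  · rintro _ ⟨x, rfl⟩
    exact ⟨_, rfl⟩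
  · rintro _ ⟨⟨_, x, rfl⟩, rfl⟩
    exact ⟨x, rfl⟩

theorem isConj_symm (F : FusionSystem S) {P Q : Subgroup Ω} (h : F.IsConj P Q) :
    F.IsConj Q P := by
  obtain ⟨φ, hφ, hr⟩ := h
  obtain ⟨ψ, hψ, hr', -, -⟩ := exists_iso_inv F hφ hr
  exact ⟨ψ, hψ, hr'⟩

/-- A property of maps closed under restriction, composition and inversion. -/
structure IsStable (F : FusionSystem S) (Φ : (P : Subgroup Ω) → (↥P →* Ω) → Prop) : Prop where
  res : ∀ {P R : Subgroup Ω} (φ : ↥P →* Ω), φ ∈ F.Hom P → Φ P φ → ∀ h : R ≤ P, Φ R (H90.res φ h)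
  comp : ∀ {P Q : Subgroup Ω} (φ : ↥P →* Ω) (ψ : ↥Q →* Ω), φ ∈ F.Hom P → ψ ∈ F.Hom Q →
    ∀ h : ∀ x, φ x ∈ Q, Φ P φ → Φ Q ψ → Φ P (comp₂ ψ φ h)
  inv : ∀ {P R : Subgroup Ω} (φ : ↥P →* Ω) (ψ : ↥R →* Ω), φ ∈ F.Hom P → ψ ∈ F.Hom R →
    φ.range = R → (∀ (x : ↥P) (h : φ x ∈ R), ψ ⟨φ x, h⟩ = x) → Φ P φ → Φ R ψ

/-- Alperin-type induction: a stable property holds for all maps if it holds for the automorphisms
of every fully automized receptive subgroup, granted it for all maps with larger source. -/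
theorem induction {p : ℕ} [Fact p.Prime] (hS : IsPGroup p S) [Finite S] {F : FusionSystem S}
    (hF : F.IsSaturated p) (Φ : (P : Subgroup Ω) → (↥P →* Ω) → Prop) (hΦ : IsStable F Φ)
    (hAut : ∀ R : Subgroup Ω, R ≤ S → F.IsFullyAutomized p R → F.IsReceptive R →
      (∀ (P : Subgroup Ω) (φ : ↥P →* Ω), φ ∈ F.Hom P → Nat.card R < Nat.card P → Φ P φ) →
      ∀ α ∈ F.autGroup R, Φ R (R.subtype.comp α.toMonoidHom)) :
    ∀ (P : Subgroup Ω) (φ : ↥P →* Ω), φ ∈ F.Hom P → Φ P φ := by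
  suffices H : ∀ (n : ℕ) (P : Subgroup Ω) (φ : ↥P →* Ω), φ ∈ F.Hom P →
      Nat.card S - Nat.card P = n → Φ P φ from fun P φ h => H _ P φ h rfl
  intro n
  induction n using Nat.strong_induction_on with
  | _ n ih =>
  intro P φ hφ hn
  have big : ∀ (Q : Subgroup Ω) (ψ : ↥Q →* Ω), ψ ∈ F.Hom Q → Nat.card P < Nat.card Q → Φ Q ψ := by
    intro Q ψ hψ hlt
    have hQ : Nat.card Q ≤ Nat.card S := Subgroup.card_le_of_le (src_le F hψ)
    exact ih _ (by omega) Q ψ hψ rfl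
  have hPS := src_le F hφ
  rcases hPS.eq_or_lt with rfl | hlt
  · obtain ⟨hA, hR⟩ := top_fullyAutomized hF
    have hv : ∀ x, φ x ∈ P := (F.le_of_mem hφ).2
    have := hAut P le_rfl hA hR (fun Q ψ hψ h => absurd (Subgroup.card_le_of_le (src_le F hψ)) h.not_ge)
      _ (toAut_mem F hφ hv)
    rwa [show P.subtype.comp (toAut F hφ hv).toMonoidHom = φ from MonoidHom.ext fun x => rfl] at this
  · have hQS := range_le F hφ
    obtain ⟨R, hc, hRS, hA, hR⟩ := exists_rep hF hPS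
    have hQc : F.IsConj φ.range R := isConj_trans F (isConj_symm F ⟨φ, hφ, rfl⟩) hc
    obtain ⟨χ₁, hχ₁, hχ₁R, ψ₁, hψ₁, ha₁, -⟩ := exists_extending hS F hc hA hR
    obtain ⟨χ₂, hχ₂, hχ₂R, ψ₂, hψ₂, ha₂, -⟩ := exists_extending hS F hQc hA hR
    have hcard : ∀ X : Subgroup Ω, X ≤ S → Nat.card X = Nat.card P →
        Nat.card P < Nat.card (normalizerIn S X) := by
      intro X hX hXc
      rcases hX.eq_or_lt with rfl | hl
      · exact absurd hXc (card_lt_of_lt le_rfl hlt).ne'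
      · exact hXc ▸ card_lt_of_lt inf_le_left (lt_normalizerIn hS hl)
    have hΦ₁ : Φ P χ₁ := by
      have h := hΦ.res ψ₁ hψ₁ (big _ ψ₁ hψ₁ (hcard P hPS rfl)) (le_normalizerIn hPS)
      rwa [show res ψ₁ (le_normalizerIn hPS) = χ₁ from
        MonoidHom.ext fun x => (ha₁ x x.2 (le_normalizerIn hPS x.2)).symm] at h
    have hΦ₂ : Φ φ.range χ₂ := by
      have h := hΦ.res ψ₂ hψ₂
        (big _ ψ₂ hψ₂ (hcard _ hQS (card_range_eq F hφ))) (le_normalizerIn hQS)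
      rwa [show res ψ₂ (le_normalizerIn hQS) = χ₂ from
        MonoidHom.ext fun x => (ha₂ x x.2 (le_normalizerIn hQS x.2)).symm] at h
    obtain ⟨χ₁', hχ₁', hr₁, hl₁, hrt₁⟩ := exists_iso_inv F hχ₁ hχ₁R
    obtain ⟨χ₂', hχ₂', hr₂, hl₂, hrt₂⟩ := exists_iso_inv F hχ₂ hχ₂R
    have m1 : ∀ y : ↥R, χ₁' y ∈ P := fun y => hr₁ ▸ ⟨y, rfl⟩
    have m2 : ∀ y : ↥R, φ ⟨χ₁' y, m1 y⟩ ∈ φ.range := fun y => ⟨_, rfl⟩
    let θ := comp₂ φ χ₁' m1
    have hθ : θ ∈ F.Hom R := comp₂_mem F hχ₁' hφ m1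
    let τ := comp₂ χ₂ θ m2
    have hτ : τ ∈ F.Hom R := comp₂_mem F hθ hχ₂ m2
    have hτR : ∀ y, τ y ∈ R := fun y => hχ₂R.le ⟨_, rfl⟩
    have hΦτ : Φ R τ := by
      have h := hAut R hRS hA hR
        (fun Q ψ hψ h => big Q ψ hψ (by rwa [← card_range_eq F hχ₁, hχ₁R])) _ (toAut_mem F hτ hτR)
      rwa [show R.subtype.comp (toAut F hτ hτR).toMonoidHom = τ from MonoidHom.ext fun x => rfl] at h
    have n1 : ∀ x : ↥P, χ₁ x ∈ R := fun x => hχ₁R ▸ ⟨x, rfl⟩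
    have n2 : ∀ x : ↥P, comp₂ τ χ₁ n1 x ∈ R := fun x => hτR _
    have hΦ₂' : Φ R χ₂' := hΦ.inv χ₂ χ₂' hχ₂ hχ₂' hχ₂R hl₂ hΦ₂
    have := hΦ.comp (comp₂ τ χ₁ n1) χ₂' (comp₂_mem F hχ₁ hτ n1) hχ₂' n2
      (hΦ.comp χ₁ τ hχ₁ hτ n1 hΦ₁ hΦτ) hΦ₂'
    rwa [show comp₂ χ₂' (comp₂ τ χ₁ n1) n2 = φ from MonoidHom.ext fun x => by
      refine (hl₂ _ _).trans ?_
      exact congrArg φ (Subtype.ext (hl₁ x (n1 x)))] at this

/-- Frattini argument in `Aut_F(R)`: an automorphism is the product of one in a normal subgroup `M`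
and one that extends over the part of `N_S(R)` acting in `M`. -/
theorem aut_decomp {p : ℕ} [Fact p.Prime] [Finite S] {F : FusionSystem S} {R : Subgroup Ω}
    (hA : F.IsFullyAutomized p R) (hR : F.IsReceptive R) (M : Subgroup ↥(F.autGroup R))
    (hM : M.Normal) (α : ↥(F.autGroup R)) :
    ∃ m n : ↥(F.autGroup R), m ∈ M ∧ α = m * n ∧ ∃ (X : Subgroup Ω) (hRX : R ≤ X),
      (∀ g, g ∈ S → ∀ hg : g ∈ Subgroup.normalizer (R : Set Ω),
        ∀ hm : normAut R g hg ∈ F.autGroup R, ⟨_, hm⟩ ∈ M → g ∈ X) ∧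
      ∃ ψ ∈ F.Hom X, ∀ x : ↥R, ψ ⟨x, hRX x.2⟩ = (((n : MulAut ↥R) x : ↥R) : Ω) := by
  have hRS := hA.1
  have := finite_le hRS
  obtain ⟨T, hT⟩ := hA.2
  obtain ⟨Q, hQ⟩ : ∃ Q : Sylow p M, (Q : Subgroup M).map M.subtype = (T : Subgroup _) ⊓ M := by
    have hp : IsPGroup p (((T : Subgroup _) ⊓ M).subgroupOf M) :=
      (T.isPGroup'.to_le inf_le_left).comap_of_injective _ M.subtype_injective
    obtain ⟨Q, hQ⟩ := hp.exists_le_sylow
    refine ⟨Q, le_antisymm ?_ ?_⟩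
    · -- `T` normalizes, up to conjugacy, the Sylow subgroup `Q` of `M`
      obtain ⟨T', hT'⟩ := (Q.isPGroup'.map M.subtype).exists_le_sylow
      obtain ⟨a, ha⟩ := MulAction.exists_smul_eq ↥(F.autGroup R) T' T
      have hle : ((Q : Subgroup M).map M.subtype).map (MulAut.conj a).toMonoidHom ≤
          (T : Subgroup _) ⊓ M := by
        rintro _ ⟨_, ⟨x, hx, rfl⟩, rfl⟩
        refine ⟨?_, hM.conj_mem _ x.2 a⟩
        rw [← ha, Sylow.coe_subgroup_smul]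
        exact ⟨_, hT' ⟨x, hx, rfl⟩, rfl⟩
      have hge : (T : Subgroup _) ⊓ M ≤ (Q : Subgroup M).map M.subtype := fun x hx =>
        ⟨⟨x, hx.2⟩, hQ (Subgroup.mem_subgroupOf.2 hx), rfl⟩
      refine (SetLike.coe_injective (Set.eq_of_subset_of_ncard_le (SetLike.coe_subset_coe.2 hge)
        ?_ (Set.toFinite _))).ge
      rw [← Nat.card_coe_set_eq, ← Nat.card_coe_set_eq]
      calc Nat.card ↥((Q : Subgroup M).map M.subtype)
          = Nat.card ↥(((Q : Subgroup M).map M.subtype).map (MulAut.conj a).toMonoidHom) :=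
            (Subgroup.card_map_of_injective (MulAut.conj a).injective).symm
        _ ≤ _ := Subgroup.card_le_of_le hle
    · exact fun x hx => ⟨⟨x, hx.2⟩, hQ (Subgroup.mem_subgroupOf.2 hx), rfl⟩
  have hF := Sylow.normalizer_sup_eq_top Q
  rw [hQ] at hF
  have hα : α ∈ M ⊔ Subgroup.normalizer (((T : Subgroup _) ⊓ M : Subgroup _) : Set ↥(F.autGroup R)) := by
    rw [sup_comm, hF]; trivial
  rw [← SetLike.mem_coe, Subgroup.normal_mul] at hα
  obtain ⟨m, hm, n, hn, rfl⟩ := hα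
  refine ⟨m, n, hm, rfl, ?_⟩
  have hnh := hom_of_aut_mem F hRS n.2
  have hnR : (R.subtype.comp (n : MulAut ↥R).toMonoidHom).range = R := le_antisymm
    (by rintro _ ⟨x, rfl⟩; exact ((n : MulAut ↥R) x).2)
    fun x hx => ⟨(n : MulAut ↥R).symm ⟨x, hx⟩,
      congrArg Subtype.val ((n : MulAut ↥R).apply_symm_apply ⟨x, hx⟩)⟩
  obtain ⟨ψ, hψ, hext⟩ := hR.2 R _ hnh hnR
  have hRX : R ≤ extender S R (R.subtype.comp (n : MulAut ↥R).toMonoidHom) := fun g hg =>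
    Subgroup.subset_closure ⟨hRS hg, Subgroup.le_normalizer hg,
      _, hRS ((n : MulAut ↥R) ⟨g, hg⟩).2, fun x hx => by
        show (((n : MulAut ↥R) ⟨g * x * g⁻¹, hx⟩ : ↥R) : Ω) = _
        rw [show (⟨g * x * g⁻¹, hx⟩ : ↥R) = ⟨g, hg⟩ * x * ⟨g, hg⟩⁻¹ from rfl]
        simp⟩
  refine ⟨_, hRX, ?_, ψ, hψ, fun x => hext x x.2 _⟩
  intro g hgS hg hm' hgM
  refine Subgroup.subset_closure ⟨hgS, hg, ?_⟩
  have hgT : (⟨_, hm'⟩ : ↥(F.autGroup R)) ∈ (T : Subgroup _) ⊓ M := ⟨by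
    rw [hT]
    exact Subgroup.mem_subgroupOf.2 ((mem_autInducedBy_iff hRS).2 ⟨g, hgS, fun x => rfl⟩), hgM⟩
  have h2 := ((Subgroup.mem_normalizer_iff.1 hn _).1 hgT).1
  rw [hT] at h2
  obtain ⟨h, hhS, hh⟩ := (mem_autInducedBy_iff hRS).1 (Subgroup.mem_subgroupOf.1 h2)
  refine ⟨h, hhS, fun x hx => Eq.trans ?_ (hh ((n : MulAut ↥R) x))⟩
  show (((n : MulAut ↥R) ⟨g * x * g⁻¹, hx⟩ : ↥R) : Ω) =
    (((n : MulAut ↥R) (normAut R g hg (((n : MulAut ↥R))⁻¹ ((n : MulAut ↥R) x)))) : ↥R)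
  rw [show ((n : MulAut ↥R))⁻¹ ((n : MulAut ↥R) x) = x from
    (n : MulAut ↥R).symm_apply_apply x]
  rfl

end Cfsg.Agent.H90
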