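import Cfsg.Agent.CharInduce.Gallagher
import Cfsg.Agent.CharInduce.CoprimeExt
import Cfsg.Agent.H48.DegreeCongr
import Cfsg.Agent.H85.CliffordExt
import Mathlib.GroupTheory.FiniteAbelian.Duality

/-!
Degrees over a minimal nonabelian quotient (Isaacs 12.3, 12.4).
-/

set_option autoImplicit false
set_option linter.style.haveILetI false

namespace Cfsg.Agent.H90.DegreeSplit

open scoped ComplexConjugate
open Cfsg.Agent.CharBasic Cfsg.Agent.CharInduce

universe u

variable {G : Type u} [Group G] [Fintype G]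

/-- The norm of a restriction to a normal subgroup with abelian quotient divides the index. -/
theorem norm_res_dvd_index (N : Subgroup G) [N.Normal] [Fintype N]
    (hab : ∀ a b : G ⧸ N, a * b = b * a) {χ : G → ℂ} (hχ : IsIrrCharacter G χ) :
    ∃ d : ℕ, d ∣ N.index ∧ classInner (fun n : N => χ n) (fun n : N => χ n) = (d : ℂ) := by
  classical
  letI : CommGroup (G ⧸ N) := { (inferInstance : Group (G ⧸ N)) with mul_comm := hab }
  haveI : Fintype (G ⧸ N) := Fintype.ofFinite _
  haveI : Finite ((G ⧸ N) →* ℂˣ) :=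
    Nat.finite_of_card_ne_zero (by
      rw [CommGroup.card_monoidHom_of_hasEnoughRootsOfUnity (G ⧸ N) ℂ]; exact Nat.card_pos.ne')
  haveI : Fintype ((G ⧸ N) →* ℂˣ) := Fintype.ofFinite _
  let K : Subgroup ((G ⧸ N) →* ℂˣ) :=
    { carrier := {l | ∀ g : G, χ g ≠ 0 → l (g : G ⧸ N) = 1}
      one_mem' := fun g _ => rfl
      mul_mem' := fun {a b} ha hb g hg => by
        rw [MonoidHom.mul_apply, ha g hg, hb g hg, one_mul]
      inv_mem' := fun {a} ha g hg => by rw [MonoidHom.inv_apply, ha g hg, inv_one] }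
  have hterm : ∀ l : (G ⧸ N) →* ℂˣ,
      classInner (fun g : G => (l (g : G ⧸ N) : ℂ) * χ g) χ = if l ∈ K then 1 else 0 := by
    intro l
    rw [show (fun g : G => (l (g : G ⧸ N) : ℂ) * χ g)
      = fun g => ((l.comp (QuotientGroup.mk' N)) g : ℂ) * χ g from rfl,
      classInner_irr (CharInduce.isIrr_hom_mul hχ _) hχ]
    by_cases hl : l ∈ K
    · rw [if_pos hl, if_pos]
      funext g
      by_cases hg : χ g = 0
      · rw [hg, mul_zero]
      · rw [MonoidHom.comp_apply, QuotientGroup.mk'_apply, hl g hg, Units.val_one, one_mul]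
    · rw [if_neg hl, if_neg]
      intro he
      exact hl fun g hg => Units.ext (by
        rw [Units.val_one]; exact (mul_eq_right₀ hg).mp (congrFun he g))
  have hreg : ∀ q : G ⧸ N, ∑ l : (G ⧸ N) →* ℂˣ, (l q : ℂ)
      = if q = 1 then (Nat.card (G ⧸ N) : ℂ) else 0 := by
    intro q
    split_ifs with hq
    · subst hq
      simp only [map_one, Units.val_one, Finset.sum_const, Finset.card_univ, nsmul_eq_mul, mul_one,
        ← Nat.card_eq_fintype_card, CommGroup.card_monoidHom_of_hasEnoughRootsOfUnity (G ⧸ N) ℂ]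
    · obtain ⟨l₀, hl₀⟩ := CommGroup.exists_apply_ne_one_of_hasEnoughRootsOfUnity (G ⧸ N) ℂ hq
      have h1 : (l₀ q : ℂ) * ∑ l : (G ⧸ N) →* ℂˣ, (l q : ℂ) = ∑ l : (G ⧸ N) →* ℂˣ, (l q : ℂ) := by
        rw [Finset.mul_sum]
        exact Fintype.sum_equiv (Equiv.mulLeft l₀) _ _ fun l => by
          simp [MonoidHom.mul_apply]
      have h2 : ((l₀ q : ℂ) - 1) ≠ 0 := sub_ne_zero.mpr fun h => hl₀ (Units.ext h)
      refine Or.resolve_left (mul_eq_zero.mp (?_ : ((l₀ q : ℂ) - 1) * _ = 0)) h2
      rw [sub_mul, one_mul, h1, sub_self]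
  have hsum : ∑ l : (G ⧸ N) →* ℂˣ, classInner (fun g : G => (l (g : G ⧸ N) : ℂ) * χ g) χ
      = (Nat.card K : ℂ) := by
    simp only [hterm]
    rw [Finset.sum_boole, Nat.card_eq_fintype_card, Fintype.card_subtype]
  have hKd : Nat.card K ∣ N.index := by
    rw [Subgroup.index_eq_card, ← CommGroup.card_monoidHom_of_hasEnoughRootsOfUnity (G ⧸ N) ℂ]
    exact K.card_subgroup_dvd_card
  refine ⟨Nat.card K, hKd, ?_⟩
  rw [← hsum]
  simp only [classInner]
  rw [← Finset.mul_sum, Finset.sum_comm]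
  simp only [← Finset.sum_mul, hreg, ite_mul, zero_mul, QuotientGroup.eq_one_iff,
    ← Finset.sum_filter]
  rw [H48.DegreeCongr.sum_subgroup N (fun g => (Nat.card (G ⧸ N) : ℂ) * χ g * conj (χ g))]
  simp only [mul_assoc, ← Finset.mul_sum]
  rw [N.card_eq_card_quotient_mul_card_subgroup, ← mul_assoc _ (Nat.card (G ⧸ N) : ℂ),
    Nat.cast_mul, mul_inv_rev, mul_assoc ((Nat.card N : ℂ)⁻¹),
    inv_mul_cancel₀ (Nat.cast_ne_zero.2 Nat.card_pos.ne'), mul_one]

/-- A prime dividing a degree either divides the index of a normal subgroup with abelian quotient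
or the degree of a constituent. -/
theorem prime_dvd_degree (N : Subgroup G) [N.Normal] [Fintype N]
    (hab : ∀ a b : G ⧸ N, a * b = b * a) {χ : G → ℂ} (hχ : IsIrrCharacter G χ) :
    ∃ (θ : N → ℂ) (m n : ℕ), IsIrrCharacter N θ ∧ θ 1 = m ∧ χ 1 = n ∧ m ∣ n ∧
      (∀ r : ℕ, r.Prime → r ∣ n → r ∣ N.index ∨ r ∣ m) ∧
      (Nat.Coprime n N.index → IsIrrCharacter N (fun k : N => χ k)) := by
  obtain ⟨θ, e, m, hθ, he, -, hnorm, hm, hn⟩ := H48.DegreeCongr.exists_norm_res N hχ
  obtain ⟨d, hd, hd'⟩ := norm_res_dvd_index N hab hχ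
  rw [hnorm, Nat.cast_inj] at hd'
  have hdvd : e * (inertia N θ).index ∣ N.index :=
    dvd_trans ⟨e, by rw [← hd']; ring⟩ hd
  refine ⟨θ, m, _, hθ, hm, hn, dvd_mul_left _ _, fun r hr h => ?_, fun hc => ?_⟩
  · rcases hr.dvd_mul.mp h with h | h
    · exact Or.inl (h.trans hdvd)
    · exact Or.inr h
  · have h1 : e * (inertia N θ).index = 1 := Nat.dvd_one.mp (hc.gcd_eq_one ▸
      Nat.dvd_gcd (dvd_mul_right _ _) hdvd)
    refine isIrr_of_norm_one (CharInduce.IsChar.res (IsIrr.isCharacter hχ) N) ?_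
    rw [hnorm, show e ^ 2 * (inertia N θ).index = e * (e * (inertia N θ).index) by ring, h1,
      Nat.eq_one_of_mul_eq_one_right h1]
    norm_num

/-- Multiplying by characters of the quotient is injective and stays irreducible, when the
restriction is irreducible. -/
theorem twist (N : Subgroup G) [N.Normal] [Fintype N] {χ : G → ℂ} (hχ : IsIrrCharacter G χ)
    (hres : IsIrrCharacter N (fun n : N => χ n)) :
    (∀ β : G → ℂ, IsIrrCharacter G β → (∀ n ∈ N, β n = β 1) → IsIrrCharacter G (β * χ)) ∧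
      ∀ β β' : G → ℂ, IsIrrCharacter G β → IsIrrCharacter G β' → (∀ n ∈ N, β n = β 1) →
        (∀ n ∈ N, β' n = β' 1) → β * χ = β' * χ → β = β' := by
  classical
  have hinv : ∀ x : G, conjFun N (fun n : N => χ n) x = fun n : N => χ n := fun x => funext fun n =>
    IsIrr.isClassFunction hχ _ _
  have key := CharInduce.gallagher N (φ := fun _ => 1) (ϑ := fun n : N => χ n)
    CharBasic.isIrrCharacter_one hres (CharInduce.conjFun_one_char N) hinv
    (by rw [show ((fun _ => 1) * fun n : N => χ n) = fun n : N => χ n from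
      funext fun n => one_mul _]; exact hres) hχ (fun n => rfl)
  have mem : ∀ (β : G → ℂ) (hβ : IsIrrCharacter G β), (∀ n ∈ N, β n = β 1) →
      (⟨β, hβ⟩ : IrrCharacter G) ∈ CharInduce.above N (fun _ => 1) := by
    intro β hβ hk
    rw [CharInduce.mem_above, CharInduce.classInner_indFun_left N _ _ (IsIrr.isClassFunction hβ)]
    exact H85.classInner_ne_zero_symm ((CharInduce.constituent_one_iff N hβ).mpr hk)
  exact ⟨fun β hβ hk => (key.1 _ (mem β hβ hk)).1, fun β β' hβ hβ' hk hk' he =>
    congrArg Subtype.val (key.2.1 _ (mem β hβ hk) _ (mem β' hβ' hk') he)⟩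

/-- Isaacs 12.4: an irreducible character of `C` with irreducible restriction to `N` has a linear
twist with inertia group `C`, when the nontrivial linear characters of `C/N` have inertia group `C`. -/
theorem exists_degree_index_mul (C : Subgroup G) [C.Normal] [Fintype C] (N : Subgroup C) [N.Normal]
    [Fintype N]
    (hNG : ∀ (g : G) (n : C), n ∈ N →
      (⟨g * n * g⁻¹, (inferInstance : C.Normal).conj_mem n n.2 g⟩ : C) ∈ N)
    (hl₀ : ∃ l₀ : C →* ℂˣ, N ≤ l₀.ker ∧ l₀ ≠ 1)
    (hfree : ∀ g : G, g ∉ C → ∀ l : C →* ℂˣ, N ≤ l.ker →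
      conjFun C (fun c => (l c : ℂ)) g = (fun c => (l c : ℂ)) → l = 1)
    {ψ : C → ℂ} (hψ : IsIrrCharacter C ψ) (hres : IsIrrCharacter N (fun n : N => ψ n)) :
    ∃ χ : G → ℂ, IsIrrCharacter G χ ∧ χ 1 = (C.index : ℂ) * ψ 1 := by
  classical
  obtain ⟨htw, hinj⟩ := twist N hψ hres
  haveI : Finite (C →* ℂˣ) := by
    haveI : Fintype (IrrCharacter C) := inferInstance
    exact Finite.of_injective
      (fun l : C →* ℂˣ => (⟨_, CharInduce.isIrrCharacter_hom l⟩ : IrrCharacter C))
      fun a b h => MonoidHom.ext fun c => Units.ext (congrFun (congrArg Subtype.val h) c)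
  let L := {l : C →* ℂˣ // N ≤ l.ker}
  have hlk : ∀ l : L, ∀ n ∈ N, ((l.1 n : ℂ)) = (l.1 1 : ℂ) := fun l n hn => by
    rw [MonoidHom.mem_ker.mp (l.2 hn), map_one]
  let Φ : L → C → ℂ := fun l => (fun c => (l.1 c : ℂ)) * ψ
  have hΦ : ∀ l, IsIrrCharacter C (Φ l) := fun l =>
    htw _ (CharInduce.isIrrCharacter_hom l.1) (hlk l)
  have hΦinj : Function.Injective Φ := fun a b h =>
    Subtype.ext (MonoidHom.ext fun c => Units.ext (congrFun
      (hinj _ _ (CharInduce.isIrrCharacter_hom a.1) (CharInduce.isIrrCharacter_hom b.1)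
        (hlk a) (hlk b) h) c))
  suffices h : ∃ l : L, ∀ g : G, g ∉ C → conjFun C (Φ l) g ≠ Φ l by
    obtain ⟨l, hl⟩ := h
    have hI : C = inertia C (Φ l) := by
      refine le_antisymm (fun c hc => ?_) fun g hg => ?_
      · exact funext fun n => IsIrr.isClassFunction (hΦ l) n ⟨c, hc⟩
      · by_contra hgc
        exact hl g hgc hg
    refine ⟨_, (H85.isIrr_indFun_ext C (hΦ l) C hI le_rfl (hΦ l) fun n => rfl).1, ?_⟩
    rw [CharInduce.indFun_one]
    simp [Φ]
  by_contra hno
  push Not at hno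
  choose g hg hfix using hno
  -- at most one bad twist in each coset
  have hone : ∀ a b : L, QuotientGroup.mk (s := C) (g a) = QuotientGroup.mk (g b) → a = b := by
    intro a b hab
    have hgb : conjFun C (Φ b) (g a) = Φ b := by
      have hc : (g a) * (g b)⁻¹ ∈ C := by
        have := QuotientGroup.eq.mp hab
        have h2 := (inferInstance : C.Normal).conj_mem _ (inv_mem this) (g b)
        rw [show g b * ((g a)⁻¹ * g b)⁻¹ * (g b)⁻¹ = g b * ((g b)⁻¹ * g a) * (g b)⁻¹ by group] at h2
        simpa [mul_assoc] using h2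
      have hmem : g b ∈ inertia C (Φ b) := hfix b
      have hcm : (g a) * (g b)⁻¹ ∈ inertia C (Φ b) :=
        funext fun n => IsIrr.isClassFunction (hΦ b) n ⟨_, hc⟩
      have := mul_mem hcm hmem
      rwa [inv_mul_cancel_right] at this
    let μ : C →* ℂˣ := b.1 * a.1⁻¹
    let α : C →* C :=
      { toFun := fun c => ⟨g a * c * (g a)⁻¹, (inferInstance : C.Normal).conj_mem c c.2 (g a)⟩
        map_one' := Subtype.ext (by simp)
        map_mul' := fun x y => Subtype.ext (by simp [mul_assoc]) }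
    have hμ : N ≤ μ.ker := fun n hn => by
      rw [MonoidHom.mem_ker, MonoidHom.mul_apply, MonoidHom.inv_apply, MonoidHom.mem_ker.mp (b.2 hn),
        MonoidHom.mem_ker.mp (a.2 hn), inv_one, mul_one]
    have hμ1 : μ = 1 := by
      refine hfree (g a) (hg a) μ hμ ?_
      -- compare the two fixed twists
      have hb' : ∀ c : C, (μ c : ℂ) * Φ a c = Φ b c := fun c => by
        simp only [μ, Φ, Pi.mul_apply, MonoidHom.mul_apply, MonoidHom.inv_apply, Units.val_mul,
          Units.val_inv_eq_inv_val]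
        field_simp
      have hk : N ≤ (μ.comp α).ker := fun n hn => hμ (hNG (g a) n hn)
      have h1 : (fun c : C => ((μ.comp α) c : ℂ)) * Φ a = (fun c : C => (μ c : ℂ)) * Φ a := by
        funext c
        have ea := congrFun (hfix a) c
        have eb := congrFun hgb c
        change Φ a (α c) = Φ a c at ea
        change Φ b (α c) = Φ b c at eb
        rw [← hb', ← hb', ea] at eb
        exact eb
      obtain ⟨-, hinj'⟩ := twist N (hΦ a) (by
        rw [show (fun n : N => Φ a n) = fun n : N => ψ n from funext fun n => by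
          simp [Φ, MonoidHom.mem_ker.mp (a.2 n.2)]]
        exact hres)
      show (fun c : C => ((μ.comp α) c : ℂ)) = fun c => (μ c : ℂ)
      exact hinj' _ _ (CharInduce.isIrrCharacter_hom (μ.comp α)) (CharInduce.isIrrCharacter_hom μ)
        (fun n hn => by rw [MonoidHom.mem_ker.mp (hk hn), map_one])
        (fun n hn => by rw [MonoidHom.mem_ker.mp (hμ hn), map_one]) h1
    exact Subtype.ext (mul_inv_eq_one.mp hμ1).symm
  obtain ⟨l₀, hl₀N, hl₀1⟩ := hl₀
  -- the quotient embeds into the nontrivial linear characters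
  let τ : G → L := fun x =>
    ⟨l₀.comp
      { toFun := fun c => ⟨x * c * x⁻¹, (inferInstance : C.Normal).conj_mem c c.2 x⟩
        map_one' := Subtype.ext (by simp)
        map_mul' := fun u v => Subtype.ext (by simp [mul_assoc]) },
      fun n hn => hl₀N (hNG x n hn)⟩
  let ι : Option (G ⧸ C) → L := fun q => q.elim ⟨1, fun n _ => rfl⟩ fun q => τ q.out
  have hτ : ∀ x y : G, τ x = τ y → y⁻¹ * x ∈ C := by
    intro x y hxy
    by_contra hc
    have hc' : x * y⁻¹ ∉ C := fun h => hc (by
      have := (inferInstance : C.Normal).conj_mem _ h y⁻¹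
      rwa [inv_inv, show y⁻¹ * (x * y⁻¹) * y = y⁻¹ * x by group] at this)
    refine hl₀1 (hfree _ hc' l₀ hl₀N (funext fun c => ?_))
    have := DFunLike.congr_fun (congrArg Subtype.val hxy)
      (⟨y⁻¹ * c * y, by simpa using (inferInstance : C.Normal).conj_mem c c.2 y⁻¹⟩ : C)
    refine (congrArg (fun u : ℂˣ => (u : ℂ)) ?_)
    refine Eq.trans (congrArg l₀ (Subtype.ext ?_)) (this.trans (congrArg l₀ (Subtype.ext ?_)))
    · simp [mul_assoc]
    · simp [mul_assoc]
  have hι : Function.Injective ι := by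
    intro x y hxy
    rcases x with _ | x <;> rcases y with _ | y
    · rfl
    · exact absurd (congrArg Subtype.val hxy).symm fun h => hl₀1 (MonoidHom.ext fun c => by
        have := DFunLike.congr_fun h
          (⟨y.out⁻¹ * c * y.out, by simpa using (inferInstance : C.Normal).conj_mem c c.2 y.out⁻¹⟩ : C)
        simpa [ι, τ, mul_assoc] using this)
    · exact absurd (congrArg Subtype.val hxy) fun h => hl₀1 (MonoidHom.ext fun c => by
        have := DFunLike.congr_fun h
          (⟨x.out⁻¹ * c * x.out, by simpa using (inferInstance : C.Normal).conj_mem c c.2 x.out⁻¹⟩ : C)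
        simpa [ι, τ, mul_assoc] using this)
    · refine congrArg some ?_
      rw [← QuotientGroup.out_eq' x, ← QuotientGroup.out_eq' y]
      exact (QuotientGroup.eq.mpr (hτ _ _ hxy)).symm
  have hj : Function.Injective (fun a : L => QuotientGroup.mk (s := C) (g a)) := hone
  have h1 := Nat.card_le_card_of_injective ι hι
  have h2 := Nat.card_le_card_of_injective _ hj
  rw [Nat.card_eq_fintype_card (α := Option _), Fintype.card_option, ← Nat.card_eq_fintype_card] at h1
  omega

end Cfsg.Agent.H90.DegreeSplit
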