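import Mathlib

/-!
Finite solvable nonabelian groups all of whose proper quotients are abelian.
-/

set_option autoImplicit false
set_option linter.style.haveILetI false

namespace Cfsg.Agent.H90.MinNonabelian

open Subgroup
open scoped commutatorElement

variable {Q : Type*} [Group Q] [Finite Q]

/-- Either a `p`-group, or there is a proper normal abelian `q`-subgroup containing the derived
subgroup with every element outside acting fixed-point-freely. -/
theorem main (hsol : Group.IsSolvable Q) (hnab : commutator Q ≠ ⊥)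
    (hmin : ∀ D : Subgroup Q, D.Normal → D ≠ ⊥ → commutator Q ≤ D) :
    (∃ p : ℕ, p.Prime ∧ IsPGroup p Q) ∨
      ∃ (C : Subgroup Q) (q : ℕ), q.Prime ∧ C.Normal ∧ C ≠ ⊤ ∧ C ≠ ⊥ ∧ commutator Q ≤ C ∧
        IsPGroup q C ∧ (∀ a ∈ C, ∀ b ∈ C, a * b = b * a) ∧
        ∀ g : Q, g ∉ C → ∀ c ∈ C, ∃ d ∈ C, g * d * g⁻¹ * d⁻¹ = c := by
  classical
  set M := commutator Q with hM
  have hMab : ∀ a ∈ M, ∀ b ∈ M, a * b = b * a := by
    intro a ha b hb
    have h2 : ⁅M, M⁆ = ⊥ := by
      by_contra hne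
      haveI := hsol
      haveI : Nontrivial M := by
        rwa [Subgroup.nontrivial_iff_ne_bot]
      have hlt := Group.IsSolvable.commutator_lt_of_ne_bot (H := M) hnab
      exact absurd (hmin _ inferInstance hne) (not_le_of_gt hlt)
    exact commutatorElement_eq_one_iff_mul_comm.mp (by
      rw [← Subgroup.mem_bot, ← h2]; exact commutator_mem_commutator ha hb)
  obtain ⟨q, hq, hqM⟩ := Nat.exists_prime_and_dvd
    (show Nat.card M ≠ 1 from fun h => hnab (Subgroup.card_eq_one.mp h))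
  haveI : Fact q.Prime := ⟨hq⟩
  set C := centralizer (M : Set Q) with hC
  haveI hCn : C.Normal := inferInstance
  have hMC : M ≤ C := fun a ha => mem_centralizer_iff.mpr fun b hb => hMab b hb a ha
  by_cases htop : C = ⊤
  · left
    refine ⟨q, hq, ?_⟩
    have hcen : commutator Q ≤ center Q := fun m hm => mem_center_iff.mpr fun x =>
      (mem_centralizer_iff.mp (htop ▸ mem_top x : x ∈ C) m hm).symm
    haveI : Group.IsNilpotent Q := by
      haveI : IsMulCommutative (Q ⧸ center Q) := ⟨⟨fun a b => by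
        induction a using QuotientGroup.induction_on with
        | H a =>
          induction b using QuotientGroup.induction_on with
          | H b =>
            rw [← QuotientGroup.mk_mul, ← QuotientGroup.mk_mul, QuotientGroup.eq]
            have := hcen (commutator_mem_commutator (mem_top b⁻¹) (mem_top a⁻¹))
            simpa [commutatorElement_def, mul_assoc] using this⟩⟩
      letI : CommGroup (Q ⧸ center Q) :=
        { (inferInstance : Group (Q ⧸ center Q)) with
          mul_comm := fun a b => this.is_comm.comm a b }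
      exact Group.of_quotient_center_nilpotent inferInstance
    by_contra hp
    obtain ⟨r, hr, hrd, hrq⟩ : ∃ r : ℕ, r.Prime ∧ r ∣ Nat.card Q ∧ r ≠ q := by
      by_contra hall
      push Not at hall
      exact hp (IsPGroup.of_card (n := (Nat.card Q).primeFactorsList.length)
        (Nat.eq_prime_pow_of_unique_prime_dvd Nat.card_pos.ne' fun {d} hd h => hall d hd h))
    haveI : Fact r.Prime := ⟨hr⟩
    obtain ⟨R⟩ : Nonempty (Sylow r Q) := inferInstance
    have hRn : (R : Subgroup Q).Normal :=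
      Sylow.normal_of_normalizerCondition Group.normalizerCondition_of_isNilpotent R
    have hR1 : (R : Subgroup Q) ≠ ⊥ := fun h => by
      have := R.dvd_card_of_dvd_card hrd
      rw [h, Subgroup.card_bot] at this
      exact hr.not_dvd_one this
    have hqR := hqM.trans (Subgroup.card_dvd_of_le (hmin _ hRn hR1))
    obtain ⟨k, hk⟩ := R.isPGroup'.exists_card_eq
    rw [hk] at hqR
    exact hrq ((Nat.prime_dvd_prime_iff_eq hq hr).mp (hq.dvd_of_dvd_pow hqR)).symm
  right
  have hcomm : ∀ x y : Q, x * y * x⁻¹ * y⁻¹ ∈ M := fun x y =>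
    commutator_mem_commutator (mem_top x) (mem_top y)
  -- centralisers in `C` of an element outside `C` are normal
  have hnorm : ∀ (g : Q) (K : Subgroup Q), K ≤ C → K.Normal →
      (K ⊓ centralizer ({g} : Set Q)).Normal := by
    intro g K hK hKn
    refine ⟨fun d hd x => Subgroup.mem_inf.mpr ⟨hKn.conj_mem d hd.1 x, ?_⟩⟩
    rw [mem_centralizer_singleton_iff]
    have h1 : d * g = g * d := mem_centralizer_singleton_iff.mp hd.2
    have h2 := mem_centralizer_iff.mp (hK hd.1) _ (hcomm x⁻¹ g)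
    have hg' : x⁻¹ * g * x = (x⁻¹ * g * x⁻¹⁻¹ * g⁻¹) * g := by group
    have h3 : d * (x⁻¹ * g * x) = x⁻¹ * g * x * d := by
      rw [hg', ← mul_assoc, ← h2, mul_assoc, h1, ← mul_assoc]
    calc x * d * x⁻¹ * g = x * (d * (x⁻¹ * g * x)) * x⁻¹ := by group
      _ = x * (x⁻¹ * g * x * d) * x⁻¹ := by rw [h3]
      _ = g * (x * d * x⁻¹) := by group
  have hfree : ∀ g : Q, g ∉ C → M ⊓ centralizer ({g} : Set Q) = ⊥ := by
    intro g hg
    by_contra hne
    have hle := hmin _ (hnorm g M hMC inferInstance) hne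
    exact hg (mem_centralizer_iff.mpr fun m hm => mem_centralizer_singleton_iff.mp (hle hm).2)
  have hsurj : ∀ g : Q, g ∉ C → ∀ c ∈ M, ∃ m ∈ M, g * m * g⁻¹ * m⁻¹ = c := by
    intro g hg c hc
    let φ : M → M := fun m => ⟨g * m * g⁻¹ * (m : Q)⁻¹, hcomm g m⟩
    have hinj : Function.Injective φ := by
      intro a b hab
      have h : g * a * g⁻¹ * (a : Q)⁻¹ = g * b * g⁻¹ * (b : Q)⁻¹ := congrArg Subtype.val hab
      have hz : (b : Q)⁻¹ * a ∈ M ⊓ centralizer ({g} : Set Q) := by
        refine Subgroup.mem_inf.mpr ⟨mul_mem (inv_mem b.2) a.2, ?_⟩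
        rw [mem_centralizer_singleton_iff]
        have h2 : g * (a : Q) * g⁻¹ = g * b * g⁻¹ * ((b : Q)⁻¹ * a) := by
          rw [← mul_assoc, ← h]; group
        calc (b : Q)⁻¹ * a * g = g * (g⁻¹ * ((b : Q)⁻¹ * a)) * g := by group
          _ = g * ((b : Q)⁻¹ * a) := by
            have h3 : (b : Q)⁻¹ * a = g * ((b : Q)⁻¹ * a) * g⁻¹ := by
              calc (b : Q)⁻¹ * a = (g * b * g⁻¹)⁻¹ * (g * b * g⁻¹ * ((b : Q)⁻¹ * a)) := by group
                _ = (g * b * g⁻¹)⁻¹ * (g * a * g⁻¹) := by rw [h2]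
                _ = g * ((b : Q)⁻¹ * a) * g⁻¹ := by group
            conv_lhs => rw [h3]
            group
      rw [hfree g hg, Subgroup.mem_bot, inv_mul_eq_one] at hz
      exact Subtype.ext hz.symm
    obtain ⟨m, hm⟩ := (Finite.injective_iff_surjective.mp hinj) ⟨c, hc⟩
    exact ⟨m, m.2, congrArg Subtype.val hm⟩
  have hCM : C = M := by
    refine le_antisymm (fun c hc => ?_) hMC
    obtain ⟨g, hg⟩ : ∃ g : Q, g ∉ C := not_forall.mp fun h => htop ((eq_top_iff' C).mpr h)
    obtain ⟨m, hm, hgm⟩ := hsurj g hg _ (hcomm g c)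
    have hD : C ⊓ centralizer ({g} : Set Q) = ⊥ := by
      by_contra hne
      have hle := hmin _ (hnorm g C le_rfl hCn) hne
      exact hnab (eq_bot_iff.mpr fun x hx => hfree g hg ▸ ⟨hx, (hle hx).2⟩)
    have hz : c * m⁻¹ ∈ C ⊓ centralizer ({g} : Set Q) := by
      refine Subgroup.mem_inf.mpr ⟨mul_mem hc (inv_mem (hMC hm)), ?_⟩
      rw [mem_centralizer_singleton_iff]
      have hk : m * (c * m⁻¹) = (c * m⁻¹) * m := by
        rw [inv_mul_cancel_right, ← mul_assoc,
          mem_centralizer_iff.mp hc m hm, mul_inv_cancel_right]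
      have e1 : g * (c * m⁻¹) * g⁻¹ = c * m⁻¹ := by
        have hkC : c * m⁻¹ ∈ C := mul_mem hc (inv_mem (hMC hm))
        have hk2 := mem_centralizer_iff.mp hkC _ (hcomm g m)
        calc g * (c * m⁻¹) * g⁻¹ = (g * c * g⁻¹ * c⁻¹) * c * (g * m * g⁻¹)⁻¹ := by group
          _ = (g * m * g⁻¹ * m⁻¹) * c * (g * m * g⁻¹)⁻¹ := by rw [hgm]
          _ = (g * m * g⁻¹ * m⁻¹) * (c * m⁻¹) * (g * m * g⁻¹ * m⁻¹)⁻¹ := by group
          _ = c * m⁻¹ := by rw [hk2]; group
      calc c * m⁻¹ * g = g * (c * m⁻¹) * g⁻¹ * g := by rw [e1]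
        _ = g * (c * m⁻¹) := by group
    rw [hD, Subgroup.mem_bot, mul_inv_eq_one] at hz
    exact hz ▸ hm
  -- exponent `q`
  let T : Subgroup Q :=
    { carrier := {x | x ∈ M ∧ x ^ q = 1}
      one_mem' := ⟨one_mem _, one_pow q⟩
      mul_mem' := fun {a b} ha hb => ⟨mul_mem ha.1 hb.1, by
        rw [(show Commute a b from hMab a ha.1 b hb.1).mul_pow, ha.2, hb.2, one_mul]⟩
      inv_mem' := fun {a} ha => ⟨inv_mem ha.1, by rw [inv_pow, ha.2, inv_one]⟩ }
  have hTn : T.Normal := ⟨fun a ha x => ⟨(inferInstance : M.Normal).conj_mem a ha.1 x, by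
    rw [conj_pow, ha.2, mul_one, mul_inv_cancel]⟩⟩
  obtain ⟨x, hx⟩ := exists_prime_orderOf_dvd_card' q hqM
  have hT1 : T ≠ ⊥ := fun h => by
    have hxT : (x : Q) ∈ T := ⟨x.2, by rw [← hx, ← Subgroup.orderOf_coe, pow_orderOf_eq_one]⟩
    rw [h, Subgroup.mem_bot] at hxT
    rw [← Subgroup.orderOf_coe, hxT, orderOf_one] at hx
    exact hq.ne_one hx.symm
  refine ⟨C, q, hq, hCn, htop, hCM ▸ hnab, hMC, ?_, fun a ha b hb =>
    hMab a (hCM ▸ ha) b (hCM ▸ hb), fun g hg c hc => ?_⟩
  · intro a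
    refine ⟨1, Subtype.ext ?_⟩
    rw [SubmonoidClass.coe_pow, pow_one]
    exact (hmin T hTn hT1 (hCM ▸ a.2 : (a : Q) ∈ M)).2
  · obtain ⟨m, hm, h⟩ := hsurj g hg c (hCM ▸ hc)
    exact ⟨m, hCM.symm ▸ hm, h⟩

end Cfsg.Agent.H90.MinNonabelian
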