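import Cfsg.Prelude.Def_CaseTheorems
import Cfsg.Prelude.Def_OddOrderLocal
import Cfsg.Agent.PGroups.Basic

/-!
A 2-group of sectional rank at most two is metacyclic.
-/

set_option autoImplicit false
set_option linter.unusedSectionVars false
set_option linter.style.haveILetI false

namespace Cfsg.Agent.H90.SR2

open Subgroup
open scoped commutatorElement

variable {G : Type*} [Group G]

/-- Normal subgroups containing the commutator of two generators give commutative quotients. -/
theorem commutator_le_of_pair {a b : G} (hgen : closure ({a, b} : Set G) = ⊤) (N : Subgroup G)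
    [N.Normal] (h : ⁅a, b⁆ ∈ N) : commutator G ≤ N := by
  set π := QuotientGroup.mk' N with hπ
  have hab : Commute (π a) (π b) := by
    rw [← commutatorElement_eq_one_iff_commute, ← map_commutatorElement]
    exact (QuotientGroup.eq_one_iff _).2 h
  have hc : ∀ z : G ⧸ N, Commute (π a) z → Commute (π b) z → ∀ g : G, Commute (π g) z := by
    intro z ha hb g
    have : closure ({a, b} : Set G) ≤ (centralizer {z}).comap π := (closure_le _).2 (by
      rintro x (rfl | rfl) <;> refine mem_centralizer_iff.2 fun v hv => ?_ <;>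
        rw [Set.mem_singleton_iff.1 hv]
      exacts [ha.symm.eq, hb.symm.eq])
    exact ((mem_centralizer_iff.1 (this (hgen.ge (mem_top g))) z rfl).symm :)
  rw [commutator_def, commutator_le]
  intro g _ g' _
  rw [← QuotientGroup.eq_one_iff]
  show π ⁅g, g'⁆ = 1
  rw [map_commutatorElement, commutatorElement_eq_one_iff_commute]
  exact hc _ (hc _ (Commute.refl _) hab.symm g').symm (hc _ hab (Commute.refl _) g').symm g

theorem map_commutator_top {H : Type*} [Group H] {f : G →* H} (hf : Function.Surjective f) :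
    (commutator G).map f = commutator H := by
  rw [commutator_def, map_commutator, map_top_of_surjective f hf]; rfl

variable [Finite G]

theorem isMetacyclic_of_pair {a b : G} (hgen : closure ({a, b} : Set G) = ⊤)
    (h : ⁅a, b⁆ ∈ zpowers a) : Cfsg.IsMetacyclic G := by
  have hn : (zpowers a).Normal := by
    have hb : b * a * b⁻¹ ∈ zpowers a := by
      rw [show b * a * b⁻¹ = ⁅a, b⁆⁻¹ * a by simp only [commutatorElement_def]; group]
      exact mul_mem (inv_mem h) (mem_zpowers a)
    have hle : zpowers (b * a * b⁻¹) = zpowers a := by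
      refine eq_of_le_of_card_ge (zpowers_le.2 hb) (le_of_eq ?_)
      rw [Nat.card_zpowers, Nat.card_zpowers]
      exact ((MulAut.conj b).orderOf_eq a).symm
    have hbn : b ∈ normalizer (zpowers a : Set G) := by
      refine mem_normalizer_iff.2 fun x => ?_
      have hm : (zpowers a).map (MulAut.conj b).toMonoidHom = zpowers a := by
        rw [MonoidHom.map_zpowers]; exact hle
      conv_rhs => rw [← hm]
      exact ⟨fun hx => ⟨x, hx, rfl⟩,
        fun ⟨y, hy, he⟩ => (MulAut.conj b).injective he ▸ hy⟩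
    refine normalizer_eq_top_iff.1 (top_le_iff.1 (hgen ▸ (closure_le _).2 ?_))
    rintro x (rfl | rfl)
    exacts [le_normalizer (mem_zpowers _), hbn]
  refine ⟨zpowers a, hn, inferInstance, ⟨QuotientGroup.mk' (zpowers a) b, ?_⟩⟩
  intro y
  obtain ⟨y, rfl⟩ := QuotientGroup.mk'_surjective _ y
  have : closure ({a, b} : Set G) ≤
      (zpowers (QuotientGroup.mk' (zpowers a) b)).comap (QuotientGroup.mk' (zpowers a)) := by
    refine (closure_le _).2 ?_
    rintro x (rfl | rfl)
    · rw [SetLike.mem_coe, mem_comap, show QuotientGroup.mk' (zpowers x) x = 1 from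
        (QuotientGroup.eq_one_iff _).2 (mem_zpowers x)]
      exact one_mem _
    · exact mem_zpowers _
  exact this (hgen.ge (mem_top y))

/-- Elementary abelian subgroups of quotients have order at most four. -/
theorem rank_quotient (hr : Cfsg.SectionalPRankLE 2 2 G) {Q : Type*} [Group Q] (f : G →* Q)
    (hf : Function.Surjective f) : Cfsg.PRankLE 2 2 Q := by
  intro A hA hA2
  let g : ↥(A.comap f) →* ↥A := (f.comp (A.comap f).subtype).codRestrict A fun x => x.2
  have hg : Function.Surjective g := fun y => by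
    obtain ⟨x, hx⟩ := hf y
    exact ⟨⟨x, by show f x ∈ A; rw [hx]; exact y.2⟩, Subtype.ext hx⟩
  let e := QuotientGroup.quotientKerEquivOfSurjective g hg
  refine le_trans (le_of_eq ?_) (hr (A.comap f) g.ker ⊤ ⟨⟨fun x y => Subtype.ext (e.injective ?_)⟩⟩
    fun x _ => e.injective ?_)
  · rw [card_top]
    exact (Nat.card_congr e.toEquiv).symm
  · haveI := hA
    show e ((x : _) * (y : _)) = e ((y : _) * (x : _))
    rw [map_mul, map_mul, mul_comm']
  · rw [map_pow, map_one]
    exact Subtype.ext (hA2 _ (e x).2)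

theorem three_involutions (hR : Cfsg.PRankLE 2 2 G) {x y z : G} (hx : x ^ 2 = 1) (hy : y ^ 2 = 1)
    (hz : z ^ 2 = 1) (hxy : Commute x y) (hxz : Commute x z) (hyz : Commute y z) (hx1 : x ≠ 1)
    (hy1 : y ≠ 1) (hz1 : z ≠ 1) (hzx : z ≠ x) (hzy : z ≠ y) : x = y ∨ z = x * y := by
  classical
  by_contra hne
  push Not at hne
  set A := closure ({x, y, z} : Set G)
  have hcomm : ∀ u ∈ ({x, y, z} : Set G), ∀ v ∈ ({x, y, z} : Set G), u * v = v * u := by
    rintro u (rfl | rfl | rfl) v (rfl | rfl | rfl)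
    exacts [rfl, hxy, hxz, hxy.symm, rfl, hyz, hxz.symm, hyz.symm, rfl]
  haveI hA : IsMulCommutative A := isMulCommutative_closure hcomm
  have h2 : ∀ u ∈ A, u ^ 2 = 1 := by
    intro u hu
    induction hu using closure_induction with
    | mem u hu => rcases hu with rfl | rfl | rfl <;> assumption
    | one => exact one_pow _
    | mul u v hu hv ihu ihv =>
      rw [Commute.mul_pow (show Commute u v from
        congrArg Subtype.val (mul_comm' (⟨u, hu⟩ : A) ⟨v, hv⟩)), ihu, ihv, one_mul]
    | inv u _ ih => rw [inv_pow, ih, inv_one]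
  have hcard := hR A hA h2
  let T : Finset G := {1, x, y, z, x * y}
  have hT : ∀ u ∈ T, u ∈ A := by
    intro u hu
    simp only [T, Finset.mem_insert, Finset.mem_singleton] at hu
    have hxA : x ∈ A := subset_closure (by simp)
    have hyA : y ∈ A := subset_closure (by simp)
    rcases hu with rfl | rfl | rfl | rfl | rfl
    exacts [one_mem _, hxA, hyA, subset_closure (by simp), mul_mem hxA hyA]
  have h5 : T.card = 5 := by
    have e1 : x * y ≠ 1 := fun h => hne.1 (by
      rw [mul_eq_one_iff_eq_inv] at h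
      rw [h]
      exact inv_eq_of_mul_eq_one_right (by rwa [← pow_two]))
    have e2 : x * y ≠ x := fun h => hy1 (by simpa using h)
    have e3 : x * y ≠ y := fun h => hx1 (by simpa using h)
    rw [Finset.card_insert_of_notMem (by simp [hx1.symm, hy1.symm, hz1.symm, e1.symm]),
      Finset.card_insert_of_notMem (by simp [hne.1, hzx.symm, e2.symm]),
      Finset.card_insert_of_notMem (by simp [hzy.symm, e3.symm]),
      Finset.card_insert_of_notMem (by simp [hne.2]), Finset.card_singleton]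
  have hle : T.card ≤ Nat.card A := by
    rw [← Nat.card_eq_finsetCard]
    exact Nat.card_le_card_of_injective (fun u => (⟨u.1, hT _ u.2⟩ : A)) fun u v h =>
      Subtype.ext (congrArg (fun w : A => (w : G)) h)
  rw [h5] at hle
  norm_num at hcard
  omega

theorem closure_pair_swap {a b : G} : closure ({a, b} : Set G) = closure ({b, a} : Set G) := by
  rw [Set.pair_comm]

theorem closure_pair_mul {a b : G} {n : ℤ} :
    closure ({a * b ^ n, b} : Set G) = closure ({a, b} : Set G) := by
  refine le_antisymm ((closure_le _).2 ?_) ((closure_le _).2 ?_)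
  · rintro x (rfl | rfl)
    · exact mul_mem (subset_closure (by simp)) (Subgroup.zpow_mem _ (subset_closure (by simp)) n)
    · exact subset_closure (by simp)
  · rintro x (rfl | rfl)
    · have := mul_mem (subset_closure (show x * b ^ n ∈ ({x * b ^ n, b} : Set G) by simp))
        (inv_mem (Subgroup.zpow_mem _ (subset_closure (show b ∈ ({x * b ^ n, b} : Set G) by simp)) n))
      rwa [mul_inv_cancel_right] at this
    · exact subset_closure (by simp)

theorem pow_half {u : G} {i : ℕ} (h : orderOf u = 2 ^ (i + 1)) :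
    (u ^ 2 ^ i) ^ 2 = 1 ∧ u ^ 2 ^ i ≠ 1 := by
  refine ⟨by rw [← pow_mul, ← pow_succ, ← h, pow_orderOf_eq_one], fun h1 => ?_⟩
  have h2 := orderOf_dvd_of_pow_eq_one h1
  rw [h] at h2
  have := (Nat.pow_dvd_pow_iff_le_right (by norm_num : 1 < 2)).1 h2
  omega

/-- The two-generator groups with central commutator of order two. -/
theorem exists_even_power (h2 : IsPGroup 2 G) (hR : Cfsg.PRankLE 2 2 G) {c : G}
    (hcz : c ∈ center G) (hc2 : c ^ 2 = 1) (hc1 : c ≠ 1) :
    ∀ (N : ℕ) (a b : G), orderOf a + orderOf b = N → closure ({a, b} : Set G) = ⊤ → ⁅a, b⁆ = c →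
      ∃ (a' b' : G) (l : ℕ), closure ({a', b'} : Set G) = ⊤ ∧ ⁅a', b'⁆ = a' ^ (2 * l) := by
  intro N
  induction N using Nat.strong_induction_on with
  | _ N ih =>
  intro a b hN hgen hab
  have hcC : ∀ g : G, Commute c g := fun g => (mem_center_iff.1 hcz g).symm
  have hcinv : c⁻¹ = c := inv_eq_of_mul_eq_one_right (by rwa [← pow_two])
  have hba : ⁅b, a⁆ = c := by rw [← commutatorElement_inv, hab, hcinv]
  have hbca : a * b = c * (b * a) := by
    rw [← hab]; simp only [commutatorElement_def]; group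
  -- the sum of the two generators
  have hsq : (a * b) ^ 2 = c * (a ^ 2 * b ^ 2) := by
    rw [pow_two, pow_two, pow_two]
    calc a * b * (a * b) = a * (b * a) * b := by group
      _ = a * (c * (a * b)) * b := by
          congr 2
          rw [hbca, ← mul_assoc c c, ← pow_two, hc2, one_mul]
      _ = c * (a * a * (b * b)) := by
          rw [← mul_assoc a c, ← (hcC a).eq]; group
  have hsqz : ∀ u v : G, closure ({u, v} : Set G) = ⊤ → ⁅u, v⁆ = c → u ^ 2 ∈ center G := by
    intro u v huv huvc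
    have huu : Commute (u ^ 2) v := by
      rw [← commutatorElement_eq_one_iff_commute, pow_two,
        show ⁅u * u, v⁆ = u * ⁅u, v⁆ * u⁻¹ * ⁅u, v⁆ by simp only [commutatorElement_def]; group,
        huvc, ← (hcC u).eq, mul_inv_cancel_right, ← pow_two, hc2]
    refine mem_center_iff.2 fun g => ?_
    have : closure ({u, v} : Set G) ≤ centralizer {u ^ 2} := (closure_le _).2 (by
      rintro x (rfl | rfl) <;> refine mem_centralizer_iff.2 fun w hw => ?_ <;>
        rw [Set.mem_singleton_iff.1 hw]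
      exacts [((Commute.refl _).pow_left 2).eq, huu.eq])
    exact ((mem_centralizer_iff.1 (this (huv.ge (mem_top g))) _ rfl).symm :)
  have ha1 : a ≠ 1 := fun h => hc1 (by rw [← hab, h, commutatorElement_one_left])
  have hb1 : b ≠ 1 := fun h => hc1 (by rw [← hab, h, commutatorElement_one_right])
  have hab' : ∀ n : ℤ, ⁅a * b ^ n, b⁆ = c := fun n => by
    rw [show ⁅a * b ^ n, b⁆ = a * ⁅b ^ n, b⁆ * a⁻¹ * ⁅a, b⁆ by
      simp only [commutatorElement_def]; group,
      commutatorElement_eq_one_iff_commute.2 ((Commute.refl b).zpow_left n), mul_one, mul_inv_cancel,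
      one_mul, hab]
  have hord : ∀ {u : G}, u ≠ 1 → ∃ i, orderOf u = 2 ^ (i + 1) := fun {u} hu => by
    obtain ⟨k, hk⟩ := IsPGroup.iff_orderOf.1 h2 u
    rcases k with _ | k
    · exact absurd (orderOf_eq_one_iff.1 (by simpa using hk)) hu
    · exact ⟨k, hk⟩
  -- a generator whose involution power is the commutator
  have fin : ∀ (u v : G) (k : ℕ), 1 ≤ k → closure ({u, v} : Set G) = ⊤ → ⁅u, v⁆ = c →
      u ^ 2 ^ k = c → ∃ (a' b' : G) (l : ℕ), closure ({a', b'} : Set G) = ⊤ ∧
        ⁅a', b'⁆ = a' ^ (2 * l) := by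
    intro u v k hk hg he hp
    obtain ⟨k, rfl⟩ : ∃ k', k = k' + 1 := ⟨k - 1, by omega⟩
    exact ⟨u, v, 2 ^ k, hg, by rw [he, ← hp, pow_succ']⟩
  obtain ⟨i, hi⟩ := hord ha1
  obtain ⟨j, hj⟩ := hord hb1
  obtain ⟨hA2, hA1⟩ := pow_half hi
  obtain ⟨hB2, hB1⟩ := pow_half hj
  -- powers of squares are central
  have hcen : ∀ (u v : G) (k : ℕ), 1 ≤ k → closure ({u, v} : Set G) = ⊤ → ⁅u, v⁆ = c →
      u ^ 2 ^ k ∈ center G := by
    intro u v k hk hg he
    obtain ⟨k, rfl⟩ : ∃ k', k = k' + 1 := ⟨k - 1, by omega⟩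
    rw [pow_succ', pow_mul]
    exact pow_mem (hsqz u v hg he) _
  have hbgen : closure ({b, a} : Set G) = ⊤ := closure_pair_swap.trans hgen
  rcases Nat.eq_zero_or_pos i with rfl | hi0
  · rw [pow_zero, pow_one] at hA1 hA2
    rcases Nat.eq_zero_or_pos j with rfl | hj0
    · rw [pow_zero, pow_one] at hB2
      refine fin (a * b ^ (1 : ℤ)) b 1 le_rfl (closure_pair_mul.trans hgen) (hab' 1) ?_
      rw [zpow_one, pow_one, hsq, hA2, hB2, one_mul, mul_one]
    · refine fin b a j hj0 hbgen hba ?_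
      by_contra hne
      have hBz := hcen b a j hj0 hbgen hba
      have hanc : a ∉ center G := fun h => hc1 (by
        rw [← hab]; exact commutatorElement_eq_one_iff_commute.2 (mem_center_iff.1 h b).symm)
      rcases three_involutions hR hA2 hB2 hc2 (mem_center_iff.1 hBz a) (hcC a).symm
          (hcC _).symm hA1 hB1 hc1 (fun h => hanc (h ▸ hcz)) (Ne.symm hne) with h | h
      · exact hanc (h ▸ hBz)
      · refine hanc ?_
        have : a = c * (b ^ 2 ^ j)⁻¹ := by rw [h, mul_inv_cancel_right]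
        rw [this]
        exact mul_mem hcz (inv_mem hBz)
  rcases Nat.eq_zero_or_pos j with rfl | hj0
  · rw [pow_zero, pow_one] at hB1 hB2
    refine fin a b i hi0 hgen hab ?_
    by_contra hne
    have hAz := hcen a b i hi0 hgen hab
    have hbnc : b ∉ center G := fun h => hc1 (by
      rw [← hab]; exact commutatorElement_eq_one_iff_commute.2 (mem_center_iff.1 h a))
    rcases three_involutions hR hA2 hB2 hc2 (mem_center_iff.1 hAz b).symm (hcC _).symm
        (hcC b).symm hA1 hB1 hc1 (Ne.symm hne) (fun h => hbnc (h ▸ hcz)) with h | h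
    · exact hbnc (h ▸ hAz)
    · refine hbnc ?_
      have : b = (a ^ 2 ^ i)⁻¹ * c := by rw [h, inv_mul_cancel_left]
      rw [this]
      exact mul_mem (inv_mem hAz) hcz
  by_cases hcA : a ^ 2 ^ i = c
  · exact fin a b i hi0 hgen hab hcA
  by_cases hcB : b ^ 2 ^ j = c
  · exact fin b a j hj0 hbgen hba hcB
  -- both involution powers are central; lower the order of a generator
  suffices key : ∀ (a b : G) (i j : ℕ), 1 ≤ i → i ≤ j → orderOf a + orderOf b = N →
      closure ({a, b} : Set G) = ⊤ → ⁅a, b⁆ = c → (a ^ 2 ^ i) ^ 2 = 1 → orderOf a = 2 ^ (i + 1) →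
      orderOf b = 2 ^ (j + 1) → a ^ 2 ^ i ≠ c → b ^ 2 ^ j ≠ c →
      ∃ (a' b' : G) (l : ℕ), closure ({a', b'} : Set G) = ⊤ ∧ ⁅a', b'⁆ = a' ^ (2 * l) by
    rcases le_total i j with hij | hij
    · exact key a b i j hi0 hij hN hgen hab hA2 hi hj hcA hcB
    · exact key b a j i hj0 hij (by omega) hbgen hba hB2 hj hi hcB hcA
  clear hi hj hcA hcB hi0 hj0 hA1 hA2 hB1 hB2 i j
  intro a' b' i j hi0 hij hN' hgen' hab'' hA2 hi hj hcA hcB
  obtain ⟨-, hA1⟩ := pow_half hi
  obtain ⟨hB2, hB1⟩ := pow_half hj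
  have hAz := hcen a' b' i hi0 hgen' hab''
  have hcA' := hcC (a' ^ 2 ^ i)
  have hcases := three_involutions hR hA2 hB2 hc2 (mem_center_iff.1 hAz _).symm hcA'.symm
    (hcC _).symm hA1 hB1 hc1 (Ne.symm hcA) (Ne.symm hcB)
  have hbn : ∀ n : ℤ, ⁅a' * b' ^ n, b'⁆ = c := fun n => by
    rw [show ⁅a' * b' ^ n, b'⁆ = a' * ⁅b' ^ n, b'⁆ * a'⁻¹ * ⁅a', b'⁆ by
      simp only [commutatorElement_def]; group,
      commutatorElement_eq_one_iff_commute.2 ((Commute.refl b').zpow_left n), mul_one, mul_inv_cancel,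
      one_mul, hab'']
  -- the new generator and its power
  have lower : ∀ n : ℤ, (a' * b' ^ n) ^ 2 ^ i = 1 →
      ∃ (a'' b'' : G) (l : ℕ), closure ({a'', b''} : Set G) = ⊤ ∧ ⁅a'', b''⁆ = a'' ^ (2 * l) := by
    intro n hn
    have hlt : orderOf (a' * b' ^ n) < orderOf a' := by
      have h1 := Nat.le_of_dvd (Nat.two_pow_pos i) (orderOf_dvd_of_pow_eq_one hn)
      rw [hi, pow_succ]
      have := Nat.two_pow_pos i
      omega
    exact ih _ (by omega) _ _ rfl (closure_pair_mul.trans hgen') (hbn n)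
  rcases hij.lt_or_eq with hlt | rfl
  · -- a power of `b` that is central
    obtain ⟨d, hd, rfl⟩ : ∃ d, 1 ≤ d ∧ j = i + d := ⟨j - i, by omega, by omega⟩
    have hbd : b' ^ 2 ^ d ∈ center G :=
      hcen b' a' d hd (closure_pair_swap.trans hgen') (by rw [← commutatorElement_inv, hab'', hcinv])
    have hpow : (a' * b' ^ ((2 : ℤ) ^ d)) ^ 2 ^ i = a' ^ 2 ^ i * b' ^ 2 ^ (i + d) := by
      have he : b' ^ ((2 : ℤ) ^ d) = b' ^ 2 ^ d := by
        rw [← zpow_natCast b' (2 ^ d)]; norm_num
      rw [he, Commute.mul_pow (mem_center_iff.1 hbd a'), ← pow_mul, ← pow_add,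
        add_comm i d]
    rcases hcases with h | h
    · refine lower _ (hpow.trans ?_)
      rw [h, ← pow_two, hB2]
    · exact fin (a' * b' ^ ((2 : ℤ) ^ d)) b' i hi0 (closure_pair_mul.trans hgen') (hbn _)
        (hpow.trans h.symm)
  · have hsq' : (a' * b') ^ 2 = c * (a' ^ 2 * b' ^ 2) := by
      have e : a' * b' = c * (b' * a') := by
        rw [← hab'']; simp only [commutatorElement_def]; group
      rw [pow_two, pow_two, pow_two]
      calc a' * b' * (a' * b') = a' * (b' * a') * b' := by group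
        _ = a' * (c * (a' * b')) * b' := by
            congr 2
            rw [e, ← mul_assoc c c, ← pow_two, hc2, one_mul]
        _ = c * (a' * a' * (b' * b')) := by
            rw [← mul_assoc a' c, ← (hcC a').eq]; group
    obtain ⟨i, rfl⟩ : ∃ i', i = i' + 1 := ⟨i - 1, by omega⟩
    have hpow : (a' * b' ^ (1 : ℤ)) ^ 2 ^ (i + 1) =
        c ^ 2 ^ i * (a' ^ 2 ^ (i + 1) * b' ^ 2 ^ (i + 1)) := by
      rw [zpow_one, pow_succ', pow_mul, pow_mul, pow_mul, hsq', ((hcC _)).mul_pow,
        Commute.mul_pow (mem_center_iff.1 (hsqz a' b' hgen' hab'') (b' ^ 2)).symm]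
    rcases Nat.eq_zero_or_pos i with rfl | hi'
    · rcases hcases with h | h
      · refine fin (a' * b' ^ (1 : ℤ)) b' 1 le_rfl (closure_pair_mul.trans hgen') (hbn _)
          (hpow.trans ?_)
        rw [h, ← pow_two, hB2, mul_one, pow_zero, pow_one]
      · refine lower _ (hpow.trans ?_)
        rw [← h, pow_zero, pow_one, ← pow_two, hc2]
    · have hci : c ^ 2 ^ i = 1 := by
        obtain ⟨i', rfl⟩ : ∃ i', i = i' + 1 := ⟨i - 1, by omega⟩
        rw [pow_succ', pow_mul, hc2, one_pow]
      rcases hcases with h | h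
      · refine lower _ (hpow.trans ?_)
        rw [hci, one_mul, h, ← pow_two, hB2]
      · exact fin (a' * b' ^ (1 : ℤ)) b' (i + 1) (by omega) (closure_pair_mul.trans hgen') (hbn _)
          (hpow.trans (by rw [hci, one_mul, h]))

theorem exists_gen_pair (h2 : IsPGroup 2 G) (hr : Cfsg.PRankLE 2 2 (G ⧸ frattini G)) :
    ∃ a b : G, closure ({a, b} : Set G) = ⊤ := by
  classical
  haveI : Fact (Nat.Prime 2) := ⟨Nat.prime_two⟩
  have hA : IsMulCommutative (⊤ : Subgroup (G ⧸ frattini G)) := ⟨⟨fun x y => Subtype.ext (by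
    show (x : G ⧸ frattini G) * y = y * x
    rw [← commutatorElement_eq_one_iff_mul_comm]
    obtain ⟨u, hu⟩ := QuotientGroup.mk'_surjective _ (x : G ⧸ frattini G)
    obtain ⟨v, hv⟩ := QuotientGroup.mk'_surjective _ (y : G ⧸ frattini G)
    rw [← hu, ← hv, ← map_commutatorElement]
    exact (QuotientGroup.eq_one_iff _).2 (PGroups.commutator_le_frattini h2
      (commutator_mem_commutator (mem_top u) (mem_top v))))⟩⟩
  have h4 : (frattini G).index ≤ 4 := by
    have := hr ⊤ hA fun x _ => by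
      obtain ⟨u, rfl⟩ := QuotientGroup.mk'_surjective _ x
      rw [← map_pow]
      exact (QuotientGroup.eq_one_iff _).2 (PGroups.pow_mem_frattini h2 u)
    rw [card_top, ← index_eq_card] at this
    simpa using this
  have step : ∀ J : Subgroup G, frattini G ≤ J →
      ∃ u : G, J ⊔ zpowers u = ⊤ ∨ 2 * (J ⊔ zpowers u).index ≤ J.index := by
    intro J hJ
    by_cases hJt : J = ⊤
    · exact ⟨1, Or.inl (by rw [hJt, top_sup_eq])⟩
    obtain ⟨u, -, hu⟩ := SetLike.exists_of_lt (lt_top_iff_ne_top.2 hJt)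
    refine ⟨u, Or.inr ?_⟩
    have hlt : J < J ⊔ zpowers u :=
      lt_of_le_not_ge le_sup_left fun h => hu (h (mem_sup_right (mem_zpowers u)))
    have h1 := Subgroup.relIndex_mul_index hlt.le
    have h2' : 2 ≤ J.relIndex (J ⊔ zpowers u) := by
      have hne : J.relIndex (J ⊔ zpowers u) ≠ 1 := fun h => hlt.not_ge (relIndex_eq_one.1 h)
      have hne0 : J.relIndex (J ⊔ zpowers u) ≠ 0 := fun h => by
        rw [h, zero_mul] at h1
        exact J.index_ne_zero_of_finite h1.symm
      omega
    calc 2 * (J ⊔ zpowers u).index ≤ J.relIndex (J ⊔ zpowers u) * (J ⊔ zpowers u).index :=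
          Nat.mul_le_mul_right _ h2'
      _ = J.index := h1
  obtain ⟨a, ha⟩ := step (frattini G) le_rfl
  obtain ⟨b, hb⟩ := step (frattini G ⊔ zpowers a) le_sup_left
  refine ⟨a, b, frattini_nongenerating ?_⟩
  have htop : frattini G ⊔ zpowers a ⊔ zpowers b = ⊤ := by
    rcases hb with hb | hb
    · exact hb
    rcases ha with ha | ha
    · rw [ha, top_sup_eq]
    refine index_eq_one.1 ?_
    have := (frattini G ⊔ zpowers a ⊔ zpowers b).index_ne_zero_of_finite
    omega
  rw [← htop, sup_comm, sup_assoc]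
  congr 1
  rw [Set.insert_eq, Subgroup.closure_union, ← zpowers_eq_closure, ← zpowers_eq_closure]

theorem eq_bot_of_le_commutator [Group.IsNilpotent G] {K : Subgroup G} (h : K ≤ ⁅K, (⊤ : Subgroup G)⁆) :
    K = ⊥ := by
  obtain ⟨n, hn⟩ := Subgroup.nilpotent_iff_lowerCentralSeries.1 (inferInstance : Group.IsNilpotent G)
  rw [eq_bot_iff, ← hn]
  clear hn
  induction n with
  | zero => exact le_top
  | succ n ih => exact h.trans (commutator_mono ih le_rfl)

/-- If `c = a ^ (2 * l)` modulo `[G', G]` and `G'` has exponent two then `[G', G]` is trivial. -/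
theorem commutator_central [Group.IsNilpotent G] {a b : G} (hgen : closure ({a, b} : Set G) = ⊤)
    {l : ℕ} {w : G} (hw : w ∈ ⁅commutator G, (⊤ : Subgroup G)⁆) (he : ⁅a, b⁆ = a ^ (2 * l) * w)
    (hc2 : ⁅a, b⁆ ^ 2 = 1) : ⁅commutator G, (⊤ : Subgroup G)⁆ = ⊥ := by
  set K := ⁅commutator G, (⊤ : Subgroup G)⁆ with hK
  refine eq_bot_of_le_commutator ?_
  set L := ⁅K, (⊤ : Subgroup G)⁆
  set π := QuotientGroup.mk' L with hπ
  have hsurj : Function.Surjective π := QuotientGroup.mk'_surjective L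
  have hwc : ∀ g, Commute (π w) (π g) := fun g => by
    rw [← commutatorElement_eq_one_iff_commute, ← map_commutatorElement]
    exact (QuotientGroup.eq_one_iff _).2 (commutator_mem_commutator hw (mem_top g))
  set A := π a
  set B := π b
  set C := π ⁅a, b⁆ with hC
  have hCe : C = A ^ (2 * l) * π w := by rw [hC, he, map_mul, map_pow]
  have hC' : C = ⁅A, B⁆ := map_commutatorElement π a b
  have hC2 : C ^ 2 = 1 := by rw [hC, ← map_pow, hc2, map_one]
  have hCA : Commute C A := by
    rw [hCe]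
    exact ((Commute.refl A).pow_left _).mul_left (hwc a)
  have hpow : ∀ k : ℕ, ⁅A ^ k, B⁆ = C ^ k := by
    intro k
    induction k with
    | zero => rw [pow_zero, pow_zero, commutatorElement_one_left]
    | succ k ih =>
      rw [pow_succ', show ⁅A * A ^ k, B⁆ = A * ⁅A ^ k, B⁆ * A⁻¹ * ⁅A, B⁆ by
        simp only [commutatorElement_def]; group, ih, ← hC', ← (hCA.pow_left k).eq,
        mul_inv_cancel_right, ← pow_succ]
  have hCB : Commute C B := by
    rw [← commutatorElement_eq_one_iff_commute, hCe,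
      show ⁅A ^ (2 * l) * π w, B⁆ = A ^ (2 * l) * ⁅π w, B⁆ * (A ^ (2 * l))⁻¹ * ⁅A ^ (2 * l), B⁆ by
        simp only [commutatorElement_def]; group,
      commutatorElement_eq_one_iff_commute.2 (hwc b), mul_one, mul_inv_cancel, one_mul, hpow,
      pow_mul, hC2, one_pow]
  have hgen' : closure ({A, B} : Set (G ⧸ L)) = ⊤ := by
    have := MonoidHom.map_closure π ({a, b} : Set G)
    rw [hgen, map_top_of_surjective π hsurj] at this
    rw [this, Set.image_pair]
  have hCz : C ∈ center (G ⧸ L) := mem_center_iff.2 fun g => by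
    have : closure ({A, B} : Set (G ⧸ L)) ≤ centralizer {C} := (closure_le _).2 (by
      rintro x (rfl | rfl) <;> refine mem_centralizer_iff.2 fun v hv => ?_ <;>
        rw [Set.mem_singleton_iff.1 hv]
      exacts [hCA.eq, hCB.eq])
    exact (mem_centralizer_iff.1 (this (hgen'.ge (mem_top g))) C rfl).symm
  have hcom : commutator (G ⧸ L) ≤ center (G ⧸ L) :=
    commutator_le_of_pair hgen' _ (hC' ▸ hCz)
  refine (commutator_le.2 fun x hx g _ => ?_)
  rw [← QuotientGroup.eq_one_iff]
  show π ⁅x, g⁆ = 1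
  rw [map_commutatorElement, commutatorElement_eq_one_iff_commute]
  have hx' : π x ∈ commutator (G ⧸ L) := by
    exact (map_commutator_top hsurj).le (mem_map_of_mem π hx)
  exact (mem_center_iff.1 (hcom hx') (π g)).symm

theorem metacyclic (h2 : IsPGroup 2 G) (hr : Cfsg.SectionalPRankLE 2 2 G) :
    Cfsg.IsMetacyclic G := by
  haveI : Fact (Nat.Prime 2) := ⟨Nat.prime_two⟩
  haveI := h2.isNilpotent
  obtain ⟨a₀, b₀, hgen₀⟩ := exists_gen_pair h2 (rank_quotient hr _ (QuotientGroup.mk'_surjective _))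
  -- squares of the derived subgroup
  set Φ' := closure {y : G | ∃ x ∈ commutator G, y = x * x} with hΦ'
  haveI : Φ'.Normal := by
    refine ⟨fun y hy g => ?_⟩
    have : Φ'.map (MulAut.conj g).toMonoidHom ≤ Φ' := by
      rw [hΦ', MonoidHom.map_closure]
      refine (closure_le _).2 ?_
      rintro _ ⟨_, ⟨x, hx, rfl⟩, rfl⟩
      exact subset_closure ⟨g * x * g⁻¹, (inferInstance : (commutator G).Normal).conj_mem x hx g,
        by show g * (x * x) * g⁻¹ = _; group⟩
    exact this ⟨y, hy, rfl⟩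
  set K := ⁅commutator G, (⊤ : Subgroup G)⁆
  set W := Φ' ⊔ K
  haveI : K.Normal := Subgroup.commutator_normal _ _
  haveI : W.Normal := sup_normal _ _
  have hΦG : Φ' ≤ commutator G := (closure_le _).2 (by rintro _ ⟨x, hx, rfl⟩; exact mul_mem hx hx)
  have hWG : W ≤ commutator G := sup_le hΦG (commutator_le_left _ _)
  set π := QuotientGroup.mk' W with hπ
  have hπs : Function.Surjective π := QuotientGroup.mk'_surjective W
  have hR := rank_quotient hr π hπs
  set c := π ⁅a₀, b₀⁆
  have hcG : ⁅a₀, b₀⁆ ∈ commutator G := commutator_mem_commutator (mem_top _) (mem_top _)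
  have hcz : c ∈ center (G ⧸ W) := mem_center_iff.2 fun g => by
    obtain ⟨g, rfl⟩ := hπs g
    refine (commutatorElement_eq_one_iff_commute.1 ?_ : Commute c (π g)).symm
    rw [← map_commutatorElement]
    exact (QuotientGroup.eq_one_iff _).2 (mem_sup_right (commutator_mem_commutator hcG (mem_top g)))
  have hc2 : c ^ 2 = 1 := by
    rw [← map_pow, pow_two]
    exact (QuotientGroup.eq_one_iff _).2 (mem_sup_left (subset_closure ⟨_, hcG, rfl⟩))
  have hgenπ : closure ({π a₀, π b₀} : Set (G ⧸ W)) = ⊤ := by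
    have := MonoidHom.map_closure π ({a₀, b₀} : Set G)
    rw [hgen₀, map_top_of_surjective π hπs] at this
    rw [this, Set.image_pair]
  obtain ⟨A, B, l, hgAB, hAB⟩ : ∃ (A B : G ⧸ W) (l : ℕ),
      closure ({A, B} : Set (G ⧸ W)) = ⊤ ∧ ⁅A, B⁆ = A ^ (2 * l) := by
    by_cases hc1 : c = 1
    · exact ⟨π a₀, π b₀, 0, hgenπ, by rw [← map_commutatorElement, mul_zero, pow_zero]; exact hc1⟩
    · exact exists_even_power (h2.to_quotient W) hR hcz hc2 hc1 _ _ _ rfl hgenπ
        (map_commutatorElement π a₀ b₀).symm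
  obtain ⟨a, rfl⟩ := hπs A
  obtain ⟨b, rfl⟩ := hπs B
  have hgen : closure ({a, b} : Set G) = ⊤ := by
    refine frattini_nongenerating (top_le_iff.1 fun g _ => ?_)
    have hm := MonoidHom.map_closure π ({a, b} : Set G)
    rw [Set.image_pair, hgAB] at hm
    obtain ⟨h, hh, hhg⟩ := hm.ge (mem_top (π g))
    have hW : h⁻¹ * g ∈ W := (QuotientGroup.eq (s := W)).1 hhg
    have := mul_mem_sup hh (PGroups.commutator_le_frattini h2 (hWG hW))
    rwa [mul_inv_cancel_left] at this
  set c₁ := ⁅a, b⁆ with hc₁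
  have hw : (a ^ (2 * l))⁻¹ * c₁ ∈ W := by
    refine (QuotientGroup.eq (s := W)).1 ?_
    show π (a ^ (2 * l)) = π c₁
    rw [map_pow, ← hAB, map_commutatorElement]
  obtain ⟨s, hs, w, hwK, hsw⟩ := mem_sup_of_normal_left.1 hw
  -- modulo the squares
  set ρ := QuotientGroup.mk' Φ' with hρ
  have hρs : Function.Surjective ρ := QuotientGroup.mk'_surjective Φ'
  have hmapc : (commutator G).map ρ = commutator (G ⧸ Φ') := map_commutator_top hρs
  have hmapK : K.map ρ = ⁅commutator (G ⧸ Φ'), (⊤ : Subgroup (G ⧸ Φ'))⁆ := by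
    rw [map_commutator, hmapc, map_top_of_surjective ρ hρs]
  have hgenρ : closure ({ρ a, ρ b} : Set (G ⧸ Φ')) = ⊤ := by
    have := MonoidHom.map_closure ρ ({a, b} : Set G)
    rw [hgen, map_top_of_surjective ρ hρs] at this
    rw [this, Set.image_pair]
  haveI := (h2.to_quotient Φ').isNilpotent
  have hbot := commutator_central hgenρ (l := l) (w := ρ w) (hmapK ▸ mem_map_of_mem ρ hwK) (by
    rw [← map_commutatorElement, ← map_pow, ← hc₁,
      show c₁ = a ^ (2 * l) * (s * w) by rw [hsw, mul_inv_cancel_left],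
      map_mul, map_mul, show ρ s = 1 from (QuotientGroup.eq_one_iff _).2 hs, one_mul]) (by
    rw [← map_commutatorElement, ← map_pow, pow_two]
    exact (QuotientGroup.eq_one_iff _).2 (subset_closure
      ⟨_, commutator_mem_commutator (mem_top a) (mem_top b), rfl⟩))
  have hKΦ : K ≤ Φ' := fun x hx => by
    refine (QuotientGroup.eq_one_iff (N := Φ') x).1 ?_
    have h : ρ x ∈ K.map ρ := mem_map_of_mem ρ hx
    rw [hmapK, hbot, mem_bot] at h
    exact h
  have hc₁G : c₁ ∈ commutator G := commutator_mem_commutator (mem_top _) (mem_top _)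
  -- the derived subgroup is cyclic
  have hG' : commutator G = zpowers c₁ := by
    refine le_antisymm ?_ (zpowers_le.2 hc₁G)
    haveI hn : (zpowers (ρ c₁)).Normal := by
      refine ⟨fun x hx g => ?_⟩
      have hcz' : ρ c₁ ∈ center (G ⧸ Φ') := mem_center_iff.2 fun g => by
        obtain ⟨g, rfl⟩ := hρs g
        refine (commutatorElement_eq_one_iff_commute.1 ?_ : Commute (ρ c₁) (ρ g)).symm
        rw [← map_commutatorElement]
        exact (QuotientGroup.eq_one_iff _).2 (hKΦ (commutator_mem_commutator hc₁G (mem_top g)))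
      rw [mem_center_iff.1 (zpowers_le.2 hcz' hx) g, mul_inv_cancel_right]
      exact hx
    have hle := commutator_le_of_pair hgenρ (zpowers (ρ c₁))
      (by rw [← map_commutatorElement]; exact mem_zpowers _)
    have hsup : (zpowers c₁).subgroupOf (commutator G) ⊔ frattini ↥(commutator G) = ⊤ := by
      refine top_le_iff.1 ?_
      rintro ⟨x, hx⟩ -
      obtain ⟨k, hk⟩ := hle (hmapc ▸ mem_map_of_mem ρ hx)
      have hd : (c₁ ^ k)⁻¹ * x ∈ Φ' := by
        refine (QuotientGroup.eq (s := Φ')).1 ?_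
        show ρ (c₁ ^ k) = ρ x
        rw [map_zpow]
        exact hk
      have hsqF : Φ' ≤ (frattini ↥(commutator G)).map (commutator G).subtype := by
        refine (closure_le _).2 ?_
        rintro _ ⟨y, hy, rfl⟩
        exact ⟨⟨y, hy⟩ ^ 2, PGroups.pow_mem_frattini (h2.to_subgroup _) _, by simp [pow_two]⟩
      obtain ⟨f, hf, hfe⟩ := hsqF hd
      have hcm : (⟨c₁ ^ k, zpow_mem hc₁G k⟩ : ↥(commutator G)) ∈
          (zpowers c₁).subgroupOf (commutator G) := mem_subgroupOf.2 (zpow_mem (mem_zpowers c₁) k)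
      have heq : (⟨x, hx⟩ : ↥(commutator G)) = ⟨c₁ ^ k, zpow_mem hc₁G k⟩ * f := Subtype.ext (by
        have hfe' : (f : G) = (c₁ ^ k)⁻¹ * x := hfe
        show x = c₁ ^ k * (f : G)
        rw [hfe', mul_inv_cancel_left])
      rw [heq]
      exact mul_mem_sup hcm hf
    exact subgroupOf_eq_top.1 (frattini_nongenerating hsup)
  refine isMetacyclic_of_pair hgen ?_
  have hΦc : Φ' ≤ zpowers (c₁ ^ 2) := by
    refine (closure_le _).2 ?_
    rintro _ ⟨x, hx, rfl⟩
    obtain ⟨k, rfl⟩ := hG'.le hx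
    exact ⟨k, by show (c₁ ^ 2) ^ k = c₁ ^ k * c₁ ^ k; rw [← zpow_add, ← zpow_natCast c₁ 2,
      ← zpow_mul]; congr 1; push_cast; ring⟩
  obtain ⟨j, hj⟩ := hΦc (sup_le le_rfl hKΦ hw)
  have hodd : c₁ ^ (1 - 2 * j) ∈ zpowers a := by
    have hj' : (a ^ (2 * l))⁻¹ * c₁ = (c₁ ^ 2) ^ j := hj.symm
    have : c₁ ^ (1 - 2 * j) = a ^ (2 * l) := by
      rw [zpow_sub, zpow_one, zpow_mul, show c₁ ^ (2 : ℤ) = c₁ ^ 2 from zpow_natCast c₁ 2, ← hj',
        mul_inv_rev, inv_inv, ← mul_assoc, mul_inv_cancel, one_mul]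
    rw [this]
    exact pow_mem (mem_zpowers a) _
  obtain ⟨k, hk⟩ := IsPGroup.iff_orderOf.1 h2 c₁
  have hcop : IsCoprime (1 - 2 * j : ℤ) ((2 : ℤ) ^ k) :=
    IsCoprime.pow_right ⟨1, j, by ring⟩
  obtain ⟨x, y, hxy⟩ := hcop
  have hc1 : c₁ = (c₁ ^ (1 - 2 * j)) ^ x := by
    have h0 : c₁ ^ ((2 : ℤ) ^ k) = 1 := by
      rw [show ((2 : ℤ) ^ k) = ((2 ^ k : ℕ) : ℤ) by norm_num, zpow_natCast, ← hk, pow_orderOf_eq_one]
    calc c₁ = c₁ ^ (x * (1 - 2 * j) + y * 2 ^ k : ℤ) := by rw [hxy, zpow_one]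
      _ = (c₁ ^ (1 - 2 * j)) ^ x := by
        rw [zpow_add, mul_comm y, zpow_mul c₁ ((2 : ℤ) ^ k) y, h0, one_zpow, mul_one, mul_comm,
          zpow_mul]
  show c₁ ∈ zpowers a
  rw [hc1]
  exact zpow_mem hodd x

end Cfsg.Agent.H90.SR2
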