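import Cfsg.Agent.H90.Semidirect
import Cfsg.Agent.H62.TameAction

/-!
Supersoluble saturated fusion systems: chains of strongly closed subgroups with cyclic steps.
-/

set_option autoImplicit false

namespace Cfsg.Agent.H90

open Cfsg Cfsg.FusionSystem
open scoped commutatorElement

variable {Ω : Type*} [Group Ω] {S : Subgroup Ω}

/-- A chain of strongly closed subgroups from the trivial subgroup to `S` with cyclic steps. -/
def IsSupersolubleSystem (F : FusionSystem S) : Prop :=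
  ∃ (m : ℕ) (c : Fin (m + 1) → Subgroup Ω), c 0 = ⊥ ∧ c (Fin.last m) = S ∧
    (∀ i : Fin (m + 1), F.StronglyClosed (c i)) ∧
      ∀ i : Fin m, c i.castSucc ≤ c i.succ ∧ ∃ x ∈ S, c i.succ = c i.castSucc ⊔ Subgroup.zpowers x

theorem strongly_bot (F : FusionSystem S) : F.StronglyClosed ⊥ := by
  refine ⟨bot_le, fun R hR φ _ x => ?_⟩
  rw [show x = 1 from Subtype.ext (Subgroup.mem_bot.1 (hR x.2)), map_one]
  exact one_mem _

theorem normal_subgroupOf {F : FusionSystem S} {T : Subgroup Ω} (hT : F.StronglyClosed T) :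
    (T.subgroupOf S).Normal :=
  ⟨fun x hx g => normal_in_top_of_stronglyClosed F hT g g.2 x hx⟩

theorem subgroupOf_sup_zpowers {T : Subgroup Ω} (hT : T ≤ S) (x : ↥S) :
    (T ⊔ Subgroup.zpowers (x : Ω)).subgroupOf S = T.subgroupOf S ⊔ Subgroup.zpowers x := by
  refine Subgroup.map_injective S.subtype_injective ?_
  rw [Subgroup.map_sup, MonoidHom.map_zpowers, Subgroup.subgroupOf_map_subtype,
    Subgroup.subgroupOf_map_subtype, inf_eq_left.2 hT,
    inf_eq_left.2 (sup_le hT (Subgroup.zpowers_le.2 x.2))]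
  rfl

/-- The residue of a subgroup in the step `c ≤ c ⊔ ⟨x⟩`. -/
theorem exists_zpow_residue {T : Subgroup Ω} (hT : T ≤ S) [(T.subgroupOf S).Normal] (x z : ↥S)
    (hz : (z : Ω) ∈ T ⊔ Subgroup.zpowers (x : Ω)) :
    ∃ i : ℤ, (z : ↥S ⧸ T.subgroupOf S) = (x : ↥S ⧸ T.subgroupOf S) ^ i := by
  have h : z ∈ T.subgroupOf S ⊔ Subgroup.zpowers x := by
    rw [← subgroupOf_sup_zpowers hT]
    exact hz
  rw [← SetLike.mem_coe, Subgroup.normal_mul] at h
  obtain ⟨d, hd, b, ⟨i, rfl⟩, rfl⟩ := h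
  refine ⟨i, ?_⟩
  rw [QuotientGroup.mk_mul, (QuotientGroup.eq_one_iff d).2 hd, one_mul]
  rfl

/-- Intermediate subgroups of a cyclic step are strongly closed. -/
theorem stronglyClosed_pow {p : ℕ} [hp : Fact p.Prime] (hS : IsPGroup p S) [Finite S]
    {F : FusionSystem S} {T : Subgroup Ω} {x : ↥S} (hT : F.StronglyClosed T)
    (hX : F.StronglyClosed (T ⊔ Subgroup.zpowers (x : Ω))) :
    F.StronglyClosed (T ⊔ Subgroup.zpowers ((x : Ω) ^ p)) := by
  have hsub : T ⊔ Subgroup.zpowers ((x : Ω) ^ p) ≤ T ⊔ Subgroup.zpowers (x : Ω) :=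
    sup_le le_sup_left (Subgroup.zpowers_le.2 (le_sup_right (α := Subgroup Ω)
      (Subgroup.pow_mem _ (Subgroup.mem_zpowers _) p)))
  refine ⟨hsub.trans hX.1, fun R hR φ hφ z => ?_⟩
  have := normal_subgroupOf hT
  have hzS : (z : Ω) ∈ S := (F.le_of_mem hφ).1 z.2
  let fz : ↥S := ⟨φ z, (F.le_of_mem hφ).2 z⟩
  obtain ⟨i, hi⟩ := exists_zpow_residue hT.1 x fz (hX.2 R (hR.trans hsub) φ hφ z)
  obtain ⟨j, hj⟩ := exists_zpow_residue hT.1 (x ^ p) ⟨z, hzS⟩ (hR z.2)
  set q : ↥S ⧸ T.subgroupOf S := (x : ↥S ⧸ T.subgroupOf S) with hq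
  obtain ⟨m, hm⟩ : ∃ m, orderOf q = p ^ m := IsPGroup.iff_orderOf.1 (hS.to_quotient _) q
  suffices hpi : (p : ℤ) ∣ i ∨ q = 1 by
    have key : fz ∈ T.subgroupOf S ⊔ Subgroup.zpowers (x ^ p) := by
      rcases hpi with ⟨k, rfl⟩ | h1
      · have e : fz * ((x ^ p) ^ k)⁻¹ ∈ T.subgroupOf S := by
          rw [← QuotientGroup.eq_one_iff, QuotientGroup.mk_mul, hi, QuotientGroup.mk_inv,
            QuotientGroup.mk_zpow, QuotientGroup.mk_pow, zpow_mul, zpow_natCast, mul_inv_cancel]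
        have := Subgroup.mul_mem _
          (le_sup_left (α := Subgroup ↥S) (b := Subgroup.zpowers (x ^ p)) e)
          (le_sup_right (α := Subgroup ↥S) (a := T.subgroupOf S)
            (Subgroup.zpow_mem_zpowers (x ^ p) k))
        rwa [inv_mul_cancel_right] at this
      · refine le_sup_left (α := Subgroup ↥S) ((QuotientGroup.eq_one_iff fz).1 ?_)
        rw [hi, h1, one_zpow]
    rw [← subgroupOf_sup_zpowers hT.1] at key
    simpa [Subgroup.mem_subgroupOf] using key
  cases m with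
  | zero => exact Or.inr (orderOf_eq_one_iff.1 (by simpa using hm))
  | succ m =>
    left
    have hw : ((⟨z, hzS⟩ : ↥S) ^ p ^ m : ↥S) ∈ T.subgroupOf S := by
      rw [← QuotientGroup.eq_one_iff, QuotientGroup.mk_pow, hj, QuotientGroup.mk_pow, ← hq,
        ← zpow_natCast, ← zpow_natCast, ← zpow_mul, ← zpow_mul, ← orderOf_dvd_iff_zpow_eq_one, hm]
      refine ⟨j, ?_⟩
      push_cast
      ring
    have hwR : Subgroup.zpowers ((z : Ω) ^ p ^ m) ≤ R :=
      Subgroup.zpowers_le.2 (R.pow_mem z.2 _)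
    have h2 := hT.2 _ (Subgroup.zpowers_le.2 (by simpa [Subgroup.mem_subgroupOf] using hw))
      _ (res_mem F hφ hwR) ⟨_, Subgroup.mem_zpowers _⟩
    have h3 : ((fz ^ p ^ m : ↥S) : ↥S ⧸ T.subgroupOf S) = 1 := by
      rw [QuotientGroup.eq_one_iff, Subgroup.mem_subgroupOf]
      have e : res φ hwR ⟨_, Subgroup.mem_zpowers _⟩ = φ z ^ p ^ m := by
        rw [← map_pow φ z (p ^ m)]
        rfl
      rw [e] at h2
      simpa [fz] using h2
    rw [QuotientGroup.mk_pow, hi, ← zpow_natCast, ← zpow_mul, ← orderOf_dvd_iff_zpow_eq_one, hm,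
      pow_succ] at h3
    push_cast at h3
    have h0 : ((p : ℤ) ^ m) ≠ 0 := pow_ne_zero _ (by exact_mod_cast hp.out.ne_zero)
    exact (mul_dvd_mul_iff_left h0).1 (mul_comm i _ ▸ h3)

/-- A series of strongly closed subgroups up to `T` whose steps have order at most `p`. -/
def HasPSeries (F : FusionSystem S) (p : ℕ) (T : Subgroup Ω) : Prop :=
  ∃ (D : ℕ → Subgroup Ω) (n : ℕ), D 0 = ⊥ ∧ D n = T ∧ Monotone D ∧
    (∀ i, F.StronglyClosed (D i)) ∧
      ∀ i < n, ∃ x : ↥S, (x : Ω) ^ p ∈ D i ∧ D (i + 1) = D i ⊔ Subgroup.zpowers (x : Ω)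

theorem hasPSeries_bot (F : FusionSystem S) (p : ℕ) : HasPSeries F p ⊥ :=
  ⟨fun _ => ⊥, 0, rfl, rfl, fun _ _ _ => le_rfl, fun _ => strongly_bot F,
    fun i hi => absurd hi (Nat.not_lt_zero i)⟩

theorem hasPSeries_step {p : ℕ} {F : FusionSystem S} {T : Subgroup Ω} (x : ↥S)
    (h : HasPSeries F p T) (hx : (x : Ω) ^ p ∈ T)
    (hX : F.StronglyClosed (T ⊔ Subgroup.zpowers (x : Ω))) :
    HasPSeries F p (T ⊔ Subgroup.zpowers (x : Ω)) := by
  obtain ⟨D, n, h0, hn, hmono, hsc, hst⟩ := h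
  refine ⟨fun i => if i ≤ n then D i else T ⊔ Subgroup.zpowers (x : Ω), n + 1, ?_, ?_, ?_, ?_, ?_⟩
  · simp [h0]
  · exact if_neg (Nat.not_succ_le_self n)
  · refine monotone_nat_of_le_succ fun i => ?_
    split_ifs with h1 h2
    · exact hmono (Nat.le_succ i)
    · exact ((hmono h1).trans hn.le).trans le_sup_left
    · omega
    · exact le_rfl
  · intro i
    simp only
    split_ifs
    · exact hsc i
    · exact hX
  · intro i hi
    rcases Nat.lt_succ_iff_lt_or_eq.1 hi with h1 | h1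
    · simpa [h1.le, Nat.succ_le_of_lt h1] using hst i h1
    · subst h1
      exact ⟨x, by simp [hn, hx], by simp [hn]⟩

theorem hasPSeries_sup_zpowers {p : ℕ} [Fact p.Prime] (hS : IsPGroup p S) [Finite S]
    {F : FusionSystem S} {T : Subgroup Ω} (hT : F.StronglyClosed T) (h : HasPSeries F p T) :
    ∀ (k : ℕ) (x : ↥S), (x : Ω) ^ p ^ k ∈ T →
      F.StronglyClosed (T ⊔ Subgroup.zpowers (x : Ω)) →
        HasPSeries F p (T ⊔ Subgroup.zpowers (x : Ω)) := by
  intro k
  induction k with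
  | zero =>
    intro x hx _
    rw [sup_eq_left.2 (Subgroup.zpowers_le.2 (by simpa using hx))]
    exact h
  | succ k ih =>
    intro x hx hX
    have hy := ih (x ^ p) (by rw [SubmonoidClass.coe_pow, ← pow_mul, ← pow_succ']; exact hx)
      (by rw [SubmonoidClass.coe_pow]; exact stronglyClosed_pow hS hT hX)
    have e : T ⊔ Subgroup.zpowers ((x ^ p : ↥S) : Ω) ⊔ Subgroup.zpowers (x : Ω)
        = T ⊔ Subgroup.zpowers (x : Ω) := by
      rw [sup_assoc, sup_eq_right.2 (Subgroup.zpowers_le.2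
        (by rw [SubmonoidClass.coe_pow]; exact Subgroup.pow_mem _ (Subgroup.mem_zpowers _) p))]
    have := hasPSeries_step x hy (by
      rw [SubmonoidClass.coe_pow]
      exact le_sup_right (α := Subgroup Ω) (Subgroup.mem_zpowers _)) (e.symm ▸ hX)
    rwa [e] at this

theorem hasPSeries_of_supersoluble {p : ℕ} [Fact p.Prime] (hS : IsPGroup p S) [Finite S]
    {F : FusionSystem S} (h : IsSupersolubleSystem F) : HasPSeries F p S := by
  obtain ⟨m, c, h0, h1, hsc, hst⟩ := h
  suffices H : ∀ i : Fin (m + 1), HasPSeries F p (c i) from h1 ▸ H (Fin.last m)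
  intro i
  induction i using Fin.induction with
  | zero => rw [h0]; exact hasPSeries_bot F p
  | succ i ih =>
    obtain ⟨x, hx, he⟩ := (hst i).2
    obtain ⟨k, hk⟩ := hS ⟨x, hx⟩
    rw [he]
    refine hasPSeries_sup_zpowers hS (hsc _) ih k ⟨x, hx⟩ ?_ (he ▸ hsc i.succ)
    rw [show (x : Ω) ^ p ^ k = 1 from congrArg Subtype.val hk]
    exact one_mem _

theorem isNormal_of_pSeries {p : ℕ} [hp : Fact p.Prime] (hS : IsPGroup p S) [Finite S]
    {F : FusionSystem S} (hF : F.IsSaturated p) (h : HasPSeries F p S) : F.IsNormal S := by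
  obtain ⟨D, n, h0, hn, hmono, hsc, hst⟩ := h
  have hSS : F.StronglyClosed S := ⟨le_rfl, fun R _ φ hφ x => (F.le_of_mem hφ).2 x⟩
  refine isNormal_of_series hS hF hSS D n h0 hn hmono (fun i hi => ?_) fun i hi => ?_
  · obtain ⟨x, hx, he⟩ := hst i hi
    have hN := normal_subgroupOf (hsc i)
    set Q := ↥S ⧸ (D i).subgroupOf S
    have hN1 := normal_subgroupOf (hsc (i + 1))
    have hc : ((D (i + 1)).subgroupOf S).map (QuotientGroup.mk' ((D i).subgroupOf S))
        ≤ Subgroup.center Q := by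
      by_cases hq : (x : Q) = 1
      · rw [he, subgroupOf_sup_zpowers (hsc i).1, Subgroup.map_sup, QuotientGroup.map_mk'_self,
          bot_sup_eq, MonoidHom.map_zpowers]
        exact Subgroup.zpowers_le.2 (by
          show (x : Q) ∈ _
          rw [hq]; exact one_mem _)
      · have := hN1.map (QuotientGroup.mk' ((D i).subgroupOf S)) (QuotientGroup.mk'_surjective _)
        refine PGroups.le_center_of_card_eq (p := p) (hS.to_quotient _) _ ?_
        rw [he, subgroupOf_sup_zpowers (hsc i).1, Subgroup.map_sup, QuotientGroup.map_mk'_self,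
          bot_sup_eq, MonoidHom.map_zpowers, Nat.card_zpowers]
        refine orderOf_eq_prime ?_ hq
        show ((x : Q)) ^ p = 1
        rw [← QuotientGroup.mk_pow, QuotientGroup.eq_one_iff, Subgroup.mem_subgroupOf]
        simpa using hx
    rw [Subgroup.commutator_le]
    intro g hg s hs
    have hgS : g ∈ S := (hsc _).1 hg
    have := Subgroup.mem_center_iff.1
      (hc (Subgroup.mem_map_of_mem (QuotientGroup.mk' _)
        (Subgroup.mem_subgroupOf.2 hg : (⟨g, hgS⟩ : ↥S) ∈ (D (i + 1)).subgroupOf S))) ((⟨s, hs⟩ : ↥S) : Q)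
    have e : ((⁅(⟨g, hgS⟩ : ↥S), (⟨s, hs⟩ : ↥S)⁆ : ↥S) : Q) = 1 := by
      show QuotientGroup.mk' _ ⁅(⟨g, hgS⟩ : ↥S), (⟨s, hs⟩ : ↥S)⁆ = 1
      rw [map_commutatorElement, commutatorElement_eq_one_iff_mul_comm]
      exact this.symm
    simpa [Subgroup.mem_subgroupOf, commutatorElement_def] using (QuotientGroup.eq_one_iff _).1 e
  · refine ⟨(hsc i).1, fun φ hφ => ?_⟩
    exact eq_of_le_card (hsc i).1 (by rintro _ ⟨z, rfl⟩; exact (hsc i).2 _ le_rfl φ hφ z)
      (card_range_eq F hφ).ge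

/-- Automorphisms of order prime to `p` that act in commuting ways on a cyclic series agree. -/
theorem coprime_abelian_of_pSeries {p : ℕ} [hp : Fact p.Prime] (hS : IsPGroup p S) [Finite S]
    {F : FusionSystem S} (h : HasPSeries F p S) (H : Subgroup (MulAut ↥S))
    (hH : H ≤ F.autGroup S) (hcop : (Nat.card H).Coprime p) :
    IsMulCommutative H ∧ ∀ a ∈ H, a ^ (p - 1) = 1 := by
  obtain ⟨D, n, h0, hn, hmono, hsc, hst⟩ := h
  have hSn : D n ≤ S := hn.le
  have hinv : ∀ i, ∀ a ∈ H, ∀ z : ↥S, (z : Ω) ∈ D i → ((a z : ↥S) : Ω) ∈ D i := fun i a ha z hz =>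
    aut_mem_of_stronglyClosed F (hsc i) le_rfl (hH ha) z hz
  have hfix : ∀ g ∈ H, (∀ i < n, ∀ w : ↥S, (w : Ω) ∈ D (i + 1) →
      ((w⁻¹ * g w : ↥S) : Ω) ∈ D i) → g = 1 := by
    intro g hg hd
    have ho : (orderOf g).Coprime p := by
      refine hcop.coprime_dvd_left ?_
      rw [← Subgroup.orderOf_mk g hg]
      exact orderOf_dvd_natCard _
    suffices K : ∀ i ≤ n, ∀ w : ↥S, (w : Ω) ∈ D i → g w = w from
      MulEquiv.ext fun w => K n le_rfl w (hn.symm ▸ w.2)
    intro i
    induction i with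
    | zero =>
      intro _ w hw
      rw [h0, Subgroup.mem_bot] at hw
      rw [show w = 1 from Subtype.ext hw, map_one]
    | succ i ih =>
      intro hi w hw
      exact fix_of_fix_diff hS g ho w (ih (by omega) _ (hd i (by omega) w hw))
  -- on each step every element of `H` is a power map
  have hpow : ∀ i < n, ∀ a ∈ H, ∃ k : ℤ, IsCoprime k (p : ℤ) ∧ ∀ z : ↥S, (z : Ω) ∈ D (i + 1) →
      ∀ _ : ((D i).subgroupOf S).Normal,
      ((a z : ↥S) : ↥S ⧸ (D i).subgroupOf S) = (z : ↥S ⧸ (D i).subgroupOf S) ^ k := by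
    intro i hi a ha
    obtain ⟨x, hx, he⟩ := hst i hi
    have := normal_subgroupOf (hsc i)
    obtain ⟨k, hk⟩ := exists_zpow_residue (hsc i).1 x (a x) (by
      rw [← he]
      exact hinv _ a ha x (he ▸ le_sup_right (α := Subgroup Ω) (Subgroup.mem_zpowers _)))
    have hxp : (x : ↥S ⧸ (D i).subgroupOf S) ^ p = 1 := by
      rw [← QuotientGroup.mk_pow, QuotientGroup.eq_one_iff, Subgroup.mem_subgroupOf]
      simpa using hx
    have key : ∀ l : ℤ, ((a x : ↥S) : ↥S ⧸ (D i).subgroupOf S) = (x : ↥S ⧸ (D i).subgroupOf S) ^ l →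
        ∀ z : ↥S, (z : Ω) ∈ D (i + 1) →
          ((a z : ↥S) : ↥S ⧸ (D i).subgroupOf S) = (z : ↥S ⧸ (D i).subgroupOf S) ^ l := by
      intro l hl z hz
      obtain ⟨j, hj⟩ := exists_zpow_residue (hsc i).1 x z (he ▸ hz)
      have hd : z * (x ^ j)⁻¹ ∈ (D i).subgroupOf S := by
        rw [← QuotientGroup.eq_one_iff, QuotientGroup.mk_mul, hj, QuotientGroup.mk_inv,
          QuotientGroup.mk_zpow, mul_inv_cancel]
      have hd' : a (z * (x ^ j)⁻¹) ∈ (D i).subgroupOf S := hinv i a ha _ hd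
      have := (QuotientGroup.eq_one_iff _).2 hd'
      rw [map_mul, map_inv, map_zpow, QuotientGroup.mk_mul, QuotientGroup.mk_inv,
        QuotientGroup.mk_zpow, mul_inv_eq_one, hl] at this
      rw [this, hj, ← zpow_mul, ← zpow_mul, mul_comm]
    by_cases hpk : (p : ℤ) ∣ k
    · obtain ⟨t, rfl⟩ := hpk
      have hax : a x ∈ (D i).subgroupOf S := by
        rw [← QuotientGroup.eq_one_iff, hk, zpow_mul, zpow_natCast, hxp, one_zpow]
      have hx1 : (x : ↥S ⧸ (D i).subgroupOf S) = 1 := by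
        rw [QuotientGroup.eq_one_iff]
        have := hinv i a⁻¹ (H.inv_mem ha) (a x) hax
        rwa [MulAut.inv_apply_self] at this
      exact ⟨1, isCoprime_one_left, fun z hz _ => key 1 (by rw [zpow_one, hk, hx1, one_zpow]) z hz⟩
    · refine ⟨k, ?_, fun z hz _ => key k hk z hz⟩
      exact ((Nat.prime_iff_prime_int.1 hp.out).coprime_iff_not_dvd.2 hpk).symm
  refine ⟨⟨⟨fun a b => ?_⟩⟩, fun a ha => ?_⟩
  · refine Subtype.ext (mul_inv_eq_one.1 (hfix ((a : MulAut ↥S) * b * ((b : MulAut ↥S) * a)⁻¹)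
      (H.mul_mem (a * b).2 (H.inv_mem (b * a).2)) fun i hi w hw => ?_))
    have := normal_subgroupOf (hsc i)
    obtain ⟨s, -, hs⟩ := hpow i hi a a.2
    obtain ⟨t, -, ht⟩ := hpow i hi b b.2
    set z := ((b : MulAut ↥S) * a)⁻¹ w
    have hz : (z : Ω) ∈ D (i + 1) := hinv _ _ (H.inv_mem (b * a).2) w hw
    have hba : ((b : MulAut ↥S) * a) z = w := MulAut.apply_inv_self _ _ _
    rw [← Subgroup.mem_subgroupOf, ← QuotientGroup.eq]
    show (w : ↥S ⧸ (D i).subgroupOf S) = ((((a : MulAut ↥S) * b) z : ↥S) : ↥S ⧸ (D i).subgroupOf S)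
    conv_lhs => rw [← hba]
    rw [MulAut.mul_apply, MulAut.mul_apply, hs _ (hinv _ _ b.2 z hz) this,
      ht _ (hinv _ _ a.2 z hz) this, hs z hz this, ht z hz this, ← zpow_mul, ← zpow_mul, mul_comm]
  · refine hfix _ (H.pow_mem ha _) fun i hi w hw => ?_
    have := normal_subgroupOf (hsc i)
    obtain ⟨s, hsc', hs⟩ := hpow i hi a ha
    have hit : ∀ m : ℕ, (((a ^ m) w : ↥S) : ↥S ⧸ (D i).subgroupOf S)
        = (w : ↥S ⧸ (D i).subgroupOf S) ^ (s ^ m) := by
      intro m
      induction m with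
      | zero => simp
      | succ m ih =>
        rw [pow_succ', MulAut.mul_apply, hs _ (hinv _ _ (H.pow_mem ha m) w hw) this, ih, ← zpow_mul,
          pow_succ]
    rw [← Subgroup.mem_subgroupOf, ← QuotientGroup.eq, hit]
    obtain ⟨x, hx, he⟩ := hst i hi
    obtain ⟨j, hj⟩ := exists_zpow_residue (hsc i).1 x w (he ▸ hw)
    have hwp : (w : ↥S ⧸ (D i).subgroupOf S) ^ (p : ℤ) = 1 := by
      rw [hj, ← zpow_mul, mul_comm, zpow_mul, zpow_natCast, ← QuotientGroup.mk_pow,
        (QuotientGroup.eq_one_iff _).2 (by simpa [Subgroup.mem_subgroupOf] using hx), one_zpow]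
    obtain ⟨c, hc⟩ := (Int.ModEq.pow_card_sub_one_eq_one hp.out hsc').symm.dvd
    rw [show s ^ (p - 1) = 1 + (p : ℤ) * c by omega, zpow_add, zpow_one, zpow_mul, hwp, one_zpow,
      mul_one]

theorem isNormal_top_of_abelian {p : ℕ} [Fact p.Prime] (hS : IsPGroup p S) [Finite S]
    (hab : IsMulCommutative ↥S) {F : FusionSystem S} (hF : F.IsSaturated p) : F.IsNormal S := by
  have hSS : F.StronglyClosed S := ⟨le_rfl, fun R _ φ hφ x => (F.le_of_mem hφ).2 x⟩
  refine isNormal_of_series hS hF hSS (fun i => if i = 0 then ⊥ else S) 1 (by simp) (by simp)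
    (monotone_nat_of_le_succ fun i => by
      show (if i = 0 then (⊥ : Subgroup Ω) else S) ≤ if i + 1 = 0 then (⊥ : Subgroup Ω) else S
      rw [if_neg (Nat.succ_ne_zero i)]
      split_ifs
      · exact bot_le
      · exact le_rfl) (fun i hi => ?_) fun i hi => ?_
  · obtain rfl : i = 0 := by omega
    simp only [zero_add, one_ne_zero, if_false, if_true, le_bot_iff]
    rw [Subgroup.commutator_eq_bot_iff_le_centralizer]
    intro x hx y hy
    exact congrArg Subtype.val (hab.is_comm.comm (⟨y, hy⟩ : ↥S) ⟨x, hx⟩)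
  · obtain rfl : i = 0 := by omega
    simp only [if_true]
    exact ⟨bot_le, fun φ hφ => eq_bot_iff.2 (by
      rintro _ ⟨x, rfl⟩
      exact (strongly_bot F).2 _ le_rfl φ hφ x)⟩

theorem stronglyClosed_of_invariant [Finite S] {F : FusionSystem S} (hN : F.IsNormal S)
    {T : Subgroup Ω} (hT : T ≤ S)
    (h : ∀ α ∈ F.autGroup S, ∀ x : ↥S, (x : Ω) ∈ T → ((α x : ↥S) : Ω) ∈ T) :
    F.StronglyClosed T := by
  refine ⟨hT, fun R hR φ hφ x => ?_⟩
  obtain ⟨ψ, hψ, he, -⟩ := hN.2 R φ hφ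
  have hle : S ≤ R ⊔ S := le_sup_right
  let α := toAut F (res_mem F hψ hle) (fun z => (F.le_of_mem hψ).2 _)
  have := h α (toAut_mem F _ _) ⟨x, (hR.trans hT) x.2⟩ (hR x.2)
  rw [← he x]
  exact this

theorem supersoluble_of_tame {p : ℕ} [hp : Fact p.Prime] (hS : IsPGroup p S) [Finite S]
    {F : FusionSystem S} (hF : F.IsSaturated p) (hN : F.IsNormal S)
    (h : ∀ H : Subgroup (MulAut ↥S), (Nat.card H).Coprime p →
      IsMulCommutative H ∧ ∀ a ∈ H, a ^ (p - 1) = 1) : IsSupersolubleSystem F := by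
  classical
  set A := F.autGroup S
  have hIA : Inn ↥S ≤ A := inn_le_autGroup F le_rfl
  have : Finite ↥A := inferInstance
  -- the inner automorphisms form the Sylow subgroup of `A`
  let I : Subgroup ↥A := (Inn ↥S).subgroupOf A
  have hIn : I.Normal := ⟨by
    rintro ⟨_, _⟩ ⟨u, hu⟩ ⟨γ, hγ⟩
    refine ⟨γ u, MulEquiv.ext fun x => ?_⟩
    have hu' : MulAut.conj u = _ := hu
    simp only [Subgroup.coe_subtype] at hu'
    simp [Subgroup.coe_mul, Subgroup.coe_subtype, Subgroup.coe_inv, ← hu', MulAut.mul_apply,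
      MulAut.conj_apply]⟩
  have hIind : (autInducedBy S S) = Inn ↥S := by
    refine le_antisymm (fun α hα => ?_) ?_
    · obtain ⟨g, hg, he⟩ := (mem_autInducedBy_iff le_rfl).1 hα
      exact ⟨⟨g, hg⟩, MulEquiv.ext fun x => Subtype.ext (he x).symm⟩
    · rintro _ ⟨u, rfl⟩
      exact (mem_autInducedBy_iff le_rfl).2 ⟨u, u.2, fun x => rfl⟩
  obtain ⟨R, hR⟩ := (top_fullyAutomized hF).1.2
  rw [hIind] at hR
  have hR' : I = ↑R := hR.symm
  have hIp : IsPGroup p I := by rw [hR']; exact R.isPGroup'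
  have hcop : (Nat.card I).Coprime I.index := by rw [hR']; exact R.card_coprime_index
  obtain ⟨K, hK⟩ := Subgroup.exists_right_complement'_of_coprime hcop
  have hKc : (Nat.card (K.map A.subtype)).Coprime p := by
    rw [Subgroup.card_map_of_injective A.subtype_injective, ← hK.symm.index_eq_card]
    exact (hp.out.coprime_iff_not_dvd.2 ((by rw [hR']; exact R.not_dvd_index : ¬ p ∣ I.index))).symm
  obtain ⟨hKa, hKe⟩ := h _ hKc
  have hK1 : ∀ a : ↥A, ∃ i ∈ I, ∃ k ∈ K, a = i * k := fun a => by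
    obtain ⟨⟨i, k⟩, e⟩ := hK.2 a
    exact ⟨i, i.2, k, k.2, e.symm⟩
  have hq : ∀ a : ↥A, ∃ k ∈ K, QuotientGroup.mk' I a = QuotientGroup.mk' I k := fun a => by
    obtain ⟨i, hi, k, hk, rfl⟩ := hK1 a
    exact ⟨k, hk, by rw [map_mul, (QuotientGroup.eq_one_iff i).2 hi |> fun e =>
      (show QuotientGroup.mk' I i = 1 from e), one_mul]⟩
  -- the tame subgroup of `S ⋊ A` is a `p`-group
  let G := ↥S ⋊[A.subtype] ↥A
  have : Finite G := Finite.of_equiv _ SemidirectProduct.equivProd.symm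
  have htame : H62.tameSub p ↥A ≤ I := by
    refine Subgroup.normalClosure_le_normal ?_
    rintro g (⟨a, b, rfl⟩ | ⟨a, rfl⟩) <;>
      rw [SetLike.mem_coe, ← QuotientGroup.eq_one_iff] <;>
      show QuotientGroup.mk' I _ = 1
    · obtain ⟨k, hk, e⟩ := hq a
      obtain ⟨l, hl, e'⟩ := hq b
      rw [map_commutatorElement, e, e', ← map_commutatorElement]
      have : ⁅k, l⁆ = 1 := commutatorElement_eq_one_iff_mul_comm.2 (A.subtype_injective
        (congrArg Subtype.val (hKa.is_comm.comm (⟨_, k, hk, rfl⟩ : K.map A.subtype)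
          ⟨_, l, hl, rfl⟩)))
      rw [this, map_one]
    · obtain ⟨k, hk, e⟩ := hq a
      rw [map_pow, e, ← map_pow]
      have : k ^ (p - 1) = 1 := A.subtype_injective (by
        rw [map_pow, map_one]
        exact hKe _ ⟨k, hk, rfl⟩)
      rw [this, map_one]
  have hker : IsPGroup p (SemidirectProduct.rightHom : G →* ↥A).ker := by
    rw [← SemidirectProduct.range_inl_eq_ker_rightHom]
    exact hS.of_equiv (MonoidHom.ofInjective SemidirectProduct.inl_injective)
  have hWp : IsPGroup p (H62.tameSub p G) :=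
    (hIp.comap_of_ker_isPGroup _ hker).to_le
      (Subgroup.map_le_iff_le_comap.1 ((H62.tameSub_map_le _).trans htame))
  let N : Subgroup G := (SemidirectProduct.inl : ↥S →* G).range
  have hW : H62.TameCentralizes p N := by
    intro g hg hgc x _
    obtain ⟨k, hk⟩ := hWp ⟨g, hg⟩
    have hgk : g ^ p ^ k = 1 := congrArg Subtype.val hk
    rw [orderOf_eq_one_iff.1 (Nat.eq_one_of_dvd_coprimes (hgc.pow_right k) dvd_rfl
      (orderOf_dvd_of_pow_eq_one hgk)), one_mul, inv_one, mul_one]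
  have hNn : N.Normal := by
    simp only [N, SemidirectProduct.range_inl_eq_ker_rightHom]
    infer_instance
  have hNp : IsPGroup p N := hS.of_equiv (MonoidHom.ofInjective SemidirectProduct.inl_injective)
  have hscS : F.StronglyClosed S := ⟨le_rfl, fun R _ φ hφ x => (F.le_of_mem hφ).2 x⟩
  suffices H : ∀ (d : ℕ) (T : Subgroup Ω), F.StronglyClosed T → Nat.card S - Nat.card T ≤ d →
      ∃ (m : ℕ) (c : Fin (m + 1) → Subgroup Ω), c 0 = T ∧ c (Fin.last m) = S ∧
        (∀ i : Fin (m + 1), F.StronglyClosed (c i)) ∧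
          ∀ i : Fin m, c i.castSucc ≤ c i.succ ∧
            ∃ x ∈ S, c i.succ = c i.castSucc ⊔ Subgroup.zpowers x from
    H _ ⊥ (strongly_bot F) le_rfl
  intro d
  induction d with
  | zero =>
    intro T hT hd
    obtain rfl : T = S := eq_of_le_card le_rfl hT.1 (Nat.sub_eq_zero_iff_le.1 (Nat.le_zero.1 hd))
    exact ⟨0, fun _ => T, rfl, rfl, fun _ => hT, fun i => i.elim0⟩
  | succ d ih =>
    intro T hT hd
    by_cases hTS : T = S
    · subst hTS
      exact ⟨0, fun _ => T, rfl, rfl, fun _ => hT, fun i => i.elim0⟩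
    have hTn := normal_subgroupOf hT
    let X : Subgroup G := (T.subgroupOf S).map SemidirectProduct.inl
    have hinvT : ∀ a : ↥A, ∀ y : ↥S, (y : Ω) ∈ T → (((a : MulAut ↥S) y : ↥S) : Ω) ∈ T :=
      fun a y hy => aut_mem_of_stronglyClosed F hT le_rfl a.2 y hy
    have hXn : X.Normal := ⟨by
      rintro _ ⟨y, hy, rfl⟩ g
      rw [← SemidirectProduct.inl_left_mul_inr_right g]
      refine ⟨g.left * ((g.right : MulAut ↥S) y) * g.left⁻¹,
        hTn.conj_mem _ (hinvT g.right y hy) _, ?_⟩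
      rw [map_mul, map_mul, map_inv,
        show ((g.right : MulAut ↥S) y) = A.subtype g.right y from rfl, SemidirectProduct.inl_aut]
      simp only [mul_inv_rev, map_inv, mul_assoc]⟩
    have hM := hNn.map (QuotientGroup.mk' X) (QuotientGroup.mk'_surjective X)
    obtain ⟨Y, hYn, hYN, hYc⟩ := H62.exists_prime_normal_le (G := G ⧸ X) (p := p)
      (N := N.map (QuotientGroup.mk' X)) (hNp.map _) (by
        intro e
        rw [Subgroup.map_eq_bot_iff, QuotientGroup.ker_mk'] at e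
        refine hTS (le_antisymm hT.1 fun s hs => ?_)
        obtain ⟨y, hy, ey⟩ := e (⟨⟨s, hs⟩, rfl⟩ :
          (SemidirectProduct.inl : ↥S →* G) ⟨s, hs⟩ ∈ N)
        rw [SemidirectProduct.inl_injective ey] at hy
        exact hy) (H62.tameCentralizes_quotient hW X)
    let f : ↥S →* G ⧸ X := (QuotientGroup.mk' X).comp SemidirectProduct.inl
    have hfk : ∀ y : ↥S, f y = 1 ↔ (y : Ω) ∈ T := fun y => by
      refine (QuotientGroup.eq_one_iff _).trans ⟨?_, fun hy => ⟨y, hy, rfl⟩⟩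
      rintro ⟨z, hz, ez⟩
      rwa [← SemidirectProduct.inl_injective ez]
    let U : Subgroup Ω := (Y.comap f).map S.subtype
    have hUS : U ≤ S := Subgroup.map_subtype_le _
    obtain ⟨y, hyY, hy1⟩ := (Subgroup.bot_or_exists_ne_one Y).resolve_left (fun e => by
      rw [e, Subgroup.card_bot] at hYc
      exact hp.out.one_lt.ne hYc)
    obtain ⟨_, ⟨x, rfl⟩, rfl⟩ := hYN hyY
    have hgen : Subgroup.zpowers (f x) = Y :=
      Subgroup.eq_of_le_of_card_ge (Subgroup.zpowers_le.2 hyY) (by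
        rw [hYc, Nat.card_zpowers]
        exact Nat.le_of_dvd (orderOf_pos _) (((Nat.dvd_prime hp.out).1 (hYc ▸
          Subgroup.orderOf_dvd_natCard _ hyY)).resolve_left (fun e => hy1 (orderOf_eq_one_iff.1 e))
            ▸ dvd_rfl))
    have hUT : U = T ⊔ Subgroup.zpowers (x : Ω) := by
      refine le_antisymm ?_ (sup_le (fun t ht => ⟨⟨t, hT.1 ht⟩, ?_, rfl⟩)
        (Subgroup.zpowers_le.2 ⟨x, hyY, rfl⟩))
      · rintro _ ⟨u, hu, rfl⟩
        obtain ⟨j, hj⟩ := Subgroup.mem_zpowers_iff.1 (hgen.symm ▸ hu : f u ∈ Subgroup.zpowers (f x))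
        have h1 := (hfk (u * (x ^ j)⁻¹)).1 (by
          rw [map_mul, map_inv, map_zpow, hj, mul_inv_cancel])
        have h2 := Subgroup.mul_mem (T ⊔ Subgroup.zpowers (x : Ω)) (le_sup_left (α := Subgroup Ω) h1)
          (le_sup_right (α := Subgroup Ω) (Subgroup.zpow_mem_zpowers (x : Ω) j))
        simpa using h2
      · show f _ ∈ Y
        rw [(hfk ⟨t, hT.1 ht⟩).2 ht]
        exact one_mem _
    have hU : F.StronglyClosed U := by
      refine stronglyClosed_of_invariant hN hUS fun α hα s hs => ?_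
      obtain ⟨s', hs', e⟩ := hs
      obtain rfl := Subtype.ext e
      refine ⟨α s', ?_, rfl⟩
      show f (α s') ∈ Y
      have e : f (α s') = QuotientGroup.mk' X (SemidirectProduct.inr (⟨α, hα⟩ : ↥A)) * f s'
          * (QuotientGroup.mk' X (SemidirectProduct.inr (⟨α, hα⟩ : ↥A)))⁻¹ := by
        show QuotientGroup.mk' X (SemidirectProduct.inl (A.subtype ⟨α, hα⟩ s')) = _
        rw [SemidirectProduct.inl_aut, map_mul, map_mul, map_inv]
        rfl
      rw [e]
      exact hYn.conj_mem _ hs' _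
    have hlt : T < U := by
      refine hUT ▸ le_sup_left.lt_of_ne fun e => hy1 ?_
      exact (hfk x).2 (e.symm ▸ le_sup_right (α := Subgroup Ω) (Subgroup.mem_zpowers _))
    obtain ⟨m, c, h0, h1, hsc, hst⟩ := ih U hU (by
      have := card_lt_of_lt hUS hlt
      omega)
    refine ⟨m + 1, Fin.cons T c, rfl, ?_, ?_, ?_⟩
    · rw [← Fin.succ_last, Fin.cons_succ]
      exact h1
    · intro i
      induction i using Fin.cases with
      | zero => exact hT
      | succ j => rw [Fin.cons_succ]; exact hsc j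
    · intro i
      induction i using Fin.cases with
      | zero =>
        rw [Fin.castSucc_zero, Fin.cons_zero, Fin.cons_succ, h0]
        exact ⟨hlt.le, x, x.2, hUT⟩
      | succ j =>
        rw [Fin.castSucc_succ, Fin.cons_succ, Fin.cons_succ]
        exact hst j

/-- The criterion for every saturated system over `S` to be supersoluble. -/
theorem forall_supersoluble_iff {p : ℕ} [hp : Fact p.Prime] (hS : IsPGroup p S) [Finite S] :
    (∀ F : FusionSystem S, F.IsSaturated p → IsSupersolubleSystem F) ↔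
      (∀ F : FusionSystem S, F.IsSaturated p → F.IsNormal S) ∧
        ∀ H : Subgroup (MulAut ↥S), (Nat.card H).Coprime p →
          IsMulCommutative H ∧ ∀ h ∈ H, h ^ (p - 1) = 1 := by
  refine ⟨fun h => ⟨fun F hF => isNormal_of_pSeries hS hF (hasPSeries_of_supersoluble hS (h F hF)),
    fun H hH => ?_⟩, fun h F hF => supersoluble_of_tame hS hF (h.1 F hF) h.2⟩
  let A : Subgroup (MulAut ↥S) := Inn ↥S ⊔ H
  have hn : (Inn ↥S).Normal := ⟨by
    rintro _ ⟨u, rfl⟩ γ
    exact ⟨γ u, MulEquiv.ext fun x => by simp [MulAut.mul_apply, MulAut.conj_apply]⟩⟩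
  have hAq : ∀ α ∈ A, α ^ Nat.card H ∈ Inn ↥S := by
    intro α hα
    rw [← SetLike.mem_coe, Subgroup.normal_mul] at hα
    obtain ⟨i, hi, b, hb, rfl⟩ := hα
    have hi' : QuotientGroup.mk' (Inn ↥S) i = 1 := (QuotientGroup.eq_one_iff i).2 hi
    rw [← QuotientGroup.eq_one_iff]
    show QuotientGroup.mk' (Inn ↥S) ((i * b) ^ Nat.card H) = 1
    rw [map_pow, map_mul, hi', one_mul, ← map_pow,
      orderOf_dvd_iff_pow_eq_one.1 (Subgroup.orderOf_dvd_natCard H hb), map_one]
  have hsat := autSystem_isSaturated hS A le_sup_left hH hAq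
  refine coprime_abelian_of_pSeries hS (hasPSeries_of_supersoluble hS (h _ hsat)) H ?_ hH
  rw [autSystem_autGroup]
  exact le_sup_right

end Cfsg.Agent.H90
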