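import Cfsg.Agent.H90.TateInner
import Cfsg.Agent.FusionSys.Saturated

/-!
The normalizer system of a subgroup `Q ⊇ [S, S]` is saturated when the normalizer system of `S` is
inner, hence inner itself when moreover `Q ≤ Φ(S)`.
-/

set_option autoImplicit false

namespace Cfsg.Agent.H90

open Cfsg Cfsg.FusionSystem
open scoped commutatorElement

universe u

variable {Ω : Type u} [Group Ω] {S : Subgroup Ω}

/-- The maps extending to maps that preserve `Q`, as a system over `S`. -/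
def normExtSystem [Finite S] (F : FusionSystem S) {Q : Subgroup Ω} (hQS : Q ≤ S)
    (hQn : ∀ g ∈ S, ∀ x ∈ Q, g * x * g⁻¹ ∈ Q) : FusionSystem S where
  Hom P := {φ | φ ∈ F.Hom P ∧ NormExt F Q P φ}
  le_of_mem h := F.le_of_mem h.1
  injective_of_mem h := F.injective_of_mem h.1
  conj_mem {_ g} hP hg := ⟨F.conj_mem hP hg, normExt_conj F hP hQS hQn hg fun _ => rfl⟩
  comp_mem {_ _ φ ψ} hφ hψ h :=
    ⟨F.comp_mem hφ.1 hψ.1 h, (normExt_isStable F hQS).comp φ ψ hφ.1 hψ.1 h hφ.2 hψ.2⟩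
  inv_mem {_ φ} hφ := by
    obtain ⟨ψ, hψ, -, hl, -⟩ := exists_iso_inv F hφ.1 rfl
    exact ⟨ψ, ⟨hψ, (normExt_isStable F hQS).inv φ ψ hφ.1 hψ rfl hl hφ.2⟩,
      fun x => hl x ⟨x, rfl⟩⟩

section

variable [Finite S] {F : FusionSystem S} {Q : Subgroup Ω}

theorem conj_mem_of_le (hSQ : ⁅S, S⁆ ≤ Q) {X : Subgroup Ω} (hQX : Q ≤ X) (hX : X ≤ S) {g x : Ω}
    (hg : g ∈ S) (hx : x ∈ X) : g * x * g⁻¹ ∈ X := by
  rw [show g * x * g⁻¹ = ⁅g, x⁆ * x by rw [commutatorElement_def]; group]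
  exact X.mul_mem (hQX (hSQ (Subgroup.commutator_mem_commutator hg (hX hx)))) hx

theorem normalizerIn_eq_top_of_le (hSQ : ⁅S, S⁆ ≤ Q) {X : Subgroup Ω} (hQX : Q ≤ X) (hX : X ≤ S) :
    normalizerIn S X = S := by
  haveI := finite_le hX
  exact le_antisymm inf_le_left fun g hg =>
    ⟨hg, normal_of_conj fun x hx => conj_mem_of_le hSQ hQX hX hg hx⟩

theorem fullyNormalized_of_le (hSQ : ⁅S, S⁆ ≤ Q) {X : Subgroup Ω} (hQX : Q ≤ X) (hX : X ≤ S) :
    F.IsFullyNormalized X :=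
  ⟨hX, fun _ _ => by
    rw [normalizerIn_eq_top_of_le hSQ hQX hX]
    exact Subgroup.card_le_of_le inf_le_left⟩

variable {p : ℕ} [Fact p.Prime]

/-- A map preserving `Q` with source containing `Q` is an automorphism. -/
theorem range_eq_of_preserves (hS : IsPGroup p S) (hF : F.IsSaturated p)
    (htop : ∀ φ ∈ F.Hom S, ∃ g ∈ S, ∀ x : ↥S, φ x = g * x * g⁻¹) (hQS : Q ≤ S)
    (hSQ : ⁅S, S⁆ ≤ Q) {X : Subgroup Ω} (hQX : Q ≤ X) {ψ : ↥X →* Ω} (hψ : ψ ∈ F.Hom X)
    (hQ : ∀ x (hx : x ∈ Q), ψ ⟨x, hQX hx⟩ ∈ Q) : ψ.range = X := by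
  have hX := src_le F hψ
  have hQr : Q ≤ ψ.range := fun x hx => by
    obtain ⟨y, hy⟩ : x ∈ (res ψ hQX).range := (map_eq_of_mem hQS hψ hQX hQ).ge hx
    exact ⟨_, hy⟩
  have hfn := fullyNormalized_of_le (F := F) hSQ hQr (range_le F hψ)
  obtain ⟨χ, hχ, hχr, ψ₁, hψ₁, hag, -⟩ := exists_extending hS F ⟨ψ, hψ, rfl⟩
    (FusionSys.isFullyAutomized_of_isFullyNormalized hS hF hfn)
    (FusionSys.receptive_of_isFullyNormalized hS hF hfn)
  have hSN : S ≤ normalizerIn S X := (normalizerIn_eq_top_of_le hSQ hQX hX).ge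
  obtain ⟨g, hg, hh⟩ := htop _ (res_mem F hψ₁ hSN)
  refine (eq_of_le_card hX ?_ (card_range_eq F hψ).ge)
  rw [← hχr]
  rintro _ ⟨x, rfl⟩
  rw [hag x x.2 (hSN (hX x.2))]
  have := hh ⟨x, hX x.2⟩
  rw [res_apply] at this
  rw [this]
  exact conj_mem_of_le hSQ hQX hX hg x.2

/-- The stabilizer of the trace of `V` in a group of automorphisms. -/
def stabIn {X : Subgroup Ω} (A : Subgroup (MulAut ↥X)) (V : Subgroup Ω) : Subgroup (MulAut ↥X) where
  carrier := {a | a ∈ A ∧ ∀ x : ↥X, ((a x : ↥X) : Ω) ∈ V ↔ (x : Ω) ∈ V}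
  one_mem' := ⟨A.one_mem, fun _ => Iff.rfl⟩
  mul_mem' {a b} ha hb := ⟨A.mul_mem ha.1 hb.1, fun x => (ha.2 (b x)).trans (hb.2 x)⟩
  inv_mem' {a} ha := ⟨A.inv_mem ha.1, fun x => by
    have h := ha.2 (a⁻¹ x)
    rw [show a (a⁻¹ x) = x from a.apply_symm_apply x] at h
    exact h.symm⟩

theorem stab_iff_of_map {X V : Subgroup Ω} [Finite ↥X] {a : MulAut ↥X}
    (h : ∀ x : ↥X, (x : Ω) ∈ V → ((a x : ↥X) : Ω) ∈ V) (x : ↥X) :
    ((a x : ↥X) : Ω) ∈ V ↔ (x : Ω) ∈ V := by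
  refine ⟨fun hx => ?_, h x⟩
  have hsurj : Function.Surjective (fun y : {y : ↥X // (y : Ω) ∈ V} =>
      (⟨a y, h y y.2⟩ : {y : ↥X // (y : Ω) ∈ V})) :=
    Finite.surjective_of_injective fun u v huv =>
      Subtype.ext (a.injective (congrArg Subtype.val huv))
  obtain ⟨y, hy⟩ := hsurj ⟨_, hx⟩
  have := a.injective (congrArg Subtype.val hy)
  exact this ▸ y.2

theorem exists_conj_into {G : Type*} [Group G] [Finite G] {T K B : Subgroup G}
    (hT : IsPGroup p T) (hK : T ≤ Subgroup.normalizer (K : Set G)) (hB : IsPGroup p B)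
    (hBL : B ≤ T ⊔ K) (hidx : ¬ p ∣ T.relIndex (T ⊔ K)) :
    ∃ κ ∈ K, ∀ b ∈ B, κ * b * κ⁻¹ ∈ T := by
  set L := T ⊔ K
  have hTp : IsPGroup p (T.subgroupOf L) := hT.comap_of_injective _ L.subtype_injective
  let TL : Sylow p L := hTp.toSylow hidx
  obtain ⟨Bs, hBs⟩ :=
    (hB.comap_of_injective _ L.subtype_injective : IsPGroup p (B.subgroupOf L)).exists_le_sylow
  obtain ⟨l, hl⟩ := MulAction.exists_smul_eq ↥L Bs TL
  have hlT : (l : G) ∈ T ⊔ K := l.2
  rw [← SetLike.mem_coe, Subgroup.coe_mul_of_left_le_normalizer_right T K hK] at hlT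
  obtain ⟨t, ht, κ, hκ, he⟩ := hlT
  refine ⟨κ, hκ, fun b hb => ?_⟩
  have h1 : l * ⟨b, hBL hb⟩ * l⁻¹ ∈ (TL : Subgroup L) := by
    rw [← hl, Sylow.coe_subgroup_smul]
    exact ⟨_, hBs (Subgroup.mem_subgroupOf.2 hb), rfl⟩
  change l * ⟨b, hBL hb⟩ * l⁻¹ ∈ T.subgroupOf L at h1
  rw [Subgroup.mem_subgroupOf] at h1
  have h2 : t⁻¹ * ((l : G) * b * (l : G)⁻¹) * t ∈ T := T.mul_mem (T.mul_mem (T.inv_mem ht) h1) ht
  rw [← he] at h2
  simpa [mul_assoc] using h2

set_option linter.unusedSectionVars false in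
theorem normExtSystem_isSaturated (hS : IsPGroup p S) (hF : F.IsSaturated p)
    (htop : ∀ φ ∈ F.Hom S, ∃ g ∈ S, ∀ x : ↥S, φ x = g * x * g⁻¹) (hQS : Q ≤ S)
    (hSQ : ⁅S, S⁆ ≤ Q) (hQn : ∀ g ∈ S, ∀ x ∈ Q, g * x * g⁻¹ ∈ Q) :
    (normExtSystem F hQS hQn).IsSaturated p := by
  intro P hPS
  set G := normExtSystem F hQS hQn
  set X := P ⊔ Q with hXdef
  have hXS : X ≤ S := sup_le hPS hQS
  haveI := finite_le hXS
  have hXfn := fullyNormalized_of_le (F := F) hSQ (le_sup_right : Q ≤ X) hXS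
  obtain ⟨-, TF, hTF⟩ := FusionSys.isFullyAutomized_of_isFullyNormalized hS hF hXfn
  have hXrec := FusionSys.receptive_of_isFullyNormalized hS hF hXfn
  set A : Subgroup (MulAut ↥X) := stabIn (F.autGroup X) Q with hA
  set T : Subgroup (MulAut ↥X) := autInducedBy S X with hTdef
  have hTA : T ≤ A := fun a ha => ⟨autInducedBy_le F hXS ha, fun x => by
    obtain ⟨g, hg, hh⟩ := (mem_autInducedBy_iff hXS).1 ha
    rw [hh x]
    exact ⟨fun h => by simpa [mul_assoc] using hQn g⁻¹ (S.inv_mem hg) _ h, hQn g hg x⟩⟩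
  have hTp : IsPGroup p T := autInducedBy_isPGroup hS hXS
  have hAF : A ≤ F.autGroup X := fun a ha => ha.1
  have hTidx : ¬ p ∣ T.relIndex A := fun hd => by
    refine TF.not_dvd_index ?_
    rw [hTF]
    exact hd.trans (Dvd.intro _ (Subgroup.relIndex_mul_relIndex T A (F.autGroup X) hTA hAF))
  -- choose the conjugate
  let St : Subgroup Ω → Subgroup (MulAut ↥X) := fun V => stabIn A V
  obtain ⟨U, hU⟩ : ∃ U : Sylow p ↥(St P), True :=
    ⟨Classical.choice inferInstance, trivial⟩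
  have hStA : ∀ V, St V ≤ A := fun V a ha => ha.1
  obtain ⟨U', hU'⟩ := ((U.isPGroup'.map (Subgroup.inclusion (hStA P)) :
    IsPGroup p ↥((U : Subgroup ↥(St P)).map (Subgroup.inclusion (hStA P))))).exists_le_sylow
  obtain ⟨⟨b, hb⟩, hbU⟩ := MulAction.exists_smul_eq ↥A U'
    ((hTp.comap_of_injective _ A.subtype_injective : IsPGroup p (T.subgroupOf A)).toSylow hTidx)
  set P' : Subgroup Ω := (P.subgroupOf X).map (X.subtype.comp b.toMonoidHom) with hP'
  have hPX : P ≤ X := le_sup_left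
  have hP'X : P' ≤ X := by
    rintro _ ⟨x, -, rfl⟩
    exact (b x).2
  have hbP : ∀ x : ↥X, ((b x : ↥X) : Ω) ∈ P' ↔ (x : Ω) ∈ P := by
    intro x
    constructor
    · rintro ⟨y, hy, he⟩
      obtain rfl : y = x := b.injective (Subtype.ext he)
      exact hy
    · exact fun hx => ⟨x, hx, rfl⟩
  have hbX : X.subtype.comp b.toMonoidHom ∈ F.Hom X := hom_of_aut_mem F hXS hb.1
  have hbQ : ∀ x (hx : x ∈ Q), ((b ⟨x, (le_sup_right : Q ≤ X) hx⟩ : ↥X) : Ω) ∈ Q :=
    fun x hx => (hb.2 ⟨x, _⟩).2 hx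
  have hP'Q : P' ⊔ Q = X := by
    refine le_antisymm (sup_le hP'X le_sup_right) fun y hy => ?_
    obtain ⟨x, hx⟩ : ∃ x : ↥X, b x = ⟨y, hy⟩ := ⟨b.symm ⟨y, hy⟩, b.apply_symm_apply _⟩
    rw [show y = (X.subtype.comp b.toMonoidHom) x from (congrArg Subtype.val hx).symm]
    exact mem_of_mem_sup _ le_sup_left le_sup_right
      (fun z hz => Subgroup.mem_sup_left ((hbP ⟨z, _⟩).2 hz))
      (fun z hz => Subgroup.mem_sup_right (hbQ z hz)) x x.2
  have hconj : G.IsConj P P' := by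
    refine ⟨res (X.subtype.comp b.toMonoidHom) hPX, ⟨res_mem F hbX _, X.subtype.comp b.toMonoidHom,
      hbX, fun x => rfl, fun x => hbQ x x.2⟩, le_antisymm ?_ ?_⟩
    · rintro _ ⟨x, rfl⟩
      exact (hbP ⟨x, hPX x.2⟩).2 x.2
    · rintro _ ⟨x, hx, rfl⟩
      exact ⟨⟨x, hx⟩, rfl⟩
  refine ⟨P', hconj, ?_⟩
  have hP'S : P' ≤ S := hP'X.trans hXS
  haveI := finite_le hP'S
  -- `T ⊓ St P'` is a Sylow subgroup of `St P'`
  have hidx : ¬ p ∣ (T ⊓ St P').relIndex (St P') := by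
    intro hd
    refine U.not_dvd_index ?_
    let c : MulAut ↥X →* MulAut ↥X := (MulAut.conj b).toMonoidHom
    have hcSt : (St P).map c = St P' := by
      ext a
      constructor
      · rintro ⟨s, ⟨hsA, hs⟩, rfl⟩
        refine ⟨A.mul_mem (A.mul_mem hb hsA) (A.inv_mem hb), fun x => ?_⟩
        show ((b (s (b⁻¹ x)) : ↥X) : Ω) ∈ P' ↔ _
        rw [hbP, hs, ← hbP, show b (b⁻¹ x) = x from b.apply_symm_apply x]
      · intro ha
        refine ⟨b⁻¹ * a * b, ⟨A.mul_mem (A.mul_mem (A.inv_mem hb) ha.1) hb, fun x => ?_⟩,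
          by show b * (b⁻¹ * a * b) * b⁻¹ = a; group⟩
        rw [← hbP, show b ((b⁻¹ * a * b) x) = a (b x) from b.apply_symm_apply _, ha.2, hbP]
    have hUle : ((U : Subgroup ↥(St P)).map (St P).subtype).map c ≤ T ⊓ St P' := by
      rintro _ ⟨_, ⟨s, hs, rfl⟩, rfl⟩
      refine ⟨?_, hcSt ▸ ⟨s, s.2, rfl⟩⟩
      have h1 : (⟨b, hb⟩ : ↥A) * Subgroup.inclusion (hStA P) s * (⟨b, hb⟩ : ↥A)⁻¹ ∈
          (((hTp.comap_of_injective _ A.subtype_injective :
            IsPGroup p (T.subgroupOf A)).toSylow hTidx : Sylow p ↥A) : Subgroup ↥A) := by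
        rw [← hbU, Sylow.coe_subgroup_smul]
        exact ⟨_, hU' ⟨s, hs, rfl⟩, rfl⟩
      exact h1
    have h1 : (T ⊓ St P').relIndex (St P') ∣
        (((U : Subgroup ↥(St P)).map (St P).subtype).map c).relIndex (St P') :=
      Subgroup.relIndex_dvd_of_le_left _ hUle
    have h2 : (((U : Subgroup ↥(St P)).map (St P).subtype).map c).relIndex (St P') =
        (U : Subgroup ↥(St P)).index := by
      rw [← hcSt, Subgroup.relIndex_map_map_of_injective _ _ (MulAut.conj b).injective]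
      exact (congrArg Subgroup.index
        (Subgroup.comap_map_eq_self_of_injective (St P).subtype_injective _))
    exact hd.trans (h2 ▸ h1)
  -- restriction to `P'`
  have hmaps : ∀ a ∈ St P', ∀ x : ↥P', ((a ⟨x, hP'X x.2⟩ : ↥X) : Ω) ∈ P' :=
    fun a ha x => (ha.2 ⟨x, hP'X x.2⟩).2 x.2
  let r : ↥(St P') →* MulAut ↥P' :=
    { toFun := fun a =>
        { toFun := fun x => ⟨_, hmaps _ a.2 x⟩
          invFun := fun x => ⟨_, hmaps _ (a⁻¹).2 x⟩
          left_inv := fun x => Subtype.ext (by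
            have h := congrArg Subtype.val ((a : MulAut ↥X).symm_apply_apply ⟨x, hP'X x.2⟩)
            exact h)
          right_inv := fun x => Subtype.ext (by
            have h := congrArg Subtype.val ((a : MulAut ↥X).apply_symm_apply ⟨x, hP'X x.2⟩)
            exact h)
          map_mul' := fun x y => Subtype.ext (by
            have h := congrArg Subtype.val (map_mul (a : MulAut ↥X) ⟨x, hP'X x.2⟩ ⟨y, hP'X y.2⟩)
            exact h) }
      map_one' := MulEquiv.ext fun x => rfl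
      map_mul' := fun a a' => MulEquiv.ext fun x => rfl }
  refine ⟨⟨hP'S, ?_⟩, hP'S, ?_⟩
  · -- fully automized
    have hrange : G.autGroup P' = r.range := by
      apply le_antisymm
      · refine (Subgroup.closure_le _).2 fun α hα => ?_
        obtain ⟨-, ψ, hψ, he, hm⟩ := hα
        have hψ' := res_mem F hψ hP'Q.ge
        have hmv : ∀ z (hz : z ∈ P'), ψ ⟨z, Subgroup.mem_sup_left hz⟩ ∈ P' := fun z hz => by
          have h : ψ ⟨z, Subgroup.mem_sup_left hz⟩ = ((α ⟨z, hz⟩ : ↥P') : Ω) := he ⟨z, hz⟩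
          rw [h]
          exact (α ⟨z, hz⟩).2
        have hv : ∀ x, res ψ hP'Q.ge x ∈ X := fun x => hP'Q.le (mem_of_mem_sup ψ le_sup_left
          le_sup_right (fun z hz => Subgroup.mem_sup_left (hmv z hz))
          (fun z hz => Subgroup.mem_sup_right (hm ⟨z, hz⟩)) ⟨x, hP'Q.ge x.2⟩ (hP'Q.ge x.2))
        refine ⟨⟨toAut F hψ' hv, ⟨toAut_mem F hψ' hv, fun x => ?_⟩, fun x => ?_⟩, ?_⟩
        · exact stab_iff_of_map (fun z hz => hm ⟨z, hz⟩) x
        · exact stab_iff_of_map (fun z hz => by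
            rw [toAut_coe, res_apply]
            exact hmv z hz) x
        · exact MulEquiv.ext fun x => Subtype.ext (he x)
      · rintro _ ⟨a, rfl⟩
        refine aut_mem_of_hom G ⟨?_, ?_⟩
        · exact mem_of_agree F (res_mem F (hom_of_aut_mem F hXS a.2.1.1) hP'X) fun x => rfl
        · exact ⟨res (X.subtype.comp (a : MulAut ↥X).toMonoidHom) hP'Q.le,
            res_mem F (hom_of_aut_mem F hXS a.2.1.1) _, fun x => rfl,
            fun x => (a.2.1.2 ⟨x, (le_sup_right : Q ≤ X) x.2⟩).2 x.2⟩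
    have hrT : ((T ⊓ St P').subgroupOf (St P')).map r = autInducedBy S P' := by
      apply le_antisymm
      · rintro _ ⟨a, ha, rfl⟩
        obtain ⟨g, hg, hh⟩ := (mem_autInducedBy_iff hXS).1 ha.1
        exact (mem_autInducedBy_iff hP'S).2 ⟨g, hg, fun x => hh ⟨x, hP'X x.2⟩⟩
      · intro α hα
        obtain ⟨g, hgn, hgS, rfl⟩ := exists_norm_of_autInducedBy hP'S hα
        have hgX : g ∈ Subgroup.normalizer (X : Set Ω) :=
          normal_of_conj fun x hx => conj_mem_of_le hSQ le_sup_right hXS hgS hx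
        have hgT : normAut X g hgX ∈ T :=
          (mem_autInducedBy_iff hXS).2 ⟨g, hgS, fun x => rfl⟩
        refine ⟨⟨_, hTA hgT, fun x => ?_⟩, ⟨hgT, hTA hgT, fun x => ?_⟩, ?_⟩
        · exact (Subgroup.mem_normalizer_iff.1 hgn x).symm
        · exact (Subgroup.mem_normalizer_iff.1 hgn x).symm
        · exact MulEquiv.ext fun x => rfl
    have hp' : IsPGroup p ((autInducedBy S P').subgroupOf (G.autGroup P')) :=
      (autInducedBy_isPGroup hS hP'S).comap_of_injective _ (Subgroup.subtype_injective _)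
    refine ⟨hp'.toSylow fun hd => hidx (hd.trans ?_), IsPGroup.toSylow_coe _ _⟩
    show (autInducedBy S P').relIndex (G.autGroup P') ∣ _
    rw [hrange, ← hrT, MonoidHom.range_eq_map, Subgroup.relIndex_map_map]
    rw [show (⊤ : Subgroup ↥(St P')) ⊔ r.ker = ⊤ from top_sup_eq _, Subgroup.relIndex_top_right]
    exact Subgroup.index_dvd_of_le le_sup_left
  · -- receptive
    intro R φ hφ hr
    obtain ⟨hφF, ψ, hψ, he, hm⟩ := hφ
    have hrng := range_eq_of_preserves hS hF htop hQS hSQ (le_sup_right : Q ≤ R ⊔ Q) hψ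
      (fun x hx => hm ⟨x, hx⟩)
    have hRX : R ⊔ Q = X := by
      refine le_antisymm ?_ ?_
      · rw [← hrng, ← hP'Q]
        rintro _ ⟨x, rfl⟩
        exact mem_of_mem_sup ψ le_sup_left le_sup_right
          (fun z hz => Subgroup.mem_sup_left (hr ▸ ⟨⟨z, hz⟩, (he ⟨z, hz⟩).symm⟩))
          (fun z hz => Subgroup.mem_sup_right (hm ⟨z, hz⟩)) x x.2
      · rw [← hP'Q, ← hrng]
        refine sup_le (fun z hz => ?_) (fun z hz => ?_)
        · obtain ⟨x, rfl⟩ : z ∈ φ.range := hr.symm ▸ hz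
          exact ⟨_, he x⟩
        · rw [hrng]
          exact Subgroup.mem_sup_right hz
    have hψX := res_mem F hψ hRX.ge
    have hψv : ∀ x, res ψ hRX.ge x ∈ X := fun x => hRX.le (hrng.le ⟨_, rfl⟩)
    set a := toAut F hψX hψv with hadef
    have haA : a ∈ A := ⟨toAut_mem F hψX hψv, stab_iff_of_map fun z hz => hm ⟨z, hz⟩⟩
    have hRX' : R ≤ X := hRX ▸ le_sup_left
    have haR : ∀ x : ↥X, ((a x : ↥X) : Ω) ∈ P' ↔ (x : Ω) ∈ R := by
      intro x
      constructor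
      · intro hx
        obtain ⟨y, hy⟩ : ((a x : ↥X) : Ω) ∈ φ.range := hr.symm ▸ hx
        obtain rfl : (⟨y, hRX' y.2⟩ : ↥X) = x :=
          a.injective (Subtype.ext ((he y).trans hy))
        exact y.2
      · exact fun hx => hr ▸ ⟨⟨x, hx⟩, (he ⟨x, hx⟩).symm⟩
    have hφa : ∀ x : ↥R, φ x = ((a ⟨x, hRX' x.2⟩ : ↥X) : Ω) := fun x => (he x).symm
    haveI := finite_le (hRX'.trans hXS)
    set E := extender S R φ
    have hgX : ∀ {g : Ω}, g ∈ S → g ∈ Subgroup.normalizer (X : Set Ω) := fun hg =>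
      normal_of_conj fun x hx => conj_mem_of_le hSQ le_sup_right hXS hg hx
    -- the action of `E` on `X`, moved by `a`
    let cE : ↥E →* MulAut ↥X :=
      (MulAut.conj a).toMonoidHom.comp
        { toFun := fun g => normAut X g (hgX (extender_le R φ g.2).1)
          map_one' := MulEquiv.ext fun x => Subtype.ext (by simp)
          map_mul' := fun g g' => MulEquiv.ext fun x => Subtype.ext (by simp [mul_assoc]) }
    have hgen : ∀ g : ↥E, cE g ∈ St P' := by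
      intro g
      refine ⟨A.mul_mem (A.mul_mem haA (hTA ((mem_autInducedBy_iff hXS).2
        ⟨g, (extender_le R φ g.2).1, fun x => rfl⟩))) (A.inv_mem haA), fun x => ?_⟩
      show ((a (normAut X g (hgX (extender_le R φ g.2).1) (a⁻¹ x)) : ↥X) : Ω) ∈ P' ↔ _
      rw [haR, normAut_coe, ← Subgroup.mem_normalizer_iff.1 (extender_le R φ g.2).2, ← haR,
        show a (a⁻¹ x) = x from a.apply_symm_apply x]
    let cS : ↥E →* ↥(St P') := cE.codRestrict _ hgen
    set T' := (T ⊓ St P').subgroupOf (St P')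
    have hL : ∀ g : ↥E, r (cS g) ∈ T'.map r := by
      have key : E ≤ ((T'.map r).comap (r.comp cS)).map E.subtype := by
        refine (Subgroup.closure_le _).2 ?_
        rintro g ⟨hgS, hgn, h, hhS, hh⟩
        have hgE : g ∈ E := Subgroup.subset_closure ⟨hgS, hgn, h, hhS, hh⟩
        refine ⟨⟨g, hgE⟩, ?_, rfl⟩
        have hP'n : h ∈ Subgroup.normalizer (P' : Set Ω) := normal_of_conj fun y hy => by
          obtain ⟨x, rfl⟩ : y ∈ φ.range := hr.symm ▸ hy
          rw [← hh x ((Subgroup.mem_normalizer_iff.1 hgn x).1 x.2)]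
          exact hr.le ⟨_, rfl⟩
        have hhT : normAut X h (hgX hhS) ∈ T :=
          (mem_autInducedBy_iff hXS).2 ⟨h, hhS, fun x => rfl⟩
        have hhSt : normAut X h (hgX hhS) ∈ St P' :=
          ⟨hTA hhT, fun x => (Subgroup.mem_normalizer_iff.1 hP'n x).symm⟩
        refine ⟨⟨_, hhSt⟩, ⟨hhT, hhSt⟩, MulEquiv.ext fun y => Subtype.ext ?_⟩
        obtain ⟨x, hx⟩ : (y : Ω) ∈ φ.range := hr.symm ▸ y.2
        have hy : (⟨y, hP'X y.2⟩ : ↥X) = a ⟨x, hRX' x.2⟩ :=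
          Subtype.ext (hx.symm.trans (hφa x))
        show h * (y : Ω) * h⁻¹ = ((a (normAut X g (hgX hgS) (a⁻¹ ⟨y, hP'X y.2⟩)) : ↥X) : Ω)
        rw [hy, show a⁻¹ (a ⟨x, hRX' x.2⟩) = ⟨x, hRX' x.2⟩ from a.symm_apply_apply _, ← hx,
          ← hh x ((Subgroup.mem_normalizer_iff.1 hgn x).1 x.2), hφa]
        rfl
      rintro ⟨g, hg⟩
      obtain ⟨⟨g', hg'⟩, hmem, rfl⟩ := key hg
      exact hmem
    obtain ⟨κ, hκ, hκB⟩ := exists_conj_into (G := ↥(St P')) (T := T') (K := r.ker)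
      (B := cS.range) ((hTp.to_le inf_le_left).comap_of_injective _ (St P').subtype_injective)
      (fun t _ => by rw [Subgroup.normalizer_eq_top]; trivial)
      (by
        have hE : IsPGroup p E := hS.to_le ((extender_le R φ).trans inf_le_left)
        rw [MonoidHom.range_eq_map]
        exact (hE.of_equiv Subgroup.topEquiv.symm).map cS)
      (by
        rintro _ ⟨g, rfl⟩
        rw [← Subgroup.comap_map_eq]
        exact hL g)
      (fun hd => hidx (hd.trans (Subgroup.relIndex_dvd_index_of_le le_sup_left)))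
    -- the modified map
    set a' : MulAut ↥X := (κ : MulAut ↥X) * a
    have ha'A : a' ∈ A := A.mul_mem κ.2.1 haA
    have ha' := hom_of_aut_mem F hXS ha'A.1
    have ha'r : (X.subtype.comp a'.toMonoidHom).range = X := le_antisymm
      (by rintro _ ⟨x, rfl⟩; exact (a' x).2)
      fun x hx => ⟨a'.symm ⟨x, hx⟩, congrArg Subtype.val (a'.apply_symm_apply _)⟩
    obtain ⟨ψ', hψ', hext⟩ := hXrec.2 X _ ha' ha'r
    have hXE : X ≤ extender S X (X.subtype.comp a'.toMonoidHom) := fun g hg =>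
      Subgroup.subset_closure ⟨hXS hg, Subgroup.le_normalizer hg, _, hXS (a' ⟨g, hg⟩).2,
        fun x hx => by
          show ((a' ⟨g * x * g⁻¹, hx⟩ : ↥X) : Ω) = _
          rw [show (⟨g * x * g⁻¹, hx⟩ : ↥X) = ⟨g, hg⟩ * x * ⟨g, hg⟩⁻¹ from rfl]
          simp⟩
    have hEE : E ≤ extender S X (X.subtype.comp a'.toMonoidHom) := by
      intro g hg
      refine Subgroup.subset_closure ⟨(extender_le R φ hg).1, hgX (extender_le R φ hg).1, ?_⟩
      have h1 := (Subgroup.mem_subgroupOf.1 (hκB _ ⟨⟨g, hg⟩, rfl⟩)).1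
      obtain ⟨h, hhS, hh⟩ := (mem_autInducedBy_iff hXS).1 h1
      refine ⟨h, hhS, fun x hx => ?_⟩
      have h2 := hh (a' x)
      show ((a' ⟨g * x * g⁻¹, hx⟩ : ↥X) : Ω) = h * ((a' x : ↥X) : Ω) * h⁻¹
      rw [← h2]
      show _ = (((κ : MulAut ↥X) (a (normAut X g (hgX (extender_le R φ hg).1) (a⁻¹ ((κ : MulAut ↥X)⁻¹ (a' x))))) : ↥X) : Ω)
      rw [show (κ : MulAut ↥X)⁻¹ (a' x) = a x from (κ : MulAut ↥X).symm_apply_apply _,
        show a⁻¹ (a x) = x from a.symm_apply_apply _]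
      rfl
    have hQE := (le_sup_right : Q ≤ X).trans hXE
    refine ⟨res ψ' hEE, ⟨res_mem F hψ' hEE, res ψ' (sup_le hEE hQE), res_mem F hψ' _,
      fun x => rfl, fun x => ?_⟩, fun x hx hxE => ?_⟩
    · have hxX : (x : Ω) ∈ X := Subgroup.mem_sup_right x.2
      show ψ' ⟨(x : Ω), _⟩ ∈ Q
      rw [hext x hxX (hQE x.2)]
      exact (ha'A.2 ⟨x, hxX⟩).2 x.2
    · rw [res_apply, hext x (hRX' hx) (hEE hxE), hφa ⟨x, hx⟩]
      show (((κ : MulAut ↥X) (a ⟨x, hRX' hx⟩) : ↥X) : Ω) = _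
      have h := MulEquiv.congr_fun hκ ⟨_, (haR ⟨x, hRX' hx⟩).2 hx⟩
      have h' := congrArg Subtype.val h
      exact h'

end

end Cfsg.Agent.H90
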