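import Cfsg.Agent.H90.Normal
import Cfsg.Prelude.Def_PLocal
import Mathlib.Algebra.Polynomial.Inductions
import Mathlib.Algebra.Polynomial.AlgebraMap
import Mathlib.Algebra.CharP.Lemmas

/-!
Glauberman's lemma on `p^n`-th powers of Sylow fixed points and the normality of the powers of the
centre in a saturated system over a group of small class.
-/

set_option autoImplicit false

namespace Cfsg.Agent.H90

open Cfsg Cfsg.FusionSystem Polynomial
open scoped commutatorElement

theorem exists_binom_identity (p : ℕ) (hp : p.Prime) :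
    ∃ w : ℤ[X], (1 + X) ^ p = 1 + X ^ p + (p : ℤ[X]) * X * (1 + X * w) := by
  obtain ⟨r, hr⟩ := exists_add_pow_prime_eq hp (X : ℤ[X]) 1
  refine ⟨r.divX, ?_⟩
  have h1 := congrArg (fun f => Polynomial.coeff f 1) hr
  have e : ((X : ℤ[X]) + 1) ^ p = (X + C 1) ^ p := by rw [map_one]
  simp only [e, coeff_X_add_C_pow, one_pow, mul_one, coeff_add, coeff_one, coeff_X_pow,
    mul_assoc, coeff_natCast_mul] at h1
  rw [Nat.choose_one_right, coeff_X_mul] at h1
  simp [hp.one_lt.ne] at h1
  have hr0 : r.coeff 0 = 1 := by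
    exact mul_left_cancel₀ (Nat.cast_ne_zero.2 hp.ne_zero) (h1.symm.trans (mul_one _).symm)
  have hr' : r = 1 + X * r.divX := by
    conv_lhs => rw [← X_mul_divX_add r, hr0, map_one]
    ring
  rw [← hr', add_comm (1 : ℤ[X]), hr]
  ring

/-- If `f^p` fixes `v` and `(f-1)^c v = 0` with `c = n(p-1)+1`, then `f` fixes `p^n v`. -/
theorem end_fix_pow {A : Type*} [AddCommGroup A] (p n : ℕ) (hp : p.Prime) (f : Module.End ℤ A)
    (v : A) (hfp : (f ^ p) v = v) (hnil : ((f - 1) ^ (n * (p - 1) + 1)) v = 0) :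
    f ((p ^ n : ℕ) • v) = (p ^ n : ℕ) • v := by
  obtain ⟨w, hw⟩ := exists_binom_identity p hp
  set c := n * (p - 1) + 1 with hc
  set ev : ℤ[X] →+* Module.End ℤ A := (aeval (f - 1)).toRingHom with hev
  have hX : ev X = f - 1 := aeval_X _
  let u : ℤ[X] := ∑ i ∈ Finset.range c, (-(X * w)) ^ i
  have hu : (1 + X * w) * u = 1 - (-(X * w)) ^ c := by
    rw [show (1 : ℤ[X]) + X * w = 1 - (-(X * w)) by ring]
    exact mul_neg_geom_sum _ _
  have hz : ∀ q : ℤ[X], ev (X ^ c * q) v = 0 := fun q => by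
    rw [mul_comm, map_mul, Module.End.mul_apply, map_pow, hX, hnil, map_zero]
  have hp' : ∀ q : ℤ[X], ev (q * ((1 + X) ^ p - 1)) v = 0 := fun q => by
    rw [map_mul, Module.End.mul_apply, map_sub, map_pow, map_add, map_one, hX, LinearMap.sub_apply,
      add_sub_cancel, hfp, Module.End.one_apply, sub_self, map_zero]
  let B : ℤ[X] := -(X ^ (p - 1) * u)
  have step : ∀ q : ℤ[X], ev (q * ((p : ℤ[X]) * X)) v = ev (q * (B * X)) v := by
    intro q
    rw [← sub_eq_zero, ← LinearMap.sub_apply, ← map_sub]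
    have e : q * ((p : ℤ[X]) * X) - q * (B * X) =
        (q * u) * ((1 + X) ^ p - 1) + X ^ c * (q * ((p : ℤ[X]) * X) * (-w) ^ c) := by
      have hXp : (X : ℤ[X]) ^ (p - 1) * X = X ^ p := by
        rw [← pow_succ, Nat.sub_add_cancel hp.one_le]
      have h1 : (1 + X * w) * u + X ^ c * (-w) ^ c = 1 := by
        rw [hu, ← mul_pow, mul_neg]; ring
      rw [hw]
      linear_combination (q * u) * hXp - (q * ((p : ℤ[X]) * X)) * h1
    rw [e, map_add, LinearMap.add_apply, hp', hz, add_zero]
  have key : ∀ j, ev ((p : ℤ[X]) ^ j * X) v = ev (B ^ j * X) v := by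
    intro j
    induction j with
    | zero => rfl
    | succ j ih =>
      calc ev ((p : ℤ[X]) ^ (j + 1) * X) v = ev (p : ℤ[X]) (ev ((p : ℤ[X]) ^ j * X) v) := by
            rw [← Module.End.mul_apply, ← map_mul]; ring_nf
        _ = ev (p : ℤ[X]) (ev (B ^ j * X) v) := by rw [ih]
        _ = ev (B ^ j * ((p : ℤ[X]) * X)) v := by
            rw [← Module.End.mul_apply, ← map_mul]; ring_nf
        _ = ev (B ^ j * (B * X)) v := step _
        _ = _ := by ring_nf
  have h := key n
  rw [show B ^ n * X = X ^ c * (-u) ^ n by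
    simp only [B, hc, neg_pow u, neg_pow (X ^ (p - 1) * u), mul_pow, ← pow_mul, pow_succ,
      mul_comm (p - 1) n]
    ring, hz] at h
  rw [map_mul, Module.End.mul_apply, hX, ← Nat.cast_pow, map_natCast,
    Module.End.natCast_apply, LinearMap.sub_apply, Module.End.one_apply, nsmul_sub, ← map_nsmul,
    sub_eq_zero] at h
  exact h

variable {G V : Type*} [Group G] [CommGroup V] (ρ : G →* MulAut V)

/-- The endomorphism of the additive form of `V` given by `g`. -/
def actEnd : G →* Module.End ℤ (Additive V) where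
  toFun g := (MonoidHom.toAdditive (ρ g).toMonoidHom).toIntLinearMap
  map_one' := LinearMap.ext fun v => by rw [map_one]; rfl
  map_mul' g h := LinearMap.ext fun v => by rw [map_mul]; rfl

theorem fix_pow_of_pow_fix {p n : ℕ} (hp : p.Prime) (x : G) (v : V) (hfix : ρ (x ^ p) v = v)
    (hnil : (fun w => ρ x w * w⁻¹)^[n * (p - 1) + 1] v = 1) :
    ρ x (v ^ p ^ n) = v ^ p ^ n := by
  have h := end_fix_pow p n hp (actEnd ρ x) (Additive.ofMul v) (by
    rw [← map_pow]
    exact congrArg Additive.ofMul hfix) ?_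
  · exact congrArg Additive.toMul h
  have key : ∀ k w, ((actEnd ρ x - 1) ^ k) (Additive.ofMul w) =
      Additive.ofMul ((fun w => ρ x w * w⁻¹)^[k] w) := by
    intro k
    induction k with
    | zero => intro w; rfl
    | succ k ih =>
      intro w
      rw [pow_succ', Module.End.mul_apply, ih, Function.iterate_succ_apply', LinearMap.sub_apply,
        Module.End.one_apply, sub_eq_add_neg]
      rfl
  rw [key, hnil]
  rfl

/-- Glauberman: if every `p`-element `x` satisfies `(x-1)^(n(p-1)+1) = 0` on `V`, then every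
`p`-element fixes the `p^n`-th powers of the points fixed by a Sylow subgroup. -/
theorem fix_pow_of_sylow_fix [Finite G] {p n : ℕ} [hp : Fact p.Prime]
    (hnil : ∀ x : G, (∃ k, x ^ p ^ k = 1) → ∀ v : V, (fun w => ρ x w * w⁻¹)^[n * (p - 1) + 1] v = 1)
    (P Q : Sylow p G) (v : V) (hv : ∀ x ∈ P, ρ x v = v) (x : G) (hx : x ∈ Q) :
    ρ x (v ^ p ^ n) = v ^ p ^ n := by
  suffices H : ∀ (d : ℕ) (P : Sylow p G) (v : V), (∀ x ∈ P, ρ x v = v) →
      Nat.card G - Nat.card ↥((P : Subgroup G) ⊓ (Q : Subgroup G)) = d →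
      ∀ x ∈ Q, ρ x (v ^ p ^ n) = v ^ p ^ n from H _ P v hv rfl x hx
  intro d
  induction d using Nat.strong_induction_on with
  | _ d ih =>
  intro P v hv hd
  by_cases hQP : (Q : Subgroup G) ≤ P
  · intro x hx; rw [map_pow, hv x (hQP hx)]
  -- the stabilizer of the point
  let C : Subgroup G :=
    { carrier := {g | ρ g (v ^ p ^ n) = v ^ p ^ n}
      one_mem' := by simp
      mul_mem' := fun {a b} ha hb => by
        show ρ (a * b) _ = _
        rw [map_mul, MulAut.mul_apply, hb, ha]
      inv_mem' := fun {a} ha => by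
        show ρ a⁻¹ _ = _
        rw [map_inv]
        exact (ρ a).symm_apply_eq.2 ha.symm }
  have hPC : (P : Subgroup G) ≤ C := fun g hg => by
    show ρ g _ = _
    rw [map_pow, hv g hg]
  let D := (P : Subgroup G) ⊓ (Q : Subgroup G)
  have hDQ : D < (Q : Subgroup G) := inf_le_right.lt_of_ne fun h => hQP (h ▸ inf_le_left)
  have hQp : IsPGroup p ↥(Q : Subgroup G) := Q.isPGroup'
  obtain ⟨g, hg, hgD⟩ := SetLike.exists_of_lt (lt_normalizerIn hQp hDQ)
  -- an element of `N_Q(D)` outside `D` whose `p`-th power is in `D`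
  obtain ⟨x, hx, hxD, hxp⟩ : ∃ x ∈ normalizerIn (Q : Subgroup G) D, x ∉ D ∧ x ^ p ∈ D := by
    obtain ⟨k, hk⟩ := hQp ⟨g, hg.1⟩
    have hk' : g ^ p ^ k ∈ D := by
      rw [show g ^ p ^ k = 1 from congrArg Subtype.val hk]; exact D.one_mem
    clear hk
    induction k generalizing g with
    | zero => rw [pow_zero, pow_one] at hk'; exact absurd hk' hgD
    | succ k ihk =>
      by_cases h : g ^ p ∈ D
      · exact ⟨g, hg, hgD, h⟩
      · exact ihk (g ^ p) (pow_mem hg p) h (by rwa [← pow_mul, ← pow_succ'])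
  have hxpel : ∃ k, x ^ p ^ k = 1 := (hQp ⟨x, hx.1⟩).imp fun k hk => congrArg Subtype.val hk
  have hxC : x ∈ C := fix_pow_of_pow_fix ρ hp.out x v (hv _ hxp.1) (hnil x hxpel v)
  let K := C ⊓ (Q : Subgroup G)
  have hDK : D < K := (le_inf (inf_le_left.trans hPC) inf_le_right).lt_of_ne fun h =>
    hxD (h.ge ⟨hxC, hx.1⟩)
  have hKp : IsPGroup p ↥(K.subgroupOf C) :=
    (hQp.to_le inf_le_right).comap_of_injective _ C.subtype_injective
  obtain ⟨T, hT⟩ := hKp.exists_le_sylow
  obtain ⟨c, hc⟩ := MulAction.exists_smul_eq ↥C (P.subtype hPC) T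
  let P' : Sylow p G := (c : G) • P
  have hv' : ∀ y ∈ P', ρ y (ρ c v) = ρ c v := by
    intro y hy
    have hy' : y ∈ ((c : G) • P : Sylow p G).toSubgroup := hy
    rw [Sylow.coe_subgroup_smul] at hy'
    obtain ⟨z, hz, rfl⟩ := hy'
    show ρ ((c : G) * z * (c : G)⁻¹) (ρ c v) = ρ c v
    rw [map_mul, map_mul, MulAut.mul_apply, MulAut.mul_apply, map_inv, MulAut.inv_apply_self,
      hv z hz]
  have hKP' : K ≤ (P' : Subgroup G) := fun y hy => by
    have h : (⟨y, hy.1⟩ : ↥C) ∈ (T : Subgroup ↥C) := hT (Subgroup.mem_subgroupOf.2 hy)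
    rw [← hc, Sylow.coe_subgroup_smul] at h
    obtain ⟨z, hz, hzy⟩ := h
    show y ∈ ((c : G) • P : Sylow p G).toSubgroup
    rw [Sylow.coe_subgroup_smul]
    exact ⟨z, hz, congrArg Subtype.val hzy⟩
  have hlt : Nat.card ↥((P : Subgroup G) ⊓ (Q : Subgroup G)) <
      Nat.card ↥((P' : Subgroup G) ⊓ (Q : Subgroup G)) :=
    (card_lt_of_lt (le_top : K ≤ ⊤) hDK).trans_le
      (Subgroup.card_le_of_le (le_inf hKP' inf_le_right))
  have hle : Nat.card ↥((P' : Subgroup G) ⊓ (Q : Subgroup G)) ≤ Nat.card G :=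
    Subgroup.card_le_card_group _
  have h := ih _ (by omega) P' (ρ c v) hv' rfl
  intro y hy
  have hcy : ρ c (v ^ p ^ n) = v ^ p ^ n := c.2
  rw [← hcy, map_pow]
  exact h y hy

/-- The `p^n`-th powers of the centre are normal in a saturated system over a group of small
class. -/
theorem isNormal_powerClosure_center {Ω : Type*} [Group Ω] {S : Subgroup Ω} [Finite S] {p : ℕ}
    [hp : Fact p.Prime] (hS : IsPGroup p S) {F : FusionSystem S} (hF : F.IsSaturated p) {n : ℕ}
    (hcl : Subgroup.lowerCentralSeries S (n * (p - 1) + 1) = ⊥) :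
    F.IsNormal (powerClosure p n (S ⊓ Subgroup.centralizer (S : Set Ω))) := by
  set U := powerClosure p n (S ⊓ Subgroup.centralizer (S : Set Ω)) with hUdef
  have hUle : U ≤ S ⊓ Subgroup.centralizer (S : Set Ω) :=
    (Subgroup.closure_le _).2 fun _ ⟨x, hx, e⟩ => e ▸ pow_mem hx _
  have hUS : U ≤ S := hUle.trans inf_le_left
  refine (isNormal_iff_normExt F).2 ⟨hUS, induction hS hF _ (normExt_isStable F hUS) ?_⟩
  intro R hRS hA hR IH α hα
  have hfix : ∀ g ∈ S, ∀ u ∈ U, g * u * g⁻¹ = u := fun g hg u hu => by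
    rw [(Subgroup.mem_centralizer_iff.1 (hUle hu).2) g hg, mul_inv_cancel_right]
  have := finite_le hRS
  by_cases hc : centralizerIn S R ≤ R
  · have hZR : S ⊓ Subgroup.centralizer (S : Set Ω) ≤ R := fun x hx =>
      hc ⟨hx.1, Subgroup.mem_centralizer_iff.2 fun y hy =>
        Subgroup.mem_centralizer_iff.1 hx.2 y (hRS hy)⟩
    have hUR : R ⊔ U ≤ R := sup_le le_rfl (hUle.trans hZR)
    rcases hRS.eq_or_lt with rfl | hlt
    · refine ⟨res _ hUR, res_mem F (hom_of_aut_mem F le_rfl hα) hUR, fun x => rfl, fun x => ?_⟩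
      have hU : U ≤ (U.comap (R.subtype.comp α.toMonoidHom)).map R.subtype := by
        refine (Subgroup.closure_le _).2 ?_
        rintro _ ⟨z, hz, rfl⟩
        refine ⟨(⟨z, hz.1⟩ : ↥R) ^ p ^ n, ?_, rfl⟩
        refine Subgroup.subset_closure ⟨_, ⟨(α ⟨z, hz.1⟩).2, ?_⟩,
          (congrArg Subtype.val (map_pow α (⟨z, hz.1⟩ : ↥R) (p ^ n)) :)⟩
        refine Subgroup.mem_centralizer_iff.2 fun y hy => ?_
        obtain ⟨w, hw⟩ := α.surjective ⟨y, hy⟩
        rw [show y = ((α w : ↥R) : Ω) from congrArg Subtype.val hw.symm]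
        refine congrArg Subtype.val (?_ : α w * α ⟨z, hz.1⟩ = α ⟨z, hz.1⟩ * α w)
        rw [← map_mul, ← map_mul]
        exact congrArg α (Subtype.ext (Subgroup.mem_centralizer_iff.1 hz.2 _ w.2))
      obtain ⟨y, hy, hyx⟩ := hU x.2
      rw [res_apply, show (⟨((Subgroup.inclusion le_sup_right x : ↥(R ⊔ U)) : Ω), _⟩ : ↥R) = y from
        Subtype.ext hyx.symm]
      exact hy
    · -- the automorphism group acts on the centre of `R`
      let _ : CommGroup ↥(Subgroup.center ↥R) :=
        { (inferInstance : Group ↥(Subgroup.center ↥R)) with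
          mul_comm := fun a b => Subtype.ext (Subgroup.mem_center_iff.1 b.2 a) }
      let ρ : ↥(F.autGroup R) →* MulAut ↥(Subgroup.center ↥R) :=
        { toFun := fun β =>
            (β : MulAut ↥R).subgroupMap (Subgroup.center ↥R) |>.trans
              (MulEquiv.subgroupCongr (Subgroup.characteristic_iff_map_eq.1
                Subgroup.centerCharacteristic (β : MulAut ↥R)))
          map_one' := MulEquiv.ext fun x => Subtype.ext rfl
          map_mul' := fun a b => MulEquiv.ext fun x => Subtype.ext rfl }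
      obtain ⟨T, hT⟩ := hA.2
      have hTg : ∀ β ∈ (T : Subgroup ↥(F.autGroup R)), ∃ g ∈ S, ∀ x : ↥R,
          (((β : MulAut ↥R) x : ↥R) : Ω) = g * (x : Ω) * g⁻¹ := fun β hβ => by
        rw [hT] at hβ
        exact (mem_autInducedBy_iff hRS).1 (Subgroup.mem_subgroupOf.1 hβ)
      have hTnil : ∀ β ∈ (T : Subgroup ↥(F.autGroup R)), ∀ v,
          (fun w => ρ β w * w⁻¹)^[n * (p - 1) + 1] v = 1 := by
        intro β hβ v
        obtain ⟨g, hg, hgx⟩ := hTg β hβ
        have key : ∀ k, ((((fun w => ρ β w * w⁻¹)^[k] v : ↥(Subgroup.center ↥R)) : ↥R) : Ω) ∈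
            Subgroup.lowerCentralSeries S k := by
          intro k
          induction k with
          | zero => exact hRS (v : ↥R).2
          | succ k ihk =>
            rw [Function.iterate_succ_apply']
            set w := (fun w => ρ β w * w⁻¹)^[k] v
            show (((β : MulAut ↥R) (w : ↥R) : ↥R) : Ω) * (((w : ↥R) : Ω))⁻¹ ∈ _
            rw [hgx, show g * ((w : ↥R) : Ω) * g⁻¹ * (((w : ↥R) : Ω))⁻¹ =
              ⁅((w : ↥R) : Ω), g⁆⁻¹ by simp [commutatorElement_def, mul_assoc]]
            exact inv_mem (Subgroup.commutator_mem_commutator ihk hg)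
        have h := key (n * (p - 1) + 1)
        rw [hcl, Subgroup.mem_bot] at h
        exact Subtype.ext (Subtype.ext h)
      have hnil : ∀ β : ↥(F.autGroup R), (∃ k, β ^ p ^ k = 1) → ∀ v,
          (fun w => ρ β w * w⁻¹)^[n * (p - 1) + 1] v = 1 := by
        rintro β ⟨k, hk⟩ v
        have hz : IsPGroup p ↥(Subgroup.zpowers β) := by
          rintro ⟨z, i, rfl⟩
          refine ⟨k, Subtype.ext ?_⟩
          show (β ^ i) ^ p ^ k = 1
          rw [← zpow_natCast, ← zpow_mul, mul_comm, zpow_mul, zpow_natCast, hk, one_zpow]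
        obtain ⟨T', hT'⟩ := hz.exists_le_sylow
        obtain ⟨a, ha⟩ := MulAction.exists_smul_eq ↥(F.autGroup R) T' T
        have hm : a * β * a⁻¹ ∈ (T : Subgroup ↥(F.autGroup R)) := by
          rw [← ha, Sylow.coe_subgroup_smul]
          exact ⟨β, hT' (Subgroup.mem_zpowers β), rfl⟩
        have h := hTnil _ hm (ρ a v)
        have hsemi : Function.Semiconj (ρ a) (fun w => ρ β w * w⁻¹)
            (fun w => ρ (a * β * a⁻¹) w * w⁻¹) := fun w => by
          show ρ a (ρ β w * w⁻¹) = ρ (a * β * a⁻¹) (ρ a w) * (ρ a w)⁻¹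
          simp [MulAut.mul_apply]
        rw [← (hsemi.iterate_right _).eq] at h
        exact (map_eq_one_iff _ (ρ a).injective).1 h
      let M : Subgroup ↥(F.autGroup R) :=
        Subgroup.closure {β | ∃ k, β ^ p ^ k = 1}
      have hMn : M.Normal := by
        refine ⟨fun β hβ γ => ?_⟩
        have h : M.map (MulAut.conj γ).toMonoidHom ≤ M := by
          rw [MonoidHom.map_closure]
          refine Subgroup.closure_mono ?_
          rintro _ ⟨δ, ⟨k, hk⟩, rfl⟩
          exact ⟨k, by rw [← map_pow, hk, map_one]⟩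
        exact h ⟨β, hβ, rfl⟩
      have hMfix : ∀ β ∈ M, ∀ u (hu : u ∈ U), (β : MulAut ↥R) ⟨u, hUR (Subgroup.mem_sup_right hu)⟩ =
          ⟨u, hUR (Subgroup.mem_sup_right hu)⟩ := by
        intro β hβ
        have hgen : ∀ z (hz : z ∈ S ⊓ Subgroup.centralizer (S : Set Ω)),
            (β : MulAut ↥R) (⟨z, hZR hz⟩ ^ p ^ n) = ⟨z, hZR hz⟩ ^ p ^ n := by
          intro z hz
          have hzc : (⟨z, hZR hz⟩ : ↥R) ∈ Subgroup.center ↥R :=
            Subgroup.mem_center_iff.2 fun y => Subtype.ext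
              (Subgroup.mem_centralizer_iff.1 hz.2 _ (hRS y.2))
          induction hβ using Subgroup.closure_induction with
          | mem γ hγ =>
            obtain ⟨k, hk⟩ := hγ
            have hzp : IsPGroup p ↥(Subgroup.zpowers γ) := by
              rintro ⟨z, i, rfl⟩
              refine ⟨k, Subtype.ext ?_⟩
              show (γ ^ i) ^ p ^ k = 1
              rw [← zpow_natCast, ← zpow_mul, mul_comm, zpow_mul, zpow_natCast, hk, one_zpow]
            obtain ⟨T', hT'⟩ := hzp.exists_le_sylow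
            have hTv : ∀ y ∈ T, ρ y ⟨_, hzc⟩ = ⟨_, hzc⟩ := fun y hy => by
              obtain ⟨g, hg, hgx⟩ := hTg y hy
              refine Subtype.ext (Subtype.ext ((hgx _).trans ?_))
              show g * z * g⁻¹ = z
              rw [Subgroup.mem_centralizer_iff.1 hz.2 g hg, mul_inv_cancel_right]
            have h := fix_pow_of_sylow_fix ρ (fun x hx => hnil x hx) T T' ⟨_, hzc⟩ hTv γ
              (hT' (Subgroup.mem_zpowers γ))
            exact congrArg Subtype.val h
          | one => rfl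
          | mul a b _ _ ha hb =>
            show (a : MulAut ↥R) ((b : MulAut ↥R) _) = _
            rw [hb, ha]
          | inv a _ ha => exact ((a : MulAut ↥R).symm_apply_eq).2 ha.symm
        intro u hu
        have hU : U ≤ ((MonoidHom.eqLocus (β : MulAut ↥R).toMonoidHom (MonoidHom.id _))).map
            R.subtype := by
          refine (Subgroup.closure_le _).2 ?_
          rintro _ ⟨z, hz, rfl⟩
          exact ⟨_, hgen z hz, rfl⟩
        obtain ⟨y, hy, hyu⟩ := hU hu
        rw [show (⟨u, hUR (Subgroup.mem_sup_right hu)⟩ : ↥R) = y from Subtype.ext hyu.symm]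
        exact hy
      obtain ⟨g, hgN, hgR⟩ := SetLike.exists_of_lt (lt_normalizerIn hS hlt)
      obtain ⟨m, β, hm, he, X, hRX, hX, ψ, hψ, hext⟩ := aut_decomp hA hR M hMn ⟨α, hα⟩
      have hgM : (⟨_, normAut_mem_aut F hRS hgN.1 hgN.2⟩ : ↥(F.autGroup R)) ∈ M := by
        obtain ⟨k, hk⟩ := autInducedBy_isPGroup hS hRS
          ⟨_, (mem_autInducedBy_iff hRS).2 ⟨g, hgN.1, fun x => (normAut_coe R g hgN.2 x)⟩⟩
        exact Subgroup.subset_closure ⟨k, Subtype.ext (congrArg Subtype.val hk :)⟩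
      have hlt' : Nat.card R < Nat.card X := card_lt_of_lt (src_le F hψ)
        (hRX.lt_of_ne fun h => hgR (h ▸ hX g hgN.1 hgN.2 _ hgM))
      have hβ : NormExt F U R (R.subtype.comp (β : MulAut ↥R).toMonoidHom) := by
        have h := (normExt_isStable F hUS).res ψ hψ (IH X ψ hψ hlt') hRX
        rwa [show res ψ hRX = R.subtype.comp (β : MulAut ↥R).toMonoidHom from
          MonoidHom.ext fun x => hext x] at h
      have hmN : NormExt F U R (R.subtype.comp (m : MulAut ↥R).toMonoidHom) :=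
        ⟨res _ hUR, res_mem F (hom_of_aut_mem F hRS m.2) hUR, fun x => rfl, fun x => by
          show (((m : MulAut ↥R) ⟨(x : Ω), _⟩ : ↥R) : Ω) ∈ U
          rw [hMfix m hm x x.2]
          exact x.2⟩
      have h := (normExt_isStable F hUS).comp _ _ (hom_of_aut_mem F hRS β.2)
        (hom_of_aut_mem F hRS m.2) (fun x => ((β : MulAut ↥R) x).2) hβ hmN
      rw [show α = (m : MulAut ↥R) * (β : MulAut ↥R) from congrArg Subtype.val he]
      exact h
  · -- `R` is not centric: the map extends over the centralizer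
    obtain ⟨g, hg, hgR⟩ := SetLike.not_le_iff_exists.1 hc
    obtain ⟨m, β, hm, he, X, hRX, hX, ψ, hψ, hext⟩ := aut_decomp hA hR ⊥ inferInstance ⟨α, hα⟩
    have hgN : g ∈ Subgroup.normalizer (R : Set Ω) := normal_of_conj fun x hx => by
      rw [← Subgroup.mem_centralizer_iff.1 hg.2 x hx, mul_inv_cancel_right]
      exact hx
    have hgM : (⟨_, normAut_mem_aut F hRS hg.1 hgN⟩ : ↥(F.autGroup R)) ∈ (⊥ : Subgroup _) :=
      Subgroup.mem_bot.2 (Subtype.ext (MulEquiv.ext fun x => Subtype.ext (by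
        show g * (x : Ω) * g⁻¹ = (x : Ω)
        rw [← Subgroup.mem_centralizer_iff.1 hg.2 x x.2, mul_inv_cancel_right])))
    have hlt : Nat.card R < Nat.card X := card_lt_of_lt (src_le F hψ)
      (hRX.lt_of_ne fun h => hgR (h ▸ hX g hg.1 hgN _ hgM))
    have h := (normExt_isStable F hUS).res ψ hψ (IH X ψ hψ hlt) hRX
    rw [Subgroup.mem_bot] at hm
    rw [show α = (β : MulAut ↥R) by
      have := congrArg Subtype.val he
      simpa [hm] using this]
    rwa [show res ψ hRX = R.subtype.comp (β : MulAut ↥R).toMonoidHom from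
      MonoidHom.ext fun x => hext x] at h

end Cfsg.Agent.H90
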