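import Cfsg.Prelude.Def_DegreeGraph
import Cfsg.Agent.H90.DegreeSplit
import Cfsg.Agent.H90.MinNonabelianQuot

/-!
The degree graph of a solvable group has at most two components.
-/

set_option autoImplicit false
set_option linter.style.haveILetI false

namespace Cfsg.Agent.H90.DegreeComponents

open Cfsg.Agent.CharBasic Cfsg.Agent.CharInduce

variable {G : Type*} [Group G] [Fintype G]

theorem charDegree_eq {χ : G → ℂ} {n : ℕ} (h : χ 1 = n) : Cfsg.charDegree χ = n := by
  simp [Cfsg.charDegree, h]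

theorem mem_degrees {χ : G → ℂ} (hχ : Cfsg.IsIrrCharacter G χ) {n : ℕ} (h : χ 1 = n) :
    n ∈ Cfsg.charDegrees G := ⟨⟨χ, hχ⟩, charDegree_eq h⟩

/-- Either one prime, or a number dividing a degree and a prime, dominate all degree primes. -/
theorem dominating [Group.IsSolvable G] (hna : commutator G ≠ ⊥) :
    ∃ p q : ℕ, p.Prime ∧ q.Prime ∧ (∃ d ∈ Cfsg.charDegrees G, p ∣ d) ∧
      ∀ r d : ℕ, r.Prime → d ∈ Cfsg.charDegrees G → r ∣ d →
        ∃ d' ∈ Cfsg.charDegrees G, r ∣ d' ∧ (p ∣ d' ∨ q ∣ d') ∧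
          (r = p ∨ r = q ∨ (p ≠ r ∧ p * r ∣ d') ∨ (q ≠ r ∧ q * r ∣ d')) := by
  classical
  obtain ⟨N, hN⟩ := {N : Subgroup G | N.Normal ∧ ¬ commutator G ≤ N}.toFinite.exists_maximal
    ⟨⊥, inferInstance, fun h => hna (le_bot_iff.mp h)⟩
  obtain ⟨hNn, hNc⟩ := hN.prop
  have hNmax : ∀ D : Subgroup G, D.Normal ∧ ¬ commutator G ≤ D → N ≤ D → N = D := fun D hD hle =>
    le_antisymm hle (hN.le_of_ge hD hle)
  let π := QuotientGroup.mk' N
  have hπ : Function.Surjective π := QuotientGroup.mk'_surjective N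
  have hπN : ∀ x, π x = 1 ↔ x ∈ N := fun x => QuotientGroup.eq_one_iff x
  have hmapc : (commutator G).map π = commutator (G ⧸ N) := by
    rw [commutator_def, commutator_def, Subgroup.map_commutator,
      Subgroup.map_top_of_surjective π hπ]
  have hnab : commutator (G ⧸ N) ≠ ⊥ := fun h => hNc (by
    rw [← hmapc, Subgroup.map_eq_bot_iff, QuotientGroup.ker_mk'] at h
    exact h)
  have hmin : ∀ D : Subgroup (G ⧸ N), D.Normal → D ≠ ⊥ → commutator (G ⧸ N) ≤ D := by
    intro D hD hne
    by_contra hle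
    have hle' : ¬ commutator G ≤ D.comap π := fun h => hle (by
      rw [← hmapc]; exact Subgroup.map_le_iff_le_comap.mpr h)
    have h := hNmax (D.comap π) ⟨hD.comap π, hle'⟩ (fun x hx => by
      show π x ∈ D
      rw [(hπN x).mpr hx]; exact one_mem D)
    refine hne (eq_bot_iff.mpr fun d hd => ?_)
    obtain ⟨x, rfl⟩ := hπ d
    have hx : x ∈ D.comap π := hd
    rw [← h] at hx
    exact (hπN x).mpr hx
  haveI : Group.IsSolvable (G ⧸ N) := inferInstance
  haveI : Fintype (G ⧸ N) := Fintype.ofFinite _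
  rcases MinNonabelian.main inferInstance hnab hmin with ⟨p, hp, hQ⟩ |
    ⟨C₀, q, hq, hC₀n, hC₀top, hC₀bot, hC₀c, hC₀q, hC₀ab, hC₀free⟩
  · -- a nonabelian quotient of prime power order
    haveI := Fact.mk hp
    obtain ⟨β, hβ⟩ : ∃ β : Cfsg.IrrCharacter (G ⧸ N), (β : G ⧸ N → ℂ) 1 ≠ 1 := by
      by_contra h
      push Not at h
      exact hnab (by
        rw [commutator_eq_bot_iff_center_eq_top, Subgroup.eq_top_iff']
        exact fun a => Subgroup.mem_center_iff.mpr fun b => commutative_iff_forall_linear.mpr h b a)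
    obtain ⟨n, -, hn1, hnd, -⟩ := IsIrr.degree_dvd β.2
    obtain ⟨a, ha⟩ := hQ.exists_card_eq
    have hpn : p ∣ n := by
      obtain ⟨i, -, hi⟩ := (Nat.dvd_prime_pow hp).mp (ha ▸ hnd)
      rcases i with _ | i
      · exact absurd (by rw [hn1, hi, pow_zero, Nat.cast_one]) hβ
      · exact hi ▸ dvd_pow_self p i.succ_ne_zero
    have hβG : Cfsg.IsIrrCharacter G (fun g => (β : G ⧸ N → ℂ) (π g)) :=
      CharInduce.IsIrr.comp β.2 π hπ
    have hβ1 : (fun g => (β : G ⧸ N → ℂ) (π g)) 1 = (n : ℂ) := by simp [hn1]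
    refine ⟨p, p, hp, hp, ⟨n, mem_degrees hβG hβ1, hpn⟩, ?_⟩
    rintro r d hr ⟨⟨χ, hχ⟩, hd⟩ hrd
    obtain ⟨m, -, hm⟩ := IsIrr.exists_degree hχ
    rw [← hd, charDegree_eq hm] at hrd
    have hmd : m ∈ Cfsg.charDegrees G := mem_degrees hχ hm
    by_cases hpm : p ∣ m
    · refine ⟨m, hmd, hrd, Or.inl hpm, ?_⟩
      rcases eq_or_ne r p with h | h
      · exact Or.inl h
      · exact Or.inr (Or.inr (Or.inl ⟨h.symm, Nat.Coprime.mul_dvd_of_dvd_of_dvd
          ((Nat.coprime_primes hp hr).mpr h.symm) hpm hrd⟩))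
    -- restrict in two abelian steps
    set M₁ := (commutator (G ⧸ N)).comap π with hM₁
    haveI : M₁.Normal := Subgroup.Normal.comap inferInstance π
    haveI : Fintype M₁ := Fintype.ofFinite _
    have hNM : N ≤ M₁ := fun x hx => by
      show π x ∈ commutator (G ⧸ N)
      rw [(hπN x).mpr hx]; exact one_mem _
    have hab₁ : ∀ a b : G ⧸ M₁, a * b = b * a := fun a b => by
      induction a using QuotientGroup.induction_on with
      | H a =>
        induction b using QuotientGroup.induction_on with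
        | H b =>
          rw [← QuotientGroup.mk_mul, ← QuotientGroup.mk_mul, QuotientGroup.eq]
          show π _ ∈ commutator (G ⧸ N)
          have := Subgroup.commutator_mem_commutator (Subgroup.mem_top (π b⁻¹))
            (Subgroup.mem_top (π a⁻¹))
          simpa [commutator_def, commutatorElement_def, mul_assoc] using this
    have hcop : ∀ k : ℕ, k ∣ Nat.card (G ⧸ N) → Nat.Coprime m k := fun k hk => by
      obtain ⟨i, -, rfl⟩ := (Nat.dvd_prime_pow hp).mp (ha ▸ hk)
      exact Nat.Coprime.pow_right i ((Nat.Prime.coprime_iff_not_dvd hp).mpr hpm).symm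
    have hidx : M₁.index ∣ Nat.card (G ⧸ N) := by
      rw [← Subgroup.index_eq_card]
      exact Subgroup.index_dvd_of_le hNM
    obtain ⟨-, -, m', -, -, hm', -, -, hres₁⟩ := DegreeSplit.prime_dvd_degree M₁ hab₁ hχ
    rw [hm, Nat.cast_inj] at hm'
    subst hm'
    have h1 := hres₁ (hcop _ hidx)
    haveI : Fintype (N.subgroupOf M₁) := Fintype.ofFinite _
    have hab₂ : ∀ a b : M₁ ⧸ N.subgroupOf M₁, a * b = b * a := fun a b => by
      induction a using QuotientGroup.induction_on with
      | H a =>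
        induction b using QuotientGroup.induction_on with
        | H b =>
          rw [← QuotientGroup.mk_mul, ← QuotientGroup.mk_mul, QuotientGroup.eq, Subgroup.mem_subgroupOf,
            ← hπN]
          have hc : ∀ x y : M₁, π x * π y = π y * π x := fun x y => by
            have h2 : ⁅commutator (G ⧸ N), commutator (G ⧸ N)⁆ = ⊥ := by
              by_contra hne
              have hlt := Group.IsSolvable.commutator_lt_of_ne_bot (H := commutator (G ⧸ N)) hnab
              exact absurd (hmin _ inferInstance hne) (not_le_of_gt hlt)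
            exact commutatorElement_eq_one_iff_mul_comm.mp (by
              rw [← Subgroup.mem_bot, ← h2]; exact Subgroup.commutator_mem_commutator x.2 y.2)
          have h4 : π (a : G) * π b = π b * π a := hc a b
          show π _ = 1
          simp only [Subgroup.coe_mul, Subgroup.coe_inv, map_mul, map_inv]
          rw [h4, inv_mul_cancel]
    have hidx₂ : (N.subgroupOf M₁).index ∣ Nat.card (G ⧸ N) := by
      rw [← Subgroup.index_eq_card, ← Subgroup.relIndex_mul_index hNM]
      exact Dvd.intro _ rfl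
    obtain ⟨-, -, m'', -, -, hm'', -, -, hres₂⟩ := DegreeSplit.prime_dvd_degree _ hab₂ h1
    rw [OneMemClass.coe_one, hm, Nat.cast_inj] at hm''
    subst hm''
    have h2 := hres₂ (hcop _ hidx₂)
    haveI : Fintype N := Fintype.ofFinite _
    have h3 : Cfsg.IsIrrCharacter N (fun k : N => χ k) :=
      CharInduce.IsIrr.comp h2 (Subgroup.subgroupOfEquivOfLe hNM).symm.toMonoidHom
        (Subgroup.subgroupOfEquivOfLe hNM).symm.surjective
    have hker : ∀ x ∈ N, (fun g => (β : G ⧸ N → ℂ) (π g)) x = (fun g => (β : G ⧸ N → ℂ) (π g)) 1 :=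
      fun x hx => by
        show (β : G ⧸ N → ℂ) (π x) = (β : G ⧸ N → ℂ) (π 1)
        rw [(hπN x).mpr hx, map_one]
    have hprod := (DegreeSplit.twist N hχ h3).1 _ hβG hker
    refine ⟨n * m, mem_degrees hprod (by rw [Pi.mul_apply, map_one, hn1, hm]; push_cast; ring),
      dvd_mul_of_dvd_right hrd _, Or.inl (dvd_mul_of_dvd_left hpn _), ?_⟩
    refine Or.inr (Or.inr (Or.inl ⟨fun h => hpm (h ▸ hrd), ?_⟩))
    exact mul_dvd_mul hpn hrd
  -- the Frobenius case
  haveI := Fact.mk hq
  set C := C₀.comap π with hC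
  haveI : C.Normal := Subgroup.Normal.comap hC₀n π
  haveI : Fintype C := Fintype.ofFinite _
  have hNC : N ≤ C := fun x hx => by
    show π x ∈ C₀
    rw [(hπN x).mpr hx]; exact one_mem _
  set N' := N.subgroupOf C with hN'
  haveI : Fintype N' := Fintype.ofFinite _
  have habC : ∀ a b : G ⧸ C, a * b = b * a := fun a b => by
    induction a using QuotientGroup.induction_on with
    | H a =>
      induction b using QuotientGroup.induction_on with
      | H b =>
        rw [← QuotientGroup.mk_mul, ← QuotientGroup.mk_mul, QuotientGroup.eq]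
        show π _ ∈ C₀
        refine hC₀c ?_
        have := Subgroup.commutator_mem_commutator (Subgroup.mem_top (π b⁻¹))
          (Subgroup.mem_top (π a⁻¹))
        simpa [commutator_def, commutatorElement_def, mul_assoc] using this
  have habN : ∀ a b : C ⧸ N', a * b = b * a := fun a b => by
    induction a using QuotientGroup.induction_on with
    | H a =>
      induction b using QuotientGroup.induction_on with
      | H b =>
        rw [← QuotientGroup.mk_mul, ← QuotientGroup.mk_mul, QuotientGroup.eq, Subgroup.mem_subgroupOf,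
          ← hπN]
        show π _ = 1
        simp only [Subgroup.coe_mul, Subgroup.coe_inv, map_mul, map_inv]
        rw [hC₀ab (π a) a.2 (π b) b.2, inv_mul_cancel]
  have hCq : ∀ k : ℕ, ¬ q ∣ k → Nat.Coprime k N'.index := fun k hk => by
    obtain ⟨i, hi⟩ := hC₀q.exists_card_eq
    have hNidx : N'.index = q ^ i := by
      have h := Subgroup.relIndex_ker (K := C) π
      rw [hC, Subgroup.map_comap_eq_self_of_surjective hπ, QuotientGroup.ker_mk'] at h
      rw [← hi]
      exact h
    rw [hNidx]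
    exact Nat.Coprime.pow_right i ((Nat.Prime.coprime_iff_not_dvd hq).mpr hk).symm
  have hfree : ∀ g : G, g ∉ C → ∀ l : C →* ℂˣ, N' ≤ l.ker →
      CharInduce.conjFun C (fun c => (l c : ℂ)) g = (fun c => (l c : ℂ)) → l = 1 := by
    intro g hg l hl hfix
    refine MonoidHom.ext fun c => ?_
    obtain ⟨d, hd, hdc⟩ := hC₀free (π g) hg (π c) c.2
    obtain ⟨d', rfl⟩ := hπ d
    have hcd : (⟨g * d' * g⁻¹, (inferInstance : C.Normal).conj_mem d' hd g⟩ : C) *
        (⟨d', hd⟩ : C)⁻¹ * c⁻¹ ∈ N' := by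
      rw [Subgroup.mem_subgroupOf, ← hπN]
      show π _ = 1
      simp only [Subgroup.coe_mul, Subgroup.coe_inv, map_mul, map_inv, hdc, mul_inv_cancel]
    have h := MonoidHom.mem_ker.mp (hl hcd)
    have hf : l ⟨g * d' * g⁻¹, (inferInstance : C.Normal).conj_mem d' hd g⟩ = l ⟨d', hd⟩ :=
      Units.ext (congrFun hfix ⟨d', hd⟩)
    rw [map_mul, map_mul, map_inv, map_inv, hf, mul_inv_cancel, one_mul, inv_eq_one] at h
    exact h
  have hl₀ : ∃ l₀ : C →* ℂˣ, N' ≤ l₀.ker ∧ l₀ ≠ 1 := by
    obtain ⟨x, hx, hx1⟩ := C₀.bot_or_exists_ne_one.resolve_left hC₀bot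
    obtain ⟨x', rfl⟩ := hπ x
    letI : CommGroup (C ⧸ N') := { (inferInstance : Group (C ⧸ N')) with mul_comm := habN }
    have hne : ((⟨x', hx⟩ : C) : C ⧸ N') ≠ 1 := fun h => hx1 (by
      rw [QuotientGroup.eq_one_iff, Subgroup.mem_subgroupOf] at h
      exact (hπN x').mpr h)
    obtain ⟨l, hl⟩ := CommGroup.exists_apply_ne_one_of_hasEnoughRootsOfUnity (C ⧸ N') ℂ hne
    exact ⟨l.comp (QuotientGroup.mk' N'), fun n hn => by
      rw [MonoidHom.mem_ker, MonoidHom.comp_apply, QuotientGroup.mk'_apply,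
        (QuotientGroup.eq_one_iff n).mpr hn, map_one], fun h => hl (DFunLike.congr_fun h ⟨x', hx⟩)⟩
  have hNG : ∀ (g : G) (n : C), n ∈ N' →
      (⟨g * n * g⁻¹, (inferInstance : C.Normal).conj_mem n n.2 g⟩ : C) ∈ N' := fun g n hn =>
    Subgroup.mem_subgroupOf.mpr (hNn.conj_mem n hn g)
  have hbig : ∀ (ψ : C → ℂ) (k : ℕ), Cfsg.IsIrrCharacter C ψ → ψ 1 = k → ¬ q ∣ k →
      C.index * k ∈ Cfsg.charDegrees G := by
    intro ψ k hψ hk hqk
    obtain ⟨-, -, k', -, -, hk', -, -, hres⟩ := DegreeSplit.prime_dvd_degree N' habN hψ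
    rw [hk, Nat.cast_inj] at hk'
    subst hk'
    obtain ⟨χ, hχ, hχ1⟩ := DegreeSplit.exists_degree_index_mul C N' hNG hl₀ hfree hψ (hres (hCq _ hqk))
    exact mem_degrees hχ (by rw [hχ1, hk]; push_cast; ring)
  have hf1 : C.index ≠ 1 := fun h => by
    rw [Subgroup.index_eq_one, hC] at h
    refine hC₀top ((Subgroup.eq_top_iff' C₀).mpr fun y => ?_)
    obtain ⟨y', rfl⟩ := hπ y
    exact (h ▸ Subgroup.mem_top y' : y' ∈ C₀.comap π)
  obtain ⟨p, hp, hpf⟩ := Nat.exists_prime_and_dvd hf1
  have hfdeg : C.index ∈ Cfsg.charDegrees G := by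
    have := hbig _ 1 CharBasic.isIrrCharacter_one (by simp) hq.not_dvd_one
    rwa [mul_one] at this
  refine ⟨p, q, hp, hq, ⟨_, hfdeg, hpf⟩, ?_⟩
  rintro r d hr ⟨⟨χ, hχ⟩, hd⟩ hrd
  obtain ⟨θ, m, n, hθ, hm, hn, hmn, hr', -⟩ := DegreeSplit.prime_dvd_degree C habC hχ
  rw [← hd, charDegree_eq hn] at hrd
  by_cases hqm : q ∣ m
  · refine ⟨n, mem_degrees hχ hn, hrd, Or.inr (hqm.trans hmn), ?_⟩
    rcases eq_or_ne r q with h | h
    · exact Or.inr (Or.inl h)
    · exact Or.inr (Or.inr (Or.inr ⟨h.symm, Nat.Coprime.mul_dvd_of_dvd_of_dvd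
        ((Nat.coprime_primes hq hr).mpr h.symm) (hqm.trans hmn) hrd⟩))
  · have hrm : r ∣ C.index * m := by
      rcases hr' r hr hrd with h | h
      · exact dvd_mul_of_dvd_left h _
      · exact dvd_mul_of_dvd_right h _
    refine ⟨_, hbig θ m hθ hm hqm, hrm, Or.inl (dvd_mul_of_dvd_left hpf _), ?_⟩
    rcases eq_or_ne r p with h | h
    · exact Or.inl h
    · exact Or.inr (Or.inr (Or.inl ⟨h.symm, Nat.Coprime.mul_dvd_of_dvd_of_dvd
        ((Nat.coprime_primes hp hr).mpr h.symm) (dvd_mul_of_dvd_left hpf _) hrm⟩))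

/-- At most two components. -/
theorem main [Group.IsSolvable G] :
    Nat.card ((Cfsg.degreeGraph G).induce (Cfsg.degreePrimes G)).ConnectedComponent ≤ 2 := by
  classical
  by_cases hna : commutator G = ⊥
  · have : IsEmpty (Cfsg.degreePrimes G) := ⟨fun ⟨r, hr, d, ⟨⟨χ, hχ⟩, hd⟩, hrd⟩ => by
      have hcomm : ∀ a b : G, a * b = b * a := fun a b => by
        have := Subgroup.commutator_mem_commutator (Subgroup.mem_top a) (Subgroup.mem_top b)
        rw [← commutator_def, hna, Subgroup.mem_bot] at this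
        exact commutatorElement_eq_one_iff_mul_comm.mp this
      have h1 := commutative_iff_forall_linear.mp hcomm ⟨χ, hχ⟩
      rw [← hd, charDegree_eq (n := 1) (by rw [h1]; simp)] at hrd
      exact hr.not_dvd_one hrd⟩
    haveI : IsEmpty ((Cfsg.degreeGraph G).induce (Cfsg.degreePrimes G)).ConnectedComponent :=
      ⟨fun c => c.ind fun v => isEmptyElim v⟩
    simp
  obtain ⟨p, q, hp, hq, ⟨dp, hdp, hpdp⟩, hdom⟩ := dominating hna
  set H := (Cfsg.degreeGraph G).induce (Cfsg.degreePrimes G)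
  let vp : Cfsg.degreePrimes G := ⟨p, hp, dp, hdp, hpdp⟩
  let vq : Cfsg.degreePrimes G :=
    if h : q ∈ Cfsg.degreePrimes G then ⟨q, h⟩ else vp
  let f : Bool → H.ConnectedComponent := fun b => H.connectedComponentMk (if b then vp else vq)
  have hf : Function.Surjective f := by
    intro c
    induction c using SimpleGraph.ConnectedComponent.ind with
    | h v =>
      obtain ⟨r, hr, d, hd, hrd⟩ := v
      obtain ⟨d', hd', hrd', -, hcases⟩ := hdom r d hr hd hrd
      rcases hcases with rfl | rfl | ⟨hne, hdvd⟩ | ⟨hne, hdvd⟩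
      · exact ⟨true, rfl⟩
      · refine ⟨false, ?_⟩
        have hmem : r ∈ Cfsg.degreePrimes G := ⟨hr, d, hd, hrd⟩
        simp [f, vq, hmem]
      · exact ⟨true, SimpleGraph.ConnectedComponent.sound
          (SimpleGraph.Adj.reachable ⟨hne, hp, hr, d', hd', hdvd⟩)⟩
      · have hmem : q ∈ Cfsg.degreePrimes G :=
          ⟨hq, d', hd', (dvd_mul_right q r).trans hdvd⟩
        refine ⟨false, ?_⟩
        simp only [f, vq, dif_pos hmem, Bool.false_eq_true, if_false]
        exact SimpleGraph.ConnectedComponent.sound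
          (SimpleGraph.Adj.reachable ⟨hne, hq, hr, d', hd', hdvd⟩)
  have := Nat.card_le_card_of_surjective f hf
  simpa using this

end Cfsg.Agent.H90.DegreeComponents
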