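import Cfsg.Agent.H90.Supersoluble
import Mathlib.GroupTheory.FiniteAbelian.Basic

/-!
Abelian `p`-groups with and without a repeated invariant, and supersoluble fusion.
-/

set_option autoImplicit false

namespace Cfsg.Agent.H90

open Cfsg Cfsg.FusionSystem

/-- A `p'`-group of automorphisms of a square that is not tame. -/
theorem exists_not_tame {p : ℕ} [hp : Fact p.Prime] {C : Type} [CommGroup C] [Finite C] (e0 : C)
    (he0 : e0 ≠ 1) (hp2 : p ≠ 2 → e0 * e0 ≠ 1) :
    ∃ K : Subgroup (MulAut (C × C)),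
      (Nat.card K).Coprime p ∧
        ((∃ a ∈ K, ∃ b ∈ K, a * b ≠ b * a) ∨ ∃ a ∈ K, a ^ (p - 1) ≠ 1) := by
  by_cases h2 : p = 2
  · subst h2
    let a : MulAut (C × C) :=
      { toFun := fun z => (z.2⁻¹, z.1 * z.2⁻¹)
        invFun := fun z => (z.2 * z.1⁻¹, z.1⁻¹)
        left_inv := fun z => by simp
        right_inv := fun z => by simp
        map_mul' := fun x y => by
          refine Prod.ext ?_ ?_ <;> simp [mul_comm, mul_left_comm, mul_assoc] }
    have ha : ∀ z : C × C, a z = (z.2⁻¹, z.1 * z.2⁻¹) := fun z => rfl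
    have ha3 : a ^ 3 = 1 := MulEquiv.ext fun z => by
      show a (a (a z)) = z
      rw [ha, ha, ha]
      refine Prod.ext ?_ ?_ <;> simp [mul_comm]
    refine ⟨Subgroup.zpowers a, ?_, Or.inr ⟨a, Subgroup.mem_zpowers a, fun h => ?_⟩⟩
    · rw [Nat.card_zpowers]
      exact Nat.Coprime.coprime_dvd_left (orderOf_dvd_of_pow_eq_one ha3) (by norm_num)
    · have := congrArg (fun f : MulAut (C × C) => (f (e0, 1)).2) h
      simp [ha] at this
      exact he0 this
  · let a : MulAut (C × C) :=
      { toFun := fun z => (z.2⁻¹, z.1)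
        invFun := fun z => (z.2, z.1⁻¹)
        left_inv := fun z => by simp
        right_inv := fun z => by simp
        map_mul' := fun x y => by
          refine Prod.ext ?_ ?_ <;> simp [mul_comm] }
    let b : MulAut (C × C) :=
      { toFun := fun z => (z.2, z.1)
        invFun := fun z => (z.2, z.1)
        left_inv := fun z => rfl
        right_inv := fun z => rfl
        map_mul' := fun x y => rfl }
    have ha : ∀ z : C × C, a z = (z.2⁻¹, z.1) := fun z => rfl
    have hb : ∀ z : C × C, b z = (z.2, z.1) := fun z => rfl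
    have ha4 : a ^ 2 ^ 2 = 1 := MulEquiv.ext fun z => by
      show a (a (a (a z))) = z
      simp [ha]
    have hb2 : b ^ 2 ^ 1 = 1 := MulEquiv.ext fun z => rfl
    have hp' : Fact (Nat.Prime 2) := ⟨Nat.prime_two⟩
    have hc : ∀ {g : MulAut (C × C)} {k : ℕ}, g ^ 2 ^ k = 1 → IsPGroup 2 (Subgroup.zpowers g) := by
      intro g k hg
      obtain ⟨m, -, hm⟩ := (Nat.dvd_prime_pow Nat.prime_two).1 (orderOf_dvd_of_pow_eq_one hg)
      exact IsPGroup.of_card (by rw [Nat.card_zpowers, hm])
    have hn : Subgroup.zpowers b ≤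
        Subgroup.normalizer ((Subgroup.zpowers a : Subgroup (MulAut (C × C))) : Set _) := by
      refine Subgroup.zpowers_le.2 (Subgroup.mem_normalizer_iff.2 fun x => ?_)
      have hba : b * a * b⁻¹ = a⁻¹ := by
        rw [eq_inv_iff_mul_eq_one]
        refine MulEquiv.ext fun z => ?_
        have : (b⁻¹ : MulAut (C × C)) = b := rfl
        simp [MulAut.mul_apply, this, ha, hb]
      constructor
      · rintro ⟨j, rfl⟩
        exact ⟨-j, by simp [← conj_zpow, hba]⟩
      · rintro ⟨j, hj⟩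
        refine ⟨-j, ?_⟩
        simp only at hj ⊢
        calc a ^ (-j) = b⁻¹ * (b * a * b⁻¹) ^ (-j) * b := by rw [conj_zpow]; group
          _ = b⁻¹ * a ^ j * b := by rw [hba]; simp
          _ = x := by rw [hj]; group
    have hpg := IsPGroup.to_sup_of_normal_right' (hc hb2) (hc ha4) hn
    refine ⟨Subgroup.zpowers b ⊔ Subgroup.zpowers a, ?_, Or.inl
      ⟨a, le_sup_right (α := Subgroup _) (Subgroup.mem_zpowers a), b,
        le_sup_left (α := Subgroup _) (Subgroup.mem_zpowers b), fun h => ?_⟩⟩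
    · have : Finite (MulAut (C × C)) :=
        Finite.of_injective (fun f => ⇑f) DFunLike.coe_injective
      obtain ⟨k, hk⟩ := IsPGroup.iff_card.1 hpg
      rw [hk]
      exact ((Nat.coprime_primes Nat.prime_two hp.out).2 (Ne.symm h2)).pow_left k
    · have := congrArg (fun f : MulAut (C × C) => (f (e0, 1)).1) h
      simp [MulAut.mul_apply, ha, hb] at this
      exact hp2 h2 (inv_eq_iff_mul_eq_one.1 this)

variable {Ω : Type*} [Group Ω] {S : Subgroup Ω}

/-- A square factor gives a saturated system that is not supersoluble. -/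
theorem not_tame_of_square {p : ℕ} [hp : Fact p.Prime] {n : ℕ} {H : Type} [CommGroup H]
    (hn : 0 < n) (e : ↥S ≃* (Multiplicative (ZMod (p ^ n)) × Multiplicative (ZMod (p ^ n))) × H)
    (h : ∀ K : Subgroup (MulAut ↥S), (Nat.card K).Coprime p →
      IsMulCommutative K ∧ ∀ a ∈ K, a ^ (p - 1) = 1) : False := by
  have hq : 1 < p ^ n := Nat.one_lt_pow hn.ne' hp.out.one_lt
  have hq2 : p ≠ 2 → 2 < p ^ n := fun hne =>
    lt_of_lt_of_le (lt_of_le_of_ne hp.out.two_le (Ne.symm hne)) (Nat.le_self_pow hn.ne' p)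
  have hd : ∀ m : ℕ, m < p ^ n → 0 < m →
      (Multiplicative.ofAdd (1 : ZMod (p ^ n))) ^ m ≠ 1 := fun m h1 h0 h => by
    have := congrArg Multiplicative.toAdd h
    rw [toAdd_pow, toAdd_ofAdd, nsmul_eq_mul, mul_one, toAdd_one, ZMod.natCast_eq_zero_iff] at this
    exact absurd (Nat.le_of_dvd h0 this) (by omega)
  have : NeZero (p ^ n) := ⟨by omega⟩
  obtain ⟨K, hK, hbad⟩ := exists_not_tame (p := p) (Multiplicative.ofAdd (1 : ZMod (p ^ n)))
    (by simpa using hd 1 hq one_pos) (fun h => by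
      rw [← pow_two]
      exact hd 2 (hq2 h) two_pos)
  let C := Multiplicative (ZMod (p ^ n)) × Multiplicative (ZMod (p ^ n))
  let θ : MulAut C →* MulAut ↥S := MonoidHom.mk'
    (fun u => e.trans ((MulEquiv.prodCongr u (MulEquiv.refl H)).trans e.symm))
    (fun u v => MulEquiv.ext fun x => by
      simp [MulAut.mul_apply, MulEquiv.prodCongr, Prod.map])
  have hθ : Function.Injective θ := by
    intro u v huv
    refine MulEquiv.ext fun z => ?_
    have := congrArg (fun f : MulAut ↥S => (e (f (e.symm (z, 1)))).1) huv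
    simpa [θ, MulEquiv.prodCongr] using this
  obtain ⟨hc, he⟩ := h (K.map θ) (by rwa [Subgroup.card_map_of_injective hθ])
  rcases hbad with ⟨a, ha, b, hb, hab⟩ | ⟨a, ha, hpow⟩
  · refine hab (hθ ?_)
    rw [map_mul, map_mul]
    exact congrArg Subtype.val (hc.is_comm.comm (⟨_, a, ha, rfl⟩ : K.map θ) ⟨_, b, hb, rfl⟩)
  · refine hpow (hθ ?_)
    rw [map_pow, map_one]
    exact he _ ⟨a, ha, rfl⟩

/-- A chain of strongly closed subgroups with cyclic steps up to `T`. -/
def Reaches (F : FusionSystem S) (T : Subgroup Ω) : Prop :=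
  ∃ (m : ℕ) (c : Fin (m + 1) → Subgroup Ω), c 0 = ⊥ ∧ c (Fin.last m) = T ∧
    (∀ i : Fin (m + 1), F.StronglyClosed (c i)) ∧
      ∀ i : Fin m, c i.castSucc ≤ c i.succ ∧ ∃ x ∈ S, c i.succ = c i.castSucc ⊔ Subgroup.zpowers x

theorem reaches_step {F : FusionSystem S} {T U : Subgroup Ω} (h : Reaches F T)
    (hU : F.StronglyClosed U) {x : Ω} (hx : x ∈ S) (he : U = T ⊔ Subgroup.zpowers x) :
    Reaches F U := by
  obtain ⟨m, c, h0, h1, hsc, hst⟩ := h
  refine ⟨m + 1, Fin.snoc c U, ?_, by simp, fun i => ?_, fun i => ?_⟩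
  · rw [← Fin.castSucc_zero, Fin.snoc_castSucc]; exact h0
  · induction i using Fin.lastCases with
    | last => simpa using hU
    | cast i => simpa using hsc i
  · induction i using Fin.lastCases with
    | last =>
      rw [Fin.succ_last, Fin.snoc_last, Fin.snoc_castSucc, h1, he]
      exact ⟨le_sup_left, x, hx, rfl⟩
    | cast j =>
      rw [Fin.succ_castSucc, Fin.snoc_castSucc, Fin.snoc_castSucc]
      exact hst j

/-- With one coordinate of each order, the layers of the socle are cyclic. -/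
theorem exists_coord {ι : Type} {p : ℕ} [hp : Fact p.Prime] (f : ι → ℕ)
    (hf : Function.Injective f) (j : ℕ) :
    ∃ (C : Type) (_ : CommGroup C) (_ : IsCyclic C)
      (ρ : ((i : ι) → Multiplicative (ZMod (p ^ f i))) →* C),
      ∀ y z, y ^ p = 1 → z ^ p ^ j = y → ρ y = 1 → ∃ w, w ^ p ^ (j + 1) = y := by
  have key : ∀ (i : ι) (a b : Multiplicative (ZMod (p ^ f i))), a ^ p = 1 → b ^ p ^ j = a →
      (f i = j + 1 → a = 1) → ∃ w, w ^ p ^ (j + 1) = a := by
    intro i a b ha hb hi
    rcases lt_trichotomy (f i) (j + 1) with h | h | h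
    · refine ⟨1, ?_⟩
      obtain ⟨t, ht⟩ : p ^ f i ∣ p ^ j := Nat.pow_dvd_pow p (by omega)
      rw [one_pow, ← hb]
      refine Multiplicative.toAdd.injective ?_
      rw [toAdd_one, toAdd_pow, nsmul_eq_mul, ht, Nat.cast_mul, ZMod.natCast_self, zero_mul,
        zero_mul]
    · exact ⟨1, by rw [one_pow, hi h]⟩
    · have : NeZero (p ^ f i) := ⟨pow_ne_zero _ hp.out.ne_zero⟩
      have h0 : ((p * a.toAdd.val : ℕ) : ZMod (p ^ f i)) = 0 := by
        rw [Nat.cast_mul, ZMod.natCast_zmod_val, ← nsmul_eq_mul, ← toAdd_pow, ha, toAdd_one]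
      rw [ZMod.natCast_eq_zero_iff] at h0
      have hd : p * p ^ (j + 1) ∣ p * a.toAdd.val := by
        rw [← pow_succ']
        exact (Nat.pow_dvd_pow p (by omega)).trans h0
      obtain ⟨w, hw⟩ := Nat.dvd_of_mul_dvd_mul_left hp.out.pos hd
      refine ⟨Multiplicative.ofAdd (w : ZMod (p ^ f i)), Multiplicative.toAdd.injective ?_⟩
      rw [toAdd_pow, toAdd_ofAdd, nsmul_eq_mul, ← Nat.cast_mul, ← hw, ZMod.natCast_zmod_val]
  by_cases h : ∃ i, f i = j + 1
  · obtain ⟨i₀, hi₀⟩ := h
    refine ⟨_, inferInstance, inferInstance,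
      Pi.evalMonoidHom (fun i => Multiplicative (ZMod (p ^ f i))) i₀, fun y z hy hz h1 => ?_⟩
    choose w hw using fun i => key i (y i) (z i) (congrFun hy i) (congrFun hz i) fun hi => by
      obtain rfl : i = i₀ := hf (hi.trans hi₀.symm)
      exact h1
    exact ⟨w, funext hw⟩
  · refine ⟨Multiplicative (ZMod 1), inferInstance, inferInstance, 1, fun y z hy hz _ => ?_⟩
    choose w hw using fun i => key i (y i) (z i) (congrFun hy i) (congrFun hz i)
      fun hi => absurd ⟨i, hi⟩ h
    exact ⟨w, funext hw⟩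

/-- A finite abelian `p`-group without repeated invariant is of supersoluble type. -/
theorem supersoluble_of_distinct {p : ℕ} [hp : Fact p.Prime] (hS : IsPGroup p S) [Finite S]
    (hab : IsMulCommutative ↥S) {ι : Type} (f : ι → ℕ) (hf : Function.Injective f)
    (e : ↥S ≃* ((i : ι) → Multiplicative (ZMod (p ^ f i))))
    {F : FusionSystem S} (hF : F.IsSaturated p) : IsSupersolubleSystem F := by
  letI : CommGroup ↥S := { (inferInstance : Group ↥S) with mul_comm := hab.is_comm.comm }
  have hN := isNormal_top_of_abelian hS hab hF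
  obtain ⟨M, hM⟩ : ∃ M, ∀ x : ↥S, x ^ p ^ M = 1 := by
    obtain ⟨M, hM⟩ := hS.exists_card_eq
    exact ⟨M, fun x => hM ▸ pow_card_eq_one'⟩
  let W : ℕ → Subgroup ↥S := fun j =>
    (powMonoidHom p : ↥S →* ↥S).ker ⊓ (powMonoidHom (p ^ j) : ↥S →* ↥S).range
  let L : ℕ → ℕ → Subgroup ↥S := fun k j => (W j).comap (powMonoidHom (p ^ k))
  let up : Subgroup ↥S → Subgroup Ω := fun T => T.map S.subtype
  have hchar : ∀ k j, F.StronglyClosed (up (L k j)) := by
    refine fun k j => stronglyClosed_of_invariant hN (Subgroup.map_subtype_le _) fun α _ x hx => ?_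
    obtain ⟨y, ⟨hy1, z, hz⟩, e1⟩ := hx
    obtain rfl := Subtype.ext e1
    refine ⟨α y, ⟨?_, α z, ?_⟩, rfl⟩
    · show (α y ^ p ^ k) ^ p = 1
      rw [← map_pow, ← map_pow, show (y ^ p ^ k) ^ p = 1 from hy1, map_one]
    · show α z ^ p ^ j = α y ^ p ^ k
      rw [← map_pow, ← map_pow, show z ^ p ^ j = y ^ p ^ k from hz]
  have hW0 : ∀ k, L k 0 = (powMonoidHom (p ^ (k + 1)) : ↥S →* ↥S).ker := by
    intro k
    ext x
    simp only [L, W, Subgroup.mem_comap, Subgroup.mem_inf, MonoidHom.mem_ker, powMonoidHom_apply,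
      MonoidHom.mem_range, ← pow_mul, ← pow_succ]
    exact ⟨fun h => h.1, fun h => ⟨h, x ^ p ^ k, by simp⟩⟩
  have hWM : ∀ k, L k M = (powMonoidHom (p ^ k) : ↥S →* ↥S).ker := by
    intro k
    ext x
    simp only [L, W, Subgroup.mem_comap, Subgroup.mem_inf, MonoidHom.mem_ker, powMonoidHom_apply,
      MonoidHom.mem_range]
    constructor
    · rintro ⟨-, z, hz⟩
      rw [← hz, hM]
    · intro h
      exact ⟨by rw [h, one_pow], 1, by rw [h, one_pow]⟩
  have hcyc : ∀ k j, ∃ x : ↥S, L k j = L k (j + 1) ⊔ Subgroup.zpowers x := by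
    intro k j
    obtain ⟨C, _, _, ρ, hρ⟩ := exists_coord (p := p) f hf j
    let ψ : ↥S →* C := ρ.comp (e.toMonoidHom.comp (powMonoidHom (p ^ k)))
    obtain ⟨⟨c, x, hxL, rfl⟩, hc⟩ := (isCyclic_iff_exists_zpowers_eq_top).1
      (inferInstance : IsCyclic ↥((L k j).map ψ))
    refine ⟨x, le_antisymm (fun y hy => ?_) (sup_le ?_ (Subgroup.zpowers_le.2 hxL))⟩
    · obtain ⟨i, hi⟩ := Subgroup.mem_zpowers_iff.1 (hc.symm ▸ Subgroup.mem_top
        (⟨ψ y, y, hy, rfl⟩ : ↥((L k j).map ψ)))
      have hi' : ψ x ^ i = ψ y := congrArg Subtype.val hi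
      have hd : y * (x ^ i)⁻¹ ∈ L k (j + 1) := by
        obtain ⟨hw1, z, hz⟩ := (L k j).mul_mem hy ((L k j).inv_mem ((L k j).zpow_mem hxL i))
        have hw1' : ((y * (x ^ i)⁻¹) ^ p ^ k) ^ p = 1 := hw1
        have hz' : z ^ p ^ j = (y * (x ^ i)⁻¹) ^ p ^ k := hz
        obtain ⟨w, hw⟩ := hρ (e ((y * (x ^ i)⁻¹) ^ p ^ k)) (e z) (by rw [← map_pow, hw1', map_one])
          (by rw [← map_pow, hz'])
          (show ψ (y * (x ^ i)⁻¹) = 1 by rw [map_mul, map_inv, map_zpow, hi', mul_inv_cancel])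
        exact ⟨hw1, e.symm w, e.injective (by
          simp only [powMonoidHom_apply, map_pow, MulEquiv.apply_symm_apply]
          rw [hw, map_pow])⟩
      have := Subgroup.mul_mem (L k (j + 1) ⊔ Subgroup.zpowers x)
        (le_sup_left (α := Subgroup ↥S) hd)
        (le_sup_right (α := Subgroup ↥S) (Subgroup.zpow_mem_zpowers x i))
      rwa [inv_mul_cancel_right] at this
    · rintro y ⟨hy1, z, hz⟩
      refine ⟨hy1, z ^ p, ?_⟩
      simp only [powMonoidHom_apply] at hz ⊢
      rw [← pow_mul, ← pow_succ']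
      exact hz
  have main : ∀ k, Reaches F (up (powMonoidHom (p ^ k) : ↥S →* ↥S).ker) := by
    intro k
    induction k with
    | zero =>
      refine ⟨0, fun _ => ⊥, rfl, ?_, fun _ => strongly_bot F, fun i => i.elim0⟩
      symm
      rw [Subgroup.map_eq_bot_iff_of_injective _ S.subtype_injective, eq_bot_iff]
      intro x hx
      simpa using hx
    | succ k ih =>
      rw [← hW0]
      suffices K : ∀ d ≤ M, Reaches F (up (L k (M - d))) by simpa using K M le_rfl
      intro d
      induction d with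
      | zero => intro _; rw [Nat.sub_zero, hWM]; exact ih
      | succ d ihd =>
        intro hd
        obtain ⟨x, hx⟩ := hcyc k (M - (d + 1))
        refine reaches_step (ihd (by omega)) (hchar _ _) x.2 ?_
        rw [hx, show M - (d + 1) + 1 = M - d by omega]
        exact (Subgroup.map_sup _ _ _).trans (by rw [MonoidHom.map_zpowers]; rfl)
  have := main M
  rwa [show (powMonoidHom (p ^ M) : ↥S →* ↥S).ker = ⊤ from eq_top_iff.2 fun x _ => hM x,
    show up ⊤ = S by simp [up, ← MonoidHom.range_eq_map]] at this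

/-- Splitting off two coordinates of equal order. -/
theorem exists_square_factor {ι : Type} (n : ι → ℕ) {i l : ι} (hil : i ≠ l) (h : n i = n l)
    (G : Type*) [Group G] (e : G ≃* ((k : ι) → Multiplicative (ZMod (n k)))) :
    ∃ (H : Type) (_ : CommGroup H),
      Nonempty (G ≃* (Multiplicative (ZMod (n i)) × Multiplicative (ZMod (n i))) × H) := by
  classical
  let B := fun k => Multiplicative (ZMod (n k))
  let c : B l ≃* B i := AddEquiv.toMultiplicative (ZMod.ringEquivCongr h.symm).toAddEquiv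
  let H := (k : {k : ι // k ≠ i ∧ k ≠ l}) → B k
  let g : ((k : ι) → B k) →* (B i × B i) × H :=
    ((Pi.evalMonoidHom B i).prod (c.toMonoidHom.comp (Pi.evalMonoidHom B l))).prod
      (MonoidHom.pi fun k : {k : ι // k ≠ i ∧ k ≠ l} => Pi.evalMonoidHom B k.1)
  have hg : Function.Bijective g := by
    constructor
    · intro x y hxy
      funext k
      by_cases h1 : k = i
      · subst h1; exact congrArg (fun z => z.1.1) hxy
      · by_cases h2 : k = l
        · subst h2; exact c.injective (congrArg (fun z => z.1.2) hxy)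
        · exact congrArg (fun z => z.2 ⟨k, h1, h2⟩) hxy
    · rintro ⟨⟨a, b⟩, r⟩
      refine ⟨fun k => if h1 : k = i then h1.symm ▸ a else
        if h2 : k = l then h2.symm ▸ c.symm b else r ⟨k, h1, h2⟩, ?_⟩
      refine Prod.ext (Prod.ext ?_ ?_) (funext fun k => ?_)
      · simp [g]
      · simp [g, Ne.symm hil]
      · show (fun m : ι => if h1 : m = i then (h1.symm ▸ a : B m) else
          if h2 : m = l then (h2.symm ▸ c.symm b : B m) else r ⟨m, h1, h2⟩) k.1 = r k
        simp [k.2.1, k.2.2]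
  exact ⟨H, inferInstance, ⟨e.trans (MulEquiv.ofBijective g hg)⟩⟩

theorem forall_supersoluble_iff_no_square {p : ℕ} [hp : Fact p.Prime] (hS : IsPGroup p S)
    [Finite S] (hab : IsMulCommutative ↥S) :
    (∀ F : FusionSystem S, F.IsSaturated p → IsSupersolubleSystem F) ↔
      ¬ ∃ (n : ℕ) (H : Type) (_ : CommGroup H), 0 < n ∧
        Nonempty (↥S ≃* (Multiplicative (ZMod (p ^ n)) × Multiplicative (ZMod (p ^ n))) × H) := by
  constructor
  · rintro h ⟨n, H, _, hn, ⟨e⟩⟩
    exact not_tame_of_square hn e ((forall_supersoluble_iff hS).1 h).2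
  · intro hno F hF
    letI : CommGroup ↥S := { (inferInstance : Group ↥S) with mul_comm := hab.is_comm.comm }
    obtain ⟨ι, _, n, hn, ⟨e⟩⟩ := CommGroup.equiv_prod_multiplicative_zmod_of_finite ↥S
    have hpow : ∀ i, ∃ k, n i = p ^ k := by
      classical
      intro i
      have : NeZero (n i) := ⟨by have := hn i; omega⟩
      obtain ⟨k, hk⟩ := IsPGroup.iff_orderOf.1 hS
        (e.symm (Pi.mulSingle i (Multiplicative.ofAdd (1 : ZMod (n i)))))
      refine ⟨k, ?_⟩
      rw [← hk, MulEquiv.orderOf_eq, orderOf_piMulSingle, orderOf_ofAdd_eq_addOrderOf, ZMod.addOrderOf_one]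
    choose f hf using hpow
    obtain rfl : n = fun i => p ^ f i := funext hf
    refine supersoluble_of_distinct hS hab f (fun i l hil => ?_) e hF
    by_contra hne
    obtain ⟨H, hH, he⟩ := exists_square_factor (fun i => p ^ f i) hne
      (congrArg (p ^ ·) hil) ↥S e
    refine hno ⟨f i, H, hH, ?_, he⟩
    rcases Nat.eq_zero_or_pos (f i) with h0 | h0
    · have := hn i; simp [h0] at this
    · exact h0

end Cfsg.Agent.H90
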