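import Cfsg.Prelude.Def_Transfer
import Cfsg.Agent.PGroups.Basic
import Cfsg.Agent.PGroups.Extraspecial
import Cfsg.Agent.PGroups.TwoGroups
import Mathlib.Algebra.Group.Shrink

/-!
A generalized extraspecial group with an elementary abelian maximal subgroup splits as a direct
product of a group of order `p ^ 3` and an elementary abelian group.
-/

set_option autoImplicit false

namespace Cfsg.Agent.H90

open scoped commutatorElement IsMulCommutative

universe u

theorem exists_split {G : Type u} [Group G] [Finite G] {p : ℕ} [hp : Fact p.Prime]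
    (hG : IsPGroup p G) (hZc : Nat.card ↥(commutator G) = p)
    (hpow : ∀ g : G, g ^ p ∈ commutator G) (M : Subgroup G) (hMc : ∀ a ∈ M, ∀ b ∈ M, a * b = b * a)
    (hMe : ∀ a ∈ M, a ^ p = 1) (hZM : commutator G ≤ M) {x w : G} (hw : w ∈ M)
    (hxw : ⁅x, w⁆ ≠ 1) (hgen : ∀ g : G, ∃ n : ℕ, (x ^ n)⁻¹ * g ∈ M) :
    ∃ E A : Subgroup G, x ∈ E ∧ w ∈ E ∧ (∀ e ∈ E, ∀ a ∈ A, e * a = a * e) ∧
      (∀ a ∈ A, a ^ p = 1) ∧ IsMulCommutative ↥A ∧ Nat.card ↥E = p ^ 3 ∧
      Nonempty (↥E × ↥A ≃* G) ∧ (x ^ p = 1 → p ≠ 2 →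
        Cfsg.IsExtraspecial p ↥E ∧ Monoid.exponent ↥E = p) := by
  classical
  have hpr := hp.out
  set Z := commutator G with hZdef
  have hcc : commutator G ≤ Subgroup.center G := PGroups.le_center_of_card_eq hG _ hZc
  have hZz : ∀ d ∈ Z, ∀ g, g * d = d * g := fun d hd => Subgroup.mem_center_iff.1 (hcc hd)
  set c := ⁅x, w⁆
  have hcZ : c ∈ Z := Subgroup.commutator_mem_commutator trivial trivial
  have hzp : ∀ d ∈ Z, ∃ n : ℕ, c ^ n = d := by
    intro d hd
    rw [← PGroups.zpowers_eq_of_card_eq hZc hcZ hxw] at hd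
    exact (Submonoid.mem_powers_iff _ _).1 ((isOfFinOrder_of_finite c).mem_powers_iff_mem_zpowers.2 hd)
  have hordc : orderOf c = p := orderOf_eq_prime (hMe c (hZM hcZ)) hxw
  let χx : G →* G :=
    (Subgroup.center G).subtype.comp (invMonoidHom.comp (PGroups.commutatorHom hcc x))
  let χw : G →* G :=
    (Subgroup.center G).subtype.comp (invMonoidHom.comp (PGroups.commutatorHom hcc w))
  have hχx : ∀ g, χx g = ⁅x, g⁆ := fun g => commutatorElement_inv g x
  have hχw : ∀ g, χw g = ⁅w, g⁆ := fun g => commutatorElement_inv g w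
  have hwx : χw x = c⁻¹ := by rw [hχw, ← commutatorElement_inv]
  have hxx : χx x = 1 := by rw [hχx, commutatorElement_self]
  have hχxZ : ∀ d ∈ Z, χx d = 1 := fun d hd => by
    rw [hχx, commutatorElement_eq_one_iff_mul_comm]; exact hZz d hd x
  have hχwM : ∀ m ∈ M, χw m = 1 := fun m hm => by
    rw [hχw, commutatorElement_eq_one_iff_mul_comm]; exact hMc w hw m hm
  set H := M ⊓ χx.ker with hH
  have hZH : Z ≤ H := fun d hd => ⟨hZM hd, hχxZ d hd⟩
  -- a complement of `Z` in `H`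
  obtain ⟨A, ⟨hAH, hAZ⟩, hAmax⟩ :=
    (Set.toFinite {A : Subgroup G | A ≤ H ∧ A ⊓ Z = ⊥}).exists_maximal ⟨⊥, bot_le, bot_inf_eq _⟩
  have hHA : ∀ h ∈ H, ∃ a ∈ A, ∃ d ∈ Z, h = a * d := by
    have hsplit : ∀ g ∈ A ⊔ Z, ∃ a ∈ A, ∃ d ∈ Z, g = a * d := fun g hg => by
      rw [← SetLike.mem_coe, Subgroup.mul_normal] at hg
      obtain ⟨a, ha, d, hd, rfl⟩ := hg
      exact ⟨a, ha, d, hd, rfl⟩
    intro h hh
    refine hsplit h ?_
    by_contra hne
    have hle : A ⊔ Subgroup.zpowers h ≤ H := sup_le hAH (Subgroup.zpowers_le.2 hh)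
    have hint : (A ⊔ Subgroup.zpowers h) ⊓ Z = ⊥ := by
      rw [eq_bot_iff]
      rintro d ⟨hd, hdZ⟩
      change d ∈ (A ⊔ Subgroup.zpowers h) at hd
      rw [← SetLike.mem_coe,
        Subgroup.coe_mul_of_right_le_normalizer_left A _ (fun v hv => by
          rw [Subgroup.mem_normalizer_iff]
          intro a
          have hvM : v ∈ M := (Subgroup.zpowers_le.2 hh.1 : Subgroup.zpowers h ≤ M) hv
          constructor
          · intro ha
            rwa [hMc v hvM a (hAH ha).1, mul_inv_cancel_right]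
          · intro ha
            have ha' := (hAH ha).1
            have : a ∈ M := by
              simpa [mul_assoc] using M.mul_mem (M.mul_mem (M.inv_mem hvM) ha') hvM
            rwa [hMc v hvM a this, mul_inv_cancel_right] at ha)] at hd
      obtain ⟨a, ha, v, hv, rfl⟩ := hd
      obtain ⟨i, rfl⟩ := (Submonoid.mem_powers_iff _ _).1
        ((isOfFinOrder_of_finite h).mem_powers_iff_mem_zpowers.2 hv)
      rcases Nat.coprime_or_dvd_of_prime hpr i with hi | ⟨q, rfl⟩
      · refine absurd ?_ hne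
        obtain ⟨j, hj⟩ := exists_pow_eq_self_of_coprime (x := h) (n := i)
          (Nat.Coprime.coprime_dvd_right (orderOf_dvd_of_pow_eq_one (hMe h hh.1)) hi.symm)
        rw [← hj]
        refine Subgroup.pow_mem _ ?_ j
        rw [show h ^ i = a⁻¹ * (a * h ^ i) by group]
        exact Subgroup.mul_mem _ (Subgroup.mem_sup_left (A.inv_mem ha)) (Subgroup.mem_sup_right hdZ)
      · have e : h ^ (p * q) = 1 := by rw [pow_mul, hMe h hh.1, one_pow]
        change a * h ^ (p * q) ∈ Z at hdZ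
        show a * h ^ (p * q) ∈ (⊥ : Subgroup G)
        rw [e, mul_one] at hdZ ⊢
        exact hAZ ▸ ⟨ha, hdZ⟩
    exact hne (Subgroup.mem_sup_left
      ((hAmax (y := A ⊔ Subgroup.zpowers h) ⟨hle, hint⟩ le_sup_left)
        (Subgroup.mem_sup_right (Subgroup.mem_zpowers h))))
  -- the normal form in `E`
  let K : Submonoid G :=
    { carrier := {g | ∃ i j : ℕ, ∃ d ∈ Z, g = x ^ i * w ^ j * d}
      one_mem' := ⟨0, 0, 1, Z.one_mem, by simp⟩
      mul_mem' := by
        rintro _ _ ⟨i, j, d, hd, rfl⟩ ⟨i', j', d', hd', rfl⟩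
        have hδ : ⁅w ^ j, x ^ i'⁆ ∈ Z := Subgroup.commutator_mem_commutator trivial trivial
        refine ⟨i + i', j + j', ⁅w ^ j, x ^ i'⁆ * d * d', Z.mul_mem (Z.mul_mem hδ hd) hd', ?_⟩
        have h1 : w ^ j * x ^ i' = x ^ i' * w ^ j * ⁅w ^ j, x ^ i'⁆ := by
          rw [hZz _ hδ, commutatorElement_def]
          group
        rw [pow_add, pow_add]
        calc x ^ i * w ^ j * d * (x ^ i' * w ^ j' * d')
            = x ^ i * w ^ j * (d * (x ^ i' * w ^ j')) * d' := by simp only [mul_assoc]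
          _ = x ^ i * w ^ j * (x ^ i' * w ^ j' * d) * d' := by rw [← hZz d hd]
          _ = x ^ i * (w ^ j * x ^ i') * w ^ j' * d * d' := by simp only [mul_assoc]
          _ = x ^ i * x ^ i' * w ^ j * (⁅w ^ j, x ^ i'⁆ * w ^ j') * d * d' := by
              rw [h1]; simp only [mul_assoc]
          _ = x ^ i * x ^ i' * (w ^ j * w ^ j') * (⁅w ^ j, x ^ i'⁆ * d * d') := by
              rw [← hZz _ hδ]; simp only [mul_assoc] }
  let E : Subgroup G :=
    { toSubmonoid := K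
      inv_mem' := fun {g} hg => by
        have : g⁻¹ ∈ Submonoid.powers g :=
          (isOfFinOrder_of_finite g).mem_powers_iff_mem_zpowers.2 ⟨-1, by simp⟩
        exact (Submonoid.powers_le.2 hg : Submonoid.powers g ≤ K) this }
  have hxE : x ∈ E := ⟨1, 0, 1, Z.one_mem, by simp⟩
  have hwE : w ∈ E := ⟨0, 1, 1, Z.one_mem, by simp⟩
  have hZE : Z ≤ E := fun d hd => ⟨0, 0, d, hd, by simp⟩
  have hval : ∀ (i j : ℕ) (d : G), d ∈ Z →
      χw (x ^ i * w ^ j * d) = (c ^ i)⁻¹ ∧ χx (x ^ i * w ^ j * d) = c ^ j := by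
    intro i j d hd
    refine ⟨?_, ?_⟩
    · rw [map_mul, map_mul, map_pow, map_pow, hwx, hχwM w hw, hχwM d (hZM hd), one_pow, mul_one,
        mul_one, inv_pow]
    · rw [map_mul, map_mul, map_pow, map_pow, hxx, hχxZ d hd, one_pow, one_mul, mul_one, hχx]
  have hcpow : ∀ i : ℕ, c ^ i = 1 → p ∣ i := fun i hi => hordc ▸ orderOf_dvd_of_pow_eq_one hi
  have hEH : ∀ g ∈ E, g ∈ H → g ∈ Z := by
    rintro g ⟨i, j, d, hd, rfl⟩ hgH
    obtain ⟨h1, h2⟩ := hval i j d hd
    rw [hχwM _ hgH.1, eq_comm, inv_eq_one] at h1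
    rw [MonoidHom.mem_ker.1 hgH.2, eq_comm] at h2
    obtain ⟨i', rfl⟩ := hcpow i h1
    obtain ⟨j', rfl⟩ := hcpow j h2
    rw [pow_mul, pow_mul w, hMe w hw, one_pow, mul_one]
    exact Z.mul_mem (Z.pow_mem (hpow x) _) hd
  have hcomm : ∀ e ∈ E, ∀ a ∈ A, e * a = a * e := by
    rintro e ⟨i, j, d, hd, rfl⟩ a ha
    have haH := hAH ha
    have h1 : Commute x a := by
      have := MonoidHom.mem_ker.1 haH.2
      rw [hχx, commutatorElement_eq_one_iff_mul_comm] at this
      exact this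
    have h2 : Commute w a := hMc w hw a haH.1
    exact (((h1.pow_left i).mul_left (h2.pow_left j)).mul_left (hZz d hd a).symm).eq
  -- the order of `E`
  have hcardE : Nat.card ↥E = p ^ 3 := by
    let f : Fin p × Fin p × ↥Z → ↥E := fun t =>
      ⟨x ^ (t.1 : ℕ) * w ^ (t.2.1 : ℕ) * t.2.2, _, _, _, t.2.2.2, rfl⟩
    have hf : Function.Bijective f := by
      constructor
      · rintro ⟨i, j, d⟩ ⟨i', j', d'⟩ h
        have h' : x ^ (i : ℕ) * w ^ (j : ℕ) * d = x ^ (i' : ℕ) * w ^ (j' : ℕ) * d' :=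
          congrArg Subtype.val h
        obtain ⟨a1, a2⟩ := hval i j d d.2
        obtain ⟨b1, b2⟩ := hval i' j' d' d'.2
        rw [h', b1, inv_inj] at a1
        rw [h', b2] at a2
        have hii : (i : ℕ) = i' := pow_injOn_Iio_orderOf
          (by rw [Set.mem_Iio, hordc]; exact i.2) (by rw [Set.mem_Iio, hordc]; exact i'.2) a1.symm
        have hjj : (j : ℕ) = j' := pow_injOn_Iio_orderOf
          (by rw [Set.mem_Iio, hordc]; exact j.2) (by rw [Set.mem_Iio, hordc]; exact j'.2) a2.symm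
        obtain rfl := Fin.ext hii
        obtain rfl := Fin.ext hjj
        obtain rfl : d = d' := Subtype.ext (mul_left_cancel h')
        rfl
      · rintro ⟨g, i, j, d, hd, rfl⟩
        have hd' : (x ^ p) ^ (i / p) * d ∈ Z := Z.mul_mem (Z.pow_mem (hpow x) _) hd
        refine ⟨⟨⟨i % p, Nat.mod_lt _ hpr.pos⟩, ⟨j % p, Nat.mod_lt _ hpr.pos⟩, ⟨_, hd'⟩⟩,
          Subtype.ext ?_⟩
        show x ^ (i % p) * w ^ (j % p) * ((x ^ p) ^ (i / p) * d) = x ^ i * w ^ j * d
        have e1 : w ^ j = w ^ (j % p) := by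
          conv_lhs => rw [← Nat.mod_add_div j p, pow_add, pow_mul, hMe w hw, one_pow, mul_one]
        have e2 : x ^ i = x ^ (i % p) * (x ^ p) ^ (i / p) := by
          rw [← pow_mul, ← pow_add, Nat.mod_add_div]
        rw [e1, e2, ← mul_assoc, mul_assoc (x ^ (i % p)), hZz _ (Z.pow_mem (hpow x) _), ← mul_assoc]
    rw [← Nat.card_congr (Equiv.ofBijective f hf), Nat.card_prod, Nat.card_prod, Nat.card_fin, hZc]
    ring
  -- the isomorphism
  haveI hAc : IsMulCommutative ↥A :=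
    ⟨⟨fun a b => Subtype.ext (hMc a (hAH a.2).1 b (hAH b.2).1)⟩⟩
  let Φ : ↥E × ↥A →* G := E.subtype.noncommCoprod A.subtype fun e a => hcomm e e.2 a a.2
  have hΦinj : Function.Injective Φ := by
    rw [injective_iff_map_eq_one]
    rintro ⟨⟨e, he⟩, a, ha⟩ h
    have h' : e * a = 1 := h
    have hea : e = a⁻¹ := eq_inv_of_mul_eq_one_left h'
    have heZ : e ∈ Z := hEH e he (hea ▸ H.inv_mem (hAH ha))
    have : e = 1 := by
      have hmem : e ∈ A ⊓ Z := ⟨hea ▸ A.inv_mem ha, heZ⟩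
      rw [hAZ] at hmem
      exact hmem
    subst this
    rw [one_mul] at h'
    subst h'
    rfl
  have hΦsurj : Function.Surjective Φ := by
    intro g
    obtain ⟨n, hn⟩ := hgen g
    set m := (x ^ n)⁻¹ * g with hm
    obtain ⟨j, hj⟩ := hzp (χx m) (hχx m ▸ Subgroup.commutator_mem_commutator trivial trivial)
    have hH' : (w ^ j)⁻¹ * m ∈ H := by
      refine ⟨M.mul_mem (M.inv_mem (M.pow_mem hw j)) hn, MonoidHom.mem_ker.2 ?_⟩
      rw [map_mul, map_inv, map_pow, hχx w, ← hj, inv_mul_cancel]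
    obtain ⟨a, ha, d, hd, he⟩ := hHA _ hH'
    refine ⟨(⟨x ^ n * w ^ j * d, n, j, d, hd, rfl⟩, ⟨a, ha⟩), ?_⟩
    show x ^ n * w ^ j * d * a = g
    rw [mul_assoc _ d a, ← hZz d hd a, ← he, hm]
    group
  refine ⟨E, A, hxE, hwE, hcomm, fun a ha => hMe a (hAH ha).1, hAc, hcardE,
    ⟨MulEquiv.ofBijective Φ ⟨hΦinj, hΦsurj⟩⟩, fun hx1 h2 => ?_⟩
  have hEp : IsPGroup p ↥E := hG.to_subgroup E
  have hexp : ∀ e : ↥E, e ^ p = 1 := by
    rintro ⟨_, i, j, d, hd, rfl⟩
    refine Subtype.ext ?_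
    show (x ^ i * w ^ j * d) ^ p = 1
    rw [(show Commute (x ^ i * w ^ j) d from hZz d hd _).mul_pow, hMe d (hZM hd), mul_one]
    -- `(a * b) ^ n = a ^ n * b ^ n * ⁅b, a⁆ ^ choose n 2`
    have key : ∀ n : ℕ, (x ^ i * w ^ j) ^ n =
        (x ^ i) ^ n * (w ^ j) ^ n * ⁅w ^ j, x ^ i⁆ ^ n.choose 2 := by
      intro n
      induction n with
      | zero => simp
      | succ n ih =>
        have hδ : ⁅w ^ j, x ^ i⁆ ∈ Z := Subgroup.commutator_mem_commutator trivial trivial
        have hδn : ∀ k : ℕ, ∀ g, g * ⁅w ^ j, x ^ i⁆ ^ k = ⁅w ^ j, x ^ i⁆ ^ k * g :=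
          fun k => hZz _ (Z.pow_mem hδ k)
        have h3 : (w ^ j) ^ n * x ^ i = x ^ i * (w ^ j) ^ n * ⁅w ^ j, x ^ i⁆ ^ n := by
          have h4 : ⁅(w ^ j) ^ n, x ^ i⁆ = ⁅w ^ j, x ^ i⁆ ^ n := by
            have := map_pow ((Subgroup.center G).subtype.comp (PGroups.commutatorHom hcc (x ^ i))) (w ^ j) n
            simp only [MonoidHom.comp_apply, Subgroup.coe_subtype] at this
            exact this
          rw [← h4, hZz _ (Subgroup.commutator_mem_commutator trivial trivial), commutatorElement_def]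
          group
        rw [pow_succ, ih, pow_succ (x ^ i) n, pow_succ (w ^ j) n,
          show (n + 1).choose 2 = n + n.choose 2 by rw [Nat.choose_succ_succ', Nat.choose_one_right],
          pow_add]
        calc (x ^ i) ^ n * (w ^ j) ^ n * ⁅w ^ j, x ^ i⁆ ^ n.choose 2 * (x ^ i * w ^ j)
            = (x ^ i) ^ n * (w ^ j) ^ n * ((x ^ i * w ^ j) * ⁅w ^ j, x ^ i⁆ ^ n.choose 2) := by
              rw [hδn _ (x ^ i * w ^ j)]; simp only [mul_assoc]
          _ = (x ^ i) ^ n * ((w ^ j) ^ n * x ^ i) * w ^ j * ⁅w ^ j, x ^ i⁆ ^ n.choose 2 := by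
              simp only [mul_assoc]
          _ = (x ^ i) ^ n * x ^ i * (w ^ j) ^ n * (⁅w ^ j, x ^ i⁆ ^ n * w ^ j) *
              ⁅w ^ j, x ^ i⁆ ^ n.choose 2 := by
              rw [h3]; simp only [mul_assoc]
          _ = _ := by rw [← hδn]; simp only [mul_assoc]
    rw [key, ← pow_mul, mul_comm i p, pow_mul, hx1, one_pow, one_mul, ← pow_mul, mul_comm j p,
      pow_mul, hMe w hw, one_pow, one_mul]
    obtain ⟨k, hk⟩ : p ∣ p.choose 2 :=
      hpr.dvd_choose_self two_ne_zero (lt_of_le_of_ne hpr.two_le (Ne.symm h2))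
    rw [hk, pow_mul, hMe _ (hZM (Subgroup.commutator_mem_commutator trivial trivial)), one_pow]
  have hcE : Subgroup.center ↥E = Z.subgroupOf E := by
    ext g
    constructor
    · intro hg
      obtain ⟨i, j, d, hd, he⟩ := g.2
      obtain ⟨h1, h2'⟩ := hval i j d hd
      have hgx : χx (g : G) = 1 := by
        rw [hχx, commutatorElement_eq_one_iff_mul_comm]
        exact congrArg Subtype.val (Subgroup.mem_center_iff.1 hg ⟨x, hxE⟩)
      have hgw : χw (g : G) = 1 := by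
        rw [hχw, commutatorElement_eq_one_iff_mul_comm]
        exact congrArg Subtype.val (Subgroup.mem_center_iff.1 hg ⟨w, hwE⟩)
      rw [he] at hgx hgw
      rw [hgw, eq_comm, inv_eq_one] at h1
      rw [hgx, eq_comm] at h2'
      obtain ⟨i', rfl⟩ := hcpow i h1
      obtain ⟨j', rfl⟩ := hcpow j h2'
      rw [Subgroup.mem_subgroupOf, he, pow_mul, pow_mul w, hMe w hw, one_pow, mul_one]
      exact Z.mul_mem (Z.pow_mem (hpow x) _) hd
    · intro hg
      exact Subgroup.mem_center_iff.2 fun h => Subtype.ext (hZz _ hg h)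
  have hcZcard : Nat.card ↥(Subgroup.center ↥E) = p := by
    rw [hcE, Nat.card_congr (Subgroup.subgroupOfEquivOfLe hZE).toEquiv, hZc]
  have hcomE : commutator ↥E = Subgroup.center ↥E := by
    refine le_antisymm ?_ ?_
    · rw [hcE, commutator_def]
      exact Subgroup.commutator_le.2 fun a _ b _ =>
        Subgroup.commutator_mem_commutator (G := G) trivial trivial
    · have hne : (⁅(⟨x, hxE⟩ : ↥E), ⟨w, hwE⟩⁆ : ↥E) ≠ 1 := fun h => hxw (congrArg Subtype.val h)
      have hmem : ⁅(⟨x, hxE⟩ : ↥E), ⟨w, hwE⟩⁆ ∈ Subgroup.center ↥E := by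
        rw [hcE]
        exact hcZ
      rw [← PGroups.zpowers_eq_of_card_eq hcZcard hmem hne, Subgroup.zpowers_le]
      exact Subgroup.commutator_mem_commutator trivial trivial
  have hfr : frattini ↥E = Subgroup.center ↥E := by
    refine le_antisymm ?_ (hcomE ▸ PGroups.commutator_le_frattini hEp)
    exact PGroups.frattini_le_of_commutator_le (p := p) _ hcomE.le fun e => by
      rw [hexp]; exact Subgroup.one_mem _
  refine ⟨⟨⟨hEp, hfr, hcomE⟩, hcZcard⟩, ?_⟩
  have h1 : Monoid.exponent ↥E ∣ p := Monoid.exponent_dvd_of_forall_pow_eq_one hexp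
  rcases (Nat.dvd_prime hpr).1 h1 with h | h
  · refine absurd ?_ hxw
    have := Monoid.exp_eq_one_iff.1 h
    exact congrArg Subtype.val (Subsingleton.elim (⁅(⟨x, hxE⟩ : ↥E), ⟨w, hwE⟩⁆) 1)
  · exact h

end Cfsg.Agent.H90
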