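import Cfsg.Agent.S5236
import Cfsg.Agent.H90.Odd
import Cfsg.Agent.H90.Tate
import Cfsg.Agent.PGroups.Basic
import Cfsg.Agent.H60.Amalgam
import Cfsg.Agent.FusionSys.Saturated

/-!
For odd `p` a strongly closed subgroup with at most `p ^ 2` elements of order dividing `p` is normal
in the system.
-/

set_option autoImplicit false

namespace Cfsg.Agent.H90

open Cfsg Cfsg.FusionSystem
open scoped commutatorElement

universe u

/-- An automorphism of a finite group inverting a subgroup that contains all elements of order `p`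
(`p` odd, the group a `p`-group, the automorphism of order prime to `p`) inverts the whole group,
which is then abelian. -/
theorem comm_of_inverting {G : Type*} [Group G] [Finite G] {p : ℕ} [Fact p.Prime] (h2 : p ≠ 2)
    (hG : IsPGroup p G) (γ : MulAut G) (hγ : (orderOf γ).Coprime p)
    (hinv : ∀ e : G, e ^ p = 1 → γ e = e⁻¹) (a b : G) : a * b = b * a := by
  have hsq : ∀ x, (γ ^ 2) x = x := fun x => by
    refine fix_of_fix_order_p h2 hG (γ ^ 2) (hγ.coprime_dvd_left (orderOf_pow_dvd 2)) (fun e he => ?_) x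
    rw [pow_two]
    show γ (γ e) = e
    rw [hinv e he, map_inv, hinv e he, inv_inv]
  have hfpf : ∀ x, γ x = x → x = 1 := by
    intro x hx
    by_contra hne
    have hne' : Subgroup.zpowers x ≠ ⊥ := fun h => hne (Subgroup.zpowers_eq_bot.1 h)
    obtain ⟨e, he, hord⟩ := PGroups.exists_orderOf_eq hG hne'
    obtain ⟨k, rfl⟩ := Subgroup.mem_zpowers_iff.1 he
    have h1 : γ (x ^ k) = x ^ k := by rw [map_zpow, hx]
    have h2' := hinv (x ^ k) (hord ▸ pow_orderOf_eq_one _)
    rw [h1, eq_inv_iff_mul_eq_one, ← pow_two] at h2'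
    have hd := orderOf_dvd_of_pow_eq_one h2'
    rw [hord] at hd
    exact h2 ((Nat.prime_dvd_prime_iff_eq Fact.out Nat.prime_two).1 hd)
  have hinj : Function.Injective fun x : G => x⁻¹ * γ x := by
    intro x y hxy
    have h : γ (y * x⁻¹) = y * x⁻¹ := by
      rw [map_mul, map_inv]
      have hxy' : x⁻¹ * γ x = y⁻¹ * γ y := hxy
      calc γ y * (γ x)⁻¹ = y * (y⁻¹ * γ y) * (x * (x⁻¹ * γ x))⁻¹ := by group
        _ = y * (x⁻¹ * γ x) * (x * (x⁻¹ * γ x))⁻¹ := by rw [hxy']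
        _ = y * x⁻¹ := by group
    exact (mul_inv_eq_one.1 (hfpf _ h)).symm
  have hall : ∀ z, γ z = z⁻¹ := by
    intro z
    obtain ⟨x, hx⟩ := (Finite.injective_iff_surjective.1 hinj) z
    rw [← hx]
    show γ (x⁻¹ * γ x) = (x⁻¹ * γ x)⁻¹
    have hxx : γ (γ x) = x := by
      have := hsq x
      rwa [pow_two] at this
    rw [map_mul, map_inv, hxx]
    group
  have h := map_mul γ b⁻¹ a⁻¹
  simp only [hall, mul_inv_rev, inv_inv] at h
  exact h

variable {Ω : Type u} [Group Ω] {S : Subgroup Ω}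

theorem isNormal_of_omega_small {p : ℕ} [Fact p.Prime] [Finite S] (hS : IsPGroup p S)
    {F : FusionSystem S} (hF : F.IsSaturated p) (h2 : p ≠ 2) {P : Subgroup Ω}
    (hP : F.StronglyClosed P) (hexp : ∀ x ∈ omegaOne p P, x ^ p = 1)
    (hcard : Nat.card ↥(omegaOne p P) ≤ p ^ 2) : F.IsNormal P := by
  classical
  set E := omegaOne p P with hE
  have hmemE : ∀ {x}, x ∈ P → x ^ p = 1 → x ∈ E := fun hx hp =>
    Subgroup.subset_closure ⟨hx, hp⟩
  have hEP : E ≤ P := (Subgroup.closure_le _).2 fun x hx => hx.1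
  have hES := hEP.trans hP.1
  haveI := finite_le hES
  haveI := finite_le hP.1
  have hEsc : F.StronglyClosed E := by
    refine ⟨hES, fun R hR φ hφ x => hmemE (hP.2 R (hR.trans hEP) φ hφ x) ?_⟩
    have hx : x ^ p = 1 := Subtype.ext (by simpa using hexp _ (hR x.2))
    rw [← map_pow, hx, map_one]
  have hEn := normal_in_top_of_stronglyClosed F hEsc
  have hPn := normal_in_top_of_stronglyClosed F hP
  refine (S5236.result p hS F hF h2 P hP).2 ?_
  have hbot : F.StronglyClosed ⊥ := ⟨bot_le, fun R hR φ _ x => by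
    rw [show x = 1 from Subtype.ext (Subgroup.mem_bot.1 (hR x.2)), map_one]
    exact Subgroup.one_mem _⟩
  by_cases hcen : ⁅E, P⁆ = ⊥
  · refine ⟨1, fun i => if i = 0 then ⊥ else E, rfl, rfl, ?_, fun i => ?_, fun i => ?_⟩
    · intro i j hij
      dsimp only
      split_ifs with h1 h2' h2'
      · exact le_rfl
      · exact bot_le
      · exact absurd (Fin.le_zero_iff.1 (h2' ▸ hij)) h1
      · exact le_rfl
    · dsimp only
      split_ifs
      · exact hbot
      · exact hEsc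
    · fin_cases i
      simpa [hE] using hcen
  -- `Z = [E, P]` has order `p` and is central in `S`
  set Z := ⁅E, P⁆ with hZdef
  have hPnE : P ≤ Subgroup.normalizer (E : Set Ω) := fun g hg =>
    normal_of_conj (hEn g (hP.1 hg))
  have hEne : E ≠ ⊥ := fun h => hcen (by rw [hZdef, h, Subgroup.commutator_bot_left])
  have hZle : Z ≤ E := Subgroup.commutator_le.2 fun e he g hg => by
    rw [commutatorElement_def, mul_assoc e g, mul_assoc e]
    exact E.mul_mem he (hEn g (hP.1 hg) _ (E.inv_mem he))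
  have hZE : Z < E := lt_of_le_of_ne hZle fun h =>
    hEne (le_bot_iff.1 (H60.le_of_le_sup_commutator (p := p) (hS.to_le hP.1) hEP bot_le
      (fun g _ => normal_of_conj fun x hx => by simp [Subgroup.mem_bot.1 hx])
      (by rw [bot_sup_eq]; exact h.ge)))
  have hZn : ∀ g ∈ S, ∀ x ∈ Z, g * x * g⁻¹ ∈ Z := by
    intro g hg x hx
    have h : Z.map (MulAut.conj g).toMonoidHom ≤ Z := by
      rw [hZdef, Subgroup.map_commutator]
      exact Subgroup.commutator_mono (by rintro _ ⟨e, he, rfl⟩; exact hEn g hg e he)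
        (by rintro _ ⟨e, he, rfl⟩; exact hPn g hg e he)
    exact h ⟨x, hx, rfl⟩
  have hp := (Fact.out : p.Prime)
  have hZS := hZE.le.trans hES
  haveI := finite_le hZS
  obtain ⟨k, hk⟩ := IsPGroup.iff_card.1 (hS.to_le hZS)
  have hZcard : Nat.card Z = p := by
    have h1 : Nat.card Z < p ^ 2 := (card_lt_of_lt hES hZE).trans_le hcard
    rw [hk] at h1 ⊢
    have hk2 : k < 2 := (Nat.pow_lt_pow_iff_right hp.one_lt).1 h1
    interval_cases k
    · exact absurd (Subgroup.card_eq_one.1 (by simpa using hk)) hcen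
    · simp
  obtain ⟨m, hm⟩ := IsPGroup.iff_card.1 (hS.to_le hES)
  have hEcard : Nat.card E = p ^ 2 := by
    have h1 : p ^ 1 < p ^ m := by
      have h := card_lt_of_lt hES hZE
      rw [hm, hZcard] at h; rwa [pow_one]
    have h2' := (Nat.pow_lt_pow_iff_right hp.one_lt).1 h1
    rw [hm] at hcard ⊢
    have := (Nat.pow_le_pow_iff_right hp.one_lt).1 hcard
    rw [show m = 2 by omega]
  have hzS : ∀ c ∈ Z, ∀ s ∈ S, s * c = c * s := by
    have hn : (Z.subgroupOf S).Normal := ⟨fun a ha g => hZn g g.2 a ha⟩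
    have hle := PGroups.le_center_of_card_eq hS (Z.subgroupOf S)
      ((Nat.card_congr (Subgroup.subgroupOfEquivOfLe hZS).toEquiv).trans hZcard)
    intro c hc s hs
    exact congrArg Subtype.val
      (Subgroup.mem_center_iff.1 (hle (show (⟨c, hZS hc⟩ : ↥S) ∈ Z.subgroupOf S from hc)) ⟨s, hs⟩)
  -- `Z` is strongly closed unless the automizer of `E` contains an inversion
  by_cases hZsc : F.StronglyClosed Z
  · refine ⟨2, ![⊥, Z, E], rfl, rfl, ?_, ?_, ?_⟩
    · intro i j hij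
      fin_cases i <;> fin_cases j
      all_goals first
        | exact le_rfl
        | exact bot_le
        | exact hZle
        | simp at hij
    · intro i
      fin_cases i
      · exact hbot
      · exact hZsc
      · exact hEsc
    · intro i
      fin_cases i
      · show ⁅Z, P⁆ ≤ ⊥
        rw [le_bot_iff, Subgroup.commutator_eq_bot_iff_le_centralizer]
        exact fun c hc => Subgroup.mem_centralizer_iff.2 fun s hs => hzS c hc s (hP.1 hs)
      · exact le_rfl
  exfalso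
  -- a map moving `Z`
  obtain ⟨R, hR, φ, hφ, x₀, hx₀⟩ : ∃ R ≤ Z, ∃ φ ∈ F.Hom R, ∃ x : ↥R, φ x ∉ Z := by
    by_contra h
    push_neg at h
    exact hZsc ⟨hZS, fun R hR φ hφ x => h R hR φ hφ x⟩
  have hRZ : R = Z := by
    refine eq_of_le_card hZS hR ?_
    rw [hZcard]
    have hne : R ≠ ⊥ := fun h => hx₀ (by
      have : x₀ = 1 := Subtype.ext (Subgroup.mem_bot.1 (h ▸ x₀.2))
      rw [this, map_one]
      exact Z.one_mem)
    have h1 : Nat.card R ∣ p := hZcard ▸ Subgroup.card_dvd_of_le hR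
    rcases (Nat.dvd_prime hp).1 h1 with h | h
    · exact absurd (Subgroup.card_eq_one.1 h) hne
    · exact h.ge
  subst hRZ
  obtain ⟨ψ, hψ, hψr, hψl, hψr'⟩ := exists_iso_inv F hφ rfl
  set w := φ x₀ with hwdef
  have hwE : w ∈ E := hEsc.2 Z hZE.le φ hφ x₀
  have hwZ : w ∉ Z := hx₀
  -- `E = Z ⟨w⟩`
  have hE' : Z ⊔ Subgroup.zpowers w = E := by
    refine eq_of_le_card hES (sup_le hZE.le (Subgroup.zpowers_le.2 hwE)) ?_
    have hlt : Z < Z ⊔ Subgroup.zpowers w :=
      lt_of_le_of_ne le_sup_left fun h => hwZ (h ▸ Subgroup.mem_sup_right (Subgroup.mem_zpowers w))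
    have hle : Z ⊔ Subgroup.zpowers w ≤ S := sup_le hZS (Subgroup.zpowers_le.2 (hES hwE))
    haveI := finite_le hle
    obtain ⟨j, hj⟩ := IsPGroup.iff_card.1 (hS.to_le hle)
    have h1 : p ^ 1 < p ^ j := by
      have h := card_lt_of_lt hle hlt
      rw [hj, hZcard] at h; rwa [pow_one]
    rw [hEcard, hj]
    exact Nat.pow_le_pow_right hp.pos ((Nat.pow_lt_pow_iff_right hp.one_lt).1 h1)
  have hform : ∀ e ∈ E, ∃ c ∈ Z, ∃ b : ℕ, e = c * w ^ b := by
    intro e he
    rw [← hE', ← SetLike.mem_coe, Subgroup.coe_mul_of_right_le_normalizer_left Z _ (fun g hg => by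
      refine normal_of_conj fun c hc => ?_
      have := hzS c hc g (Subgroup.zpowers_le.2 (hES hwE) hg)
      rwa [this, mul_inv_cancel_right])] at he
    obtain ⟨c, hc, v, hv, rfl⟩ := he
    have hwo : IsOfFinOrder w := isOfFinOrder_iff_pow_eq_one.2 ⟨p, hp.pos, hexp w hwE⟩
    obtain ⟨b, rfl⟩ := (Submonoid.mem_powers_iff _ _).1 (hwo.mem_powers_iff_mem_zpowers.2 hv)
    exact ⟨c, hc, b, rfl⟩
  have hEcomm : ∀ a b : ↥E, a * b = b * a := by
    rintro ⟨a, ha⟩ ⟨b, hb⟩
    obtain ⟨c, hc, i, rfl⟩ := hform a ha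
    obtain ⟨d, hd, j, rfl⟩ := hform b hb
    refine Subtype.ext ?_
    show c * w ^ i * (d * w ^ j) = d * w ^ j * (c * w ^ i)
    have h1 : Commute (w ^ i) d := hzS d hd _ (S.pow_mem (hES hwE) i)
    have h2' : Commute c (d * w ^ j) :=
      (hzS c hc _ (S.mul_mem (hZS hd) (S.pow_mem (hES hwE) j))).symm
    have h3 : Commute (w ^ i) (d * w ^ j) := h1.mul_right ((Commute.refl w).pow_pow i j)
    exact (h2'.mul_left h3).eq
  -- the extension moving `w` into `Z`
  have hφR : F.IsFullyNormalized Z := ⟨hZS, fun Q _ => by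
    have : normalizerIn S Z = S :=
      le_antisymm inf_le_left fun g hg => ⟨hg, normal_of_conj (hZn g hg)⟩
    rw [this]
    exact Subgroup.card_le_of_le inf_le_left⟩
  obtain ⟨ψe, hψe, hext⟩ :=
    (FusionSys.receptive_of_isFullyNormalized hS hF hφR).2 φ.range ψ hψ hψr
  have hEle : E ≤ extender S φ.range ψ := by
    intro g hg
    have hfix : ∀ y ∈ φ.range, g * y * g⁻¹ = y := by
      rintro _ ⟨x, rfl⟩
      have := congrArg Subtype.val (hEcomm ⟨g, hg⟩ ⟨φ x, hEsc.2 Z hZE.le φ hφ x⟩)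
      rw [show g * φ x = φ x * g from this, mul_inv_cancel_right]
    haveI := finite_le (range_le F hφ)
    refine Subgroup.subset_closure ⟨hES hg, normal_of_conj fun y hy => (hfix y hy).symm ▸ hy,
      1, S.one_mem, fun y hy => ?_⟩
    rw [one_mul, inv_one, mul_one]
    exact congrArg ψ (Subtype.ext (hfix y y.2))
  have hαh := res_mem F hψe hEle
  set α := toAut F hαh (fun e => hEsc.2 E le_rfl _ hαh e) with hαdef
  have hαF : α ∈ F.autGroup E := toAut_mem F hαh _
  let wE : ↥E := ⟨w, hwE⟩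
  let zE : ↥E := ⟨x₀, hZE.le x₀.2⟩
  have hαw : α wE = zE := by
    refine Subtype.ext ?_
    rw [toAut_coe, res_apply, hext w ⟨x₀, rfl⟩ (hEle hwE)]
    exact hψl x₀ ⟨x₀, rfl⟩
  have hz1 : (x₀ : Ω) ≠ 1 := fun h => hwZ (by
    rw [hwdef, show x₀ = 1 from Subtype.ext h, map_one]
    exact Z.one_mem)
  -- transvections: every element of `Z` is `w⁻¹ g w g⁻¹`
  obtain ⟨g₀, hg₀, hne⟩ : ∃ g ∈ P, g * w * g⁻¹ ≠ w := by
    by_contra h
    push_neg at h
    refine hcen (Subgroup.commutator_eq_bot_iff_le_centralizer.2 fun e he => ?_)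
    obtain ⟨c, hc, b, rfl⟩ := hform e he
    refine Subgroup.mem_centralizer_iff.2 fun g hg => ?_
    have h1 : Commute g w := mul_inv_eq_iff_eq_mul.1 (h g hg)
    have h2' : Commute g c := hzS c hc g (hP.1 hg)
    exact (h2'.mul_right (h1.pow_right b)).eq
  set c₀ := w⁻¹ * (g₀ * w * g₀⁻¹) with hc₀
  have hc₀Z : c₀ ∈ Z := by
    have := Subgroup.commutator_mem_commutator (E.inv_mem hwE) hg₀
    rw [commutatorElement_def, inv_inv] at this
    simpa [hc₀, hZdef, mul_assoc] using this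
  have hgen : ∀ c ∈ Z, ∃ g ∈ P, g * w * g⁻¹ = w * c := by
    have hzp : Subgroup.zpowers c₀ = Z := by
      refine eq_of_le_card hZS (Subgroup.zpowers_le.2 hc₀Z) ?_
      have h1 : Nat.card (Subgroup.zpowers c₀) ∣ p :=
        hZcard ▸ Subgroup.card_dvd_of_le (Subgroup.zpowers_le.2 hc₀Z)
      rcases (Nat.dvd_prime hp).1 h1 with h | h
      · refine absurd ?_ hne
        have h0 : c₀ = 1 := Subgroup.zpowers_eq_bot.1 (Subgroup.card_eq_one.1 h)
        rwa [hc₀, inv_mul_eq_one, eq_comm] at h0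
      · rw [hZcard, h]
    intro c hc
    rw [← hzp] at hc
    have hco : IsOfFinOrder c₀ := isOfFinOrder_iff_pow_eq_one.2 ⟨p, hp.pos, hexp _ (hZE.le hc₀Z)⟩
    obtain ⟨n, rfl⟩ := (Submonoid.mem_powers_iff _ _).1 (hco.mem_powers_iff_mem_zpowers.2 hc)
    refine ⟨g₀ ^ n, P.pow_mem hg₀ n, ?_⟩
    clear hc
    induction n with
    | zero => simp
    | succ n ih =>
      have hcomm : Commute g₀ (c₀ ^ n) := hzS _ (Z.pow_mem hc₀Z n) g₀ (hP.1 hg₀)
      rw [pow_succ', mul_inv_rev,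
        show g₀ * g₀ ^ n * w * ((g₀ ^ n)⁻¹ * g₀⁻¹) = g₀ * (g₀ ^ n * w * (g₀ ^ n)⁻¹) * g₀⁻¹ by group,
        ih, show g₀ * (w * c₀ ^ n) * g₀⁻¹ = (g₀ * w * g₀⁻¹) * (g₀ * c₀ ^ n * g₀⁻¹) by group,
        hcomm.eq, mul_inv_cancel_right, pow_succ' c₀, ← mul_assoc,
        show w * c₀ = g₀ * w * g₀⁻¹ by rw [hc₀, mul_inv_cancel_left]]
  have htv : ∀ c ∈ Z, ∃ t ∈ F.autGroup E, (∀ e : ↥E, (e : Ω) ∈ Z → t e = e) ∧
      ((t wE : ↥E) : Ω) = w * c := by
    intro c hc
    obtain ⟨g, hg, he⟩ := hgen c hc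
    refine ⟨normAut E g (hPnE hg), normAut_mem_aut F hES (hP.1 hg) _, fun e heZ => Subtype.ext ?_, he⟩
    rw [normAut_coe, hzS _ heZ g (hP.1 hg), mul_inv_cancel_right]
  -- the element with a nontrivial `w`-part
  obtain ⟨c₁, hc₁, b, hb⟩ := hform _ (α zE).2
  have hbp : ¬ p ∣ b := by
    rintro ⟨q, rfl⟩
    rw [pow_mul, hexp w hwE, one_pow, mul_one] at hb
    obtain ⟨n, hn⟩ : ∃ n : ℕ, (x₀ : Ω) ^ n = c₁ := by
      have hzx : Subgroup.zpowers (x₀ : Ω) = Z := by
        refine eq_of_le_card hZS (Subgroup.zpowers_le.2 x₀.2) ?_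
        have h1 : Nat.card (Subgroup.zpowers (x₀ : Ω)) ∣ p :=
          hZcard ▸ Subgroup.card_dvd_of_le (Subgroup.zpowers_le.2 x₀.2)
        rcases (Nat.dvd_prime hp).1 h1 with h | h
        · exact absurd (Subgroup.zpowers_eq_bot.1 (Subgroup.card_eq_one.1 h)) hz1
        · rw [hZcard, h]
      rw [← hzx] at hc₁
      exact (Submonoid.mem_powers_iff _ _).1 ((isOfFinOrder_iff_pow_eq_one.2
        ⟨p, hp.pos, hexp _ (hZE.le x₀.2)⟩).mem_powers_iff_mem_zpowers.2 hc₁)
    have h1 : α zE = α (wE ^ n) := by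
      rw [map_pow, hαw]
      exact Subtype.ext (by rw [hb, ← hn]; rfl)
    have h2' := congrArg Subtype.val (α.injective h1)
    have hwz : w ^ n = (x₀ : Ω) := h2'.symm
    rcases Nat.coprime_or_dvd_of_prime hp n with hcop | ⟨q', rfl⟩
    · obtain ⟨j, hj⟩ := exists_pow_eq_self_of_coprime (x := w) (n := n)
        (Nat.Coprime.coprime_dvd_right (orderOf_dvd_of_pow_eq_one (hexp w hwE)) hcop.symm)
      exact hwZ (hj ▸ hwz ▸ Z.pow_mem x₀.2 j)
    · rw [pow_mul, hexp w hwE, one_pow] at hwz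
      exact hz1 hwz.symm
  obtain ⟨r, hrZ, hr⟩ : ∃ r ∈ Z, r ^ b = (x₀ : Ω)⁻¹ := by
    obtain ⟨j, hj⟩ := exists_pow_eq_self_of_coprime (x := (x₀ : Ω)⁻¹) (n := b)
      ((hp.coprime_iff_not_dvd.2 hbp).symm.coprime_dvd_right
        (orderOf_dvd_of_pow_eq_one (by rw [inv_pow, hexp _ (hZE.le x₀.2), inv_one])))
    exact ⟨((x₀ : Ω)⁻¹) ^ j, Z.pow_mem (Z.inv_mem x₀.2) j, by rw [← pow_mul, mul_comm, pow_mul, hj]⟩
  obtain ⟨t, htF, htfix, htw⟩ := htv (x₀ : Ω) x₀.2
  obtain ⟨t', ht'F, ht'fix, ht'w⟩ := htv r hrZ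
  set u : MulAut ↥E := α⁻¹ * t' * α
  have huw : u wE = wE := by
    show α⁻¹ (t' (α wE)) = wE
    rw [hαw, ht'fix zE x₀.2, ← hαw]
    exact α.symm_apply_apply wE
  have hbE : α zE = ⟨c₁, hZE.le hc₁⟩ * wE ^ b := Subtype.ext hb
  have huz : u zE = zE * wE⁻¹ := by
    show α⁻¹ (t' (α zE)) = zE * wE⁻¹
    have h1 : t' (α zE) = α zE * zE⁻¹ := by
      rw [hbE, map_mul, ht'fix _ hc₁, map_pow, mul_assoc]
      congr 1
      have : t' wE = wE * ⟨r, hZE.le hrZ⟩ := Subtype.ext ht'w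
      rw [this, (show Commute wE ⟨r, hZE.le hrZ⟩ from hEcomm _ _).mul_pow]
      congr 1
      exact Subtype.ext (by simpa using hr)
    have h3 : α⁻¹ zE = wE := by rw [← hαw]; exact α.symm_apply_apply wE
    rw [h1, map_mul, map_inv, h3]
    congr 1
    exact α.symm_apply_apply zE
  have htz : t zE = zE := htfix zE x₀.2
  have htw' : t wE = wE * zE := Subtype.ext htw
  set s := t * u * t
  have hsz : s zE = wE⁻¹ := by
    show t (u (t zE)) = wE⁻¹
    rw [htz, huz, map_mul, map_inv, htz, htw', mul_inv_rev, ← mul_assoc, mul_inv_cancel, one_mul]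
  have hsw : s wE = zE := by
    show t (u (t wE)) = zE
    rw [htw', map_mul, huw, huz, hEcomm zE, ← mul_assoc, mul_inv_cancel, one_mul, htz]
  have hneg : ∀ e : ↥E, (s * s) e = e⁻¹ := by
    intro e
    have h1 : (s * s) zE = zE⁻¹ := by
      show s (s zE) = _
      rw [hsz, map_inv, hsw]
    have h2' : (s * s) wE = wE⁻¹ := by
      show s (s wE) = _
      rw [hsw, hsz]
    obtain ⟨c, hc, i, he⟩ := hform e e.2
    obtain ⟨j, hj⟩ : ∃ j : ℕ, (x₀ : Ω) ^ j = c := by
      have hzx : Subgroup.zpowers (x₀ : Ω) = Z := by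
        refine eq_of_le_card hZS (Subgroup.zpowers_le.2 x₀.2) ?_
        have h1 : Nat.card (Subgroup.zpowers (x₀ : Ω)) ∣ p :=
          hZcard ▸ Subgroup.card_dvd_of_le (Subgroup.zpowers_le.2 x₀.2)
        rcases (Nat.dvd_prime hp).1 h1 with h | h
        · exact absurd (Subgroup.zpowers_eq_bot.1 (Subgroup.card_eq_one.1 h)) hz1
        · rw [hZcard, h]
      rw [← hzx] at hc
      exact (Submonoid.mem_powers_iff _ _).1 ((isOfFinOrder_iff_pow_eq_one.2
        ⟨p, hp.pos, hexp _ (hZE.le x₀.2)⟩).mem_powers_iff_mem_zpowers.2 hc)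
    have he' : e = zE ^ j * wE ^ i := Subtype.ext (by rw [he, ← hj]; rfl)
    rw [he', map_mul, map_pow, map_pow, h1, h2', mul_inv_rev, inv_pow, inv_pow]
    exact hEcomm _ _
  -- the inversion extends to `S`
  have huF : u ∈ F.autGroup E := mul_mem (mul_mem (inv_mem hαF) ht'F) hαF
  have hsF : s * s ∈ F.autGroup E := by
    have := mul_mem (mul_mem htF huF) htF
    exact mul_mem this this
  have hσ := hom_of_aut_mem F hES hsF
  have hσr : (E.subtype.comp (s * s).toMonoidHom).range = E := le_antisymm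
    (by rintro _ ⟨x, rfl⟩; exact ((s * s) x).2)
    fun x hx => ⟨(⟨x, hx⟩ : ↥E)⁻¹, by
      show (((s * s) (⟨x, hx⟩ : ↥E)⁻¹ : ↥E) : Ω) = x
      rw [hneg, inv_inv]⟩
  have hEfn : F.IsFullyNormalized E := ⟨hES, fun Q _ => by
    have : normalizerIn S E = S :=
      le_antisymm inf_le_left fun g hg => ⟨hg, normal_of_conj (hEn g hg)⟩
    rw [this]
    exact Subgroup.card_le_of_le inf_le_left⟩
  obtain ⟨σ, hσF, hσext⟩ :=
    (FusionSys.receptive_of_isFullyNormalized hS hF hEfn).2 E _ hσ hσr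
  have hSle : P ≤ extender S E (E.subtype.comp (s * s).toMonoidHom) := by
    intro g hg
    refine Subgroup.subset_closure ⟨hP.1 hg, hPnE hg, g, hP.1 hg, fun x hx => ?_⟩
    show (((s * s) ⟨g * x * g⁻¹, hx⟩ : ↥E) : Ω) = g * (((s * s) x : ↥E) : Ω) * g⁻¹
    rw [hneg, hneg]
    simp [mul_assoc]
  have hγh := res_mem F hσF hSle
  set γ := toAut F hγh (fun x => hP.2 P le_rfl _ hγh x)
  have hγE : ∀ x : ↥P, x ^ p = 1 → γ x = x⁻¹ := by
    intro x hx
    have hxE : (x : Ω) ∈ E := hmemE x.2 (by simpa using congrArg Subtype.val hx)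
    refine Subtype.ext ?_
    rw [toAut_coe, res_apply, hσext x hxE (hSle x.2)]
    show (((s * s) ⟨x, hxE⟩ : ↥E) : Ω) = _
    rw [hneg]
    rfl
  obtain ⟨q, hq⟩ := Fusion.exists_pow_coprime (p := p) γ
  have hodd : Odd (p ^ q) := (hp.odd_of_ne_two h2).pow
  have hinv : ∀ x : ↥P, x ^ p = 1 → (γ ^ p ^ q) x = x⁻¹ := by
    intro x hx
    have key : ∀ n : ℕ, ∀ y : ↥P, y ^ p = 1 →
        (γ ^ n) y = if Even n then y else y⁻¹ := by
      intro n
      induction n with
      | zero => intro y _; simp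
      | succ n ih =>
        intro y hy
        rw [pow_succ']
        show γ ((γ ^ n) y) = _
        rw [ih y hy]
        by_cases hn : Even n
        · rw [if_pos hn, hγE y hy, if_neg (by simpa [Nat.even_add_one] using hn)]
        · rw [if_neg hn, map_inv, hγE y hy, inv_inv, if_pos (by simpa [Nat.even_add_one] using hn)]
    rw [key _ x hx, if_neg (Nat.not_even_iff_odd.2 hodd)]
  have hcommP := comm_of_inverting h2 (hS.to_le hP.1) (γ ^ p ^ q) hq hinv
  refine hne ?_
  have := congrArg Subtype.val (hcommP ⟨g₀, hg₀⟩ ⟨w, hEP hwE⟩)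
  rw [show g₀ * w = w * g₀ from this, mul_inv_cancel_right]

end Cfsg.Agent.H90
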