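import Cfsg.Agent.H90.GenExtraStructure
import Cfsg.Agent.S5226
import Cfsg.Agent.H90.OmegaSmall

/-!
A strongly closed generalized extraspecial subgroup is normal unless it splits off a group of order
`p ^ 3` of exponent `p` (`D₈` for `p = 2`).
-/

set_option autoImplicit false

namespace Cfsg.Agent.H90

open Cfsg Cfsg.FusionSystem
open scoped commutatorElement

universe u

variable {Ω : Type u} [Group Ω] {S : Subgroup Ω}

/-- Fixing one element by conjugation puts an element in the extender. -/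
theorem mem_extender_of_fix [Finite S] {X : Subgroup Ω} (hX : X ≤ S) (σ : ↥X →* Ω) {g : Ω}
    (hg : g ∈ S) (hfix : ∀ y ∈ X, g * y * g⁻¹ = y) : g ∈ extender S X σ := by
  haveI := finite_le hX
  refine Subgroup.subset_closure ⟨hg, normal_of_conj fun y hy => (hfix y hy).symm ▸ hy,
    1, S.one_mem, fun y hy => ?_⟩
  rw [one_mul, inv_one, mul_one]
  exact congrArg σ (Subtype.ext (hfix y y.2))

theorem isNormal_genExtraspecial {p : ℕ} [Fact p.Prime] [Finite S] (hS : IsPGroup p S)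
    {F : FusionSystem S} (hF : F.IsSaturated p) {P : Subgroup Ω} (hP : F.StronglyClosed P)
    (hΦ : frattini ↥P = commutator ↥P) (hcard : Nat.card ↥(commutator ↥P) = p)
    (hno : ∀ (M : Subgroup ↥P) (x w : ↥P), (∀ a ∈ M, ∀ b ∈ M, a * b = b * a) →
      (∀ a ∈ M, a ^ p = 1) → commutator ↥P ≤ M → w ∈ M → ⁅x, w⁆ ≠ 1 →
      (∀ g : ↥P, ∃ n : ℕ, (x ^ n)⁻¹ * g ∈ M) → p ≠ 2 ∧ x ^ p ≠ 1) :
    F.IsNormal P := by
  classical
  have hp := (Fact.out : p.Prime)
  haveI := finite_le hP.1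
  have hPp : IsPGroup p ↥P := hS.to_le hP.1
  set Z : Subgroup Ω := (commutator ↥P).map P.subtype with hZdef
  have hZeq : ⁅P, P⁆ = Z := by
    rw [hZdef, commutator_def, Subgroup.map_commutator, ← MonoidHom.range_eq_map,
      Subgroup.range_subtype]
  have hZP : Z ≤ P := Subgroup.map_subtype_le _
  have hZS := hZP.trans hP.1
  have hZcard : Nat.card Z = p :=
    (Subgroup.card_map_of_injective P.subtype_injective).trans hcard
  have hPn := normal_in_top_of_stronglyClosed F hP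
  have hZn : ∀ g ∈ S, ∀ x ∈ Z, g * x * g⁻¹ ∈ Z := by
    intro g hg x hx
    have h : Z.map (MulAut.conj g).toMonoidHom ≤ Z := by
      rw [← hZeq, Subgroup.map_commutator]
      exact Subgroup.commutator_mono (by rintro _ ⟨e, he, rfl⟩; exact hPn g hg e he)
        (by rintro _ ⟨e, he, rfl⟩; exact hPn g hg e he)
    exact h ⟨x, hx, rfl⟩
  have hzS : ∀ c ∈ Z, ∀ s ∈ S, s * c = c * s := by
    haveI hn : (Z.subgroupOf S).Normal := ⟨fun a ha g => hZn g g.2 a ha⟩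
    have hle := PGroups.le_center_of_card_eq hS (Z.subgroupOf S)
      ((Nat.card_congr (Subgroup.subgroupOfEquivOfLe hZS).toEquiv).trans hZcard)
    intro c hc s hs
    exact congrArg Subtype.val
      (Subgroup.mem_center_iff.1 (hle (show (⟨c, hZS hc⟩ : ↥S) ∈ Z.subgroupOf S from hc)) ⟨s, hs⟩)
  have hpow : ∀ g : ↥P, g ^ p ∈ commutator ↥P := fun g => hΦ ▸ PGroups.pow_mem_frattini hPp g
  have hpowZ : ∀ g ∈ P, g ^ p ∈ Z := fun g hg => ⟨⟨g, hg⟩ ^ p, hpow _, rfl⟩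
  have hbot : F.WeaklyClosed ⊥ := ⟨bot_le, fun φ hφ => by
    rw [eq_bot_iff]
    rintro _ ⟨x, rfl⟩
    rw [show x = 1 from Subtype.ext (Subgroup.mem_bot.1 x.2), map_one]
    exact Subgroup.one_mem _⟩
  by_cases hwc : F.WeaklyClosed Z
  · refine (S5226.result p hS F hF P).2 ⟨hP, 2, ![⊥, Z, P], rfl, rfl, ?_, ?_, ?_⟩
    · intro i j hij
      fin_cases i <;> fin_cases j
      all_goals first
        | exact le_rfl
        | exact bot_le
        | exact hZP
        | simp at hij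
    · intro i
      fin_cases i
      · show ⁅Z, P⁆ ≤ ⊥
        rw [le_bot_iff, Subgroup.commutator_eq_bot_iff_le_centralizer]
        exact fun c hc => Subgroup.mem_centralizer_iff.2 fun s hs => hzS c hc s (hP.1 hs)
      · exact hZeq.le
    · intro i
      fin_cases i
      · exact hbot
      · exact hwc
  exfalso
  -- a generator of `Z` and a conjugate of it outside `Z`
  obtain ⟨φ, hφ, hφr⟩ : ∃ φ ∈ F.Hom Z, φ.range ≠ Z := by
    by_contra h
    push_neg at h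
    exact hwc ⟨hZS, h⟩
  obtain ⟨x₀, hx₀⟩ : ∃ x : ↥Z, φ x ∉ Z := by
    by_contra h
    push_neg at h
    exact hφr (eq_of_le_card hZS (by rintro _ ⟨x, rfl⟩; exact h x) (card_range_eq F hφ).ge)
  set z : Ω := (x₀ : Ω) with hzdef
  set w := φ x₀ with hwdef
  have hwP : w ∈ P := hP.2 Z hZP φ hφ x₀
  have hzgen : ∀ c ∈ Z, ∃ n : ℕ, z ^ n = c := by
    have hz1 : x₀ ≠ 1 := fun h => hx₀ (by show φ x₀ ∈ Z; rw [h, map_one]; exact Z.one_mem)
    intro c hc
    haveI := finite_le hZS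
    have h := PGroups.zpowers_eq_of_card_eq (H := (⊤ : Subgroup ↥Z))
      (by rw [Nat.card_congr Subgroup.topEquiv.toEquiv, hZcard]) (Subgroup.mem_top x₀) hz1
    have hm : (⟨c, hc⟩ : ↥Z) ∈ Subgroup.zpowers x₀ := h ▸ Subgroup.mem_top _
    obtain ⟨n, hn⟩ := (Submonoid.mem_powers_iff _ _).1
      ((isOfFinOrder_of_finite x₀).mem_powers_iff_mem_zpowers.2 hm)
    exact ⟨n, congrArg Subtype.val hn⟩
  -- conjugates of `z` fixed by maps
  have hkey : ∀ {X : Subgroup Ω} (η : ↥X →* Ω), η ∈ F.Hom X → ∀ (hwX : w ∈ X),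
      η ⟨w, hwX⟩ = z → ∀ c ∈ Z, c ≠ 1 → ∀ hcX : c ∈ X, η ⟨c, hcX⟩ ∉ Z := by
    intro X η hη hwX hηw c hc hc1 hcX hin
    obtain ⟨n, hn⟩ := hzgen _ hin
    have h1 : η ⟨c, hcX⟩ = η (⟨w, hwX⟩ ^ n) := by rw [map_pow, hηw, hn]
    have h2 : c = w ^ n := congrArg Subtype.val (F.injective_of_mem hη h1)
    have hwo : orderOf w ∣ p := by
      refine orderOf_dvd_of_pow_eq_one ?_
      rw [hwdef, ← map_pow]
      haveI := finite_le hZS
      rw [show x₀ ^ p = 1 from hZcard ▸ pow_card_eq_one', map_one]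
    rcases Nat.coprime_or_dvd_of_prime hp n with hi | ⟨q, rfl⟩
    · obtain ⟨j, hj⟩ := exists_pow_eq_self_of_coprime (x := w) (n := n)
        (Nat.Coprime.coprime_dvd_right hwo hi.symm)
      refine hx₀ ?_
      show w ∈ Z
      rw [← hj, ← h2]
      exact Z.pow_mem hc j
    · refine hc1 ?_
      rw [h2, pow_mul, orderOf_dvd_iff_pow_eq_one.1 hwo, one_pow]
  -- the extension to the centralizer of `w`
  have hZfn : F.IsFullyNormalized Z := ⟨hZS, fun Q _ => by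
    have : normalizerIn S Z = S :=
      le_antisymm inf_le_left fun g hg => ⟨hg, by
        haveI := finite_le hZS
        exact normal_of_conj (hZn g hg)⟩
    rw [this]
    exact Subgroup.card_le_of_le inf_le_left⟩
  obtain ⟨σ, hσ, hσr, hσl, -⟩ := exists_iso_inv F hφ rfl
  obtain ⟨ψe, hψe, hext⟩ :=
    (FusionSys.receptive_of_isFullyNormalized hS hF hZfn).2 φ.range σ hσ hσr
  set MΩ : Subgroup Ω := P ⊓ Subgroup.centralizer ({w} : Set Ω) with hMΩ
  have hMP : MΩ ≤ P := inf_le_left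
  have hwM : w ∈ MΩ := ⟨hwP, Subgroup.mem_centralizer_singleton_iff.2 rfl⟩
  have hMle : MΩ ≤ extender S φ.range σ := by
    intro g hg
    refine mem_extender_of_fix (range_le F hφ) σ (hP.1 hg.1) ?_
    rintro _ ⟨x, rfl⟩
    obtain ⟨n, hn⟩ := hzgen _ x.2
    have hx : φ x = w ^ n := by
      rw [hwdef, ← map_pow]
      exact congrArg φ (Subtype.ext hn.symm)
    have hc : Commute g w := Subgroup.mem_centralizer_singleton_iff.1 hg.2
    rw [hx, (hc.pow_right n).eq, mul_inv_cancel_right]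
  set ψ := res ψe hMle with hψdef
  have hψ : ψ ∈ F.Hom MΩ := res_mem F hψe hMle
  have hψw : ψ ⟨w, hwM⟩ = z := by
    rw [res_apply, hext w ⟨x₀, rfl⟩ (hMle hwM)]
    exact hσl x₀ ⟨x₀, rfl⟩
  have hψP : ∀ m, ψ m ∈ P := fun m => hP.2 MΩ hMP ψ hψ m
  let ψP : ↥MΩ →* ↥P := ψ.codRestrict P hψP
  have hMc : ∀ a ∈ MΩ, ∀ b ∈ MΩ, a * b = b * a := by
    intro a ha b hb
    by_contra hne
    have hc : ⁅a, b⁆ ∈ Z := hZeq ▸ Subgroup.commutator_mem_commutator ha.1 hb.1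
    refine hkey ψ hψ hwM hψw _ hc (fun h => hne (commutatorElement_eq_one_iff_mul_comm.1 h))
      (MΩ.mul_mem (MΩ.mul_mem (MΩ.mul_mem ha hb) (MΩ.inv_mem ha)) (MΩ.inv_mem hb)) ?_
    show ψ ⁅(⟨a, ha⟩ : ↥MΩ), ⟨b, hb⟩⁆ ∈ Z
    rw [map_commutatorElement, ← hZeq]
    exact Subgroup.commutator_mem_commutator (hψP _) (hψP _)
  have hMe : ∀ a ∈ MΩ, a ^ p = 1 := by
    intro a ha
    by_contra hne
    refine hkey ψ hψ hwM hψw _ (hpowZ a ha.1) hne (MΩ.pow_mem ha p) ?_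
    show ψ (⟨a, ha⟩ ^ p) ∈ Z
    rw [map_pow]
    exact hpowZ _ (hψP _)
  have hZM : Z ≤ MΩ := fun c hc => ⟨hZP hc,
    Subgroup.mem_centralizer_singleton_iff.2 (hzS c hc w (hP.1 hwP)).symm⟩
  -- `w` is not central in `P`
  obtain ⟨xg, hxg⟩ : ∃ x : ↥P, ⁅x, (⟨w, hwP⟩ : ↥P)⁆ ≠ 1 := by
    by_contra h
    push_neg at h
    have hall : ∀ g ∈ P, g ∈ MΩ := fun g hg => ⟨hg,
      Subgroup.mem_centralizer_singleton_iff.2 (congrArg Subtype.val
        (commutatorElement_eq_one_iff_mul_comm.1 (h ⟨g, hg⟩)))⟩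
    have hne : commutator ↥P ≠ ⊥ := fun h0 => by
      rw [h0, Subgroup.card_bot] at hcard
      exact hp.one_lt.ne hcard
    refine hne ?_
    rw [commutator_def, eq_bot_iff]
    exact Subgroup.commutator_le.2 fun a _ b _ => Subgroup.mem_bot.2
      (commutatorElement_eq_one_iff_mul_comm.2
        (Subtype.ext (hMc a (hall a a.2) b (hall b b.2))))
  set M : Subgroup ↥P := MΩ.subgroupOf P
  set wP : ↥P := ⟨w, hwP⟩
  have hMc' : ∀ a ∈ M, ∀ b ∈ M, a * b = b * a := fun a ha b hb => Subtype.ext (hMc a ha b hb)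
  have hMe' : ∀ a ∈ M, a ^ p = 1 := fun a ha => Subtype.ext (by simpa using hMe a ha)
  have hZM' : commutator ↥P ≤ M := fun c hc => hZM ⟨c, hc, rfl⟩
  have hgen : ∀ x : ↥P, ⁅x, wP⁆ ≠ 1 → ∀ g : ↥P, ∃ n : ℕ, (x ^ n)⁻¹ * g ∈ M := by
    intro x hx g
    have hcc : commutator ↥P ≤ Subgroup.center ↥P := PGroups.le_center_of_card_eq hPp _ hcard
    let χ : ↥P →* ↥(Subgroup.center ↥P) := PGroups.commutatorHom hcc wP
    have hcZ : ⁅x, wP⁆ ∈ commutator ↥P := Subgroup.commutator_mem_commutator trivial trivial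
    have hgZ : ⁅g, wP⁆ ∈ Subgroup.zpowers ⁅x, wP⁆ := by
      rw [PGroups.zpowers_eq_of_card_eq hcard hcZ hx]
      exact Subgroup.commutator_mem_commutator trivial trivial
    obtain ⟨n, hn⟩ := (Submonoid.mem_powers_iff _ _).1
      ((isOfFinOrder_of_finite _).mem_powers_iff_mem_zpowers.2 hgZ)
    refine ⟨n, ⟨((x ^ n)⁻¹ * g).2, Subgroup.mem_centralizer_singleton_iff.2 ?_⟩⟩
    have h1 : χ ((x ^ n)⁻¹ * g) = 1 := by
      refine Subtype.ext ?_
      rw [map_mul, map_inv, map_pow, Subgroup.coe_mul, Subgroup.coe_inv, SubgroupClass.coe_pow,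
        PGroups.commutatorHom_apply, PGroups.commutatorHom_apply, hn, inv_mul_cancel]
      rfl
    have h2 : ⁅(x ^ n)⁻¹ * g, wP⁆ = 1 := congrArg Subtype.val h1
    exact congrArg Subtype.val (commutatorElement_eq_one_iff_mul_comm.1 h2)
  have hex := fun x hx => hno M x wP hMc' hMe' hZM' hwM hx (hgen x hx)
  obtain ⟨h2, -⟩ := hex xg hxg
  have hout : ∀ g ∈ P, g ∉ MΩ → g ^ p ≠ 1 := by
    intro g hg hgM hgp
    refine (hex ⟨g, hg⟩ ?_).2 (Subtype.ext (by simpa using hgp))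
    intro h
    exact hgM ⟨hg, Subgroup.mem_centralizer_singleton_iff.2
      (congrArg Subtype.val (commutatorElement_eq_one_iff_mul_comm.1 h))⟩
  -- `MΩ` consists of the elements of order `p`, so is strongly closed
  have hMsc : F.StronglyClosed MΩ := by
    refine ⟨hMP.trans hP.1, fun R hR η hη r => ?_⟩
    by_contra hc
    refine hout _ (hP.2 R (hR.trans hMP) η hη r) hc ?_
    have hr : r ^ p = 1 := Subtype.ext (by simpa using hMe _ (hR r.2))
    rw [← map_pow, hr, map_one]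
  have hMS : MΩ ≤ S := hMP.trans hP.1
  haveI := finite_le hMS
  haveI := finite_le hZS
  have hψM : ∀ m, ψ m ∈ MΩ := fun m => hMsc.2 MΩ le_rfl ψ hψ m
  set α := toAut F hψ hψM
  have hαF : α ∈ F.autGroup MΩ := toAut_mem F hψ _
  have hMn := normal_in_top_of_stronglyClosed F hMsc
  have hxM : ((xg : ↥P) : Ω) ∈ Subgroup.normalizer (MΩ : Set Ω) :=
    normal_of_conj (hMn _ (hP.1 xg.2))
  set t : MulAut ↥MΩ := normAut MΩ (xg : Ω) hxM
  have htF : t ∈ F.autGroup MΩ := normAut_mem_aut F hMS (hP.1 xg.2) _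
  let zM : ↥MΩ := ⟨z, hZM x₀.2⟩
  let wM : ↥MΩ := ⟨w, hwM⟩
  have hαw : α wM = zM := Subtype.ext hψw
  -- commutators with `xg`
  have hcomm : ∀ m : ↥MΩ, ((m⁻¹ * t m : ↥MΩ) : Ω) ∈ Z := by
    intro m
    show (m : Ω)⁻¹ * ((xg : Ω) * m * (xg : Ω)⁻¹) ∈ Z
    rw [show (m : Ω)⁻¹ * ((xg : Ω) * m * (xg : Ω)⁻¹) = ⁅(m : Ω)⁻¹, (xg : Ω)⁆ by
      rw [commutatorElement_def, inv_inv]; simp only [mul_assoc], ← hZeq]
    exact Subgroup.commutator_mem_commutator (P.inv_mem m.2.1) xg.2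
  have hzM : ∀ c : ↥MΩ, (c : Ω) ∈ Z → t c = c := fun c hc => Subtype.ext (by
    show (xg : Ω) * c * (xg : Ω)⁻¹ = c
    rw [hzS _ hc _ (hP.1 xg.2), mul_inv_cancel_right])
  have htz : t zM = zM := hzM zM x₀.2
  -- the transvections
  have hMcomm : ∀ a b : ↥MΩ, a * b = b * a := fun a b => Subtype.ext (hMc a a.2 b b.2)
  obtain ⟨a, ha⟩ := hzgen _ (hcomm wM)
  have hap : ¬ p ∣ a := by
    rintro ⟨q, rfl⟩
    rw [pow_mul, show z ^ p = 1 from hMe z (hZM x₀.2), one_pow] at ha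
    refine hxg (commutatorElement_eq_one_iff_mul_comm.2 (Subtype.ext ?_))
    have h' : (xg : Ω) * w * (xg : Ω)⁻¹ = w := inv_mul_eq_one.1 ha.symm |>.symm
    exact mul_inv_eq_iff_eq_mul.1 h'
  have htw : t wM = wM * zM ^ a := by
    refine Subtype.ext ?_
    show (t wM : Ω) = w * z ^ a
    rw [ha]
    simp [wM]
  have hMkey : ∀ (γ : MulAut ↥MΩ), γ ∈ F.autGroup MΩ → γ wM = zM → ∃ b : ℕ, ¬ p ∣ b ∧
      ((γ zM)⁻¹ * t (γ zM)) = zM ^ b := by
    intro γ hγ hγw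
    obtain ⟨b, hb⟩ := hzgen _ (hcomm (γ zM))
    refine ⟨b, ?_, Subtype.ext (by rw [← hb]; rfl)⟩
    rintro ⟨q, rfl⟩
    rw [pow_mul, show z ^ p = 1 from hMe z (hZM x₀.2), one_pow] at hb
    -- then `y = γ z` is central in `P`
    set y := γ zM with hy
    have hyx : Commute (xg : Ω) (y : Ω) := by
      have h' : (xg : Ω) * y * (xg : Ω)⁻¹ = (y : Ω) := (inv_mul_eq_one.1 hb.symm).symm
      exact mul_inv_eq_iff_eq_mul.1 h'
    have hyc : ∀ g ∈ P, g * (y : Ω) = y * g := by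
      intro g hg
      obtain ⟨n, hn⟩ := hgen xg hxg ⟨g, hg⟩
      have h1 : Commute (((xg ^ n)⁻¹ * ⟨g, hg⟩ : ↥P) : Ω) (y : Ω) := hMc _ hn _ y.2
      have h3 : g = (xg : Ω) ^ n * (((xg ^ n)⁻¹ * ⟨g, hg⟩ : ↥P) : Ω) := by simp
      rw [h3]
      exact ((hyx.pow_left n).mul_left h1).eq
    have hγh := hom_of_aut_mem F hMS hγ
    by_cases hyZ : (y : Ω) ∈ Z
    · refine hkey _ hγh hwM (by
        show ((γ wM : ↥MΩ) : Ω) = z
        rw [hγw]) z x₀.2 (fun h => hx₀ ?_) (hZM x₀.2) hyZ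
      have : x₀ = 1 := Subtype.ext h
      show φ x₀ ∈ Z
      rw [this, map_one]
      exact Z.one_mem
    -- extend the inverse map from `⟨y⟩` to `P`
    set φy : ↥Z →* Ω := res (MΩ.subtype.comp γ.toMonoidHom) hZM
    have hφy : φy ∈ F.Hom Z := res_mem F hγh hZM
    obtain ⟨σy, hσy, hσyr, hσyl, -⟩ := exists_iso_inv F hφy rfl
    obtain ⟨τ, hτ, hτext⟩ :=
      (FusionSys.receptive_of_isFullyNormalized hS hF hZfn).2 φy.range σy hσy hσyr
    have hPle : P ≤ extender S φy.range σy := by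
      intro g hg
      refine mem_extender_of_fix (range_le F hφy) σy (hP.1 hg) ?_
      rintro _ ⟨x, rfl⟩
      obtain ⟨n, hn⟩ := hzgen _ x.2
      have hx : φy x = (y : Ω) ^ n := by
        rw [show x = x₀ ^ n from Subtype.ext hn.symm, map_pow]
        rfl
      rw [hx, ((show Commute g (y : Ω) from hyc g hg).pow_right n).eq, mul_inv_cancel_right]
    have hτ' := res_mem F hτ hPle
    have hτP : ∀ m, res τ hPle m ∈ P := hP.2 P le_rfl _ hτ'
    have hτy : res τ hPle ⟨y, y.2.1⟩ = z := by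
      rw [res_apply, hτext (y : Ω) ⟨x₀, rfl⟩ (hPle y.2.1)]
      exact hσyl x₀ ⟨x₀, rfl⟩
    let τa := toAut F hτ' hτP
    have hchar : (commutator ↥P).map τa.toMonoidHom = commutator ↥P :=
      Subgroup.characteristic_iff_map_eq.1 inferInstance τa
    obtain ⟨v, hv, hvy⟩ : τa ⟨y, y.2.1⟩ ∈ (commutator ↥P).map τa.toMonoidHom := by
      rw [hchar]
      obtain ⟨v, hv, hv'⟩ : z ∈ Z := x₀.2
      exact (show τa ⟨y, y.2.1⟩ = v from Subtype.ext (hτy.trans hv'.symm)) ▸ hv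
    have : v = ⟨y, y.2.1⟩ := τa.injective hvy
    exact hyZ ⟨v, hv, by rw [this]; rfl⟩
  -- an element inverting `w` and `z`
  have hpow0 : ∀ c : ↥MΩ, c ^ p = 1 := fun c => Subtype.ext (by simpa using hMe c c.2)
  have hrepl : ∀ (c : ↥MΩ) (i : ℕ), ¬ p ∣ i → ∀ v : ℕ, ∃ k : ℕ, c ^ (i * k) = c ^ v := by
    intro c i hi v
    obtain ⟨j, hj⟩ := exists_pow_eq_self_of_coprime (x := c) (n := i)
      ((hp.coprime_iff_not_dvd.2 hi).symm.coprime_dvd_right (orderOf_dvd_of_pow_eq_one (hpow0 c)))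
    exact ⟨j * v, by rw [← mul_assoc, pow_mul, pow_mul, hj]⟩
  have htk : ∀ (k : ℕ) (m : ↥MΩ) (i : ℕ), t m = m * zM ^ i → (t ^ k) m = m * zM ^ (i * k) := by
    intro k m i hm
    induction k with
    | zero => simp
    | succ k ih =>
      rw [pow_succ']
      show t ((t ^ k) m) = _
      rw [ih, map_mul, hm, map_pow, htz, mul_assoc, ← pow_add]
      congr 2
      ring
  obtain ⟨b, hbp, hb⟩ := hMkey α hαF hαw
  obtain ⟨k₁, hk₁⟩ := hrepl zM a hap 1
  obtain ⟨k₂, hk₂⟩ := hrepl zM b hbp (p - 1)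
  rw [pow_one] at hk₁
  have hzinv : zM ^ (p - 1) = zM⁻¹ := by
    refine eq_inv_of_mul_eq_one_left ?_
    rw [← pow_succ, Nat.sub_add_cancel hp.one_le, hpow0]
  rw [hzinv] at hk₂
  have hT : (t ^ k₁) zM = zM ∧ (t ^ k₁) wM = wM * zM := by
    refine ⟨?_, by rw [htk k₁ wM a htw, hk₁]⟩
    rw [htk k₁ zM 0 (by rw [htz, pow_zero, mul_one]), Nat.zero_mul, pow_zero, mul_one]
  set u : MulAut ↥MΩ := α⁻¹ * t ^ k₂ * α
  have hinvα : α⁻¹ zM = wM := by rw [← hαw]; exact α.symm_apply_apply wM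
  have huw : u wM = wM := by
    show α⁻¹ ((t ^ k₂) (α wM)) = wM
    rw [hαw, htk k₂ zM 0 (by rw [htz, pow_zero, mul_one]), Nat.zero_mul, pow_zero, mul_one, hinvα]
  have huz : u zM = zM * wM⁻¹ := by
    show α⁻¹ ((t ^ k₂) (α zM)) = zM * wM⁻¹
    rw [htk k₂ (α zM) b (by rw [← hb, mul_inv_cancel_left]), hk₂, map_mul, map_inv, hinvα,
      show α⁻¹ (α zM) = zM from α.symm_apply_apply zM]
  set s := t ^ k₁ * u * t ^ k₁
  have hsz : s zM = wM⁻¹ := by
    show (t ^ k₁) (u ((t ^ k₁) zM)) = wM⁻¹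
    rw [hT.1, huz, map_mul, map_inv, hT.1, hT.2, mul_inv_rev, ← mul_assoc, mul_inv_cancel, one_mul]
  have hsw : s wM = zM := by
    show (t ^ k₁) (u ((t ^ k₁) wM)) = zM
    rw [hT.2, map_mul, huw, huz, hMcomm zM, ← mul_assoc, mul_inv_cancel, one_mul, hT.1]
  have hσz : (s * s) zM = zM⁻¹ := by
    show s (s zM) = _
    rw [hsz, map_inv, hsw]
  have hσw : (s * s) wM = wM⁻¹ := by
    show s (s wM) = _
    rw [hsw, hsz]
  have hsF : s * s ∈ F.autGroup MΩ := by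
    have hu : u ∈ F.autGroup MΩ := mul_mem (mul_mem (inv_mem hαF) (pow_mem htF k₂)) hαF
    have := mul_mem (mul_mem (pow_mem htF k₁) hu) (pow_mem htF k₁)
    exact mul_mem this this
  -- it commutes with conjugation by `xg`
  have hst : ∀ m : ↥MΩ, (s * s) (t m) = t ((s * s) m) := by
    intro m
    have hdec : ∀ (m : ↥MΩ), ∃ i : ℕ, ∃ h : ↥MΩ, m = wM ^ i * h ∧ t h = h := by
      intro m
      obtain ⟨i, hi⟩ := hzgen _ (hcomm m)
      obtain ⟨j, hj⟩ := hrepl zM a hap i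
      refine ⟨j, (wM ^ j)⁻¹ * m, (mul_inv_cancel_left _ _).symm, ?_⟩
      rw [map_mul, map_inv, map_pow, htw,
        (show Commute wM (zM ^ a) from hMcomm _ _).mul_pow, ← pow_mul, hj,
        show t m = m * zM ^ i from by
          rw [show zM ^ i = m⁻¹ * t m from Subtype.ext (by rw [← hi]; rfl), mul_inv_cancel_left],
        mul_inv_rev, hMcomm (zM ^ i)⁻¹, hMcomm m, mul_assoc, inv_mul_cancel_left]
    have hfixt : ∀ h : ↥MΩ, t h = h → t ((s * s) h) = (s * s) h := by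
      intro h hh
      have hth : ∀ k : ℕ, (t ^ k) h = h := fun k => by
        rw [htk k h 0 (by rw [hh, pow_zero, mul_one]), Nat.zero_mul, pow_zero, mul_one]
      obtain ⟨i, hi⟩ := hzgen _ (hcomm (α h))
      have hαh : (t ^ k₂) (α h) = α h * zM ^ (i * k₂) := htk k₂ (α h) i (by
        rw [show zM ^ i = (α h)⁻¹ * t (α h) from Subtype.ext (by rw [← hi]; rfl),
          mul_inv_cancel_left])
      have hu : u h = h * wM ^ (i * k₂) := by
        show α⁻¹ ((t ^ k₂) (α h)) = _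
        rw [hαh, map_mul, map_pow, hinvα, show α⁻¹ (α h) = h from α.symm_apply_apply h]
      have hs : s h = h * (wM ^ (i * k₂) * zM ^ (i * k₂)) := by
        show (t ^ k₁) (u ((t ^ k₁) h)) = _
        rw [hth, hu, map_mul, map_pow, hth, hT.2, (show Commute wM zM from hMcomm _ _).mul_pow]
      have hss : (s * s) h = h * (zM ^ (i * k₂)) ^ 2 := by
        show s (s h) = _
        rw [hs, map_mul, map_mul, map_pow, map_pow, hsw, hsz, hs, inv_pow, pow_two,
          mul_assoc h, mul_assoc (wM ^ _), hMcomm (wM ^ (i * k₂)) _, mul_assoc (zM ^ (i * k₂)),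
          mul_assoc (zM ^ (i * k₂)), inv_mul_cancel, mul_one]
      rw [hss, map_mul, hh, map_pow, map_pow, htz]
    obtain ⟨i, h, rfl, hh⟩ := hdec m
    rw [map_mul t, map_pow t, hh, map_mul (s * s), map_pow, map_mul (s * s), map_pow, map_mul t,
      map_pow t, hfixt h hh, htw, map_mul (s * s), map_pow, hσw, hσz, map_inv, htw, mul_inv_rev,
      inv_pow, hMcomm (zM ^ a)⁻¹]
  -- extend it to `xg` and compare `p`-th powers
  have hσh := hom_of_aut_mem F hMS hsF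
  have hσr : (MΩ.subtype.comp (s * s).toMonoidHom).range = MΩ := le_antisymm
    (by rintro _ ⟨x, rfl⟩; exact ((s * s) x).2)
    fun x hx => ⟨(s * s).symm ⟨x, hx⟩, congrArg Subtype.val ((s * s).apply_symm_apply _)⟩
  have hMfn : F.IsFullyNormalized MΩ := ⟨hMS, fun Q _ => by
    have : normalizerIn S MΩ = S :=
      le_antisymm inf_le_left fun g hg => ⟨hg, normal_of_conj (hMn g hg)⟩
    rw [this]
    exact Subgroup.card_le_of_le inf_le_left⟩
  let N := extender S MΩ (MΩ.subtype.comp (s * s).toMonoidHom)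
  obtain ⟨ρ, hρ, hρext⟩ :=
    (FusionSys.receptive_of_isFullyNormalized hS hF hMfn).2 MΩ _ hσh hσr
  have hxN : (xg : Ω) ∈ N := by
    refine Subgroup.subset_closure ⟨hP.1 xg.2, hxM, xg, hP.1 xg.2, fun m hm => ?_⟩
    exact congrArg Subtype.val (hst m)
  have hMN : MΩ ≤ N := fun g hg => by
    refine mem_extender_of_fix hMS _ (hMS hg) fun y hy => ?_
    rw [hMc g hg y hy, mul_inv_cancel_right]
  have hXP : MΩ ⊔ Subgroup.zpowers (xg : Ω) ≤ P := sup_le hMP (Subgroup.zpowers_le.2 xg.2)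
  have hXN : MΩ ⊔ Subgroup.zpowers (xg : Ω) ≤ N := sup_le hMN (Subgroup.zpowers_le.2 hxN)
  have hρ' := res_mem F hρ hXN
  have hρP : ∀ m, res ρ hXN m ∈ P := hP.2 _ hXP _ hρ'
  let xX : ↥(MΩ ⊔ Subgroup.zpowers (xg : Ω)) :=
    ⟨xg, Subgroup.mem_sup_right (Subgroup.mem_zpowers _)⟩
  have hρM : ∀ m (hm : m ∈ MΩ),
      res ρ hXN ⟨m, Subgroup.mem_sup_left hm⟩ = (((s * s) ⟨m, hm⟩ : ↥MΩ) : Ω) := fun m hm => by
    rw [res_apply]
    exact hρext m hm _
  set xi := res ρ hXN xX with hxi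
  have hxiP : xi ∈ P := hρP _
  set d := (xg : Ω)⁻¹ * xi with hd
  have hdM : d ∈ MΩ := by
    refine ⟨P.mul_mem (P.inv_mem xg.2) hxiP, Subgroup.mem_centralizer_singleton_iff.2 ?_⟩
    -- `xi` acts on `MΩ` as `xg` does
    have h1 : ∀ m : ↥MΩ, xi * (((s * s) m : ↥MΩ) : Ω) * xi⁻¹ = ((t ((s * s) m) : ↥MΩ) : Ω) := by
      intro m
      rw [← hst m, ← hρM _ (t m).2, hxi, ← hρM m m.2, ← map_inv, ← map_mul, ← map_mul]
      rfl
    have h3 := h1 ((s * s).symm wM)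
    rw [show (s * s) ((s * s).symm wM) = wM from (s * s).apply_symm_apply wM] at h3
    have h4 : xi * w * xi⁻¹ = (xg : Ω) * w * (xg : Ω)⁻¹ := h3
    show d * w = w * d
    rw [hd, mul_assoc, show xi * w = xi * w * xi⁻¹ * xi by group, h4]
    group
  -- `xi ^ p = xg ^ p` against the inversion of `Z`
  have hxp : xi ^ p = (xg : Ω) ^ p := by
    have key : ∀ n : ℕ, ∃ e : Ω, e ∈ Z ∧ ∃ e' : ℕ, e = ⁅d, (xg : Ω)⁆ ^ e' ∧ e' = n.choose 2 ∧
        ((xg : Ω) * d) ^ n = (xg : Ω) ^ n * d ^ n * e := by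
      have hδ : ⁅d, (xg : Ω)⁆ ∈ Z := hZeq ▸ Subgroup.commutator_mem_commutator hdM.1 xg.2
      intro n
      refine ⟨⁅d, (xg : Ω)⁆ ^ n.choose 2, Z.pow_mem hδ _, _, rfl, rfl, ?_⟩
      have hc : ∀ (k : ℕ) (g : Ω), g ∈ P →
          g * ⁅d, (xg : Ω)⁆ ^ k = ⁅d, (xg : Ω)⁆ ^ k * g := fun k g hg =>
        hzS _ (Z.pow_mem hδ k) g (hP.1 hg)
      induction n with
      | zero => simp
      | succ n ih =>
        have h3 : d ^ n * (xg : Ω) = (xg : Ω) * d ^ n * ⁅d, (xg : Ω)⁆ ^ n := by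
          clear ih
          induction n with
          | zero => simp
          | succ n ih' =>
            calc d ^ (n + 1) * (xg : Ω) = d * (d ^ n * xg) := by rw [pow_succ', mul_assoc]
              _ = d * xg * (d ^ n * ⁅d, (xg : Ω)⁆ ^ n) := by rw [ih']; simp only [mul_assoc]
              _ = ⁅d, (xg : Ω)⁆ * ((xg : Ω) * d) * (d ^ n * ⁅d, (xg : Ω)⁆ ^ n) := by
                  rw [commutatorElement_def]; group
              _ = (xg : Ω) * d * (⁅d, (xg : Ω)⁆ ^ 1 * d ^ n) * ⁅d, (xg : Ω)⁆ ^ n := by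
                  rw [pow_one, ← mul_assoc (_ * d), hzS _ hδ _ (hP.1 (P.mul_mem xg.2 hdM.1))]
                  simp only [mul_assoc]
              _ = _ := by
                  rw [← hc 1 _ (P.pow_mem hdM.1 n), pow_one, pow_succ' ⁅d, (xg : Ω)⁆ n,
                    pow_succ' d n]
                  simp only [mul_assoc]
        rw [pow_succ, ih, pow_succ (xg : Ω) n, pow_succ d n,
          show (n + 1).choose 2 = n + n.choose 2 by
            rw [Nat.choose_succ_succ', Nat.choose_one_right], pow_add]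
        calc (xg : Ω) ^ n * d ^ n * ⁅d, (xg : Ω)⁆ ^ n.choose 2 * ((xg : Ω) * d)
            = (xg : Ω) ^ n * (d ^ n * xg) * d * ⁅d, (xg : Ω)⁆ ^ n.choose 2 := by
              rw [mul_assoc _ (⁅d, (xg : Ω)⁆ ^ _),
                ← hc _ _ (P.mul_mem xg.2 hdM.1)]
              simp only [mul_assoc]
          _ = (xg : Ω) ^ n * xg * d ^ n * (⁅d, (xg : Ω)⁆ ^ n * d) *
              ⁅d, (xg : Ω)⁆ ^ n.choose 2 := by rw [h3]; simp only [mul_assoc]
          _ = _ := by rw [← hc n _ hdM.1]; simp only [mul_assoc]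
    obtain ⟨_, -, _, rfl, rfl, he⟩ := key p
    obtain ⟨q, hq⟩ : p ∣ p.choose 2 :=
      hp.dvd_choose_self two_ne_zero (lt_of_le_of_ne hp.two_le (Ne.symm h2))
    have hδ : ⁅d, (xg : Ω)⁆ ∈ Z := hZeq ▸ Subgroup.commutator_mem_commutator hdM.1 xg.2
    rw [show xi = (xg : Ω) * d by rw [hd, mul_inv_cancel_left], he, hMe d hdM, mul_one, hq, pow_mul,
      hMe _ (hZM hδ), one_pow, mul_one]
  have hxne : (xg : Ω) ^ p ≠ 1 := fun h => (hex xg hxg).2 (Subtype.ext (by simpa using h))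
  obtain ⟨c, hc⟩ := hzgen _ (hpowZ _ xg.2)
  have h5 : xi ^ p = ((zM ^ c : ↥MΩ)⁻¹ : ↥MΩ) := by
    rw [hxi, ← map_pow, ← inv_pow, ← hσz, ← map_pow, ← hρM _ (zM ^ c).2]
    congr 1
    exact Subtype.ext hc.symm
  rw [hxp, Subgroup.coe_inv, SubgroupClass.coe_pow, hc, eq_inv_iff_mul_eq_one, ← pow_two] at h5
  have hd2 := orderOf_dvd_of_pow_eq_one h5
  rw [orderOf_eq_prime (hMe _ (hZM (hpowZ _ xg.2))) hxne] at hd2
  exact h2 ((Nat.prime_dvd_prime_iff_eq hp Nat.prime_two).1 hd2)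

end Cfsg.Agent.H90
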