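import Mathlib

/-!
The group generated by a finite group `S` and one further element for each of a family of partial
isomorphisms of `S`, inducing them by conjugation. A cocycle into the free group on the edges of the
quotient graph gives the normal form, a free normal subgroup of finite index and the conjugacy of the
finite subgroups into `S`.
-/

set_option autoImplicit false
set_option linter.unusedSectionVars false
set_option linter.style.haveILetI false

namespace Cfsg.Agent.H90.LS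

universe u

variable {S : Type u} [Group S] [Finite S] {I : Type u}

/-- A family of partial isomorphisms. -/
structure Data (S : Type u) [Group S] (I : Type u) where
  dom : I → Subgroup S
  map : ∀ i, ↥(dom i) →* S
  inj : ∀ i, Function.Injective (map i)

variable (D : Data S I)

namespace Data

/-- The relations. -/
def rels : Set (FreeGroup (S ⊕ I)) :=
  {r | ∃ a b : S, r = .of (.inl a) * .of (.inl b) * (.of (.inl (a * b)))⁻¹} ∪
    {r | ∃ (i : I) (u : D.dom i),
      r = .of (.inr i) * .of (.inl u.1) * (.of (.inr i))⁻¹ * (.of (.inl (D.map i u)))⁻¹}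

/-- The group. -/
abbrev Grp : Type u := PresentedGroup D.rels

/-- The given group inside. -/
def incl : S →* D.Grp :=
  MonoidHom.mk' (fun a => PresentedGroup.of (.inl a)) fun a b => by
    have h : PresentedGroup.mk D.rels
        (.of (.inl a) * .of (.inl b) * (.of (.inl (a * b)))⁻¹) = 1 :=
      PresentedGroup.one_of_mem (.inl ⟨a, b, rfl⟩)
    rw [map_mul, map_mul, map_inv, mul_inv_eq_one] at h
    exact h.symm

/-- The further generators. -/
def t (i : I) : D.Grp := PresentedGroup.of (.inr i)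

theorem t_conj (i : I) (u : D.dom i) : D.t i * D.incl u * (D.t i)⁻¹ = D.incl (D.map i u) := by
  have h : PresentedGroup.mk D.rels
      (.of (.inr i) * .of (.inl u.1) * (.of (.inr i))⁻¹ * (.of (.inl (D.map i u)))⁻¹) = 1 :=
    PresentedGroup.one_of_mem (.inr ⟨i, u, rfl⟩)
  rw [map_mul, map_mul, map_mul, map_inv, map_inv, mul_inv_eq_one] at h
  exact h

/-! ### The finite image -/

/-- Multiplication on the right by inverses. -/
def rmul (S : Type u) [Group S] : S →* Equiv.Perm S :=
  MonoidHom.mk' (fun a => Equiv.mulRight a⁻¹) fun a b => by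
    ext x
    simp [mul_assoc]

theorem rmul_injective : Function.Injective (rmul S) := fun a b h => by
  have h1 : (1 : S) * a⁻¹ = 1 * b⁻¹ := Equiv.congr_fun h 1
  simpa using h1

theorem exists_perm (i : I) :
    ∃ σ : Equiv.Perm S, ∀ (x : S) (u : D.dom i), σ (x * u) = σ x * D.map i u := by
  have hcard : Nat.card (D.dom i) = Nat.card (D.map i).range :=
    Nat.card_congr (MonoidHom.ofInjective (D.inj i)).toEquiv
  have hidx : Nat.card (S ⧸ D.dom i) = Nat.card (S ⧸ (D.map i).range) := by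
    have h1 := Subgroup.card_mul_index (D.dom i)
    have h2 := Subgroup.card_mul_index (D.map i).range
    rw [Subgroup.index_eq_card] at h1 h2
    rw [← hcard, ← h1] at h2
    exact (Nat.eq_of_mul_eq_mul_left Nat.card_pos h2).symm
  let e : S ⧸ D.dom i ≃ S ⧸ (D.map i).range :=
    Classical.choice (Finite.card_eq.1 hidx)
  let r : S → D.dom i := fun x =>
    ⟨(Quotient.out (x : S ⧸ D.dom i))⁻¹ * x,
      QuotientGroup.eq.1 (QuotientGroup.out_eq' (x : S ⧸ D.dom i))⟩
  let f : S → S := fun x => Quotient.out (e (x : S ⧸ D.dom i)) * D.map i (r x)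
  have hfc : ∀ x : S, (f x : S ⧸ (D.map i).range) = e (x : S ⧸ D.dom i) := fun x => by
    conv_rhs => rw [← QuotientGroup.out_eq' (e (x : S ⧸ D.dom i))]
    exact (QuotientGroup.eq.2 (by
      show (Quotient.out (e (x : S ⧸ D.dom i)))⁻¹ * f x ∈ _
      simp [f])).symm
  have hinj : Function.Injective f := by
    intro x y h
    have hq : (x : S ⧸ D.dom i) = (y : S ⧸ D.dom i) := e.injective (by rw [← hfc, ← hfc, h])
    have h' : D.map i (r x) = D.map i (r y) := by
      simp only [f, hq] at h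
      exact mul_left_cancel h
    have h'' : (Quotient.out (x : S ⧸ D.dom i))⁻¹ * x = (Quotient.out (y : S ⧸ D.dom i))⁻¹ * y :=
      congrArg Subtype.val (D.inj i h')
    rw [hq] at h''
    exact mul_left_cancel h''
  refine ⟨Equiv.ofBijective f ⟨hinj, Finite.injective_iff_surjective.1 hinj⟩, fun x u => ?_⟩
  have hq : ((x * u : S) : S ⧸ D.dom i) = (x : S ⧸ D.dom i) :=
    QuotientGroup.eq.2 (by simp)
  have hr : r (x * u) = r x * u := Subtype.ext (by
    show _ * (x * (u : S)) = _ * x * (u : S)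
    rw [hq, mul_assoc])
  show f (x * u) = f x * D.map i u
  simp only [f, hq, hr, map_mul, mul_assoc]

/-- The permutation of `S` belonging to a generator. -/
noncomputable def sigma (i : I) : Equiv.Perm S := (D.exists_perm i).choose

theorem sigma_comm (i : I) (u : D.dom i) :
    D.sigma i * rmul S u = rmul S (D.map i u) * D.sigma i := by
  ext x
  have h := (D.exists_perm i).choose_spec x u⁻¹
  show D.sigma i (x * (u : S)⁻¹) = D.sigma i x * (D.map i u)⁻¹
  rw [← map_inv]
  exact h

theorem rels_perm : ∀ r ∈ D.rels,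
    FreeGroup.lift (Sum.elim (fun a => rmul S a) D.sigma) r = 1 := by
  rintro r (⟨a, b, rfl⟩ | ⟨i, u, rfl⟩)
  · simp
  · simp only [map_mul, map_inv, FreeGroup.lift_apply_of, Sum.elim_inl, Sum.elim_inr, D.sigma_comm,
      mul_inv_cancel_right, mul_inv_cancel]

/-- The action on `S`. -/
noncomputable def toPerm : D.Grp →* Equiv.Perm S := PresentedGroup.toGroup D.rels_perm

/-- The finite image. -/
abbrev Pi : Type u := ↥D.toPerm.range

/-- The map onto the finite image. -/
noncomputable def proj : D.Grp →* D.Pi := D.toPerm.rangeRestrict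

theorem toPerm_incl (a : S) : D.toPerm (D.incl a) = rmul S a :=
  PresentedGroup.toGroup.of D.rels_perm

theorem proj_incl_injective : Function.Injective (fun a => D.proj (D.incl a)) := fun a b h => by
  have h' : D.toPerm (D.incl a) = D.toPerm (D.incl b) := congrArg Subtype.val h
  rw [D.toPerm_incl, D.toPerm_incl] at h'
  exact rmul_injective h'

theorem incl_injective : Function.Injective D.incl :=
  fun _ _ h => D.proj_incl_injective (congrArg D.proj h)

theorem ker_inf (a : S) (h : D.proj (D.incl a) = 1) : a = 1 :=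
  D.proj_incl_injective (by simpa using h)

/-! ### The cocycle -/

/-- The subgroup whose cosets are the edges of a given generator. -/
noncomputable def edgeGrp (i : I) : Subgroup D.Pi :=
  (D.map i).range.map (D.proj.comp D.incl)

/-- The edges of the quotient graph. -/
abbrev Edge : Type u := Σ i : I, D.Pi ⧸ D.edgeGrp i

noncomputable instance : DecidableEq D.Edge := Classical.decEq _

/-- The edge starting at a given point. -/
noncomputable def e (x : D.Pi) (i : I) : D.Edge := ⟨i, (x : D.Pi ⧸ D.edgeGrp i)⟩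

theorem e_eq {x y : D.Pi} {i : I} : D.e x i = D.e y i ↔ x⁻¹ * y ∈ D.edgeGrp i := by
  simp [e, QuotientGroup.eq]

/-- The permutation belonging to a generator. -/
noncomputable def actT (i : I) : Equiv.Perm (D.Pi × FreeGroup D.Edge) where
  toFun z := (z.1 * (D.proj (D.t i))⁻¹,
    z.2 * (FreeGroup.of (D.e (z.1 * (D.proj (D.t i))⁻¹) i))⁻¹)
  invFun z := (z.1 * D.proj (D.t i), z.2 * FreeGroup.of (D.e z.1 i))
  left_inv z := by simp
  right_inv z := by simp

/-- The permutation belonging to an element of `S`. -/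
noncomputable def actS (a : S) : Equiv.Perm (D.Pi × FreeGroup D.Edge) where
  toFun z := (z.1 * (D.proj (D.incl a))⁻¹, z.2)
  invFun z := (z.1 * D.proj (D.incl a), z.2)
  left_inv z := by simp
  right_inv z := by simp

theorem rels_act : ∀ r ∈ D.rels, FreeGroup.lift (Sum.elim D.actS D.actT) r = 1 := by
  rintro r (⟨a, b, rfl⟩ | ⟨i, u, rfl⟩)
  · simp only [map_mul, map_inv, FreeGroup.lift_apply_of, Sum.elim_inl, mul_inv_eq_one]
    refine Equiv.ext fun z => ?_
    show (_, _) = (_, _)
    simp [actS, mul_assoc]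
  · simp only [map_mul, map_inv, FreeGroup.lift_apply_of, Sum.elim_inl, Sum.elim_inr, mul_inv_eq_iff_eq_mul]
    have hp : (D.proj (D.incl u.1))⁻¹ * (D.proj (D.t i))⁻¹ =
        (D.proj (D.t i))⁻¹ * (D.proj (D.incl (D.map i u)))⁻¹ := by
      rw [← D.t_conj, map_mul, map_mul, map_inv]
      group
    refine Equiv.ext fun z => Prod.ext ?_ ?_
    · show z.1 * (D.proj (D.incl u.1))⁻¹ * (D.proj (D.t i))⁻¹ =
        z.1 * (D.proj (D.t i))⁻¹ * (D.proj (D.incl (D.map i u)))⁻¹
      rw [mul_assoc, hp, mul_assoc]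
    · show z.2 * (FreeGroup.of (D.e (z.1 * (D.proj (D.incl u.1))⁻¹ * (D.proj (D.t i))⁻¹) i))⁻¹ =
        z.2 * (FreeGroup.of (D.e (z.1 * (D.proj (D.t i))⁻¹) i))⁻¹
      congr 3
      rw [D.e_eq, mul_assoc z.1, hp]
      refine ⟨D.map i u, ⟨u, rfl⟩, ?_⟩
      show D.proj (D.incl (D.map i u)) = _
      group

/-- The action on pairs. -/
noncomputable def act : D.Grp →* Equiv.Perm (D.Pi × FreeGroup D.Edge) :=
  PresentedGroup.toGroup D.rels_act

/-- The cocycle. -/
noncomputable def H (x : D.Pi) (g : D.Grp) : FreeGroup D.Edge := (D.act g⁻¹ (x, 1)).2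

theorem act_incl (a : S) : D.act (D.incl a) = D.actS a :=
  PresentedGroup.toGroup.of D.rels_act

theorem act_t (i : I) : D.act (D.t i) = D.actT i :=
  PresentedGroup.toGroup.of D.rels_act

theorem act_apply (g : D.Grp) : ∀ x w,
    D.act g (x, w) = (x * (D.proj g)⁻¹, w * (D.act g (x, 1)).2) := by
  let K : Subgroup D.Grp :=
    { carrier := {g | ∀ x w, D.act g (x, w) = (x * (D.proj g)⁻¹, w * (D.act g (x, 1)).2)}
      one_mem' := fun x w => by simp
      mul_mem' := fun {a b} ha hb x w => by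
        have ha' : ∀ w, D.act (a * b) (x, w) = (x * (D.proj (a * b))⁻¹,
            w * ((D.act b (x, 1)).2 * (D.act a (x * (D.proj b)⁻¹, 1)).2)) := fun w => by
          rw [map_mul, Equiv.Perm.mul_apply, hb x w, ha, map_mul, mul_inv_rev, mul_assoc x, mul_assoc w]
        rw [ha' w, ha' 1, one_mul]
      inv_mem' := fun {a} ha x w => by
        have h' : ∀ w, D.act a⁻¹ (x, w) = (x * D.proj a,
            w * ((D.act a (x * D.proj a, 1)).2)⁻¹) := fun w => by
          rw [map_inv, Equiv.Perm.inv_def, Equiv.symm_apply_eq, ha]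
          simp
        rw [h' w, h' 1, one_mul, map_inv, inv_inv] }
  refine fun x w => (PresentedGroup.generated_by D.rels K ?_ g : g ∈ K) x w
  rintro (a | i) x w
  · simp [act, actS]
    rfl
  · simp [act, actT]
    rfl

theorem H_mul (x : D.Pi) (g h : D.Grp) : D.H x (g * h) = D.H x g * D.H (x * D.proj g) h := by
  unfold H
  have e : D.act g⁻¹ (x, 1) = (x * D.proj g, (D.act g⁻¹ (x, 1)).2) := by
    conv_lhs => rw [D.act_apply g⁻¹ x 1, one_mul]
    rw [map_inv D.proj, inv_inv]
  rw [mul_inv_rev, map_mul, Equiv.Perm.mul_apply]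
  conv_lhs => rw [e, D.act_apply h⁻¹]

@[simp] theorem H_one (x : D.Pi) : D.H x 1 = 1 := by simp [H]

@[simp] theorem H_incl (x : D.Pi) (a : S) : D.H x (D.incl a) = 1 := by
  unfold H
  rw [← map_inv, D.act_incl]
  rfl

theorem H_t (x : D.Pi) (i : I) : D.H x (D.t i) = FreeGroup.of (D.e x i) := by
  unfold H
  rw [map_inv, Equiv.Perm.inv_def, D.act_t]
  simp [actT]

theorem H_inv (x : D.Pi) (g : D.Grp) : D.H x g⁻¹ = (D.H (x * (D.proj g)⁻¹) g)⁻¹ := by
  have h := D.H_mul x g⁻¹ g
  rw [inv_mul_cancel, H_one, map_inv] at h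
  exact eq_inv_of_mul_eq_one_left h.symm

/-! ### Words -/

/-- The element of a letter. -/
def lv (l : I × Bool) : D.Grp := cond l.2 (D.t l.1) (D.t l.1)⁻¹

/-- The elements of `S` that may be moved across a letter. -/
def ldom (l : I × Bool) : Subgroup S := cond l.2 (D.dom l.1) (D.map l.1).range

/-- The value of a word. -/
def val : List (S × I × Bool) → S → D.Grp
  | [], z => D.incl z
  | p :: L, z => D.incl p.1 * D.lv p.2 * val L z

/-- The edge of a letter. -/
noncomputable def edge (x : D.Pi) (l : I × Bool) : D.Edge × Bool :=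
  (cond l.2 (D.e x l.1) (D.e (x * (D.proj (D.t l.1))⁻¹) l.1), l.2)

/-- The edges of a word. -/
noncomputable def edges : D.Pi → List (S × I × Bool) → List (D.Edge × Bool)
  | _, [] => []
  | x, p :: L => D.edge (x * D.proj (D.incl p.1)) p.2 ::
      edges (x * D.proj (D.incl p.1) * D.proj (D.lv p.2)) L

theorem H_lv (x : D.Pi) (l : I × Bool) : D.H x (D.lv l) = FreeGroup.mk [D.edge x l] := by
  obtain ⟨i, _ | _⟩ := l
  · show D.H x (D.t i)⁻¹ = _
    rw [D.H_inv, D.H_t]
    rfl
  · show D.H x (D.t i) = _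
    rw [D.H_t]
    rfl

theorem H_val : ∀ (x : D.Pi) (L : List (S × I × Bool)) (z : S),
    D.H x (D.val L z) = FreeGroup.mk (D.edges x L)
  | x, [], z => D.H_incl x z
  | x, p :: L, z => by
    show D.H x (D.incl p.1 * D.lv p.2 * D.val L z) = _
    rw [D.H_mul, D.H_mul, D.H_incl, one_mul, map_mul, ← mul_assoc x, H_val _ L z, D.H_lv,
      FreeGroup.mul_mk]
    rfl

theorem length_edges : ∀ (x : D.Pi) (L : List (S × I × Bool)), (D.edges x L).length = L.length
  | _, [] => rfl
  | x, p :: L => by simp [edges, length_edges _ L]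

/-- No two adjacent letters of the word cancel. -/
def Red : List (S × I × Bool) → Prop
  | p :: q :: L => ¬ (q.2.1 = p.2.1 ∧ q.2.2 = !p.2.2 ∧ q.1 ∈ D.ldom p.2) ∧ Red (q :: L)
  | _ => True

theorem cancels (i : I) (b : Bool) (c : S) :
    c ∈ D.ldom (i, b) → ∃ c', D.lv (i, b) * D.incl c * D.lv (i, !b) = D.incl c' := by
  cases b
  · rintro ⟨u, rfl⟩
    refine ⟨u.1, ?_⟩
    show (D.t i)⁻¹ * D.incl (D.map i u) * D.t i = _
    rw [← D.t_conj]
    group
  · intro hc
    exact ⟨D.map i ⟨c, hc⟩, D.t_conj i ⟨c, hc⟩⟩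

theorem mem_edgeGrp {i : I} {c : S} : D.proj (D.incl c) ∈ D.edgeGrp i ↔ c ∈ (D.map i).range := by
  refine ⟨fun ⟨w, hw, hwc⟩ => ?_, fun h => ⟨c, h, rfl⟩⟩
  rwa [← D.proj_incl_injective (hwc : D.proj (D.incl w) = D.proj (D.incl c))]

theorem edge_ne (x : D.Pi) (i : I) (b : Bool) {c : S} (hc : c ∉ D.ldom (i, b)) :
    (D.edge x (i, b)).1 ≠ (D.edge (x * D.proj (D.lv (i, b)) * D.proj (D.incl c)) (i, !b)).1 := by
  cases b
  · show D.e (x * (D.proj (D.t i))⁻¹) i ≠ D.e (x * D.proj (D.t i)⁻¹ * D.proj (D.incl c)) i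
    rw [Ne, D.e_eq, map_inv, inv_mul_cancel_left]
    exact fun h => hc (D.mem_edgeGrp.1 h)
  · show D.e x i ≠ D.e (x * D.proj (D.t i) * D.proj (D.incl c) * (D.proj (D.t i))⁻¹) i
    rw [Ne, D.e_eq, show x⁻¹ * (x * D.proj (D.t i) * D.proj (D.incl c) * (D.proj (D.t i))⁻¹) =
      D.proj (D.t i) * D.proj (D.incl c) * (D.proj (D.t i))⁻¹ by group]
    rintro ⟨_, ⟨u, rfl⟩, hw⟩
    refine hc ?_
    have h : D.proj (D.incl (u : S)) = D.proj (D.incl c) := by
      have hw' : D.proj (D.incl (D.map i u)) =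
        D.proj (D.t i) * D.proj (D.incl c) * (D.proj (D.t i))⁻¹ := hw
      rw [← D.t_conj, map_mul, map_mul, map_inv] at hw'
      exact mul_left_cancel (mul_right_cancel hw')
    exact D.proj_incl_injective h ▸ u.2

theorem isReduced_edges : ∀ (x : D.Pi) {L : List (S × I × Bool)},
    D.Red L → FreeGroup.IsReduced (D.edges x L)
  | _, [], _ => FreeGroup.IsReduced.nil
  | _, [_], _ => FreeGroup.IsReduced.singleton
  | x, (a, i, b) :: (a', i', b') :: L, h => by
    refine FreeGroup.isReduced_cons_cons.2 ⟨fun he => ?_, isReduced_edges _ h.2⟩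
    show b = b'
    by_contra hb
    have hb' : b' = !b := by cases b <;> cases b' <;> simp_all
    subst hb'
    have hi : i' = i := by
      have := congrArg Sigma.fst he
      cases b <;> simpa [edge, e] using this.symm
    subst hi
    exact D.edge_ne _ i' b (fun hc => h.1 ⟨rfl, rfl, hc⟩) he

theorem incl_mul_val (c : S) : ∀ (L : List (S × I × Bool)) (z : S),
    ∃ L' z', L'.length = L.length ∧ D.val L' z' = D.incl c * D.val L z
  | [], z => ⟨[], c * z, rfl, map_mul _ _ _⟩
  | (a, l) :: L, z => ⟨(c * a, l) :: L, z, rfl, by simp [val, mul_assoc]⟩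

theorem shorten : ∀ (L : List (S × I × Bool)) (z : S), ¬ D.Red L →
    ∃ L' z', L'.length < L.length ∧ D.val L' z' = D.val L z
  | [], _, h => absurd trivial h
  | [_], _, h => absurd trivial h
  | (a, i, b) :: (a', i', b') :: L, z, h => by
    by_cases hc : i' = i ∧ b' = !b ∧ a' ∈ D.ldom (i, b)
    · obtain ⟨rfl, rfl, hc⟩ := hc
      obtain ⟨c, hce⟩ := D.cancels i' b a' hc
      obtain ⟨L', z', hlen, hv⟩ := D.incl_mul_val (a * c) L z
      refine ⟨L', z', by simp [hlen], ?_⟩
      rw [hv, map_mul, ← hce]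
      simp only [val, mul_assoc]
    · obtain ⟨L', z', hlen, hv⟩ := shorten ((a', i', b') :: L) z fun hr => h ⟨hc, hr⟩
      refine ⟨(a, i, b) :: L', z', by simpa using hlen, ?_⟩
      show D.incl a * D.lv (i, b) * D.val L' z' = _
      rw [hv]
      rfl

theorem exists_val (g : D.Grp) : ∃ L z, D.val L z = g := by
  have hg : g ∈ Subgroup.closure (Set.range (PresentedGroup.of : S ⊕ I → D.Grp)) := by
    rw [PresentedGroup.closure_range_of]; trivial
  induction hg using Subgroup.closure_induction_left with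
  | one => exact ⟨[], 1, map_one _⟩
  | mul_left x hx y hy ih =>
    obtain ⟨L, z, rfl⟩ := ih
    obtain ⟨a | i, rfl⟩ := hx
    · obtain ⟨L', z', -, hv⟩ := D.incl_mul_val a L z
      exact ⟨L', z', hv⟩
    · exact ⟨(1, i, true) :: L, z, by simp [val, lv, t]⟩
  | inv_mul_cancel x hx y hy ih =>
    obtain ⟨L, z, rfl⟩ := ih
    obtain ⟨a | i, rfl⟩ := hx
    · obtain ⟨L', z', -, hv⟩ := D.incl_mul_val a⁻¹ L z
      exact ⟨L', z', by rw [hv, map_inv]; rfl⟩
    · exact ⟨(1, i, false) :: L, z, by simp [val, lv, t]⟩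

theorem exists_red (g : D.Grp) : ∃ L z, D.Red L ∧ D.val L z = g := by
  classical
  have hex : ∃ n, ∃ L z, D.val L z = g ∧ L.length = n := by
    obtain ⟨L, z, h⟩ := D.exists_val g
    exact ⟨_, L, z, h, rfl⟩
  obtain ⟨L, z, hv, hn⟩ := Nat.find_spec hex
  refine ⟨L, z, ?_, hv⟩
  by_contra hr
  obtain ⟨L', z', hlt, hv'⟩ := D.shorten L z hr
  exact Nat.find_min hex (hn ▸ hlt) ⟨L', z', hv'.trans hv, rfl⟩

theorem toWord_H {L : List (S × I × Bool)} (hL : D.Red L) (x : D.Pi) (z : S) :
    (D.H x (D.val L z)).toWord = D.edges x L := by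
  rw [D.H_val, FreeGroup.toWord_mk, (D.isReduced_edges x hL).reduce_eq]

/-! ### The length -/

/-- The number of further generators in a reduced word. -/
noncomputable def len (g : D.Grp) : ℕ := (D.H 1 g).norm

theorem norm_H (x : D.Pi) (g : D.Grp) : (D.H x g).norm = D.len g := by
  obtain ⟨L, z, hL, rfl⟩ := D.exists_red g
  simp only [len, FreeGroup.norm, D.toWord_H hL, D.length_edges]

theorem len_val {L : List (S × I × Bool)} (hL : D.Red L) (z : S) :
    D.len (D.val L z) = L.length := by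
  simp only [len, FreeGroup.norm, D.toWord_H hL, D.length_edges]

theorem len_eq_zero {g : D.Grp} : D.len g = 0 ↔ g ∈ D.incl.range := by
  refine ⟨fun h => ?_, fun ⟨a, ha⟩ => by simp [len, ← ha]⟩
  obtain ⟨L, z, hL, rfl⟩ := D.exists_red g
  rw [D.len_val hL, List.length_eq_zero_iff] at h
  subst h
  exact ⟨z, rfl⟩

theorem dist (g g' : D.Grp) : ((D.H 1 g)⁻¹ * D.H 1 g').norm = D.len (g⁻¹ * g') := by
  rw [show g' = g * (g⁻¹ * g') by group, D.H_mul, one_mul, inv_mul_cancel_left, D.norm_H,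
    mul_inv_cancel_left]

/-- The first step of a reduced word. -/
theorem exists_first {g : D.Grp} (hg : D.len g ≠ 0) :
    ∃ (s : S) (l : I × Bool) (c : D.Edge × Bool) (r : List (D.Edge × Bool)),
      (D.H 1 g).toWord = c :: r ∧ D.H 1 (D.incl s * D.lv l) = FreeGroup.mk [c] := by
  obtain ⟨L, z, hL, rfl⟩ := D.exists_red g
  rw [D.len_val hL] at hg
  obtain ⟨⟨s, l⟩, L, rfl⟩ : ∃ p L', L = p :: L' := by
    cases L with
    | nil => exact absurd rfl hg
    | cons p L' => exact ⟨p, L', rfl⟩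
  refine ⟨s, l, _, _, D.toWord_H hL 1 z, ?_⟩
  rw [D.H_mul, D.H_incl, one_mul, D.H_lv]

theorem norm_step_eq {E : Type u} [DecidableEq E] {c : E × Bool} {r : List (E × Bool)} {y : FreeGroup E}
    (h : y.toWord = c :: r) : ((FreeGroup.mk [c])⁻¹ * y).norm + 1 = y.norm := by
  have hr : FreeGroup.IsReduced r :=
    (FreeGroup.isReduced_toWord (x := y)).infix (h ▸ (List.suffix_cons c r).isInfix)
  have hy : y = FreeGroup.mk [c] * FreeGroup.mk r := by
    rw [FreeGroup.mul_mk, ← FreeGroup.mk_toWord (x := y), h]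
    rfl
  conv_lhs => rw [hy, inv_mul_cancel_left]
  simp [FreeGroup.norm, FreeGroup.toWord_mk, hr.reduce_eq, h]

theorem norm_append {E : Type u} [DecidableEq E] {h y : FreeGroup E} {c : E × Bool} {r : List (E × Bool)}
    (hh : h.toWord = c :: r) (hy : ∀ r', y.toWord ≠ c :: r') :
    (h⁻¹ * y).norm = h.norm + y.norm := by
  have hred : FreeGroup.IsReduced (FreeGroup.invRev h.toWord ++ y.toWord) := by
    have h1 : FreeGroup.IsReduced (FreeGroup.invRev h.toWord) := by
      rw [← FreeGroup.toWord_inv]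
      exact FreeGroup.isReduced_toWord
    refine List.isChain_append.2 ⟨h1, FreeGroup.isReduced_toWord, fun a ha b hb hab => ?_⟩
    rw [hh] at ha
    simp [FreeGroup.invRev] at ha
    subst ha
    rcases hyw : y.toWord with _ | ⟨d, w⟩
    · simp [hyw] at hb
    rw [hyw] at hb
    simp at hb
    subst hb
    by_contra hne
    refine hy w ?_
    rw [hyw]
    congr 1
    refine Prod.ext hab.symm ?_
    cases hc : c.2 <;> cases hd : d.2 <;> simp_all
  have : (h⁻¹ * y).toWord = FreeGroup.invRev h.toWord ++ y.toWord := by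
    rw [FreeGroup.toWord_mul, FreeGroup.toWord_inv, hred.reduce_eq]
  simp [FreeGroup.norm, this, FreeGroup.invRev_length]

theorem norm_step_ne {E : Type u} [DecidableEq E] {c : E × Bool} {y : FreeGroup E}
    (hy : ∀ r', y.toWord ≠ c :: r') : ((FreeGroup.mk [c])⁻¹ * y).norm = y.norm + 1 := by
  have hc : (FreeGroup.mk [c]).toWord = c :: [] := by
    simp [FreeGroup.toWord_mk, FreeGroup.IsReduced.singleton.reduce_eq]
  rw [norm_append hc hy]
  simp [FreeGroup.norm, hc, add_comm]

theorem len_mk {g : D.Grp} {c : D.Edge × Bool} (h : D.H 1 g = FreeGroup.mk [c]) : D.len g = 1 := by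
  simp [len, h, FreeGroup.norm, FreeGroup.toWord_mk, FreeGroup.IsReduced.singleton.reduce_eq]

theorem len_t_conj {l : I × Bool} {y : S}
    (h : (D.lv l)⁻¹ * D.incl y * D.lv l ∈ D.incl.range) : y ∈ D.ldom (l.1, !l.2) := by
  by_contra hy
  have hL : D.Red [((1 : S), l.1, !l.2), (y, l.1, l.2)] := ⟨fun hc => hy hc.2.2, trivial⟩
  have h2 := D.len_val hL 1
  have hv : D.val [((1 : S), l.1, !l.2), (y, l.1, l.2)] 1 =
      (D.lv l)⁻¹ * D.incl y * D.lv l := by
    obtain ⟨i, _ | _⟩ := l <;> simp [val, lv, mul_assoc]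
  rw [hv, D.len_eq_zero.2 h] at h2
  simp at h2

/-! ### Conjugation induces only the given maps -/

theorem good_of_conj (Good : Subgroup S → (S → S) → Prop)
    (hconj : ∀ (P : Subgroup S) (m : S → S) (s : S), (∀ x ∈ P, m x = s⁻¹ * x * s) → Good P m)
    (hmap : ∀ (P : Subgroup S) (m : S → S) (i : I),
      (∀ x ∈ P, ∃ u : D.dom i, (u : S) = x ∧ m x = D.map i u) → Good P m)
    (hmap' : ∀ (P : Subgroup S) (m : S → S) (i : I),
      (∀ x ∈ P, ∃ u : D.dom i, D.map i u = x ∧ m x = u) → Good P m)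
    (hcomp : ∀ (P Q : Subgroup S) (m m' : S → S), Good P m → (∀ x ∈ P, m x ∈ Q) → Good Q m' →
      ∀ m'' : S → S, (∀ x ∈ P, m'' x = m' (m x)) → Good P m'') :
    ∀ (v : D.Grp) (P : Subgroup S) (m : S → S),
      (∀ x ∈ P, D.incl (m x) = v⁻¹ * D.incl x * v) → Good P m := by
  suffices key : ∀ (n : ℕ) (v : D.Grp), D.len v = n → ∀ (P : Subgroup S) (m : S → S),
      (∀ x ∈ P, D.incl (m x) = v⁻¹ * D.incl x * v) → Good P m from fun v => key _ v rfl
  intro n
  induction n using Nat.strong_induction_on with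
  | _ n ih =>
  intro v hn P m hm
  rcases eq_or_ne n 0 with rfl | hn0
  · obtain ⟨s, rfl⟩ := D.len_eq_zero.1 hn
    exact hconj P m s fun x hx => D.incl_injective (by rw [hm x hx]; simp)
  obtain ⟨s, l, c, r, hv, hc⟩ := D.exists_first (g := v) (by omega)
  set a := D.incl s * D.lv l with ha
  have hnorm : (D.H 1 v).norm = n := hn
  have hav : D.len (a⁻¹ * v) + 1 = n := by
    rw [← D.dist, hc, norm_step_eq hv, hnorm]
  have hfix : ∀ x ∈ P, a⁻¹ * D.incl x * a ∈ D.incl.range := fun x hx => by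
    have hlen : D.len ((D.incl x * a)⁻¹ * v) + 1 = n := by
      rw [show (D.incl x * a)⁻¹ * v = a⁻¹ * v * D.incl (m x)⁻¹ by
        rw [map_inv, hm x hx]; group]
      simp only [len, D.H_mul, D.H_incl, mul_one] at hav ⊢
      exact hav
    have hxa : D.H 1 (D.incl x * a) = FreeGroup.mk [D.edge (1 * D.proj (D.incl x) * D.proj (D.incl s)) l] := by
      rw [ha, D.H_mul, D.H_mul, D.H_incl, D.H_incl, one_mul, one_mul, D.H_lv]
    set c' := D.edge (1 * D.proj (D.incl x) * D.proj (D.incl s)) l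
    rw [← D.dist, hxa] at hlen
    have hcc : c' = c := by
      by_contra hne
      have h' := norm_step_ne (c := c') (y := D.H 1 v) fun r' hr' => by
        rw [hv] at hr'
        exact hne (List.cons.inj hr').1.symm
      omega
    rw [← D.len_eq_zero, mul_assoc, ← D.dist, hxa, hcc, hc, inv_mul_cancel, FreeGroup.norm_one]
  -- the intermediate map
  have hy : ∀ x ∈ P, s⁻¹ * x * s ∈ D.ldom (l.1, !l.2) := fun x hx => D.len_t_conj (by
    have := hfix x hx
    rw [ha] at this
    simpa [mul_assoc] using this)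
  let m₁ : S → S := fun x => Function.invFun D.incl (a⁻¹ * D.incl x * a)
  have hm₁ : ∀ x ∈ P, D.incl (m₁ x) = a⁻¹ * D.incl x * a := fun x hx =>
    Function.invFun_eq (hfix x hx)
  let Q : Subgroup S :=
    D.incl.range.comap ((MulAut.conj (a⁻¹ * v)⁻¹).toMonoidHom.comp D.incl)
  let m₂ : S → S := fun y => Function.invFun D.incl ((a⁻¹ * v)⁻¹ * D.incl y * (a⁻¹ * v))
  have hQ : ∀ y ∈ Q, D.incl (m₂ y) = (a⁻¹ * v)⁻¹ * D.incl y * (a⁻¹ * v) := fun y hy => by
    have h' : (a⁻¹ * v)⁻¹ * D.incl y * ((a⁻¹ * v)⁻¹)⁻¹ ∈ D.incl.range := hy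
    rw [inv_inv] at h'
    exact Function.invFun_eq h'
  have hPQ : ∀ x ∈ P, m₁ x ∈ Q := fun x hx => by
    show (a⁻¹ * v)⁻¹ * D.incl (m₁ x) * ((a⁻¹ * v)⁻¹)⁻¹ ∈ D.incl.range
    refine ⟨m x, ?_⟩
    rw [hm x hx, hm₁ x hx]
    group
  refine hcomp P Q m₁ m₂ ?_ hPQ (ih _ (by omega) _ rfl Q m₂ hQ) m fun x hx => D.incl_injective (by
    rw [hm x hx, hQ _ (hPQ x hx), hm₁ x hx]
    group)
  -- a single generator
  let P' : Subgroup S := D.ldom (l.1, !l.2)
  let m₀ : S → S := fun x => s⁻¹ * x * s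
  let m₃ : S → S := fun y => Function.invFun D.incl ((D.lv l)⁻¹ * D.incl y * D.lv l)
  refine hcomp P P' m₀ m₃ (hconj _ _ s fun _ _ => rfl) hy ?_ m₁ fun x hx => ?_
  · obtain ⟨i, _ | _⟩ := l
    · refine hmap P' m₃ i fun y hy' => ⟨⟨y, hy'⟩, rfl, ?_⟩
      show Function.invFun D.incl ((D.t i)⁻¹⁻¹ * D.incl y * (D.t i)⁻¹) = _
      rw [inv_inv, show D.t i * D.incl y * (D.t i)⁻¹ = D.incl (D.map i ⟨y, hy'⟩) from
        D.t_conj i ⟨y, hy'⟩, Function.leftInverse_invFun D.incl_injective]
    · refine hmap' P' m₃ i fun y hy' => ?_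
      obtain ⟨u, rfl⟩ := hy'
      refine ⟨u, rfl, ?_⟩
      show Function.invFun D.incl ((D.t i)⁻¹ * D.incl (D.map i u) * D.t i) = _
      rw [← D.t_conj, show (D.t i)⁻¹ * (D.t i * D.incl u * (D.t i)⁻¹) * D.t i = D.incl u by group,
        Function.leftInverse_invFun D.incl_injective]
  · show Function.invFun D.incl _ = Function.invFun D.incl _
    congr 1
    simp [ha, m₀, mul_assoc]

/-! ### Finite subgroups -/

theorem exists_conj_le (K : Subgroup D.Grp) (hK : Finite ↥K) :
    ∃ g : D.Grp, ∀ k ∈ K, g * k * g⁻¹ ∈ D.incl.range := by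
  haveI := Fintype.ofFinite ↥K
  let M : D.Grp → ℕ := fun v => Finset.univ.sup fun k : ↥K => D.len (v⁻¹ * k)
  obtain ⟨v, hv⟩ : ∃ v, ∀ w, M v ≤ M w :=
    ⟨_, fun w => Function.argmin_le M w⟩
  refine ⟨v⁻¹, fun k hk => ?_⟩
  rw [inv_inv]
  by_contra hne
  obtain ⟨j, hj, hj2⟩ : ∃ j ∈ K, 2 ≤ D.len (v⁻¹ * j * v) := by
    rcases Nat.lt_or_ge (D.len (v⁻¹ * k * v)) 2 with h | h
    · refine ⟨k * k, mul_mem hk hk, ?_⟩
      have h1 : D.len (v⁻¹ * k * v) = 1 := by
        have : D.len (v⁻¹ * k * v) ≠ 0 := fun h0 => hne (D.len_eq_zero.1 h0)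
        omega
      obtain ⟨L, z, hL, hLv⟩ := D.exists_red (v⁻¹ * k * v)
      rw [← hLv, D.len_val hL] at h1
      obtain ⟨⟨s, l⟩, rfl⟩ := List.length_eq_one_iff.1 h1
      have hL2 : D.Red [(s, l), (z * s, l)] := ⟨fun hc => by
        obtain ⟨i, _ | _⟩ := l <;> simp at hc, trivial⟩
      have h2 := D.len_val hL2 z
      rw [show D.val [(s, l), (z * s, l)] z = v⁻¹ * (k * k) * v by
        rw [show v⁻¹ * (k * k) * v = (v⁻¹ * k * v) * (v⁻¹ * k * v) by group, ← hLv]
        simp [val, mul_assoc]] at h2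
      exact h2.ge
    · exact ⟨k, hk, h⟩
  set w := v⁻¹ * j * v with hw
  have hMw : M (v * w) ≤ M v := by
    refine Finset.sup_le fun k' _ => ?_
    refine le_trans (le_of_eq ?_) (Finset.le_sup
      (f := fun k : ↥K => D.len (v⁻¹ * k)) (Finset.mem_univ (⟨j, hj⟩⁻¹ * k')))
    show D.len ((v * w)⁻¹ * k') = D.len (v⁻¹ * (j⁻¹ * (k' : D.Grp)))
    rw [hw]
    congr 1
    group
  obtain ⟨s, l, c, r, hwc, hc⟩ := D.exists_first (g := w) (by omega)
  set a := D.incl s * D.lv l
  have hlt : ∀ k' : ↥K, D.len ((v * a)⁻¹ * k') < M v := fun k' => by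
    have h1 : D.len (v⁻¹ * k') ≤ M v := Finset.le_sup (f := fun k : ↥K => D.len (v⁻¹ * k))
      (Finset.mem_univ k')
    have h2 : D.len ((v * w)⁻¹ * k') ≤ M v := le_trans (Finset.le_sup
      (f := fun k : ↥K => D.len ((v * w)⁻¹ * k)) (Finset.mem_univ k')) hMw
    rw [mul_inv_rev, mul_assoc, ← D.dist] at h2 ⊢
    rw [hc]
    set y := D.H 1 (v⁻¹ * k') with hy
    have h1' : y.norm ≤ M v := h1
    by_cases hyc : ∃ r', y.toWord = c :: r'
    · obtain ⟨r', hr'⟩ := hyc
      have := norm_step_eq hr'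
      omega
    · push Not at hyc
      rw [norm_step_ne hyc]
      rw [norm_append hwc hyc] at h2
      have : (D.H 1 w).norm = D.len w := rfl
      omega
  have : M (v * a) < M v := by
    have hpos : 0 < M v := lt_of_le_of_lt (Nat.zero_le _) (hlt 1)
    exact (Finset.sup_lt_iff hpos).2 fun k' _ => hlt k'
  exact absurd (hv (v * a)) (not_le.2 this)

/-! ### The free normal subgroup -/

theorem free_ker : IsFreeGroup ↥D.toPerm.ker := by
  classical
  have hker : ∀ n ∈ D.toPerm.ker, D.proj n = 1 := fun n hn => Subtype.ext hn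
  let ψ : ↥D.toPerm.ker →* FreeGroup D.Edge :=
    MonoidHom.mk' (fun n => D.H 1 n) fun a b => by
      show D.H 1 ((a : D.Grp) * b) = _
      rw [D.H_mul, hker _ a.2, mul_one]
  have hψ : Function.Injective ψ := by
    rw [injective_iff_map_eq_one]
    intro n hn
    obtain ⟨a, ha⟩ := D.len_eq_zero.1 (show D.len (n : D.Grp) = 0 by
      show (D.H 1 (n : D.Grp)).norm = 0
      rw [show D.H 1 (n : D.Grp) = 1 from hn, FreeGroup.norm_one])
    have := D.ker_inf a (by rw [ha]; exact hker _ n.2)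
    exact Subtype.ext (by rw [← ha, this, map_one]; rfl)
  exact IsFreeGroup.ofMulEquiv (MonoidHom.ofInjective hψ).symm

theorem index_ker_dvd : D.toPerm.ker.index ∣ (Nat.card S).factorial := by
  rw [Subgroup.index_ker, ← Nat.card_perm]
  exact Subgroup.card_subgroup_dvd_card _

end Data

end Cfsg.Agent.H90.LS
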