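import Cfsg.Agent.H90.LearyStancu
import Cfsg.Agent.FusionSys.Basic
import Cfsg.Prelude.Def_FusionSystem

/-!
Every fusion system over a finite group is realized by a group with a free normal subgroup of finite
index.
-/

set_option autoImplicit false
set_option linter.unusedSectionVars false
set_option linter.style.haveILetI false

namespace Cfsg.Agent.H90.LS

open Cfsg Cfsg.FusionSystem Cfsg.Agent.FusionSys

universe u

variable {Ω : Type u} [Group Ω] {S : Subgroup Ω} [Finite S] (F : FusionSystem S)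

/-- The maps of a system as a family of partial isomorphisms. -/
def homData : Data ↥S {p : (Σ P : Subgroup Ω, ↥P →* Ω) // p.2 ∈ F.Hom p.1} where
  dom i := i.1.1.subgroupOf S
  map i := (i.1.2.codRestrict S (F.le_of_mem i.2).2).comp
    (Subgroup.subgroupOfEquivOfLe (F.le_of_mem i.2).1).toMonoidHom
  inj i := fun a b h =>
    (Subgroup.subgroupOfEquivOfLe (F.le_of_mem i.2).1).injective
      (F.injective_of_mem i.2 (congrArg Subtype.val h))

/-- A map on a subgroup of `S` agrees with a map of the system. -/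
def Good (P : Subgroup ↥S) (m : ↥S → ↥S) : Prop :=
  ∃ f : Ω → Ω, IsMap F (P.map S.subtype) f ∧ ∀ x ∈ P, f x = m x

theorem homFun_data (i : {p : (Σ P : Subgroup Ω, ↥P →* Ω) // p.2 ∈ F.Hom p.1})
    (u : (homData F).dom i) :
    homFun i.1.2 (u : Ω) = ((homData F).map i u : Ω) :=
  homFun_mem i.1.2 (x := (u : Ω)) u.2

theorem isMap_homFun' (i : {p : (Σ P : Subgroup Ω, ↥P →* Ω) // p.2 ∈ F.Hom p.1}) :
    IsMap F i.1.1 (homFun i.1.2) :=
  ⟨i.1.2, i.2, fun x => (homFun_coe i.1.2 x).symm⟩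

theorem realized (p : ℕ) :
    ∃ (G : Type u) (_ : Group G) (ι : ↥S →* G), F.IsRealizedBy ι ∧
      (∀ H : Subgroup G, Finite ↥H → ∃ g : G, ∀ h ∈ H, g * h * g⁻¹ ∈ ι.range) ∧
      ∃ N : Subgroup G, N.Normal ∧ IsFreeGroup ↥N ∧ N.index ∣ (Nat.card ↥S).factorial := by
  set D := homData F with hD
  refine ⟨D.Grp, inferInstance, D.incl, ⟨D.incl_injective, fun P hP φ hφ => ⟨fun h => ?_, ?_⟩⟩,
    fun K hK => D.exists_conj_le K hK,
    D.toPerm.ker, inferInstance, D.free_ker, D.index_ker_dvd⟩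
  · refine ⟨D.t ⟨⟨P, φ⟩, h⟩, fun x => ?_⟩
    exact (D.t_conj ⟨⟨P, φ⟩, h⟩ ⟨⟨x, hP x.2⟩, x.2⟩).symm
  · rintro ⟨g, hg⟩
    classical
    let m : ↥S → ↥S := fun x => if hx : (x : Ω) ∈ P then ⟨φ ⟨x, hx⟩, hφ _⟩ else 1
    have hm : ∀ x ∈ P.subgroupOf S, D.incl (m x) = g⁻¹⁻¹ * D.incl x * g⁻¹ := fun x hx => by
      rw [inv_inv, ← hg ⟨x, hx⟩]
      simp [m, Subgroup.mem_subgroupOf.1 hx]
    have hc : ∀ (Q : Subgroup ↥S) (m' : ↥S → ↥S) (s : ↥S),
        (∀ x ∈ Q, m' x = s⁻¹ * x * s) → Good F Q m' := by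
      intro Q m' s hs
      refine ⟨conjMap (s⁻¹ : Ω), isMap_conj F (Subgroup.map_subtype_le Q) (S.inv_mem s.2),
        fun x hx => ?_⟩
      rw [conjMap_apply, hs x hx, inv_inv]
      rfl
    have hg₁ : ∀ (Q : Subgroup ↥S) (m' : ↥S → ↥S) i,
        (∀ x ∈ Q, ∃ u : D.dom i, (u : ↥S) = x ∧ m' x = D.map i u) → Good F Q m' := by
      intro Q m' i hi
      refine ⟨homFun i.1.2, (isMap_homFun' F i).mono ?_, fun x hx => ?_⟩
      · rintro _ ⟨x, hx, rfl⟩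
        obtain ⟨u, rfl, -⟩ := hi x hx
        exact u.2
      · obtain ⟨u, rfl, hu⟩ := hi x hx
        rw [hu]
        exact homFun_data F i u
    have hg₂ : ∀ (Q : Subgroup ↥S) (m' : ↥S → ↥S) i,
        (∀ x ∈ Q, ∃ u : D.dom i, D.map i u = x ∧ m' x = u) → Good F Q m' := by
      intro Q m' i hi
      obtain ⟨f', hf', hf'e⟩ := (isMap_homFun' F i).exists_inv
      refine ⟨f', hf'.mono ?_, fun x hx => ?_⟩
      · rintro _ ⟨x, hx, rfl⟩
        obtain ⟨u, rfl, -⟩ := hi x hx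
        exact (isMap_homFun' F i).mem_imgSub.2 ⟨u, u.2, homFun_data F i u⟩
      · obtain ⟨u, rfl, hu⟩ := hi x hx
        rw [hu, ← homFun_data F i u]
        exact hf'e _ u.2
    have hcm : ∀ (Q R : Subgroup ↥S) (m₁ m₂ : ↥S → ↥S), Good F Q m₁ → (∀ x ∈ Q, m₁ x ∈ R) →
        Good F R m₂ → ∀ m₃ : ↥S → ↥S, (∀ x ∈ Q, m₃ x = m₂ (m₁ x)) → Good F Q m₃ := by
      rintro Q R m₁ m₂ ⟨f₁, hf₁, h₁⟩ hQR ⟨f₂, hf₂, h₂⟩ m₃ h₃
      have hmaps : ∀ x ∈ Q.map S.subtype, f₁ x ∈ R.map S.subtype := by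
        rintro _ ⟨x, hx, rfl⟩
        rw [show f₁ (S.subtype x) = (m₁ x : Ω) from h₁ x hx]
        exact ⟨m₁ x, hQR x hx, rfl⟩
      refine ⟨fun y => f₂ (f₁ y), hf₁.comp hf₂ hmaps, fun x hx => ?_⟩
      show f₂ (f₁ (x : Ω)) = _
      rw [h₁ x hx, h₂ _ (hQR x hx), h₃ x hx]
    obtain ⟨f, hf, hfm⟩ := D.good_of_conj (Good F) hc hg₁ hg₂ hcm g⁻¹ (P.subgroupOf S) m hm
    rw [Subgroup.map_subgroupOf_eq_of_le hP] at hf
    obtain ⟨ψ, hψ, hψf⟩ := hf
    have : ψ = φ := MonoidHom.ext fun x => by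
      rw [hψf x, show f (x : Ω) = _ from hfm ⟨x, hP x.2⟩ x.2]
      simp [m]
    exact this ▸ hψ

end Cfsg.Agent.H90.LS
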