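import Cfsg.Agent.H90.Oliver2
import Cfsg.Agent.PGroups.MaxClass

/-!
A map moving the centre inside the second centre of a group of maximal class forces the centralizer
of the second centre to be essential.
-/

set_option autoImplicit false
set_option linter.unusedSectionVars false
set_option linter.style.haveILetI false

namespace Cfsg.Agent.H90.MCE

open Cfsg Cfsg.FusionSystem Cfsg.Agent.FusionSys
open Cfsg.Agent.H90.CI (zc mem_zc zc_le)
open scoped commutatorElement

section Abstract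

variable {G : Type*} [Group G] [Finite G] {p n : ℕ} [hp : Fact p.Prime]

/-- The second centre of a group of maximal class has order `p ^ 2`. -/
theorem card_second_center (h4 : 4 ≤ n) (hG : Nat.card G = p ^ n)
    (hc : Group.nilpotencyClass G = n - 1) :
    Nat.card ↥(Subgroup.upperCentralSeries G 2) = p ^ 2 := by
  obtain ⟨hZ, hQ, hQc⟩ := PGroups.card_center_of_maxClass (by omega) hG hc
  obtain ⟨hZQ, -, -⟩ := PGroups.card_center_of_maxClass (n := n - 1) (by omega) hQ hQc
  have h2 : Subgroup.upperCentralSeries G 2 =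
      (Subgroup.center (G ⧸ Subgroup.center G)).comap (QuotientGroup.mk' (Subgroup.center G)) := by
    ext w
    rw [Subgroup.mem_comap, Subgroup.mem_center_iff,
      (QuotientGroup.mk'_surjective (Subgroup.center G)).forall,
      show w ∈ Subgroup.upperCentralSeries G 2 ↔ ∀ g : G, ⁅w, g⁆ ∈ Subgroup.center G by
        rw [← Subgroup.upperCentralSeries_one G]; rfl]
    refine forall_congr' fun g => ?_
    rw [← QuotientGroup.eq_one_iff, ← map_mul, ← map_mul, commutatorElement_def]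
    show QuotientGroup.mk' _ (w * g * w⁻¹ * g⁻¹) = 1 ↔ _
    rw [map_mul, map_mul, map_mul, map_inv, map_inv, mul_inv_eq_one, mul_inv_eq_iff_eq_mul,
      ← map_mul, ← map_mul]
    exact eq_comm
  have h := Oliver.card_eq_map_mul (QuotientGroup.mk' (Subgroup.center G))
    (Subgroup.upperCentralSeries G 2)
  rw [QuotientGroup.ker_mk', h2,
    Subgroup.map_comap_eq_self_of_surjective (QuotientGroup.mk'_surjective _),
    inf_eq_right.2 (fun z hz => by
      rw [Subgroup.mem_comap, show QuotientGroup.mk' (Subgroup.center G) z = 1 from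
        (QuotientGroup.eq_one_iff z).2 hz]
      exact one_mem _), hZQ, hZ] at h
  rw [h2, ← h, pow_two]

/-- The centralizer of the second centre has index `p`. -/
theorem index_centralizer (h4 : 4 ≤ n) (hG : Nat.card G = p ^ n)
    (hc : Group.nilpotencyClass G = n - 1) :
    (Subgroup.centralizer (Subgroup.upperCentralSeries G 2 : Set G)).index = p ∧
      Subgroup.upperCentralSeries G 2 ≤
        Subgroup.centralizer (Subgroup.upperCentralSeries G 2 : Set G) := by
  obtain ⟨hZ, -, -⟩ := PGroups.card_center_of_maxClass (by omega) hG hc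
  have h2 := card_second_center h4 hG hc
  set W := Subgroup.upperCentralSeries G 2
  have hmem : ∀ w ∈ W, ∀ g : G, ⁅g, w⁆ ∈ Subgroup.center G := by
    intro w hw g
    have h : ∀ g : G, ⁅w, g⁆ ∈ Subgroup.center G := by
      rw [← Subgroup.upperCentralSeries_one G]; exact hw
    rw [← commutatorElement_inv]
    exact inv_mem (h g)
  have hZW : Subgroup.center G ≤ W := by
    rw [← Subgroup.upperCentralSeries_one G]
    exact Subgroup.upperCentralSeries_mono G (by omega)
  obtain ⟨a, haW, haZ⟩ : ∃ a ∈ W, a ∉ Subgroup.center G := by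
    by_contra hall
    push Not at hall
    have := Subgroup.card_le_of_le (show W ≤ Subgroup.center G from hall)
    rw [h2, hZ] at this
    nlinarith [hp.out.two_le]
  have hgen : Subgroup.center G ⊔ Subgroup.zpowers a = W := by
    refine Subgroup.eq_of_le_of_card_ge (sup_le hZW (Subgroup.zpowers_le.2 haW)) ?_
    obtain ⟨i, hi⟩ := IsPGroup.iff_card.1
      ((IsPGroup.of_card hG).to_subgroup (Subgroup.center G ⊔ Subgroup.zpowers a))
    have hlt : Nat.card (Subgroup.center G) <
        Nat.card ↥(Subgroup.center G ⊔ Subgroup.zpowers a) := by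
      by_contra hle
      exact haZ ((Subgroup.eq_of_le_of_card_ge le_sup_left (not_lt.1 hle)).ge
        (Subgroup.mem_sup_right (Subgroup.mem_zpowers a)))
    rw [hZ, hi] at hlt
    rw [h2, hi]
    refine Nat.pow_le_pow_right hp.out.pos ?_
    by_contra hi2
    exact absurd hlt (not_lt.2
      ((Nat.pow_le_pow_right hp.out.pos (by omega : i ≤ 1)).trans (pow_one p).le))
  let f : G →* ↥(Subgroup.center G) :=
    MonoidHom.mk' (fun g => ⟨⁅g, a⁆, hmem a haW g⟩) fun g h => Subtype.ext (by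
      show ⁅g * h, a⁆ = ⁅g, a⁆ * ⁅h, a⁆
      have hc' := Subgroup.mem_center_iff.1 (hmem a haW h)
      rw [show ⁅g * h, a⁆ = g * ⁅h, a⁆ * a * g⁻¹ * a⁻¹ by
          simp only [commutatorElement_def]; group, hc' g,
        show ⁅g, a⁆ * ⁅h, a⁆ = ⁅h, a⁆ * ⁅g, a⁆ from hc' _]
      simp only [commutatorElement_def]; group)
  have hker : f.ker = Subgroup.centralizer (W : Set G) := by
    ext g
    rw [MonoidHom.mem_ker, Subgroup.mem_centralizer_iff,
      show (f g = 1 ↔ ⁅g, a⁆ = 1) from ⟨congrArg Subtype.val, fun h => Subtype.ext h⟩,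
      commutatorElement_eq_one_iff_mul_comm]
    refine ⟨fun h w hw => ?_, fun h => (h a haW).symm⟩
    have : W ≤ Subgroup.centralizer {g} := hgen ▸ sup_le (Subgroup.center_le_centralizer _)
      (Subgroup.zpowers_le.2 (Subgroup.mem_centralizer_iff.2 fun v hv => by
        rw [Set.mem_singleton_iff.1 hv]; exact h))
    exact (Subgroup.mem_centralizer_iff.1 (this hw) g rfl).symm
  refine ⟨?_, fun w hw => Subgroup.mem_centralizer_iff.2 fun v hv => congrArg Subtype.val
    (IsPGroup.commutative_of_card_eq_prime_sq h2 (⟨v, hv⟩ : W) ⟨w, hw⟩)⟩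
  rw [← hker, Subgroup.index_ker]
  rcases (Nat.dvd_prime hp.out).1 (hZ ▸ Subgroup.card_subgroup_dvd_card f.range) with h | h
  · refine absurd (Subgroup.mem_center_iff.2 fun g => ?_) haZ
    have hg : f g ∈ f.range := ⟨g, rfl⟩
    rw [Subgroup.card_eq_one.1 h, Subgroup.mem_bot] at hg
    exact commutatorElement_eq_one_iff_mul_comm.1 (congrArg Subtype.val hg)
  · exact h

end Abstract

variable {Ω : Type*} [Group Ω] {S : Subgroup Ω} [Finite S] {p n : ℕ} [hp : Fact p.Prime]

set_option maxHeartbeats 800000 in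
theorem main (hS : IsPGroup p S) (hn : Nat.card S = p ^ n) (h4 : 4 ≤ n)
    (hmax : Subgroup.lowerCentralSeries S (n - 2) ≠ ⊥) {F : FusionSystem S} (hF : F.IsSaturated p)
    {Z2 : Subgroup Ω} (hZ2 : Z2 = (Subgroup.upperCentralSeries ↥S 2).map S.subtype)
    (φ : ↥Z2 →* Ω) (hφ : φ ∈ F.Hom Z2) (hr : φ.range = Z2)
    (hmove : ∃ (z : Ω) (hz : z ∈ Z2), z ∈ zc S ∧ φ ⟨z, hz⟩ ∉ zc S) :
    F.IsEssential p (S ⊓ Subgroup.centralizer (Z2 : Set Ω)) := by
  have hmemZ2 : ∀ y : Ω, y ∈ Z2 ↔ ∃ w ∈ Subgroup.upperCentralSeries ↥S 2, (w : Ω) = y := by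
    intro y; rw [hZ2]; exact Subgroup.mem_map
  haveI := hS.isNilpotent
  have hc : Group.nilpotencyClass ↥S = n - 1 := by
    have h1 := PGroups.nilpotencyClass_le (p := p) n ↥S (by omega) hn
    by_contra hne
    refine hmax ?_
    rw [← Subgroup.top_subtype_lowerCentralSeries,
      Subgroup.lowerCentralSeries_eq_bot_iff_nilpotencyClass_le.2 (by omega), Subgroup.map_bot]
  obtain ⟨hidx, habel⟩ := index_centralizer h4 hn hc
  set C := S ⊓ Subgroup.centralizer (Z2 : Set Ω)
  have hCS : C ≤ S := inf_le_left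
  have hCeq : C.subgroupOf S =
      Subgroup.centralizer (Subgroup.upperCentralSeries ↥S 2 : Set ↥S) := by
    ext g
    simp only [C, Subgroup.mem_subgroupOf, Subgroup.mem_inf, Subgroup.mem_centralizer_iff]
    refine ⟨fun h w hw => Subtype.ext (h.2 w ((hmemZ2 _).2 ⟨w, hw, rfl⟩)), fun h => ⟨g.2, ?_⟩⟩
    intro y hy
    obtain ⟨w, hw, rfl⟩ := (hmemZ2 y).1 hy
    exact congrArg Subtype.val (h w hw)
  have hCi : (C.subgroupOf S).index = p := by rw [hCeq]; exact hidx
  have hZ2S : Z2 ≤ S := hZ2 ▸ Subgroup.map_subtype_le _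
  have hZ2C : Z2 ≤ C := by
    intro y hy
    obtain ⟨w, hw, rfl⟩ := (hmemZ2 y).1 hy
    exact (hCeq.ge (habel hw) : w ∈ C.subgroupOf S)
  haveI := finite_of_le hCS
  haveI := finite_of_le hZ2S
  have hlt : C < S := lt_of_le_of_ne hCS fun e => by
    rw [e, Subgroup.subgroupOf_self, Subgroup.index_top] at hCi
    exact hp.out.one_lt.ne hCi
  have hnC : ∀ g ∈ S, g ∈ Subgroup.normalizer (C : Set Ω) := fun g hg =>
    mem_normalizer_of_maps (P := C) fun y hy => by
      exact (PGroups.normal_of_index_eq hS hCi).conj_mem ⟨y, hCS hy⟩ hy ⟨g, hg⟩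
  have hz2 : ∀ {y : Ω}, y ∈ Z2 ↔ y ∈ S ∧ ∀ g ∈ S, ⁅y, g⁆ ∈ zc S := by
    intro y; rw [hZ2]; exact Oliver.mem_z2
  have hzZ2 : zc S ≤ Z2 := fun z hz => hz2.2 ⟨zc_le hz, fun g hg => by
    rw [commutatorElement_eq_one_iff_mul_comm.2 ((mem_zc.1 hz).2 g hg).symm]
    exact one_mem _⟩
  have hnZ : ∀ g ∈ S, g ∈ Subgroup.normalizer (Z2 : Set Ω) := fun g hg =>
    mem_normalizer_of_maps (P := Z2) fun y hy => by
      rw [show g * y * g⁻¹ = ⁅y, g⁆⁻¹ * y by simp only [commutatorElement_def]; group]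
      exact mul_mem (inv_mem (hzZ2 ((hz2.1 hy).2 g hg))) hy
  have hfn : ∀ {P : Subgroup Ω}, P ≤ S → (∀ g ∈ S, g ∈ Subgroup.normalizer (P : Set Ω)) →
      F.IsFullyNormalized P := fun {P} hP h => by
    haveI := finite_of_le (show normalizerIn S P ≤ S from normalizerIn_le)
    exact ⟨hP, fun Q _ => Subgroup.card_le_of_le
      (show normalizerIn S Q ≤ normalizerIn S P from fun g hg => ⟨hg.1, h g hg.1⟩)⟩
  -- the given map
  have hm : IsMap F Z2 (homFun φ) := ⟨φ, hφ, fun x => (homFun_coe φ x).symm⟩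
  have hi : IsIso F Z2 Z2 (homFun φ) := ⟨hm, by
    ext y
    constructor
    · rintro ⟨x, hx, rfl⟩
      exact hr.le ⟨⟨x, hx⟩, (homFun_mem φ hx).symm⟩
    · intro hy
      obtain ⟨x, rfl⟩ := hr.ge hy
      exact ⟨x, x.2, homFun_coe φ x⟩⟩
  obtain ⟨g, hg, hge⟩ := receptive_extend
    (receptive_of_isFullyNormalized hS hF (hfn hZ2S hnZ)) hi (N := C) fun x hx =>
      hm.inExt_of_centralizes (mem_centralizerIn.2 ⟨hx.1, fun y hy =>
        Subgroup.mem_centralizer_iff.1 hx.2 y hy⟩)
  have hgC : IsMap F C g := hg.mono le_sup_left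
  have hmaps : ∀ x ∈ C, g x ∈ C := fun x hx => by
    refine ⟨hgC.mem_S hx, Subgroup.mem_centralizer_iff.2 fun y hy => ?_⟩
    obtain ⟨y', hy', rfl⟩ := hi.image_eq.ge hy
    rw [← hge y' hy', ← hgC.map_mul (hZ2C hy') hx, ← hgC.map_mul hx (hZ2C hy'),
      Subgroup.mem_centralizer_iff.1 hx.2 y' hy']
  obtain ⟨ψ, hψ, hψe⟩ := (IsIso.mk hgC (hgC.image_eq_of_mapsTo hmaps)).exists_aut
  have hzC : zc S ≤ C := hzZ2.trans hZ2C
  -- the automorphisms that extend fix the centre
  have hext : ∀ α ∈ extAut F C,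
      ∀ z ∈ zc S, autMap α z ∈ zc S ∧ autMap α⁻¹ z ∈ zc S := by
    intro α hα
    induction hα using Subgroup.closure_induction with
    | mem α hα =>
      obtain ⟨Q, f, hQ, hf, he⟩ := hα
      obtain ⟨s, hsQ, hsC⟩ := SetLike.exists_of_lt hQ
      have hQS : Q = S := by
        refine le_antisymm hf.le ?_
        have htop := Oliver.eq_top_of_prime_index hCi
          (fun x hx => (hQ.le hx : x ∈ Q.subgroupOf S)) (s := ⟨s, hf.le hsQ⟩) hsC
          (show (⟨s, hf.le hsQ⟩ : ↥S) ∈ Q.subgroupOf S from hsQ)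
        exact Subgroup.subgroupOf_eq_top.1 htop
      subst hQS
      obtain ⟨β, -, hβe⟩ := (IsIso.mk hf (hf.image_eq_of_mapsTo fun x hx => hf.mem_S hx)).exists_aut
      intro z hz
      refine ⟨?_, ?_⟩
      · rw [← he z (hzC hz), ← hβe z (zc_le hz)]
        exact Oliver.aut_zc hz
      · have hw := Oliver.aut_zc (β := β⁻¹) hz
        have e : autMap α (autMap β⁻¹ z) = z := by
          rw [← he _ (hzC hw), ← hβe _ (zc_le hw), autMap_inv_apply _ (zc_le hz)]
        rw [← e, ← autMap_mul _ _ (hzC hw), inv_mul_cancel, autMap_apply _ (hzC hw)]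
        exact hw
    | one =>
      intro z hz
      have : autMap (1 : MulAut ↥C) z = z := by rw [autMap_apply _ (hzC hz)]; rfl
      rw [inv_one, this]
      exact ⟨hz, hz⟩
    | mul α β _ _ iha ihb =>
      intro z hz
      rw [mul_inv_rev, autMap_mul _ _ (hzC hz), autMap_mul _ _ (hzC hz)]
      exact ⟨(iha _ (ihb z hz).1).1, (ihb _ (iha z hz).2).2⟩
    | inv α _ ih =>
      intro z hz
      rw [inv_inv]
      exact ⟨(ih z hz).2, (ih z hz).1⟩
  obtain ⟨z, hzm, hzZ, hnot⟩ := hmove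
  rcases extAut_dichotomy hS hF hlt (hfn hCS hnC) with ⟨-, h⟩ | ⟨h, -⟩
  · refine absurd ?_ hnot
    have := (hext ψ (h.ge hψ) z hzZ).1
    rwa [hψe z (hzC hzZ), hge z hzm, homFun_mem φ hzm] at this
  · exact h

end Cfsg.Agent.H90.MCE
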