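import Cfsg.Agent.H77.AutPGroup
import Cfsg.Agent.S0638
import Cfsg.Agent.PGroups.Commutator

/-!
Automorphisms of order prime to `p` of non-abelian metacyclic `p`-groups, `p` odd.
-/

set_option autoImplicit false
set_option linter.unusedSectionVars false
set_option linter.style.haveILetI false

namespace Cfsg.Agent.H90.MetaTame

open Subgroup
open scoped commutatorElement

universe u

variable {p : ℕ} [hp : Fact p.Prime]

theorem isCoatom_of_index {S : Type*} [Group S] {M : Subgroup S} (h : M.index = p) : IsCoatom M := by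
  refine ⟨fun e => ?_, fun K hK => ?_⟩
  · rw [e, Subgroup.index_top] at h
    exact hp.out.one_lt.ne h
  · have hd := Subgroup.relIndex_mul_index hK.le
    rw [h] at hd
    rcases (Nat.dvd_prime hp.out).1 (Dvd.intro_left _ hd) with h1 | h1
    · exact Subgroup.index_eq_one.1 h1
    · rw [h1] at hd
      exact absurd (Subgroup.relIndex_eq_one.1
        (Nat.eq_of_mul_eq_mul_right hp.out.pos (hd.trans (one_mul p).symm))) hK.not_ge

theorem metacyclic_quotient {S : Type*} [Group S] (hm : Cfsg.IsMetacyclic S) (L : Subgroup S)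
    [L.Normal] : Cfsg.IsMetacyclic (S ⧸ L) := by
  obtain ⟨N, hNn, hNc, hNq⟩ := hm
  haveI := hNn
  haveI := hNc
  haveI := hNq
  have hn : (N.map (QuotientGroup.mk' L)).Normal := hNn.map _ (QuotientGroup.mk'_surjective L)
  refine ⟨N.map (QuotientGroup.mk' L), hn, ?_, ?_⟩
  · exact isCyclic_of_surjective ((QuotientGroup.mk' L).subgroupMap N)
      ((QuotientGroup.mk' L).subgroupMap_surjective N)
  · exact isCyclic_of_surjective (QuotientGroup.map N _ (QuotientGroup.mk' L) (le_comap_map _ N))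
      (QuotientGroup.map_surjective_of_surjective _ _ _
        ((QuotientGroup.mk'_surjective _).comp (QuotientGroup.mk'_surjective L)) _)

/-- An invariant maximal subgroup of a non-abelian metacyclic `p`-group, `p` odd. -/
theorem exists_index_p (hp2 : p ≠ 2) : ∀ (N : ℕ) (S : Type u) [Group S] [Finite S],
    Nat.card S ≤ N → IsPGroup p S → Cfsg.IsMetacyclic S → (¬ ∀ a b : S, a * b = b * a) →
      ∃ M : Subgroup S, M.index = p ∧ ∀ α : MulAut S, ∀ x ∈ M, α x ∈ M
  | 0, S, _, _, hN, _, _, _ => absurd Nat.card_pos (not_lt.mpr hN)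
  | N + 1, S, _, _, hN, hS, hm, hna => by
    -- the subgroup of order `p` of the derived subgroup
    obtain ⟨C, hCn, hCc, hCq⟩ := hm
    haveI := hCn
    haveI := hCc
    haveI := hCq
    have hD : commutator S ≤ C := by
      letI : CommGroup (S ⧸ C) := hCq.commGroup
      rw [← Subgroup.Normal.quotient_commutative_iff_commutator_le]
      exact ⟨⟨mul_comm⟩⟩
    have hDc : IsCyclic ↥(commutator S) :=
      isCyclic_of_injective (Subgroup.inclusion hD) (Subgroup.inclusion_injective hD)
    haveI := hDc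
    letI : CommGroup ↥(commutator S) := hDc.commGroup
    have hDne : commutator S ≠ ⊥ := fun h => hna fun a b => by
      have := Subgroup.commutator_mem_commutator (Subgroup.mem_top a) (Subgroup.mem_top b)
      rw [← commutator_def, h, Subgroup.mem_bot, commutatorElement_eq_one_iff_mul_comm] at this
      exact this
    set L := (powMonoidHom p : ↥(commutator S) →* ↥(commutator S)).ker.map (commutator S).subtype
      with hLdef
    have hLmem : ∀ x, x ∈ L ↔ x ∈ commutator S ∧ x ^ p = 1 := fun x =>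
      ⟨fun ⟨y, hy, e⟩ => e ▸ ⟨y.2, congrArg Subtype.val hy⟩, fun ⟨h1, h2⟩ =>
        ⟨⟨x, h1⟩, Subtype.ext h2, rfl⟩⟩
    have hLcard : Nat.card L = p := by
      rw [hLdef, Subgroup.card_map_of_injective (commutator S).subtype_injective,
        IsCyclic.card_powMonoidHom_ker]
      obtain ⟨d, hd⟩ := IsPGroup.iff_card.mp (hS.to_subgroup (commutator S))
      rcases d with _ | d
      · exact absurd (Subgroup.card_eq_one.1 (by simpa using hd)) hDne
      · rw [hd, Nat.gcd_eq_right (dvd_pow_self p (Nat.succ_ne_zero d))]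
    have hLinv : ∀ α : MulAut S, ∀ x ∈ L, α x ∈ L := fun α x hx => by
      obtain ⟨h1, h2⟩ := (hLmem x).1 hx
      exact (hLmem _).2 ⟨Subgroup.characteristic_iff_le_comap.1
        (inferInstance : (commutator S).Characteristic) α h1, by rw [← map_pow, h2, map_one]⟩
    haveI hLn : L.Normal := ⟨fun x hx g => hLinv (MulAut.conj g) x hx⟩
    have hLz : L ≤ center S := PGroups.le_center_of_card_eq hS L hLcard
    by_cases hq : ∀ a b : S ⧸ L, a * b = b * a
    swap
    · have hlt : Nat.card (S ⧸ L) ≤ N := by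
        have h := L.card_eq_card_quotient_mul_card_subgroup
        have : Nat.card (S ⧸ L) < Nat.card (S ⧸ L) * p := lt_mul_of_one_lt_right Nat.card_pos hp.out.one_lt
        rw [hLcard] at h
        omega
      obtain ⟨M, hMi, hM⟩ := exists_index_p hp2 N (S ⧸ L) hlt (hS.to_quotient _)
        (metacyclic_quotient ⟨C, hCn, hCc, hCq⟩ L) hq
      refine ⟨M.comap (QuotientGroup.mk' L), ?_, fun α x hx => ?_⟩
      · rw [Subgroup.index_comap_of_surjective _ (QuotientGroup.mk'_surjective L), hMi]
      · have hmap : L.map (α : S →* S) = L := Subgroup.eq_of_le_of_card_ge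
          (by rintro _ ⟨y, hy, rfl⟩; exact hLinv α y hy)
          (by rw [Subgroup.card_map_of_injective (f := (α : S →* S)) α.injective])
        exact hM (QuotientGroup.congr L L α hmap) _ hx
    -- class two
    have hDL : commutator S ≤ L := Subgroup.Normal.quotient_commutative_iff_commutator_le.1 ⟨⟨hq⟩⟩
    obtain ⟨e, he⟩ : ∃ e, Monoid.exponent S = p ^ e := by
      obtain ⟨n, hn⟩ := IsPGroup.iff_card.mp hS
      obtain ⟨e, -, he⟩ := (Nat.dvd_prime_pow hp.out).1 (hn ▸ Group.exponent_dvd_nat_card (G := S))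
      exact ⟨e, he⟩
    have hnc : ¬ IsCyclic S := fun h => by
      letI := h.commGroup (α := S)
      exact hna mul_comm
    obtain ⟨hEab, hO2⟩ := Cfsg.Agent.S0638.result hp2 hS ⟨C, hCn, hCc, hCq⟩ hnc
    obtain ⟨m, rfl⟩ : ∃ m, e = m + 2 := by
      refine ⟨e - 2, ?_⟩
      by_contra hlt
      have hx : ∀ x : S, x ∈ Cfsg.omegaOne p (⊤ : Subgroup S) := fun x => Subgroup.subset_closure
        ⟨mem_top x, orderOf_dvd_iff_pow_eq_one.1 ((Monoid.order_dvd_exponent x).trans (by
          rw [he]; exact (pow_dvd_pow p (show e ≤ 1 by omega)).trans (pow_one p).dvd))⟩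
      exact hna fun a b => congrArg Subtype.val (hEab.1.is_comm.comm ⟨a, hx a⟩ ⟨b, hx b⟩)
    have hfm : ∀ a b : S, (a * b) ^ p ^ (m + 1) = a ^ p ^ (m + 1) * b ^ p ^ (m + 1) := fun a b => by
      have hc : ⁅b, a⁆ ∈ L := hDL (Subgroup.commutator_mem_commutator (mem_top b) (mem_top a))
      rw [PGroups.mul_pow_of_commutator_mem_center (hLz hc)]
      have hd : p ∣ (p ^ (m + 1)).choose 2 :=
        hp.out.dvd_choose_pow (by norm_num) (fun h => by
          have h1 : p ∣ 2 := ⟨p ^ m, by rw [h, pow_succ']⟩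
          exact hp2 ((Nat.prime_dvd_prime_iff_eq hp.out Nat.prime_two).1 h1))
      obtain ⟨c, hc'⟩ := hd
      rw [hc', pow_mul, ((hLmem _).1 hc).2, one_pow, mul_one]
    let f : S →* S := MonoidHom.mk' (fun x => x ^ p ^ (m + 1)) hfm
    have hfα : ∀ (α : MulAut S) (x : S), f (α x) = α (f x) := fun α x => (map_pow α x _).symm
    have hfO : f.range ≤ Cfsg.omegaOne p (⊤ : Subgroup S) := by
      rintro _ ⟨x, rfl⟩
      refine Subgroup.subset_closure ⟨mem_top _, ?_⟩
      show (x ^ p ^ (m + 1)) ^ p = 1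
      rw [← pow_mul, ← pow_succ, ← he, Monoid.pow_exponent_eq_one]
    have hdvd : Nat.card f.range ∣ p ^ 2 := hO2 ▸ Subgroup.card_dvd_of_le hfO
    obtain ⟨i, hi, hcard⟩ := (Nat.dvd_prime_pow hp.out).1 hdvd
    have hi0 : i ≠ 0 := by
      rintro rfl
      rw [pow_zero, Subgroup.card_eq_one, MonoidHom.range_eq_bot_iff] at hcard
      have h1 : Monoid.exponent S ∣ p ^ (m + 1) :=
        Monoid.exponent_dvd_of_forall_pow_eq_one fun x => DFunLike.congr_fun hcard x
      rw [he, Nat.pow_dvd_pow_iff_le_right hp.out.one_lt] at h1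
      omega
    obtain rfl | rfl : i = 1 ∨ i = 2 := by omega
    · refine ⟨f.ker, by rw [Subgroup.index_ker, hcard, pow_one], fun α x hx => ?_⟩
      rw [MonoidHom.mem_ker, hfα, MonoidHom.mem_ker.1 hx, map_one]
    · have hrange : f.range = Cfsg.omegaOne p (⊤ : Subgroup S) :=
        Subgroup.eq_of_le_of_card_ge hfO (by rw [hcard, hO2])
      have hLr : L ≤ f.range := hrange ▸ fun x hx =>
        Subgroup.subset_closure ⟨mem_top x, ((hLmem x).1 hx).2⟩
      refine ⟨L.comap f, ?_, fun α x hx => ?_⟩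
      · rw [Subgroup.index_comap]
        have h := Subgroup.card_mul_index (L.subgroupOf f.range)
        rw [Nat.card_congr (Subgroup.subgroupOfEquivOfLe hLr).toEquiv, hLcard, hcard, pow_two] at h
        exact Nat.eq_of_mul_eq_mul_left hp.out.pos h
      · show f (α x) ∈ L
        rw [hfα]
        exact hLinv α _ hx

/-- Automorphism groups of order prime to `p` are abelian of exponent dividing `p - 1`. -/
theorem tame {S : Type u} [Group S] [Finite S] (hp2 : p ≠ 2) (hS : IsPGroup p S)
    (hm : Cfsg.IsMetacyclic S) (hna : ¬ ∀ a b : S, a * b = b * a) (H : Subgroup (MulAut S))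
    (hH : (Nat.card H).Coprime p) : IsMulCommutative H ∧ ∀ h ∈ H, h ^ (p - 1) = 1 := by
  obtain ⟨M, hMi, hM⟩ := exists_index_p hp2 _ S le_rfl hS hm hna
  haveI hMn : M.Normal := ⟨fun x hx g => hM (MulAut.conj g) x hx⟩
  -- the Frattini quotient has order `p ^ 2`
  obtain ⟨N, hNn, hNc, hNq⟩ := hm
  haveI := hNn
  obtain ⟨⟨a, haN⟩, hagen⟩ := hNc.exists_generator
  obtain ⟨b', hbgen⟩ := hNq.exists_generator
  obtain ⟨b, rfl⟩ := QuotientGroup.mk'_surjective N b'
  have hgen : ∀ x : S, ∃ u v : ℤ, x = a ^ u * b ^ v := by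
    intro x
    obtain ⟨v, hv⟩ := hbgen (QuotientGroup.mk' N x)
    have h : x * (b ^ v)⁻¹ ∈ N := by
      rw [← QuotientGroup.eq_one_iff]
      show QuotientGroup.mk' N (x * (b ^ v)⁻¹) = 1
      rw [map_mul, map_inv, map_zpow, ← hv, mul_inv_cancel]
    obtain ⟨u, hu⟩ := hagen ⟨_, h⟩
    exact ⟨u, v, by rw [show a ^ u = x * (b ^ v)⁻¹ from congrArg Subtype.val hu]; group⟩
  obtain ⟨r, hr⟩ : ∃ r, (frattini S).index = p ^ r := hS.index (frattini S)
  have hr2 : r ≤ 2 := by
    have h := H77.card_spanFrattini_le hS 2 ![a, b]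
    rw [show H77.spanFrattini ![a, b] = ⊤ from by
      refine eq_top_iff.mpr fun x _ => ?_
      obtain ⟨u, v, rfl⟩ := hgen x
      exact mem_sup_left (mul_mem (zpow_mem (subset_closure (Set.mem_range_self (f := ![a, b]) 0)) u)
        (zpow_mem (subset_closure (Set.mem_range_self (f := ![a, b]) 1)) v)), card_top,
      ← (frattini S).index_mul_card, hr] at h
    exact (Nat.pow_le_pow_iff_right hp.out.one_lt).mp (Nat.le_of_mul_le_mul_right h Nat.card_pos)
  have hΦM : frattini S ≤ M := frattini_le_coatom (isCoatom_of_index hMi)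
  let Φ' := (frattini S).subgroupOf M
  have hΦn : Φ'.Normal := (inferInstance : (frattini S).Normal).comap M.subtype
  have hΦc : Nat.card (↥M ⧸ Φ') ∣ p := by
    have h := Subgroup.relIndex_mul_index hΦM
    rw [hMi, hr] at h
    rw [← Subgroup.index_eq_card]
    show (frattini S).relIndex M ∣ p
    refine (Nat.mul_dvd_mul_iff_right hp.out.pos).1 ?_
    rw [h, ← pow_two]
    exact pow_dvd_pow p hr2
  haveI : IsCyclic (↥M ⧸ Φ') := by
    rcases (Nat.dvd_prime hp.out).1 hΦc with h | h
    · haveI : Subsingleton (↥M ⧸ Φ') := (Nat.card_eq_one_iff_unique.1 h).1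
      infer_instance
    · exact isCyclic_of_prime_card h
  haveI : IsCyclic (S ⧸ M) := isCyclic_of_prime_card (p := p) (by rw [← Subgroup.index_eq_card, hMi])
  -- the two actions
  have hmapM : ∀ α : MulAut S, M.map (α : S →* S) = M := fun α => Subgroup.eq_of_le_of_card_ge
    (by rintro _ ⟨y, hy, rfl⟩; exact hM α y hy)
    (by rw [Subgroup.card_map_of_injective (f := (α : S →* S)) α.injective])
  let ρ₁ : MulAut S →* MulAut (S ⧸ M) := MonoidHom.mk'
    (fun α => QuotientGroup.congr M M α (hmapM α)) fun α β => MulEquiv.ext fun x => by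
      obtain ⟨x, rfl⟩ := QuotientGroup.mk'_surjective M x
      rfl
  let ρM : MulAut S →* MulAut ↥M := MonoidHom.mk'
    (fun α => (α.subgroupMap M).trans (MulEquiv.subgroupCongr (hmapM α)))
    fun α β => MulEquiv.ext fun x => Subtype.ext rfl
  have hmapΦ : ∀ α : MulAut S, Φ'.map (ρM α : ↥M →* ↥M) = Φ' := fun α => Subgroup.eq_of_le_of_card_ge
    (by
      rintro _ ⟨y, hy, rfl⟩
      exact Subgroup.characteristic_iff_le_comap.1
        (inferInstance : (frattini S).Characteristic) α hy)
    (by rw [Subgroup.card_map_of_injective (f := (ρM α : ↥M →* ↥M)) (ρM α).injective])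
  let ρ₂ : MulAut S →* MulAut (↥M ⧸ Φ') := MonoidHom.mk'
    (fun α => QuotientGroup.congr Φ' Φ' (ρM α) (hmapΦ α)) fun α β => MulEquiv.ext fun x => by
      obtain ⟨x, rfl⟩ := QuotientGroup.mk'_surjective Φ' x
      rfl
  have hker : ∀ g ∈ H, ρ₁ g = 1 → ρ₂ g = 1 → g = 1 := by
    intro g hg h1 h2
    have hcop : (orderOf g).Coprime p := by
      refine hH.coprime_dvd_left ?_
      rw [← Subgroup.orderOf_mk g hg]
      exact orderOf_dvd_natCard _
    have hM1 : ∀ x : S, x⁻¹ * g x ∈ M := fun x =>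
      QuotientGroup.eq.1 (DFunLike.congr_fun h1 (x : S ⧸ M)).symm
    have hM2 : ∀ c ∈ M, c⁻¹ * g c ∈ frattini S := fun c hc =>
      (QuotientGroup.eq.1 (DFunLike.congr_fun h2 ((⟨c, hc⟩ : ↥M) : ↥M ⧸ Φ')).symm :
        (⟨c, hc⟩ : ↥M)⁻¹ * ρM g ⟨c, hc⟩ ∈ Φ')
    have hΦ : ∀ x : S, g x * x⁻¹ ∈ frattini S := by
      intro x
      let π := QuotientGroup.mk' (frattini S)
      have hn : ∀ n : ℕ, π ((g ^ n) x) = π x * π (x⁻¹ * g x) ^ n := by
        intro n
        induction n generalizing x with
        | zero => simp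
        | succ n ih =>
          rw [pow_succ, MulAut.mul_apply, ih (g x), pow_succ' _ n]
          have e : π ((g x)⁻¹ * g (g x)) = π (x⁻¹ * g x) := by
            have h3 := (QuotientGroup.eq_one_iff _).2 (hM2 _ (hM1 x))
            change π ((x⁻¹ * g x)⁻¹ * g (x⁻¹ * g x)) = 1 at h3
            rw [map_mul π, map_inv, inv_mul_eq_one, map_mul g, map_inv g] at h3
            exact h3.symm
          rw [e, ← mul_assoc, ← map_mul, mul_inv_cancel_left]
      have h1' : π (x⁻¹ * g x) ^ orderOf g = 1 := by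
        have := hn (orderOf g)
        rwa [pow_orderOf_eq_one, MulAut.one_apply, eq_comm, mul_eq_left] at this
      have h2' : π (x⁻¹ * g x) ^ p = 1 := by
        rw [← map_pow]
        exact (QuotientGroup.eq_one_iff _).2 (PGroups.pow_mem_frattini hS _)
      have h3 : π (x⁻¹ * g x) = 1 := by
        have := pow_gcd_eq_one.2 ⟨h1', h2'⟩
        rwa [hcop, pow_one] at this
      refine (QuotientGroup.eq_one_iff _).1 (?_ : π (g x * x⁻¹) = 1)
      rw [map_mul, map_inv, inv_mul_eq_one] at h3
      rw [map_mul, map_inv, h3, mul_inv_cancel]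
    have hd := H77.card_trivial_on_frattini_dvd hS hr (Subgroup.zpowers g) fun α hα x => by
      obtain ⟨n, rfl⟩ := (isOfFinOrder_of_finite g).mem_powers_iff_mem_zpowers.2 hα
      induction n generalizing x with
      | zero => simp [(frattini S).one_mem]
      | succ n ih =>
        show (g ^ (n + 1)) x * x⁻¹ ∈ _
        rw [pow_succ, MulAut.mul_apply]
        have := (frattini S).mul_mem (ih (g x) (Subgroup.npow_mem_zpowers g n)) (hΦ x)
        rwa [mul_assoc, inv_mul_cancel_left] at this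
    rw [Nat.card_zpowers] at hd
    obtain ⟨d, hd'⟩ := IsPGroup.iff_card.mp (hS.to_subgroup (frattini S))
    rw [hd', ← pow_mul] at hd
    exact orderOf_eq_one_iff.1 (Nat.Coprime.eq_one_of_dvd (hcop.pow_right (d * r)) hd)
  have hcomm : ∀ {G : Type u} [Group G] [IsCyclic G] (x y : MulAut G), x * y = y * x := fun x y =>
    (IsCyclic.mulAutMulEquiv _).injective (by rw [map_mul, map_mul, mul_comm])
  have hpow : ∀ {G : Type u} [Group G] [Finite G] [IsCyclic G], Nat.card G ∣ p →
      ∀ x : MulAut G, x ^ (p - 1) = 1 := by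
    intro G _ _ _ hd x
    refine orderOf_dvd_iff_pow_eq_one.1 ((orderOf_dvd_natCard x).trans ?_)
    rw [IsCyclic.card_mulAut]
    rcases (Nat.dvd_prime hp.out).1 hd with h | h
    · rw [h, Nat.totient_one]; exact one_dvd _
    · rw [h, Nat.totient_prime hp.out]
  refine ⟨⟨⟨fun x y => ?_⟩⟩, fun h hh => ?_⟩
  · refine Subtype.ext (mul_inv_eq_one.1 (hker _ (H.mul_mem (x * y).2 (H.inv_mem (y * x).2)) ?_ ?_))
    · rw [map_mul, map_inv, mul_inv_eq_one, Subgroup.coe_mul, Subgroup.coe_mul, map_mul, map_mul]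
      exact hcomm _ _
    · rw [map_mul, map_inv, mul_inv_eq_one, Subgroup.coe_mul, Subgroup.coe_mul, map_mul, map_mul]
      exact hcomm _ _
  · refine hker _ (H.pow_mem hh _) ?_ ?_
    · rw [map_pow, hpow (by rw [← Subgroup.index_eq_card, hMi])]
    · rw [map_pow, hpow hΦc]

end Cfsg.Agent.H90.MetaTame
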