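import Cfsg.Agent.PGroups.TwoGroups
import Cfsg.Agent.S1896
import Cfsg.Agent.FusionSys.Normal
import Cfsg.Agent.FusionSys.Alperin
import Cfsg.Agent.FusionSys.StronglyEmbedded
import Cfsg.Prelude.Def_OddOrderLocal

/-!
Strongly closed metacyclic 2-subgroups.
-/

set_option autoImplicit false
set_option linter.unusedSectionVars false
set_option linter.style.haveILetI false

namespace Cfsg.Agent.H90.Meta2

open Subgroup
open scoped commutatorElement Pointwise

variable {G : Type*} [Group G] [Finite G]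

theorem zpow_two_pow_of_odd {r : ℤ} (h : ¬ (2 : ℤ) ∣ r) {j : ℕ} (hj : Even j) : (4 : ℤ) ∣ r ^ j - 1 := by
  obtain ⟨i, rfl⟩ := hj
  obtain ⟨m, rfl⟩ : ∃ m, r = 2 * m + 1 := ⟨r / 2, by omega⟩
  have h4 : (4 : ℤ) ∣ (2 * m + 1) * (2 * m + 1) - 1 := ⟨m * m + m, by ring⟩
  rw [← two_mul, pow_mul, pow_two]
  have h5 := sub_dvd_pow_sub_pow ((2 * m + 1) * (2 * m + 1)) 1 i
  rw [one_pow] at h5
  exact h4.trans h5

/-- A metacyclic 2-group with a non-abelian subgroup of order 8 has maximal class. -/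
theorem maximal_class (hG : IsPGroup 2 G) (hm : Cfsg.IsMetacyclic G) {T : Subgroup G}
    (hT : Nat.card T = 8) (hna : ¬ ∀ a ∈ T, ∀ b ∈ T, a * b = b * a) :
    (∃ m : ℕ, Nonempty (G ≃* DihedralGroup m)) ∨ (∃ m : ℕ, Nonempty (G ≃* QuaternionGroup m)) ∨
      Cfsg.IsQuasiDihedral G := by
  haveI : Fact (Nat.Prime 2) := ⟨Nat.prime_two⟩
  obtain ⟨N, hNn, hNc, hQc⟩ := hm
  haveI := hNn
  obtain ⟨⟨a, haN⟩, hagen⟩ := hNc.exists_generator
  have hNa : ∀ {x : G}, x ∈ N → x ∈ zpowers a := fun {x} hx => by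
    obtain ⟨t, ht⟩ := hagen ⟨x, hx⟩
    exact ⟨t, congrArg Subtype.val ht⟩
  have haN' : zpowers a ≤ N := zpowers_le.2 haN
  obtain ⟨g', hggen⟩ := hQc.exists_generator
  obtain ⟨g, rfl⟩ := QuotientGroup.mk'_surjective N g'
  -- `T ∩ N` is cyclic of order four
  let M : Subgroup ↥T := N.subgroupOf T
  have hMn : M.Normal := hNn.comap T.subtype
  have hMc : ∀ x : ↥T, x ∈ M → (x : G) ∈ zpowers a := fun x hx => hNa hx
  haveI : IsCyclic (↥T ⧸ M) :=
    isCyclic_of_injective (QuotientGroup.map M N T.subtype le_rfl) (by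
      intro x y hxy
      obtain ⟨x, rfl⟩ := QuotientGroup.mk'_surjective M x
      obtain ⟨y, rfl⟩ := QuotientGroup.mk'_surjective M y
      have h : ((x : G) : G ⧸ N) = ((y : G) : G ⧸ N) := hxy
      exact QuotientGroup.eq.2 (QuotientGroup.eq.1 h : (x : G)⁻¹ * y ∈ N))
  have hTna : ¬ ∀ x y : ↥T, x * y = y * x := fun h =>
    hna fun x hx y hy => congrArg Subtype.val (h ⟨x, hx⟩ ⟨y, hy⟩)
  have hM2 : ¬ Nat.card M ≤ 2 := fun h => by
    apply hTna
    refine commutative_of_cyclic_center_quotient (QuotientGroup.mk' M) ?_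
    rw [QuotientGroup.ker_mk']
    intro x hx
    by_cases hx1 : x = 1
    · rw [hx1]; exact one_mem _
    haveI : Nontrivial ↥M := ⟨⟨⟨x, hx⟩, 1, fun h => hx1 (congrArg Subtype.val h)⟩⟩
    have h2 : Nat.card ↥M = 2 := le_antisymm h Finite.one_lt_card
    exact PGroups.le_center_of_card_eq (hG.to_subgroup T) M h2 hx
  have hMdvd : Nat.card M ∣ 8 := hT ▸ M.card_subgroup_dvd_card
  have hM4 : Nat.card M = 4 := by
    have h8 : Nat.card M ≠ 8 := fun h => hna fun x hx y hy => by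
      have hMtop : M = ⊤ := Subgroup.eq_top_of_card_eq _ (h.trans hT.symm)
      obtain ⟨i, rfl⟩ := hMc ⟨x, hx⟩ (hMtop.ge (mem_top _))
      obtain ⟨j, e⟩ := hMc ⟨y, hy⟩ (hMtop.ge (mem_top _))
      rw [show y = a ^ j from e.symm, ← zpow_add, ← zpow_add, add_comm]
    obtain ⟨i, hi, e⟩ := (Nat.dvd_prime_pow Nat.prime_two).1 (show Nat.card M ∣ 2 ^ 3 from hMdvd)
    interval_cases i <;> simp_all
  haveI : IsCyclic ↥M := isCyclic_of_injective
    (((T.subtype.comp M.subtype).codRestrict N fun x => x.2) : ↥M →* ↥N) fun x y h =>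
      Subtype.ext (Subtype.ext (congrArg (fun z : ↥N => (z : G)) h))
  obtain ⟨u', hu'⟩ := IsCyclic.exists_generator (α := ↥M)
  have hou : orderOf ((u' : ↥T) : G) = 4 := by
    rw [← hM4, ← orderOf_eq_card_of_forall_mem_zpowers hu', Subgroup.orderOf_coe, Subgroup.orderOf_coe]
  set u : G := ((u' : ↥T) : G) with hu
  have huT : u ∈ T := (u' : ↥T).2
  have huN : u ∈ N := u'.2
  obtain ⟨t, htT, htN⟩ : ∃ t ∈ T, t ∉ N := by
    by_contra h
    push Not at h
    have : M = ⊤ := eq_top_iff.2 fun x _ => h x x.2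
    rw [this, Subgroup.card_top, hT] at hM4
    norm_num at hM4
  have hMi : M.index = 2 := by
    have h := Subgroup.card_mul_index M
    rw [hM4, hT] at h
    omega
  have ht2 : t ^ 2 ∈ N := Subgroup.sq_mem_of_index_two hMi ⟨t, htT⟩
  have htu : t * u * t⁻¹ ≠ u := by
    intro e
    apply hTna
    refine commutative_of_cyclic_center_quotient (QuotientGroup.mk' M) ?_
    rw [QuotientGroup.ker_mk']
    intro x hx
    obtain ⟨i, hi⟩ := hu' ⟨x, hx⟩
    have hxi : u ^ i = (x : G) := congrArg (fun w : ↥M => ((w : ↥T) : G)) hi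
    have htc : Commute t (x : G) := hxi ▸ Commute.zpow_right (show Commute t u from mul_inv_eq_iff_eq_mul.1 e) i
    refine Subgroup.mem_center_iff.2 fun y => Subtype.ext ?_
    show (y : G) * x = x * y
    have hM : ∀ z : ↥T, z ∈ M → Commute (z : G) x := fun z hz => by
      obtain ⟨l, hl⟩ := hu' ⟨z, hz⟩
      rw [← hxi, ← show u ^ l = (z : G) from congrArg (fun w : ↥M => ((w : ↥T) : G)) hl]
      exact Commute.zpow_zpow_self u l i
    by_cases hy : y ∈ M
    · exact (hM y hy).eq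
    · have hyt : y * ⟨t, htT⟩ ∈ M :=
        (Subgroup.mul_mem_iff_of_index_two hMi).2 ⟨fun h => absurd h hy, fun h => absurd h htN⟩
      have h1 : Commute ((y : G) * t) x := hM _ hyt
      have h2 := h1.mul_left htc.inv_left
      rwa [mul_inv_cancel_right] at h2
  obtain ⟨m, hm⟩ := IsPGroup.iff_orderOf.mp hG a
  obtain ⟨i, hi⟩ := hNa huN
  have hi' : a ^ i = u := hi
  have hm2 : 2 ≤ m := by
    have h4 : (4 : ℕ) ∣ 2 ^ m := by
      rw [← hm, ← hou, ← hi']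
      exact orderOf_dvd_of_mem_zpowers (zpow_mem (mem_zpowers a) i)
    exact (Nat.pow_dvd_pow_iff_le_right one_lt_two).1 (show 2 ^ 2 ∣ 2 ^ m from h4)
  obtain ⟨r₀, hr₀⟩ := PGroups.exists_conj_eq_zpow
    (show (zpowers a).Normal from le_antisymm haN' (fun x hx => hNa hx) ▸ hNn) g
  have hr₀odd : ¬ (2 : ℤ) ∣ r₀ := by
    rintro ⟨w, rfl⟩
    have h : g * a ^ ((2 : ℤ) ^ (m - 1)) * g⁻¹ = 1 := by
      rw [← conj_zpow, hr₀, ← zpow_mul, PGroups.zpow_eq_one_iff_dvd hm]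
      refine ⟨w, ?_⟩
      push_cast
      rw [show (2 : ℤ) ^ m = 2 * 2 ^ (m - 1) by rw [← pow_succ', Nat.sub_add_cancel (by omega)]]
      ring
    rw [conj_eq_one_iff, PGroups.zpow_eq_one_iff_dvd hm] at h
    have h3 : 2 ^ m ∣ 2 ^ (m - 1) := Int.natCast_dvd_natCast.mp (by exact_mod_cast h)
    exact absurd ((Nat.pow_dvd_pow_iff_le_right one_lt_two).mp h3) (by omega)
  -- write `t` through the generators
  obtain ⟨j, hj⟩ : ∃ j : ℕ, QuotientGroup.mk' N t = QuotientGroup.mk' N g ^ j := by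
    obtain ⟨j, hj⟩ := (isOfFinOrder_of_finite (QuotientGroup.mk' N g)).mem_powers_iff_mem_zpowers.2
      (hggen (QuotientGroup.mk' N t))
    exact ⟨j, hj.symm⟩
  obtain ⟨k, hk⟩ : (g ^ j)⁻¹ * t ∈ zpowers a := hNa (QuotientGroup.eq.1 (by
    show QuotientGroup.mk' N (g ^ j) = QuotientGroup.mk' N t
    rw [map_pow, hj]))
  have hk' : t = g ^ j * a ^ k := by rw [show a ^ k = (g ^ j)⁻¹ * t from hk]; group
  have hr : t * a * t⁻¹ = a ^ (r₀ ^ j) := by
    rw [hk', show g ^ j * a ^ k * a * (g ^ j * a ^ k)⁻¹ = g ^ j * a * (g ^ j)⁻¹ by group]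
    exact PGroups.conj_pow_of_conj_eq_zpow hr₀ j
  have hodd : Odd j := by
    by_contra h
    rw [Nat.not_odd_iff_even] at h
    apply htu
    rw [← hi', ← conj_zpow, hr, ← zpow_mul, PGroups.zpow_eq_zpow_iff_dvd hm]
    have h4 : a ^ (4 * i) = 1 := by
      rw [mul_comm, zpow_mul, hi', show (4 : ℤ) = ((4 : ℕ) : ℤ) from rfl, zpow_natCast, ← hou,
        pow_orderOf_eq_one]
    rw [PGroups.zpow_eq_one_iff_dvd hm] at h4
    refine h4.trans ?_
    obtain ⟨w, hw⟩ := zpow_two_pow_of_odd hr₀odd h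
    exact ⟨-w, by rw [show r₀ ^ j = 4 * w + 1 by linarith]; ring⟩
  have hidx : N.index = 2 := by
    rw [Subgroup.index_eq_card, ← orderOf_eq_card_of_forall_mem_zpowers hggen]
    refine orderOf_eq_prime ?_ fun e => htN ?_
    · have h2j : (QuotientGroup.mk' N g ^ 2) ^ j = 1 := by
        rw [← pow_mul, mul_comm, pow_mul, ← hj, ← map_pow]
        exact (QuotientGroup.eq_one_iff _).2 ht2
      obtain ⟨e, he⟩ := IsPGroup.iff_orderOf.mp (hG.to_quotient N) (QuotientGroup.mk' N g ^ 2)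
      have hd := orderOf_dvd_of_pow_eq_one h2j
      rw [he] at hd
      rw [← orderOf_eq_one_iff, he]
      rcases Nat.eq_zero_or_pos e with rfl | hepos
      · rfl
      · exact absurd ((dvd_pow_self 2 hepos.ne').trans hd) hodd.not_two_dvd_nat
    · rw [e, one_pow] at hj
      exact (QuotientGroup.eq_one_iff t).1 hj
  have hcard : Nat.card G = 2 * 2 ^ m := by
    rw [← N.index_mul_card, hidx, le_antisymm (fun x hx => hNa hx) haN', Nat.card_zpowers, hm]
  have htz : t ∉ zpowers a := fun h => htN (haN' h)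
  have hne : t * a * t⁻¹ ≠ a := fun e => htu (by rw [← hi', ← conj_zpow, e])
  have hout : ∀ l : ℤ, t * a ^ l ∉ zpowers a := fun l h => htz (by
    simpa using mul_mem h (inv_mem (zpow_mem (mem_zpowers a) l)))
  obtain ⟨-, h | h | h⟩ := PGroups.standard_generator hm (hNa ht2) hr hne
  · obtain ⟨hinv, l, hl | hl⟩ := h
    · haveI : NeZero (2 ^ m) := ⟨by positivity⟩
      refine Or.inl ⟨2 ^ m, PGroups.nonempty_mulEquiv_dihedral hm (hout l) hl ?_ hcard⟩
      rw [show t * a ^ l * a * (t * a ^ l)⁻¹ = t * a * t⁻¹ by group, hinv]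
    · haveI : NeZero (2 ^ (m - 1)) := ⟨by positivity⟩
      have e2 : 2 ^ m = 2 * 2 ^ (m - 1) := by rw [← pow_succ', Nat.sub_add_cancel (by omega)]
      refine Or.inr (Or.inl ⟨2 ^ (m - 1), PGroups.nonempty_mulEquiv_quaternion (hm.trans e2) (hout l)
        hl ?_ (by rw [hcard, e2]; ring)⟩)
      rw [show t * a ^ l * a * (t * a ^ l)⁻¹ = t * a * t⁻¹ by group, hinv]
  · obtain ⟨h3, hdiv, l, hl⟩ := h
    refine Or.inr (Or.inr ⟨m, h3, by rw [hcard, pow_succ'], a, t * a ^ l, hm,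
      orderOf_eq_prime hl fun e => hout l (e ▸ one_mem _), ?_⟩)
    rw [show t * a ^ l * a * (t * a ^ l)⁻¹ = t * a * t⁻¹ by group, hr, ← zpow_natCast,
      PGroups.zpow_eq_zpow_iff_dvd hm, Nat.cast_sub (Nat.one_le_two_pow)]
    push_cast
    obtain ⟨w, hw⟩ := hdiv
    exact ⟨-w, by linarith⟩
  · exfalso
    obtain ⟨h3, ⟨w, hw⟩, -⟩ := h
    apply htu
    rw [← hi', ← conj_zpow, hr, ← zpow_mul, PGroups.zpow_eq_zpow_iff_dvd hm]
    have h4 : a ^ (4 * i) = 1 := by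
      rw [mul_comm, zpow_mul, hi', show (4 : ℤ) = ((4 : ℕ) : ℤ) from rfl, zpow_natCast, ← hou,
        pow_orderOf_eq_one]
    rw [PGroups.zpow_eq_one_iff_dvd hm] at h4
    refine h4.trans ?_
    obtain ⟨l, rfl⟩ : ∃ l, m = l + 3 := ⟨m - 3, by omega⟩
    refine ⟨-(2 ^ (l + 1) * w + 2 ^ l), ?_⟩
    rw [show r₀ ^ j = (2 : ℤ) ^ (l + 3) * w + 1 + 2 ^ (l + 3 - 1) by linarith,
      show l + 3 - 1 = l + 2 by omega]
    ring

/-- If `y` normalises the abelian subgroup `R`, `y ^ 2 ∈ R`, and `r⁻¹ * y r y⁻¹` has maximal order in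
`R`, then that order is at most two in a metacyclic 2-group. -/
theorem four_of_swap (hG : IsPGroup 2 G) (hm : Cfsg.IsMetacyclic G) {R : Subgroup G} (hR : ∀ a ∈ R, ∀ b ∈ R, a * b = b * a)
    {y r : G} (hy : ∀ x ∈ R, y * x * y⁻¹ ∈ R) (hy2 : y ^ 2 ∈ R) (hr : r ∈ R)
    (hexp : ∀ z ∈ R, z ^ orderOf (r⁻¹ * (y * r * y⁻¹)) = 1) :
    orderOf (r⁻¹ * (y * r * y⁻¹)) ≤ 2 := by
  obtain ⟨N, hNn, hNc, hQc⟩ := hm
  haveI := hNn
  letI : CommGroup (G ⧸ N) := hQc.commGroup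
  set f := QuotientGroup.mk' N
  set d := r⁻¹ * (y * r * y⁻¹) with hd
  have hdR : d ∈ R := R.mul_mem (R.inv_mem hr) (hy r hr)
  have hdN : d ∈ N := by
    rw [← QuotientGroup.eq_one_iff (N := N)]
    show f d = 1
    rw [hd, map_mul, map_mul, map_mul, map_inv, map_inv, mul_inv_cancel_comm, inv_mul_cancel]
  have hy2r : y * (y * r * y⁻¹) * y⁻¹ = r := by
    rw [show y * (y * r * y⁻¹) * y⁻¹ = y ^ 2 * r * (y ^ 2)⁻¹ by rw [pow_two]; group, hR _ hy2 r hr,
      mul_inv_cancel_right]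
  have hyd : y * d * y⁻¹ = d⁻¹ := by
    have e : y * d * y⁻¹ = (y * r * y⁻¹)⁻¹ * (y * (y * r * y⁻¹) * y⁻¹) := by rw [hd]; group
    rw [e, hy2r, hd]; group
  by_contra hlt
  -- the coset of `y` avoids `N`
  have hout : ∀ s ∈ R, s * y ∉ N := by
    intro s hs h
    apply hlt
    letI : CommGroup ↥N := hNc.commGroup
    have hc : s * y * d = d * (s * y) :=
      congrArg Subtype.val (mul_comm (⟨_, h⟩ : ↥N) ⟨d, hdN⟩)
    have h1 : s * d⁻¹ * s⁻¹ = d := by
      rw [← hyd, show s * (y * d * y⁻¹) * s⁻¹ = s * y * d * (s * y)⁻¹ by group, hc,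
        mul_inv_cancel_right]
    rw [hR s hs _ (R.inv_mem hdR), mul_inv_cancel_right] at h1
    exact Nat.le_of_dvd two_pos (orderOf_dvd_of_pow_eq_one
      (by rw [pow_two]; nth_rw 1 [← h1]; exact inv_mul_cancel d))
  -- the image of `R` consists of squares of images of the coset
  obtain ⟨g, hg⟩ := hQc.exists_generator
  let M : Subgroup G :=
    { carrier := {z | z ∈ R ∨ ∃ s ∈ R, z = s * y}
      one_mem' := Or.inl R.one_mem
      mul_mem' := by
        rintro z w (hz | ⟨s, hs, rfl⟩) (hw | ⟨s', hs', rfl⟩)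
        · exact Or.inl (R.mul_mem hz hw)
        · exact Or.inr ⟨z * s', R.mul_mem hz hs', (mul_assoc _ _ _).symm⟩
        · exact Or.inr ⟨s * (y * w * y⁻¹), R.mul_mem hs (hy w hw), by group⟩
        · refine Or.inl ?_
          rw [show s * y * (s' * y) = s * (y * s' * y⁻¹) * y ^ 2 by group]
          exact R.mul_mem (R.mul_mem hs (hy s' hs')) hy2
      inv_mem' := by
        rintro z (hz | ⟨s, hs, rfl⟩)
        · exact Or.inl (R.inv_mem hz)
        · refine Or.inr ⟨(y ^ 2)⁻¹ * (y * s⁻¹ * y⁻¹), R.mul_mem (R.inv_mem hy2) (hy _ (R.inv_mem hs)), ?_⟩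
          group }
  obtain ⟨e, heR, hey, hre⟩ : ∃ e ∈ R, y * e * y⁻¹ = e ∧ f r = f e := by
    obtain ⟨c, hc⟩ := IsCyclic.exists_generator (α := ↥(M.map f))
    obtain ⟨z, hzM, hzc⟩ := c.2
    rcases hzM with hzR | ⟨s, hs, rfl⟩
    · -- then `y` maps into the image of `R`
      exfalso
      obtain ⟨i, hi⟩ := hc ⟨f y, y, Or.inr ⟨1, R.one_mem, (one_mul y).symm⟩, rfl⟩
      have hi' : f (z ^ i) = f y := by
        rw [map_zpow, hzc]
        exact congrArg Subtype.val hi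
      refine hout (z ^ i)⁻¹ (R.inv_mem (R.zpow_mem hzR i)) ?_
      rw [← QuotientGroup.eq_one_iff (N := N)]
      show f _ = 1
      rw [map_mul, map_inv, hi', inv_mul_cancel]
    · obtain ⟨i, hi⟩ := hc ⟨f r, r, Or.inl hr, rfl⟩
      have hi' : f ((s * y) ^ i) = f r := by
        rw [map_zpow, hzc]
        exact congrArg Subtype.val hi
      rcases Int.even_or_odd' i with ⟨l, rfl | rfl⟩
      · refine ⟨((s * y) ^ (2 : ℤ)) ^ l, R.zpow_mem ?_ l, ?_, by rw [← zpow_mul, hi']⟩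
        · rw [zpow_two, show s * y * (s * y) = s * (y * s * y⁻¹) * y ^ 2 by group]
          exact R.mul_mem (R.mul_mem hs (hy s hs)) hy2
        · have hmem : ((s * y) ^ (2 : ℤ)) ^ l ∈ R := by
            refine R.zpow_mem ?_ l
            rw [zpow_two, show s * y * (s * y) = s * (y * s * y⁻¹) * y ^ 2 by group]
            exact R.mul_mem (R.mul_mem hs (hy s hs)) hy2
          set e := ((s * y) ^ (2 : ℤ)) ^ l with he
          have hcm : Commute (s * y) e := ((Commute.refl _).zpow_right _).zpow_right l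
          calc y * e * y⁻¹ = s⁻¹ * (s * y * e * (s * y)⁻¹) * s := by group
            _ = s⁻¹ * e * s := by rw [hcm.eq, mul_inv_cancel_right]
            _ = e := by rw [hR _ (R.inv_mem hs) _ hmem, inv_mul_cancel_right]
      · exfalso
        rw [zpow_add, zpow_one, zpow_mul, map_mul] at hi'
        have hsR : (s * y) ^ (2 : ℤ) ∈ R := by
          rw [zpow_two, show s * y * (s * y) = s * (y * s * y⁻¹) * y ^ 2 by group]
          exact R.mul_mem (R.mul_mem hs (hy s hs)) hy2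
        refine hout (r⁻¹ * ((s * y) ^ (2 : ℤ)) ^ l * s)
          (R.mul_mem (R.mul_mem (R.inv_mem hr) (R.zpow_mem hsR l)) hs) ?_
        rw [← QuotientGroup.eq_one_iff (N := N)]
        show f _ = 1
        rw [mul_assoc, map_mul, map_mul, map_inv, mul_assoc, hi', inv_mul_cancel]
  obtain ⟨i, hi⟩ : e⁻¹ * r ∈ zpowers d := by
    have hxN : e⁻¹ * r ∈ N := by
      rw [← QuotientGroup.eq_one_iff (N := N)]
      show f _ = 1
      rw [map_mul, map_inv, hre, inv_mul_cancel]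
    haveI := hNc
    letI : CommGroup ↥N := hNc.commGroup
    let d' : ↥N := ⟨d, hdN⟩
    have hle : zpowers d' ≤ (powMonoidHom (orderOf d) : ↥N →* ↥N).ker := by
      rw [zpowers_le]
      exact Subtype.ext (pow_orderOf_eq_one d)
    have heq := Subgroup.eq_of_le_of_card_ge hle (by
      rw [IsCyclic.card_powMonoidHom_ker, Nat.card_zpowers, Subgroup.orderOf_mk]
      exact Nat.le_of_dvd (orderOf_pos d) (Nat.gcd_dvd_right _ _))
    obtain ⟨i, hi⟩ := heq.ge (show (⟨_, hxN⟩ : ↥N) ∈ (powMonoidHom (orderOf d) : ↥N →* ↥N).ker from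
      Subtype.ext (hexp _ (R.mul_mem (R.inv_mem heR) hr)))
    exact ⟨i, congrArg Subtype.val hi⟩
  have hre' : r = e * d ^ i := by rw [show d ^ i = e⁻¹ * r from hi, mul_inv_cancel_left]
  have hd2 : d ^ (2 * i + 1) = 1 := by
    have h : y * r * y⁻¹ = e * d ^ (-i) := by
      rw [hre', show y * (e * d ^ i) * y⁻¹ = y * e * y⁻¹ * (y * d * y⁻¹) ^ i by rw [conj_zpow]; group,
        hey, hyd, inv_zpow, zpow_neg]
    have h2 : d = d ^ (-i) * d ^ (-i) := by
      conv_lhs => rw [hd, h, hre', mul_inv_rev, ← zpow_neg, mul_assoc, inv_mul_cancel_left]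
    have h3 : d * d ^ (2 * i) = 1 := by
      conv_lhs => arg 1; rw [h2]
      rw [← zpow_add, ← zpow_add, show -i + -i + 2 * i = 0 by ring, zpow_zero]
    rw [zpow_add_one]
    exact (Commute.self_zpow d (2 * i)).eq.symm.trans h3
  obtain ⟨k, hk⟩ := IsPGroup.iff_orderOf.mp hG d
  rw [hk] at hlt
  have h2 := orderOf_dvd_iff_zpow_eq_one.2 hd2
  rw [hk] at h2
  rcases Nat.eq_zero_or_pos k with rfl | h0
  · exact hlt (by norm_num)
  · have h3 : ((2 : ℕ) : ℤ) ∣ 2 * i + 1 :=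
      (Int.natCast_dvd_natCast.2 (dvd_pow_self 2 h0.ne')).trans h2
    omega

/-- Restriction of the automorphisms in `A` to an invariant subgroup. -/
def res {X : Type*} [Group X] {A : Subgroup (MulAut X)} {R : Subgroup X}
    (h : ∀ α ∈ A, ∀ x ∈ R, α x ∈ R) : ↥A →* MulAut ↥R where
  toFun α :=
    { toFun := fun x => ⟨(α : MulAut X) x, h _ α.2 x x.2⟩
      invFun := fun x => ⟨(α : MulAut X)⁻¹ x, h _ (A.inv_mem α.2) x x.2⟩
      left_inv := fun x => Subtype.ext (MulAut.inv_apply_self _ _ _)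
      right_inv := fun x => Subtype.ext (MulAut.apply_inv_self _ _ _)
      map_mul' := fun x y => Subtype.ext (map_mul (α : MulAut X) (x : X) y) }
  map_one' := MulEquiv.ext fun _ => rfl
  map_mul' _ _ := MulEquiv.ext fun _ => rfl

theorem res_apply {X : Type*} [Group X] {A : Subgroup (MulAut X)} {R : Subgroup X}
    (h : ∀ α ∈ A, ∀ x ∈ R, α x ∈ R) (α : ↥A) (x : ↥R) : ((res h α x : ↥R) : X) = (α : MulAut X) x :=
  rfl

/-- Automorphisms moving only inside an invariant subgroup `R` and restricting there into a normal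
`2`-subgroup form a normal `2`-subgroup. -/
theorem normal_two_subgroup {X : Type*} [Group X] [Finite X] {A : Subgroup (MulAut X)}
    {R : Subgroup X} (h : ∀ α ∈ A, ∀ x ∈ R, α x ∈ R) (hX : IsPGroup 2 X) {L : Subgroup (MulAut ↥R)}
    (hLn : L.Normal) (hL : IsPGroup 2 L) :
    ∃ K : Subgroup ↥A, K.Normal ∧ IsPGroup 2 K ∧
      ∀ α : ↥A, (∀ x, x⁻¹ * (α : MulAut X) x ∈ R) → res h α ∈ L → α ∈ K := by
  let K2 : Subgroup ↥A :=
    { carrier := {α | ∀ x, x⁻¹ * (α : MulAut X) x ∈ R}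
      one_mem' := fun x => by simp [R.one_mem]
      mul_mem' := fun {α β} ha hb x => by
        have := R.mul_mem (hb x) (ha ((β : MulAut X) x))
        rwa [← mul_assoc, mul_inv_cancel_right] at this
      inv_mem' := fun {α} ha x => by
        have := R.inv_mem (ha ((α : MulAut X)⁻¹ x))
        rwa [MulAut.apply_inv_self, mul_inv_rev, inv_inv] at this }
  have hK2n : K2.Normal := ⟨fun α hα γ x => by
    show x⁻¹ * (γ : MulAut X) ((α : MulAut X) ((γ : MulAut X)⁻¹ x)) ∈ R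
    have := h _ γ.2 _ (hα ((γ : MulAut X)⁻¹ x))
    rwa [map_mul, map_inv, MulAut.apply_inv_self] at this⟩
  refine ⟨K2 ⊓ L.comap (res h), inferInstance, ?_, fun α h1 h2 => ⟨h1, h2⟩⟩
  rintro ⟨α, hα2, hαL⟩
  obtain ⟨k, hk⟩ := hL ⟨_, hαL⟩
  have hk' : res h (α ^ 2 ^ k) = 1 := (map_pow (res h) α _).trans (congrArg Subtype.val hk)
  obtain ⟨j, hj⟩ := IsPGroup.iff_card.mp hX
  refine ⟨k + j, Subtype.ext (Subtype.ext (MulEquiv.ext fun x => ?_))⟩
  show ((α : MulAut X) ^ 2 ^ (k + j)) x = x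
  set β := α ^ 2 ^ k with hβ
  have hβx : x⁻¹ * (β : MulAut X) x ∈ R := (K2.pow_mem hα2 _) x
  have hfix : ∀ r ∈ R, (β : MulAut X) r = r := fun r hr => by
    rw [← res_apply h β ⟨r, hr⟩, hk']
    rfl
  have hn : ∀ n : ℕ, ((β : MulAut X) ^ n) x = x * (x⁻¹ * (β : MulAut X) x) ^ n := by
    intro n
    induction n with
    | zero => simp
    | succ n ih =>
      rw [pow_succ', MulAut.mul_apply, ih, map_mul, map_pow, hfix _ hβx, pow_succ', ← mul_assoc,
        mul_inv_cancel_left]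
  rw [pow_add, pow_mul, ← SubmonoidClass.coe_pow, ← hβ, hn,
    show (x⁻¹ * (β : MulAut X) x) ^ 2 ^ j = 1 by rw [← hj]; exact pow_card_eq_one', mul_one]

/-- The automorphisms of an abelian group of exponent `2 ^ n` that are trivial modulo squares. -/
theorem squares_stab {R : Type*} [Group R] [Finite R] (hc : ∀ a b : R, a * b = b * a) {n : ℕ}
    (hexp : ∀ a : R, a ^ 2 ^ n = 1) :
    ∃ L : Subgroup (MulAut R), L.Normal ∧ IsPGroup 2 L ∧
      ∀ δ : MulAut R, (∀ r, ∃ s, δ r = r * s ^ 2) → δ ∈ L := by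
  letI : CommGroup R := { (inferInstance : Group R) with mul_comm := hc }
  let L : Subgroup (MulAut R) :=
    { carrier := {δ | ∀ r, ∃ s, δ r = r * s ^ 2}
      one_mem' := fun r => ⟨1, by simp⟩
      mul_mem' := fun {δ ε} hd he r => by
        obtain ⟨s, hs⟩ := he r
        obtain ⟨t, ht⟩ := hd r
        exact ⟨t * δ s, by rw [MulAut.mul_apply, hs, map_mul, map_pow, ht, mul_pow, mul_assoc]⟩
      inv_mem' := fun {δ} hd r => by
        obtain ⟨s, hs⟩ := hd (δ⁻¹ r)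
        rw [MulAut.apply_inv_self] at hs
        exact ⟨s⁻¹, eq_mul_inv_of_mul_eq hs.symm |>.trans (by rw [inv_pow])⟩ }
  refine ⟨L, ⟨fun δ hd γ r => ?_⟩, ?_, fun δ hd => hd⟩
  · obtain ⟨s, hs⟩ := hd (γ⁻¹ r)
    exact ⟨γ s, by rw [MulAut.mul_apply, MulAut.mul_apply, hs, map_mul, map_pow,
      MulAut.apply_inv_self]⟩
  · rintro ⟨δ, hd⟩
    refine ⟨n, Subtype.ext (MulEquiv.ext fun r => ?_)⟩
    show (δ ^ 2 ^ n) r = r
    have key : ∀ j : ℕ, ∀ r, ∃ s, (δ ^ 2 ^ j) r = r * s ^ 2 ^ (j + 1) := by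
      intro j
      induction j with
      | zero =>
        intro r
        obtain ⟨s, hs⟩ := hd r
        exact ⟨s, by simpa using hs⟩
      | succ j ih =>
        intro r
        obtain ⟨s, hs⟩ := ih r
        obtain ⟨t, ht⟩ := ih s
        refine ⟨s * t ^ 2 ^ j, ?_⟩
        rw [pow_succ 2 j, pow_mul, pow_two, MulAut.mul_apply, hs, map_mul, map_pow, ht, hs, mul_assoc,
          ← mul_pow, pow_succ 2 (j + 1), mul_comm (2 ^ (j + 1)) 2, pow_mul _ 2, pow_two,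
          mul_mul_mul_comm s (t ^ 2 ^ j), ← pow_add, ← two_mul, ← pow_succ', mul_assoc]
    obtain ⟨s, hs⟩ := key n r
    rw [hs, pow_succ, pow_mul, hexp, one_pow, mul_one]

theorem not_square {n : ℕ} {a : Multiplicative (ZMod (2 ^ (n + 1)))} (h : a ^ 2 ^ n = 1) :
    ∃ b, a = b ^ 2 := by
  obtain ⟨c, rfl⟩ : ∃ c : ZMod (2 ^ (n + 1)), Multiplicative.ofAdd c = a := ⟨_, ofAdd_toAdd a⟩
  rw [← ofAdd_nsmul, ← ofAdd_zero, Multiplicative.ofAdd.apply_eq_iff_eq, nsmul_eq_mul,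
    ← ZMod.natCast_zmod_val c, ← Nat.cast_mul, ZMod.natCast_eq_zero_iff] at h
  have h := (dvd_of_eq (pow_succ 2 n).symm).trans h
  obtain ⟨e, he⟩ := Nat.dvd_of_mul_dvd_mul_left (pow_pos two_pos n) h
  refine ⟨Multiplicative.ofAdd (e : ZMod (2 ^ (n + 1))), ?_⟩
  rw [← ofAdd_nsmul, ← ZMod.natCast_zmod_val c, he, nsmul_eq_mul, Nat.cast_mul]

open Cfsg Cfsg.Agent.FusionSys in
/-- A strongly closed metacyclic 2-subgroup not of maximal class is normal. -/
theorem isNormal {Ω : Type*} [Group Ω] {S : Subgroup Ω} [Finite S] (hS : IsPGroup 2 S)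
    {F : FusionSystem S} (hF : F.IsSaturated 2) {P : Subgroup Ω} (hP : F.StronglyClosed P)
    (hm : Cfsg.IsMetacyclic ↥P) (hd : ¬ ∃ m : ℕ, Nonempty (↥P ≃* DihedralGroup m))
    (hq : ¬ ∃ m : ℕ, Nonempty (↥P ≃* QuaternionGroup m)) (hsd : ¬ Cfsg.IsQuasiDihedral ↥P) :
    F.IsNormal P := by
  haveI : Fact (Nat.Prime 2) := ⟨Nat.prime_two⟩
  obtain ⟨hPS, hsc⟩ := stronglyClosed_iff.1 hP
  haveI := finite_of_le hPS
  have hmax : ∀ T : Subgroup ↥P, Nat.card T = 8 →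
      (¬ ∀ a ∈ T, ∀ b ∈ T, a * b = b * a) → False := fun T h1 h2 => by
    rcases maximal_class (hS.to_le hPS) hm h1 h2 with h | h | h
    exacts [hd h, hq h, hsd h]
  refine isNormal_of_stronglyClosed_of_le hS hF hP fun Q hQn hQc hQr => ?_
  by_contra hle
  have hQS := hQc.1
  haveI := finite_of_le hQS
  haveI := finite_autGroup F hQS
  have hPn : ∀ g ∈ S, ∀ x ∈ P, g * x * g⁻¹ ∈ P := fun g hg x hx =>
    hsc P _ le_rfl (isMap_conj F hPS hg) x hx
  have hQN : Q ≤ Subgroup.normalizer (P : Set Ω) := fun g hg =>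
    mem_normalizer_of_maps (hPn g (hQS hg))
  -- an element of `P` normalising `Q`
  obtain ⟨y, hyP, hyn, hyQ, hy2⟩ :
      ∃ y ∈ P, y ∈ Subgroup.normalizer (Q : Set Ω) ∧ y ∉ Q ∧ y ^ 2 ∈ Q := by
    haveI := finite_of_le (show Q ⊔ P ≤ S from sup_le hQS hPS)
    obtain ⟨x, hx, hxQ⟩ := SetLike.exists_of_lt (lt_inf_normalizer_of_lt
      (hS.to_le (sup_le hQS hPS : Q ⊔ P ≤ S))
      (lt_of_le_not_ge le_sup_left fun h : Q ⊔ P ≤ Q => hle (le_sup_right.trans h)))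
    obtain ⟨q, hq, z, hz, rfl⟩ :
        x ∈ (Q : Set Ω) * (P : Set Ω) := by
      rw [← Subgroup.coe_mul_of_left_le_normalizer_right Q P hQN]
      exact hx.1
    have hzn : z ∈ Subgroup.normalizer (Q : Set Ω) := by
      have := mul_mem (inv_mem (Subgroup.le_normalizer hq)) hx.2
      rwa [inv_mul_cancel_left] at this
    have hzQ : z ∉ Q := fun h => hxQ (Q.mul_mem hq h)
    obtain ⟨k, hk⟩ : ∃ k, z ^ 2 ^ k ∈ Q := by
      obtain ⟨k, hk⟩ := (hS.to_le hPS) ⟨z, hz⟩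
      exact ⟨k, by rw [show z ^ 2 ^ k = 1 from congrArg Subtype.val hk]; exact Q.one_mem⟩
    classical
    have hpos : Nat.find ⟨k, hk⟩ ≠ 0 := fun h => hzQ (by
      have := Nat.find_spec (p := fun k => z ^ 2 ^ k ∈ Q) ⟨k, hk⟩
      rwa [h, pow_zero, pow_one] at this)
    obtain ⟨l, hl⟩ := Nat.exists_eq_succ_of_ne_zero hpos
    refine ⟨z ^ 2 ^ l, P.pow_mem hz _, pow_mem hzn _,
      Nat.find_min (p := fun k => z ^ 2 ^ k ∈ Q) ⟨k, hk⟩ (by omega), ?_⟩
    rw [← pow_mul, ← pow_succ, ← Nat.succ_eq_add_one, ← hl]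
    exact Nat.find_spec (p := fun k => z ^ 2 ^ k ∈ Q) ⟨k, hk⟩
  let R : Subgroup ↥Q := P.subgroupOf Q
  have hinv : ∀ α ∈ F.autGroup Q, ∀ x ∈ R, α x ∈ R := fun α hα x hx => by
    have := hsc (Q ⊓ P) _ inf_le_right (((mem_autGroup_iff hQS).1 hα).mono inf_le_left) x ⟨x.2, hx⟩
    rwa [autMap_coe] at this
  set c : MulAut ↥Q := conjAut hyn with hc
  have hcA : c ∈ F.autGroup Q := conjAut_mem_autGroup F hQS ⟨hPS hyP, hyn⟩
  have hcR : ∀ x : ↥Q, x⁻¹ * c x ∈ R := fun x => by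
    show (x : Ω)⁻¹ * (y * x * y⁻¹) ∈ P
    rw [← mul_assoc, ← mul_assoc]
    exact P.mul_mem (by simpa using hPn _ (S.inv_mem (hQS x.2)) y hyP) (P.inv_mem hyP)
  have hout : ∀ L : Subgroup (MulAut ↥R), L.Normal → IsPGroup 2 L → res hinv ⟨c, hcA⟩ ∉ L := by
    intro L hLn hL hmem
    obtain ⟨K, hKn, hKp, hK⟩ := normal_two_subgroup hinv (hS.to_le hQS) hLn hL
    have h1 : (⟨c, hcA⟩ : ↥(F.autGroup Q)) ∈ pCore 2 ↥(F.autGroup Q) :=
      le_sSup (show K ∈ {M : Subgroup ↥(F.autGroup Q) | M.Normal ∧ IsPGroup 2 M} from ⟨hKn, hKp⟩)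
        (hK ⟨c, hcA⟩ hcR hmem)
    have h2 : c ∈ Inn ↥Q := by
      rw [← hQr.2]
      exact ⟨_, h1, rfl⟩
    exact hyQ (mem_of_conjAut_mem_inn (centralizerIn_le_of_isCentric hQc) hQS (hPS hyP) hyn h2)
  -- `R` inside `P`
  let ι : ↥R →* ↥P := ((Q.subtype.comp R.subtype).codRestrict P fun x => x.2)
  have hι : Function.Injective ι := fun a b h =>
    Subtype.ext (Subtype.ext (congrArg (fun z : ↥P => (z : Ω)) h))
  have hmR : Cfsg.IsMetacyclic ↥R := by
    obtain ⟨N, hNn, hNc, hNq⟩ := hm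
    haveI := hNn
    haveI : (N.comap ι).Normal := hNn.comap ι
    refine ⟨N.comap ι, inferInstance, ?_, ?_⟩
    · haveI := hNc
      exact isCyclic_of_injective ((ι.comp (N.comap ι).subtype).codRestrict N fun x => x.2)
        fun a b h => Subtype.ext (hι (congrArg (fun z : ↥N => (z : ↥P)) h))
    · haveI := hNq
      exact isCyclic_of_injective (QuotientGroup.map _ N ι le_rfl) (by
        intro a b hab
        obtain ⟨a, rfl⟩ := QuotientGroup.mk'_surjective _ a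
        obtain ⟨b, rfl⟩ := QuotientGroup.mk'_surjective _ b
        have h : ((ι a : ↥P) : ↥P ⧸ N) = ((ι b : ↥P) : ↥P ⧸ N) := hab
        refine QuotientGroup.eq.2 (?_ : ι (a⁻¹ * b) ∈ N)
        rw [map_mul, map_inv]
        exact QuotientGroup.eq.1 h)
  by_cases hA : IsPGroup 2 (MulAut ↥R)
  · exact hout ⊤ inferInstance (hA.to_subgroup ⊤) (Subgroup.mem_top _)
  rcases S1896.result ((hS.to_le hQS).to_subgroup R) hmR hA with ⟨⟨e⟩⟩ | ⟨n, ⟨e⟩⟩
  · refine hmax ι.range ?_ fun h => ?_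
    · rw [← Nat.card_congr (MonoidHom.ofInjective hι).toEquiv, Nat.card_congr e.toEquiv,
        Nat.card_eq_fintype_card, QuaternionGroup.card]
    · have := congrArg e (hι (show ι (e.symm (QuaternionGroup.a 1) * e.symm (QuaternionGroup.xa 0))
          = ι (e.symm (QuaternionGroup.xa 0) * e.symm (QuaternionGroup.a 1)) by
        rw [map_mul, map_mul]; exact h _ ⟨_, rfl⟩ _ ⟨_, rfl⟩))
      rw [map_mul, map_mul, MulEquiv.apply_symm_apply, MulEquiv.apply_symm_apply] at this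
      simp at this
      exact absurd this (by decide)
  -- the homocyclic case
  have hcomm : ∀ a b : ↥R, a * b = b * a := fun a b => e.injective (by
    rw [map_mul, map_mul, mul_comm])
  rcases n with _ | n
  · refine hA (IsPGroup.of_card (n := 0) ?_)
    haveI : Subsingleton ↥R := e.toEquiv.subsingleton_congr.2 (by
      rw [pow_zero]; exact ⟨fun a b => Prod.ext (Subsingleton.elim _ _) (Subsingleton.elim _ _)⟩)
    rw [pow_zero, Nat.card_eq_one_iff_unique]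
    exact ⟨⟨fun a b => MulEquiv.ext fun x => Subsingleton.elim _ _⟩, ⟨1⟩⟩
  have hexp : ∀ a : ↥R, a ^ 2 ^ (n + 1) = 1 := fun a => e.injective (by
    rw [map_pow, map_one]
    have hz : ∀ v : Multiplicative (ZMod (2 ^ (n + 1))), v ^ 2 ^ (n + 1) = 1 := fun v => by
      conv_lhs => arg 2; rw [show 2 ^ (n + 1) = Nat.card (Multiplicative (ZMod (2 ^ (n + 1)))) by
        rw [Nat.card_congr Multiplicative.toAdd, Nat.card_zmod]]
      exact pow_card_eq_one'
    exact Prod.ext (hz _) (hz _))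
  obtain ⟨L, hLn, hL, hLmem⟩ := squares_stab hcomm hexp
  have hnot := fun h => hout L hLn hL (hLmem _ h)
  obtain ⟨r, hr⟩ := not_forall.1 hnot
  push Not at hr
  set δ := res hinv ⟨c, hcA⟩ r
  set d : ↥R := r⁻¹ * δ with hd'
  have hdsq : ∀ s : ↥R, d ≠ s ^ 2 := fun s hs => hr s (by rw [← hs, hd', mul_inv_cancel_left])
  have hdo : d ^ 2 ^ n ≠ 1 := fun h => by
    have h1 : (e d) ^ 2 ^ n = 1 := by rw [← map_pow, h, map_one]
    obtain ⟨b₁, hb₁⟩ := not_square (congrArg Prod.fst h1)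
    obtain ⟨b₂, hb₂⟩ := not_square (congrArg Prod.snd h1)
    exact hdsq (e.symm (b₁, b₂)) (e.injective (by
      rw [map_pow, MulEquiv.apply_symm_apply]; exact Prod.ext hb₁ hb₂))
  have hord : orderOf d = 2 ^ (n + 1) := by
    obtain ⟨i, hi, hi'⟩ := (Nat.dvd_prime_pow Nat.prime_two).1 (orderOf_dvd_of_pow_eq_one (hexp d))
    rw [hi', show i = n + 1 by
      by_contra hne
      exact hdo (orderOf_dvd_iff_pow_eq_one.1 (hi' ▸ pow_dvd_pow 2 (by omega)))]
  set R₁ : Subgroup ↥P := ι.range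
  have hR₁ : ∀ a ∈ R₁, ∀ b ∈ R₁, a * b = b * a := by
    rintro _ ⟨a, rfl⟩ _ ⟨b, rfl⟩
    rw [← map_mul, hcomm, map_mul]
  have hy₁ : ∀ x ∈ R₁, (⟨y, hyP⟩ : ↥P) * x * (⟨y, hyP⟩ : ↥P)⁻¹ ∈ R₁ := by
    rintro _ ⟨x, rfl⟩
    exact ⟨res hinv ⟨c, hcA⟩ x, Subtype.ext rfl⟩
  have hy₁2 : (⟨y, hyP⟩ : ↥P) ^ 2 ∈ R₁ := ⟨⟨⟨y ^ 2, hy2⟩, P.pow_mem hyP 2⟩, Subtype.ext rfl⟩
  have hy₁R : (⟨y, hyP⟩ : ↥P) ∉ R₁ := by
    rintro ⟨x, hx⟩
    have hxy : ((x : ↥Q) : Ω) = y := congrArg (fun z : ↥P => (z : Ω)) hx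
    exact hyQ (hxy ▸ (x : ↥Q).2)
  have hdι : (ι r)⁻¹ * ((⟨y, hyP⟩ : ↥P) * ι r * (⟨y, hyP⟩ : ↥P)⁻¹) = ι d := by
    rw [hd', map_mul, map_inv]
    exact congrArg _ (Subtype.ext rfl)
  have hfour := four_of_swap (hS.to_le hPS) hm hR₁ hy₁ hy₁2 ⟨r, rfl⟩ (by
    rintro _ ⟨z, rfl⟩
    rw [hdι, orderOf_injective ι hι, hord, ← map_pow, hexp, map_one])
  rw [hdι, orderOf_injective ι hι, hord] at hfour
  have hn0 : n = 0 := by
    by_contra hne
    have := Nat.pow_le_pow_right two_pos (show 2 ≤ n + 1 by omega)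
    omega
  subst hn0
  -- a non-abelian subgroup of order eight
  let N₁ := Subgroup.normalizer (R₁ : Set ↥P)
  have hyN : (⟨y, hyP⟩ : ↥P) ∈ N₁ := mem_normalizer_of_maps hy₁
  have hc8 := PGroups.card_sup_zpowers (p := 2) (R₁.subgroupOf N₁) (x := ⟨_, hyN⟩)
    (fun h => hy₁R h) hy₁2
  rw [Nat.card_congr (Subgroup.subgroupOfEquivOfLe Subgroup.le_normalizer).toEquiv,
    ← Nat.card_congr (MonoidHom.ofInjective hι).toEquiv, Nat.card_congr e.toEquiv, Nat.card_prod,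
    Nat.card_congr Multiplicative.toAdd, Nat.card_zmod] at hc8
  refine hmax ((R₁.subgroupOf N₁ ⊔ Subgroup.zpowers ⟨_, hyN⟩).map N₁.subtype) ?_ fun h => ?_
  · rw [Subgroup.card_map_of_injective N₁.subtype_injective, hc8]; norm_num
  · have h1 := h (ι r) ⟨⟨ι r, Subgroup.le_normalizer ⟨r, rfl⟩⟩, Subgroup.mem_sup_left
      (show ι r ∈ R₁ from ⟨r, rfl⟩), rfl⟩ ⟨y, hyP⟩ ⟨_, Subgroup.mem_sup_right (Subgroup.mem_zpowers _), rfl⟩
    apply hdsq 1
    apply hι
    rw [← hdι, ← h1, mul_inv_cancel_right, inv_mul_cancel, one_pow, map_one]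

end Cfsg.Agent.H90.Meta2
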