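import Cfsg.Agent.H90.TwoWitness
import Cfsg.Agent.H90.MetaTame
import Cfsg.Agent.H90.Metacyclic2
import Cfsg.Agent.H90.DistinctInvariants
import Cfsg.Agent.S5234
import Mathlib.GroupTheory.SpecificGroups.KleinFour

/-!
Supersolubility of all saturated fusion systems over a metacyclic `p`-group.
-/

set_option autoImplicit false
set_option linter.unusedSectionVars false
set_option linter.style.haveILetI false

namespace Cfsg.Agent.H90.MetaSS

open Cfsg Cfsg.FusionSystem

theorem dihedral_two_or_nonabelian {n : ℕ} (hn : 2 ≤ n)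
    (hc : ∀ a b : DihedralGroup n, a * b = b * a) : n = 2 := by
  haveI : NeZero n := ⟨by omega⟩
  have h := hc (DihedralGroup.r 1) (DihedralGroup.sr 0)
  rw [DihedralGroup.r_mul_sr, DihedralGroup.sr_mul_r, DihedralGroup.sr.injEq, zero_sub, zero_add,
    neg_eq_iff_add_eq_zero, one_add_one_eq_two] at h
  have h2 : ((2 : ℕ) : ZMod n) = 0 := by exact_mod_cast h
  rw [ZMod.natCast_eq_zero_iff] at h2
  have := Nat.le_of_dvd two_pos h2
  omega

theorem quaternion_nonabelian {n : ℕ} (hn : 2 ≤ n) : ¬ ∀ a b : QuaternionGroup n, a * b = b * a := by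
  haveI : NeZero n := ⟨by omega⟩
  haveI : NeZero (2 * n) := ⟨by omega⟩
  intro hc
  have h := hc (QuaternionGroup.a 1) (QuaternionGroup.xa 0)
  rw [QuaternionGroup.a_mul_xa, QuaternionGroup.xa_mul_a, QuaternionGroup.xa.injEq, zero_sub, zero_add,
    neg_eq_iff_add_eq_zero, one_add_one_eq_two] at h
  have h2 : ((2 : ℕ) : ZMod (2 * n)) = 0 := by exact_mod_cast h
  rw [ZMod.natCast_eq_zero_iff] at h2
  have := Nat.le_of_dvd two_pos h2
  omega

theorem quasiDihedral_nonabelian {G : Type*} [Group G] (h : Cfsg.IsQuasiDihedral G) :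
    ¬ ∀ a b : G, a * b = b * a := by
  obtain ⟨n, hn, -, x, y, hx, -, hxy⟩ := h
  intro hc
  obtain ⟨m, rfl⟩ : ∃ m, n = m + 3 := ⟨n - 3, by omega⟩
  rw [hc y x, mul_inv_cancel_right, show m + 3 - 1 = m + 2 by omega] at hxy
  have h1 : x ^ (1 : ℤ) = x ^ ((2 ^ (m + 2) - 1 : ℕ) : ℤ) := by rw [zpow_one, zpow_natCast]; exact hxy
  rw [PGroups.zpow_eq_zpow_iff_dvd hx, Nat.cast_sub Nat.one_le_two_pow] at h1
  push_cast at h1
  obtain ⟨w, hw⟩ := h1
  have h4 : (2 : ℤ) ^ (m + 2) = 2 ^ (m + 1) * 2 := pow_succ 2 (m + 1)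
  have h8 : (2 : ℤ) ^ (m + 3) * w = 2 ^ (m + 1) * (4 * w) := by ring
  have hd : (2 : ℤ) ^ (m + 1) ∣ 2 := ⟨2 - 4 * w, by linarith⟩
  have h2 : 2 ^ (m + 1) ∣ 2 := by exact_mod_cast hd
  have := (Nat.pow_dvd_pow_iff_le_right one_lt_two).1 (show 2 ^ (m + 1) ∣ 2 ^ 1 from h2)
  obtain rfl : m = 0 := by omega
  norm_num at hw
  omega

variable {Ω : Type*} [Group Ω] {S : Subgroup Ω} [Finite S] {p : ℕ} [hp : Fact p.Prime]

theorem square_trivial (hm : Cfsg.IsMetacyclic ↥S) (hS : IsPGroup p S) {n : ℕ} (hn : 0 < n)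
    {H : Type} [CommGroup H]
    (e : ↥S ≃* (Multiplicative (ZMod (p ^ n)) × Multiplicative (ZMod (p ^ n))) × H) :
    Nonempty (↥S ≃* Multiplicative (ZMod (p ^ n)) × Multiplicative (ZMod (p ^ n))) := by
  by_cases hH : Subsingleton H
  · haveI : Unique H := ⟨⟨1⟩, fun x => Subsingleton.elim _ _⟩
    exact ⟨e.trans MulEquiv.prodUnique⟩
  exfalso
  letI : CommGroup ↥S := { (inferInstance : Group ↥S) with
    mul_comm := fun a b => e.injective (by rw [map_mul, map_mul, mul_comm]) }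
  haveI : NeZero (p ^ n) := ⟨pow_ne_zero _ hp.out.ne_zero⟩
  haveI : Finite H := Finite.of_surjective (fun x => (e x).2) fun h => ⟨e.symm (1, h), by simp⟩
  have hHp : IsPGroup p H := hS.of_surjective ((MonoidHom.snd _ _).comp e.toMonoidHom)
    fun h => ⟨e.symm (1, h), by simp⟩
  obtain ⟨d, hd⟩ := IsPGroup.iff_card.mp hHp
  have hd0 : d ≠ 0 := fun h => hH ((Nat.card_eq_one_iff_unique.1 (by rw [hd, h, pow_zero])).1)
  obtain ⟨h, hho⟩ := exists_prime_orderOf_dvd_card' p (hd ▸ dvd_pow_self p hd0 : p ∣ Nat.card H)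
  obtain ⟨C, hCn, hCc, hCq⟩ := hm
  let V : Subgroup ↥S := (powMonoidHom p : ↥S →* ↥S).ker
  let f := (QuotientGroup.mk' C).comp V.subtype
  have hker : Nat.card f.ker ≤ p := by
    haveI := hCc
    letI : CommGroup ↥C := hCc.commGroup
    let u : f.ker → (powMonoidHom p : ↥C →* ↥C).ker := fun v =>
      ⟨⟨((v : ↥V) : ↥S), (QuotientGroup.eq_one_iff _).1 v.2⟩, Subtype.ext (v : ↥V).2⟩
    refine (Nat.card_le_card_of_injective u fun a b hab => Subtype.ext (Subtype.ext
      (congrArg (fun z : (powMonoidHom p : ↥C →* ↥C).ker => ((z : ↥C) : ↥S)) hab))).trans ?_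
    rw [IsCyclic.card_powMonoidHom_ker]
    exact Nat.le_of_dvd hp.out.pos (Nat.gcd_dvd_right _ _)
  have hrange : Nat.card f.range ≤ p := by
    haveI := hCq
    letI : CommGroup (↥S ⧸ C) := hCq.commGroup
    have hle : f.range ≤ (powMonoidHom p : (↥S ⧸ C) →* (↥S ⧸ C)).ker := by
      rintro _ ⟨v, rfl⟩
      show (f v) ^ p = 1
      rw [← map_pow, show v ^ p = 1 from Subtype.ext v.2, map_one]
    refine (Subgroup.card_le_of_le hle).trans ?_
    rw [IsCyclic.card_powMonoidHom_ker]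
    exact Nat.le_of_dvd hp.out.pos (Nat.gcd_dvd_right _ _)
  let K := (powMonoidHom p : Multiplicative (ZMod (p ^ n)) →* Multiplicative (ZMod (p ^ n))).ker
  have hK : Nat.card K = p := by
    rw [IsCyclic.card_powMonoidHom_ker, Nat.card_congr Multiplicative.toAdd, Nat.card_zmod,
      Nat.gcd_eq_right (dvd_pow_self p hn.ne')]
  let ψ : (↥K × ↥K) × ↥(Subgroup.zpowers h) → ↥V := fun v =>
    ⟨e.symm ((v.1.1.1, v.1.2.1), v.2.1), by
      show (e.symm ((v.1.1.1, v.1.2.1), v.2.1)) ^ p = 1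
      rw [← map_pow, ← map_one e.symm]
      congr 1
      obtain ⟨i, hi⟩ := v.2.2
      refine Prod.ext (Prod.ext v.1.1.2 v.1.2.2) ?_
      show (v.2.1 : H) ^ p = 1
      rw [← hi, ← zpow_natCast, ← zpow_mul, mul_comm, zpow_mul, zpow_natCast,
        orderOf_dvd_iff_pow_eq_one.1 hho.dvd, one_zpow]⟩
  have hψ : Function.Injective ψ := fun a b hab => by
    have h' := e.symm.injective (congrArg Subtype.val hab)
    simp only [Prod.mk.injEq] at h'
    exact Prod.ext (Prod.ext (Subtype.ext h'.1.1) (Subtype.ext h'.1.2)) (Subtype.ext h'.2)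
  have h3 := Nat.card_le_card_of_injective ψ hψ
  rw [Nat.card_prod, Nat.card_prod, hK, Nat.card_zpowers, hho] at h3
  have h4 := Subgroup.card_mul_index f.ker
  rw [Subgroup.index_ker] at h4
  have h5 := Nat.mul_le_mul hker hrange
  rw [h4] at h5
  nlinarith [hp.out.two_le, h3.trans h5, mul_pos hp.out.pos hp.out.pos]

theorem main (hS : IsPGroup p ↥S) (hm : Cfsg.IsMetacyclic ↥S) :
    (∀ F : FusionSystem S, F.IsSaturated p → IsSupersolubleSystem F) ↔
      ¬ ((∃ n : ℕ, 0 < n ∧ Nonempty (↥S ≃* Multiplicative (ZMod (p ^ n)) × Multiplicative (ZMod (p ^ n)))) ∨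
        (p = 2 ∧ ((∃ n : ℕ, 2 ≤ n ∧ Nonempty (↥S ≃* DihedralGroup n)) ∨ Cfsg.IsQuasiDihedral ↥S ∨
          (∃ n : ℕ, 2 ≤ n ∧ Nonempty (↥S ≃* QuaternionGroup n))))) := by
  by_cases hab : ∀ a b : ↥S, a * b = b * a
  · rw [forall_supersoluble_iff_no_square hS ⟨⟨hab⟩⟩, not_iff_not]
    have htr : ∀ {G : Type} [Group G], (↥S ≃* G) → ∀ a b : G, a * b = b * a := fun e a b =>
      e.symm.injective (by rw [map_mul, map_mul, hab])
    constructor
    · rintro ⟨n, H, _, hn, ⟨e⟩⟩
      exact Or.inl ⟨n, hn, square_trivial hm hS hn e⟩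
    · rintro (⟨n, hn, ⟨e⟩⟩ | ⟨rfl, ⟨n, hn, ⟨e⟩⟩ | h | ⟨n, hn, ⟨e⟩⟩⟩)
      · haveI : Unique (Multiplicative (ZMod 1)) := ⟨⟨1⟩, fun x => Subsingleton.elim _ _⟩
        exact ⟨n, Multiplicative (ZMod 1), inferInstance, hn, ⟨e.trans MulEquiv.prodUnique.symm⟩⟩
      · obtain rfl := dihedral_two_or_nonabelian hn (htr e)
        haveI : Unique (Multiplicative (ZMod 1)) := ⟨⟨1⟩, fun x => Subsingleton.elim _ _⟩
        haveI : IsKleinFour (Multiplicative (ZMod (2 ^ 1)) × Multiplicative (ZMod (2 ^ 1))) := by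
          refine { card_four := ?_, exponent_two := ?_ }
          · rw [Nat.card_prod, Nat.card_congr Multiplicative.toAdd, Nat.card_zmod]; norm_num
          · rw [Monoid.exponent_prod, Monoid.exponent_multiplicative, ZMod.exponent]
            norm_num
        obtain ⟨e'⟩ := IsKleinFour.nonempty_mulEquiv (G₁ := DihedralGroup 2)
          (G₂ := Multiplicative (ZMod (2 ^ 1)) × Multiplicative (ZMod (2 ^ 1)))
        exact ⟨1, Multiplicative (ZMod 1), inferInstance, one_pos,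
          ⟨(e.trans e').trans MulEquiv.prodUnique.symm⟩⟩
      · exact absurd hab (quasiDihedral_nonabelian h)
      · exact absurd (htr e) (quaternion_nonabelian hn)
  have hhom : ¬ ∃ n : ℕ, 0 < n ∧
      Nonempty (↥S ≃* Multiplicative (ZMod (p ^ n)) × Multiplicative (ZMod (p ^ n))) :=
    fun ⟨n, _, ⟨e⟩⟩ => hab fun a b => e.injective (by rw [map_mul, map_mul, mul_comm])
  by_cases h2 : p = 2
  swap
  · refine ⟨fun _ => fun h => h.elim hhom (fun h' => h2 h'.1), fun _ => ?_⟩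
    refine (forall_supersoluble_iff hS).2 ⟨fun F hF => ?_, fun H hH => ?_⟩
    · exact Cfsg.Agent.S5234.result p hS F hF S
        ⟨le_rfl, fun R _ φ hφ x => (F.le_of_mem hφ).2 x⟩ h2 hm
    · exact MetaTame.tame h2 hS hm hab H hH
  subst h2
  constructor
  · rintro hall (h | ⟨-, ⟨n, hn, ⟨e⟩⟩ | h | ⟨n, hn, ⟨e⟩⟩⟩)
    · exact hhom h
    · refine TwoWitness.dihedral hS (n := n) ?_ e hall
      by_contra h3
      obtain rfl : n = 2 := by omega
      exact hab fun a b => e.injective (by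
        rw [map_mul, map_mul]
        exact (show ∀ a b : DihedralGroup 2, a * b = b * a by decide) _ _)
    · exact TwoWitness.quasiDihedral hS h hall
    · exact TwoWitness.quaternion hS hn e hall
  · intro hno
    push Not at hno
    obtain ⟨-, hno⟩ := hno
    obtain ⟨hnd, hnsd, hnq⟩ := hno rfl
    have hd : ¬ ∃ m : ℕ, Nonempty (↥S ≃* DihedralGroup m) := by
      rintro ⟨m, ⟨e⟩⟩
      rcases m with _ | _ | m
      · haveI : Finite (DihedralGroup 0) := Finite.of_equiv _ e.toEquiv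
        exact not_finite (DihedralGroup 0)
      · exact hab fun a b => e.injective (by
          rw [map_mul, map_mul]
          exact (show ∀ a b : DihedralGroup 1, a * b = b * a by decide) _ _)
      · exact (hnd (m + 2) (by omega)).false e
    have hq : ¬ ∃ m : ℕ, Nonempty (↥S ≃* QuaternionGroup m) := by
      rintro ⟨m, ⟨e⟩⟩
      rcases m with _ | _ | m
      · haveI : Finite (QuaternionGroup 0) := Finite.of_equiv _ e.toEquiv
        haveI : Finite (DihedralGroup 0) := Finite.of_equiv _ QuaternionGroup.quaternionGroupZeroEquivDihedralGroupZero.toEquiv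
        exact not_finite (DihedralGroup 0)
      · exact hab fun a b => e.injective (by
          rw [map_mul, map_mul]
          exact (show ∀ a b : QuaternionGroup 1, a * b = b * a by decide) _ _)
      · exact (hnq (m + 2) (by omega)).false e
    refine (forall_supersoluble_iff hS).2 ⟨fun F hF => ?_, fun H hH => ?_⟩
    · exact Meta2.isNormal hS hF ⟨le_rfl, fun R _ φ hφ x => (F.le_of_mem hφ).2 x⟩ hm hd hq hnsd
    · have hA : IsPGroup 2 (MulAut ↥S) := by
        by_contra hA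
        rcases Cfsg.Agent.S1896.result hS hm hA with h | ⟨n, ⟨e⟩⟩
        · exact hq ⟨2, h⟩
        · exact hab fun a b => e.injective (by rw [map_mul, map_mul, mul_comm])
      obtain ⟨d, hd'⟩ := IsPGroup.iff_card.mp (hA.to_subgroup H)
      have h1 : H = ⊥ := Subgroup.card_eq_one.1
        (Nat.Coprime.eq_one_of_dvd (hH.pow_right d) (by rw [← hd']))
      subst h1
      refine ⟨⟨⟨fun a b => Subsingleton.elim _ _⟩⟩, fun h hh => ?_⟩
      rw [Subgroup.mem_bot.1 hh, one_pow]

end Cfsg.Agent.H90.MetaSS
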