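import Mathlib

/-!
A model of the extraspecial group of order 32 of minus type: four involutions, any two of which have
the central involution as commutator. Its automorphisms permute five classes of involutions.
-/

set_option autoImplicit false
set_option linter.unusedSimpArgs false

namespace Cfsg.Agent.H90.MinusExtra

/-- Normal forms `t₀^a t₁^b t₂^c t₃^d z^e`. -/
@[ext] structure M where
  a : ZMod 2
  b : ZMod 2
  c : ZMod 2
  d : ZMod 2
  e : ZMod 2
  deriving DecidableEq, Fintype

instance : Mul M := ⟨fun m n => ⟨m.a + n.a, m.b + n.b, m.c + n.c, m.d + n.d,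
  m.e + n.e + m.b * n.a + m.c * (n.a + n.b) + m.d * (n.a + n.b + n.c)⟩⟩

instance : One M := ⟨⟨0, 0, 0, 0, 0⟩⟩

instance : Inv M := ⟨fun m => ⟨m.a, m.b, m.c, m.d,
  m.e + m.b * m.a + m.c * (m.a + m.b) + m.d * (m.a + m.b + m.c)⟩⟩

theorem mul_def' (m n : M) : m * n = ⟨m.a + n.a, m.b + n.b, m.c + n.c, m.d + n.d,
  m.e + n.e + m.b * n.a + m.c * (n.a + n.b) + m.d * (n.a + n.b + n.c)⟩ := rfl

instance : Group M := Group.ofLeftAxioms
  (fun m n k => by simp only [mul_def']; ext <;> ring)
  (by decide) (by decide)

theorem card_M : Nat.card M = 32 := by rw [Nat.card_eq_fintype_card]; decide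

/-- The central involution. -/
def Z : M := ⟨0, 0, 0, 0, 1⟩

/-- Representatives of the five classes of noncentral involutions. -/
def R : Fin 5 → M :=
  ![⟨1, 0, 0, 0, 0⟩, ⟨0, 1, 0, 0, 0⟩, ⟨0, 0, 1, 0, 0⟩, ⟨0, 0, 0, 1, 0⟩, ⟨1, 1, 1, 1, 0⟩]

/-- The class of a noncentral involution. -/
def cls (m : M) : Fin 5 :=
  if m.a = 1 ∧ m.b = 1 then 4 else if m.a = 1 then 0 else if m.b = 1 then 1
  else if m.c = 1 then 2 else 3

theorem z_ne_one : Z ≠ 1 := by decide
theorem z_sq : Z * Z = 1 := by decide
theorem z_central : ∀ m : M, Z * m = m * Z := by decide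
theorem central_eq : ∀ m : M, (∀ n : M, m * n = n * m) → m = 1 ∨ m = Z := by decide
theorem r_sq : ∀ i, R i * R i = 1 := by decide
theorem r_comm : ∀ i j, i ≠ j → R j * R i = R i * R j * Z := by decide
theorem cls_r : ∀ i, cls (R i) = i ∧ cls (R i * Z) = i := by decide
theorem invol_eq : ∀ m : M, m * m = 1 → m ≠ 1 → m ≠ Z → m = R (cls m) ∨ m = R (cls m) * Z := by
  decide
theorem conj_r : ∀ (g : M) (i : Fin 5), g * R i * g⁻¹ = R i ∨ g * R i * g⁻¹ = R i * Z := by decide
theorem r_ne : ∀ i, R i ≠ 1 ∧ R i ≠ Z := by decide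
theorem detect : ∀ m : M, m ≠ 1 → m = Z ∨
    ∃ i : Fin 4, R i.castSucc * m = m * R i.castSucc * Z := by decide

/-- The generators generate. -/
theorem induction_gen {p : M → Prop} (h1 : p 1) (hg : ∀ i : Fin 4, p (R i.castSucc))
    (hZ : p Z) (hmul : ∀ m n, p m → p n → p (m * n)) (m : M) : p m := by
  have key : ∀ a b c d e : ZMod 2, (⟨a, b, c, d, e⟩ : M) =
      (if a = 0 then 1 else R (Fin.castSucc 0)) * (if b = 0 then 1 else R (Fin.castSucc 1)) *
        (if c = 0 then 1 else R (Fin.castSucc 2)) * (if d = 0 then 1 else R (Fin.castSucc 3)) *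
        (if e = 0 then 1 else Z) := by decide
  obtain ⟨a, b, c, d, e⟩ := m
  rw [key]
  refine hmul _ _ (hmul _ _ (hmul _ _ (hmul _ _ ?_ ?_) ?_) ?_) ?_ <;> split_ifs <;>
    first | exact h1 | exact hg _ | exact hZ

section Hom

variable {G : Type*} [Group G]

/-- Relations satisfied by the generators. -/
structure Rel (s : Fin 4 → G) (z : G) : Prop where
  zne : z ≠ 1
  zsq : z * z = 1
  zc : ∀ i, z * s i = s i * z
  sq : ∀ i, s i * s i = 1
  comm : ∀ i j, i ≠ j → s j * s i = s i * s j * z

/-- Power with exponent in `ZMod 2`. -/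
def pw (x : G) (a : ZMod 2) : G := if a = 0 then 1 else x

/-- The normal form map. -/
def nf (s : Fin 4 → G) (z : G) (m : M) : G :=
  pw (s 0) m.a * pw (s 1) m.b * pw (s 2) m.c * pw (s 3) m.d * pw z m.e

theorem nf_step {s : Fin 4 → G} {z : G} (h : Rel s z) (n : M) :
    (∀ i : Fin 4, nf s z (n * R i.castSucc) = nf s z n * s i) ∧ nf s z (n * Z) = nf s z n * z := by
  have two : ∀ a : ZMod 2, a = 0 ∨ a = 1 := by decide
  have e11 : (1 : ZMod 2) + 1 = 0 := by decide
  have sq' : ∀ i w, s i * (s i * w) = w := fun i w => by rw [← mul_assoc, h.sq, one_mul]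
  have zsq' : ∀ w, z * (z * w) = w := fun w => by rw [← mul_assoc, h.zsq, one_mul]
  have zc' : ∀ i w, z * (s i * w) = s i * (z * w) := fun i w => by
    rw [← mul_assoc, h.zc, mul_assoc]
  have c10 := h.comm 0 1 (by decide)
  have c20 := h.comm 0 2 (by decide)
  have c30 := h.comm 0 3 (by decide)
  have c21 := h.comm 1 2 (by decide)
  have c31 := h.comm 1 3 (by decide)
  have c32 := h.comm 2 3 (by decide)
  have sw : ∀ i j, s j * s i = s i * s j * z → ∀ w, s j * (s i * w) = s i * (s j * (z * w)) :=
    fun i j hc w => by rw [← mul_assoc, hc]; simp only [mul_assoc]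
  have d10 := sw _ _ c10
  have d20 := sw _ _ c20
  have d30 := sw _ _ c30
  have d21 := sw _ _ c21
  have d31 := sw _ _ c31
  have d32 := sw _ _ c32
  obtain ⟨a, b, c, d, e⟩ := n
  refine ⟨fun i => ?_, ?_⟩
  · fin_cases i <;> rcases two a with rfl | rfl <;> rcases two b with rfl | rfl <;>
      rcases two c with rfl | rfl <;> rcases two d with rfl | rfl <;>
      rcases two e with rfl | rfl <;>
      simp [nf, pw, mul_def', R, e11, mul_assoc, h.sq, sq', h.zsq, zsq', h.zc, zc',
        c10, c20, c30, c21, c31, c32, d10, d20, d30, d21, d31, d32]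
  · rcases two e with rfl | rfl <;>
      simp [nf, pw, mul_def', Z, e11, mul_assoc, h.zsq]

/-- The homomorphism given by a tuple satisfying the relations. -/
def toHom {s : Fin 4 → G} {z : G} (h : Rel s z) : M →* G :=
  MonoidHom.mk' (nf s z) fun m n => by
    have h0 : nf s z 1 = 1 := by
      change pw (s 0) 0 * pw (s 1) 0 * pw (s 2) 0 * pw (s 3) 0 * pw z 0 = 1
      simp [pw]
    have gi : ∀ i : Fin 4, nf s z (R i.castSucc) = s i := fun i => by
      simpa [h0] using (nf_step h 1).1 i
    have gz : nf s z Z = z := by simpa [h0] using (nf_step h 1).2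
    induction n using induction_gen generalizing m with
    | h1 => rw [mul_one, h0, mul_one]
    | hg i => rw [(nf_step h m).1 i, gi]
    | hZ => rw [(nf_step h m).2, gz]
    | hmul p q hp hq => rw [← mul_assoc, hq, hp, hq p, mul_assoc]

theorem toHom_gen {s : Fin 4 → G} {z : G} (h : Rel s z) (i : Fin 4) :
    toHom h (R i.castSucc) = s i := by
  have := (nf_step h 1).1 i
  rw [one_mul] at this
  change nf s z _ = _
  rw [this]
  change toHom h 1 * s i = s i
  rw [map_one, one_mul]

theorem toHom_z {s : Fin 4 → G} {z : G} (h : Rel s z) : toHom h Z = z := by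
  change pw (s 0) 0 * pw (s 1) 0 * pw (s 2) 0 * pw (s 3) 0 * pw z 1 = z
  simp [pw]

theorem toHom_injective {s : Fin 4 → G} {z : G} (h : Rel s z) : Function.Injective (toHom h) := by
  rw [injective_iff_map_eq_one]
  intro m hm
  by_contra hne
  rcases detect m hne with rfl | ⟨i, hi⟩
  · exact h.zne (by rw [← toHom_z h, hm])
  · have := congrArg (toHom h) hi
    simp only [map_mul, hm, toHom_gen, toHom_z, mul_one, one_mul] at this
    exact h.zne (mul_eq_left.mp this.symm)

end Hom

/-! ### Automorphisms of the model -/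

theorem aut_Z (α : MulAut M) : α Z = Z := by
  refine (central_eq (α Z) fun n => ?_).resolve_left fun h => z_ne_one (α.injective (h.trans (map_one α).symm))
  obtain ⟨k, rfl⟩ := α.surjective n
  rw [← map_mul, z_central, map_mul]

theorem aut_r (α : MulAut M) (i : Fin 5) :
    α (R i) = R (cls (α (R i))) ∨ α (R i) = R (cls (α (R i))) * Z :=
  invol_eq _ (by rw [← map_mul, r_sq, map_one])
    (fun h => (r_ne i).1 (α.injective (h.trans (map_one α).symm)))
    (fun h => (r_ne i).2 (α.injective (h.trans (aut_Z α).symm)))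

theorem cls_aut (α β : MulAut M) (i : Fin 5) :
    cls ((α * β) (R i)) = cls (α (R (cls (β (R i))))) := by
  rw [MulAut.mul_apply]
  rcases aut_r β i with h | h
  · rw [← h]
  · conv_lhs => rw [h, map_mul, aut_Z]
    rcases aut_r α (cls (β (R i))) with h' | h'
    · conv_lhs => rw [h']
      exact (cls_r _).2
    · conv_lhs => rw [h', mul_assoc, z_sq, mul_one]
      exact (cls_r _).1

/-- The action on the five classes. -/
def perm : MulAut M →* Equiv.Perm (Fin 5) :=
  MonoidHom.mk'
    (fun α =>
      { toFun := fun i => cls (α (R i))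
        invFun := fun i => cls (α⁻¹ (R i))
        left_inv := fun i => by
          show cls (α⁻¹ (R (cls (α (R i))))) = i
          rw [← cls_aut, inv_mul_cancel, MulAut.one_apply, (cls_r i).1]
        right_inv := fun i => by
          show cls (α (R (cls (α⁻¹ (R i))))) = i
          rw [← cls_aut, mul_inv_cancel, MulAut.one_apply, (cls_r i).1] })
    fun α β => Equiv.ext fun i => cls_aut α β i

theorem perm_apply (α : MulAut M) (i : Fin 5) : perm α i = cls (α (R i)) := rfl

theorem perm_conj (g : M) : perm (MulAut.conj g) = 1 := by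
  refine Equiv.ext fun i => ?_
  rw [perm_apply, MulAut.conj_apply, Equiv.Perm.one_apply]
  rcases conj_r g i with h | h <;> rw [h]
  · exact (cls_r i).1
  · exact (cls_r i).2

theorem card_ker : Nat.card perm.ker ≤ 16 := by
  classical
  have hinj : Function.Injective
      (fun α : perm.ker => fun i : Fin 4 => decide ((α : MulAut M) (R i.castSucc) = R i.castSucc)) := by
    intro α β hab
    have hg : ∀ γ : perm.ker, ∀ i : Fin 4, (γ : MulAut M) (R i.castSucc) = R i.castSucc ∨
        (γ : MulAut M) (R i.castSucc) = R i.castSucc * Z := fun γ i => by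
      have hc : cls ((γ : MulAut M) (R i.castSucc)) = i.castSucc := by
        rw [← perm_apply, MonoidHom.mem_ker.mp γ.2, Equiv.Perm.one_apply]
      have := aut_r (γ : MulAut M) i.castSucc
      rwa [hc] at this
    have heq : ∀ i : Fin 4, (α : MulAut M) (R i.castSucc) = (β : MulAut M) (R i.castSucc) := fun i => by
      have := congrFun hab i
      simp only [decide_eq_decide] at this
      rcases hg α i with ha | ha
      · rw [ha, this.mp ha]
      · rcases hg β i with hb | hb
        · rw [hb, this.mpr hb]
        · rw [ha, hb]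
    refine Subtype.ext (MulEquiv.ext fun m => ?_)
    induction m using induction_gen with
    | h1 => rw [map_one, map_one]
    | hg i => exact heq i
    | hZ => rw [aut_Z, aut_Z]
    | hmul p q hp hq => rw [map_mul, map_mul, hp, hq]
  have h := Nat.card_le_card_of_injective _ hinj
  simpa using h

theorem perm_surjective : Function.Surjective perm := by
  intro p
  have h : Rel (fun i : Fin 4 => R (p i.castSucc)) Z :=
    ⟨z_ne_one, z_sq, fun i => z_central _, fun i => r_sq _,
      fun i j hij => r_comm _ _ fun he => hij (Fin.castSucc_injective _ (p.injective he))⟩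
  have hb : Function.Bijective (toHom h) := Finite.injective_iff_bijective.mp (toHom_injective h)
  let α : MulAut M := MulEquiv.ofBijective (toHom h) hb
  have h4 : ∀ i : Fin 4, perm α i.castSucc = p i.castSucc := fun i => by
    rw [perm_apply]
    change cls (toHom h _) = _
    rw [toHom_gen]
    exact (cls_r _).1
  refine ⟨α, Equiv.ext fun i => ?_⟩
  induction i using Fin.lastCases with
  | cast i => exact h4 i
  | last =>
    obtain ⟨j, hj⟩ := p.surjective (perm α (Fin.last 4))
    induction j using Fin.lastCases with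
    | cast j =>
      exact absurd ((perm α).injective ((h4 j).trans hj)) (Fin.castSucc_ne_last j)
    | last => exact hj.symm

end Cfsg.Agent.H90.MinusExtra
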