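import Cfsg.Prelude.Def_Transfer
import Cfsg.Agent.H90.MinusExtraModel
import Cfsg.Agent.PGroups.Extraspecial

/-!
An extraspecial group of order 32 without elementary abelian subgroup of order 8 is the model.
-/

set_option autoImplicit false
set_option linter.unusedSimpArgs false
set_option linter.style.haveILetI false

namespace Cfsg.Agent.H90.MinusExtra

open Subgroup
open scoped commutatorElement

variable {P : Type*} [Group P] [Finite P]

/-- Basic facts: a central involution giving all nontrivial commutators and squares. -/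
theorem exists_c (hex : Cfsg.IsExtraspecial 2 P) :
    ∃ c : P, c ≠ 1 ∧ c * c = 1 ∧ (∀ x, c * x = x * c) ∧ (∀ x ∈ center P, x = 1 ∨ x = c) ∧
      (∀ x y : P, x * y ≠ y * x → y * x = x * y * c) ∧ (∀ x : P, x * x = 1 ∨ x * x = c) := by
  haveI : Fact (Nat.Prime 2) := ⟨Nat.prime_two⟩
  haveI : Nontrivial (center P) := by
    rw [← Finite.one_lt_card_iff_nontrivial, hex.2]; norm_num
  obtain ⟨⟨c, hc⟩, hc1⟩ := exists_ne (1 : center P)
  have hc1' : c ≠ 1 := fun h => hc1 (Subtype.ext h)
  have hz := PGroups.zpowers_eq_of_card_eq hex.2 hc hc1'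
  have hc2 : c * c = 1 := by
    rw [← pow_two]; exact PGroups.isSpecial_center_pow hex.1 hc
  have hall : ∀ x ∈ center P, x = 1 ∨ x = c := fun x hx => by
    obtain ⟨k, rfl⟩ := mem_zpowers_iff.mp (hz.symm ▸ hx : x ∈ zpowers c)
    rcases Int.even_or_odd k with ⟨m, rfl⟩ | ⟨m, rfl⟩
    · exact Or.inl (by rw [zpow_add, ← (Commute.refl c).mul_zpow, hc2, one_zpow])
    · exact Or.inr (by rw [zpow_add, zpow_one, two_mul, zpow_add, ← (Commute.refl c).mul_zpow,
        hc2, one_zpow, one_mul])
  refine ⟨c, hc1', hc2, fun x => (mem_center_iff.mp hc x).symm, hall, fun x y hxy => ?_, fun x => ?_⟩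
  · rcases hall _ (PGroups.commutatorElement_mem_center
      (PGroups.isSpecial_commutator_le hex.1) y x) with h | h
    · exact absurd (commutatorElement_eq_one_iff_mul_comm.mp h) (Ne.symm hxy)
    · rw [commutatorElement_def, mul_inv_eq_iff_eq_mul, mul_inv_eq_iff_eq_mul] at h
      rw [h, mem_center_iff.mp hc (x * y), mul_assoc]
  · rw [← pow_two]
    exact hall _ (PGroups.isSpecial_pow_mem_center hex.1 x)

/-- Two commuting noncentral involutions with noncentral product give an elementary abelian group
of order at least 8. -/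
theorem no_four (hex : Cfsg.IsExtraspecial 2 P)
    (hminus : ∀ A : Subgroup P, Cfsg.IsElementaryAbelian 2 A → Nat.card ↥A ≤ 4)
    {u v : P} (huv : u * v = v * u) (hu2 : u * u = 1) (hv2 : v * v = 1)
    (hu : u ∉ center P) (hv : v ∉ center P) (huv' : u * v ∉ center P) : False := by
  haveI : Fact (Nat.Prime 2) := ⟨Nat.prime_two⟩
  have pw : ∀ (w : P), w * w = 1 → ∀ x ∈ zpowers w, x = 1 ∨ x = w := fun w hw x hx => by
    obtain ⟨k, rfl⟩ := mem_zpowers_iff.mp hx
    rcases Int.even_or_odd k with ⟨m, rfl⟩ | ⟨m, rfl⟩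
    · exact Or.inl (by rw [zpow_add, ← (Commute.refl w).mul_zpow, hw, one_zpow])
    · exact Or.inr (by rw [zpow_add, zpow_one, two_mul, zpow_add, ← (Commute.refl w).mul_zpow,
        hw, one_zpow, one_mul])
  set K := center P ⊔ zpowers v with hK
  set A := K ⊔ zpowers u with hA
  have huK : u ∉ K := by
    intro h
    obtain ⟨z, hz, w, hw, hzw⟩ := Subgroup.mem_sup_of_normal_left.mp h
    rcases pw v hv2 w hw with rfl | rfl
    · exact hu (by rw [← hzw, mul_one]; exact hz)
    · exact huv' (by rw [← hzw, mul_assoc, hv2, mul_one]; exact hz)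
  have l1 : center P < K := lt_of_le_of_ne le_sup_left fun h =>
    hv (h.symm ▸ (le_sup_right : zpowers v ≤ K) (mem_zpowers v))
  have l2 : K < A := lt_of_le_of_ne le_sup_left fun h =>
    huK (h.symm ▸ (le_sup_right : zpowers u ≤ A) (mem_zpowers u))
  have d : ∀ {H L : Subgroup P}, H < L → 2 * Nat.card H ≤ Nat.card L := fun {H L} hl => by
    obtain ⟨k, hk⟩ := Subgroup.card_dvd_of_le hl.le
    have h1 : Nat.card L ≠ 0 := Nat.card_pos.ne'
    match k, hk with
    | 0, hk => simp [hk] at h1
    | 1, hk => exact absurd (Subgroup.eq_of_le_of_card_ge hl.le (by rw [hk, mul_one])) hl.ne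
    | k + 2, hk =>
      rw [hk, mul_comm 2]
      exact Nat.mul_le_mul_left _ (by omega)
  have hA' : A = closure ((center P : Set P) ∪ {v} ∪ {u}) := by
    rw [Subgroup.closure_union, Subgroup.closure_union, closure_eq, ← zpowers_eq_closure,
      ← zpowers_eq_closure]
  have hgen : ∀ x ∈ (center P : Set P) ∪ {v} ∪ {u}, x * x = 1 ∧
      ∀ y ∈ (center P : Set P) ∪ {v} ∪ {u}, x * y = y * x := by
    intro x hx
    refine ⟨?_, fun y hy => ?_⟩
    · rcases hx with (hx | rfl) | rfl
      · rw [← pow_two]; exact PGroups.isSpecial_center_pow hex.1 hx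
      · exact hv2
      · exact hu2
    · rcases hx with (hx | rfl) | rfl
      · exact (mem_center_iff.mp hx y).symm
      · rcases hy with (hy | rfl) | rfl
        · exact mem_center_iff.mp hy _
        · rfl
        · exact huv.symm
      · rcases hy with (hy | rfl) | rfl
        · exact mem_center_iff.mp hy _
        · exact huv
        · rfl
  have hcomm : IsMulCommutative A := by
    rw [hA']
    exact Subgroup.isMulCommutative_closure fun x hx y hy => (hgen x hx).2 y hy
  have hsq : ∀ a ∈ A, a ^ 2 = 1 := by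
    intro a ha
    have ha' := ha
    rw [hA'] at ha'
    induction ha' using Subgroup.closure_induction with
    | mem x hx => rw [pow_two]; exact (hgen x hx).1
    | one => exact one_pow 2
    | mul x y hx hy ihx ihy =>
      rw [hA'] at hcomm
      have hc : x * y = y * x := congrArg Subtype.val (hcomm.is_comm.comm ⟨x, hx⟩ ⟨y, hy⟩)
      rw [(show Commute x y from hc).mul_pow, ihx (by rw [hA']; exact hx),
        ihy (by rw [hA']; exact hy), one_mul]
    | inv x hx ihx => rw [inv_pow, ihx (by rw [hA']; exact hx), inv_one]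
  have h := hminus A ⟨hcomm, hsq⟩
  have e1 := d l1
  have e2 := d l2
  rw [hex.2] at e1
  omega

/-- The group is isomorphic to the model. -/
theorem nonempty_model (hex : Cfsg.IsExtraspecial 2 P) (h32 : Nat.card P = 32)
    (hminus : ∀ A : Subgroup P, Cfsg.IsElementaryAbelian 2 A → Nat.card ↥A ≤ 4) :
    Nonempty (M ≃* P) := by
  haveI : Fact (Nat.Prime 2) := ⟨Nat.prime_two⟩
  obtain ⟨c, hc1, hc2, hcc, hall, hcom, hsq⟩ := exists_c hex
  have nz : ∀ {x y : P}, x * y ≠ y * x → x ∉ center P := fun h hx =>
    h (mem_center_iff.mp hx _).symm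
  have hcc' : ∀ a b : P, a * (c * b) = c * (a * b) := fun a b => by
    rw [← mul_assoc, ← hcc a, mul_assoc]
  have classify : ∀ x y : P, x * y ≠ y * x → ∃ a b : P, a * b ≠ b * a ∧
      ((a * a = 1 ∧ b * b = 1) ∨ (a * a = c ∧ b * b = c)) ∧
      ∀ w : P, w * x = x * w → w * y = y * w → w * a = a * w ∧ w * b = b * w := by
    intro x y hxy
    have hp : (x * y) * (x * y) = (x * x) * (y * y) * c := by
      rw [show (x * y) * (x * y) = x * (y * x) * y by group, hcom x y hxy]
      simp only [mul_assoc, hcc y]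
    have hcm : ∀ w : P, w * x = x * w → w * y = y * w → w * (x * y) = x * y * w :=
      fun w h1 h2 => (Commute.mul_right (show Commute w x from h1) h2).eq
    rcases hsq x with hx | hx <;> rcases hsq y with hy | hy
    · exact ⟨x, y, hxy, Or.inl ⟨hx, hy⟩, fun w h1 h2 => ⟨h1, h2⟩⟩
    · exact ⟨x, x * y, fun h => hxy (mul_left_cancel (by rw [h, mul_assoc])),
        Or.inl ⟨hx, by rw [hp, hx, hy, one_mul, hc2]⟩, fun w h1 h2 => ⟨h1, hcm w h1 h2⟩⟩
    · exact ⟨x * y, y, fun h => hxy (mul_right_cancel (b := y) (by rw [h, mul_assoc])),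
        Or.inl ⟨by rw [hp, hx, hy, mul_one, hc2], hy⟩, fun w h1 h2 => ⟨hcm w h1 h2, h2⟩⟩
    · exact ⟨x, y, hxy, Or.inr ⟨hx, hy⟩, fun w h1 h2 => ⟨h1, h2⟩⟩
  obtain ⟨x, y, hxy⟩ := PGroups.isExtraspecial_exists_ne hex
  have hxy' : x * y ≠ y * x := fun h => hxy (commutatorElement_eq_one_iff_mul_comm.mpr h)
  obtain ⟨-, hidx, hzc⟩ :=
    PGroups.centralizer_pair (PGroups.isSpecial_commutator_le hex.1) hex.2 hxy
  set C := centralizer ({x, y} : Set P) with hC
  have hC8 : Nat.card C = 8 := by
    have := C.card_mul_index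
    rw [hidx, h32] at this
    omega
  obtain ⟨u₀, hu₀, v₀, hv₀, huv₀⟩ : ∃ u ∈ C, ∃ v ∈ C, u * v ≠ v * u := by
    by_contra h
    push Not at h
    have hle : C ≤ center P := fun z hz => hzc z hz fun g hg => h g hg z hz
    have := Subgroup.card_le_of_le hle
    rw [hC8, hex.2] at this
    omega
  obtain ⟨a, b, hab, hq, hcent⟩ := classify x y hxy'
  obtain ⟨u, v, huv, hq', hcent'⟩ := classify u₀ v₀ huv₀
  have inC : ∀ w ∈ C, w * a = a * w ∧ w * b = b * w := fun w hw =>
    hcent w (mem_centralizer_iff.mp hw x (Or.inl rfl)).symm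
      (mem_centralizer_iff.mp hw y (Or.inr rfl)).symm
  have hu₀a := inC u₀ hu₀
  have hv₀a := inC v₀ hv₀
  obtain ⟨hau, hav⟩ := hcent' a hu₀a.1.symm hv₀a.1.symm
  obtain ⟨hbu, hbv⟩ := hcent' b hu₀a.2.symm hv₀a.2.symm
  -- `a, b` and `u, v` are commuting noncommuting pairs
  have mix : ∀ {a b u : P}, a * b ≠ b * a → b * u = u * b → a * u ∉ center P := by
    intro a b u hab hbu hmem
    have h := mem_center_iff.mp hmem b
    rw [← mul_assoc, mul_assoc a u b, ← hbu, ← mul_assoc] at h
    exact hab (mul_right_cancel h).symm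
  suffices main : ∀ a b u v : P, a * b ≠ b * a → u * v ≠ v * u → a * u = u * a → a * v = v * a →
      b * u = u * b → b * v = v * b → a * a = 1 → b * b = 1 → u * u = c → v * v = c →
      Nonempty (M ≃* P) by
    rcases hq with ⟨h1, h2⟩ | ⟨h1, h2⟩ <;> rcases hq' with ⟨h3, h4⟩ | ⟨h3, h4⟩
    · exact (no_four hex hminus hau h1 h3 (nz hab) (nz huv) (mix hab hbu)).elim
    · exact main a b u v hab huv hau hav hbu hbv h1 h2 h3 h4
    · exact main u v a b huv hab hau.symm hbu.symm hav.symm hbv.symm h3 h4 h1 h2
    · have c2 : ∀ {p q : P}, p * q = q * p → p * p = c → q * q = c → (p * q) * (p * q) = 1 :=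
        fun {p q} hpq hp hq => by
          rw [show (p * q) * (p * q) = p * (q * p) * q by group, ← hpq,
            show p * (p * q) * q = (p * p) * (q * q) by group, hp, hq, hc2]
      have e1 : (a * u) * (b * v) = (b * v) * (a * u) := by
        calc (a * u) * (b * v) = a * (u * b) * v := by group
          _ = (a * b) * (u * v) := by rw [← hbu]; group
          _ = (b * a * c) * (v * u * c) := by rw [hcom b a (Ne.symm hab), hcom v u (Ne.symm huv)]
          _ = (b * a) * (v * u) * (c * c) := by
            rw [mul_assoc (b * a) c (v * u * c), hcc (v * u * c)]; simp only [mul_assoc]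
          _ = b * (a * v) * u := by rw [hc2]; group
          _ = (b * v) * (a * u) := by rw [hav]; group
      refine (no_four hex hminus e1 (c2 hau h1 h3) (c2 hbv h2 h4) (mix hab hbu)
        (mix (Ne.symm hab) hav) ?_).elim
      intro hmem
      have e2 : (a * u) * (b * v) = (a * b) * (u * v) := by
        calc (a * u) * (b * v) = a * (u * b) * v := by group
          _ = _ := by rw [← hbu]; group
      rw [e2] at hmem
      have hauv : a * (u * v) = (u * v) * a :=
        (Commute.mul_right (show Commute a u from hau) hav).eq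
      have := mem_center_iff.mp hmem a
      have h' : a * (a * b) * (u * v) = a * b * a * (u * v) := by
        rw [mul_assoc, this, mul_assoc (a * b) a, hauv]; simp only [mul_assoc]
      have h'' := mul_right_cancel h'
      rw [mul_assoc a b a] at h''
      exact hab (mul_left_cancel h'')
  intro a b u v hab huv hau hav hbu hbv ha hb hu hv
  have hba := hcom a b hab
  have hvu := hcom u v huv
  have ac : ∀ w, c * (c * w) = w := fun w => by rw [← mul_assoc, hc2, one_mul]
  have aa : ∀ w, a * (a * w) = w := fun w => by rw [← mul_assoc, ha, one_mul]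
  have bb : ∀ w, b * (b * w) = w := fun w => by rw [← mul_assoc, hb, one_mul]
  have uu : ∀ w, u * (u * w) = c * w := fun w => by rw [← mul_assoc, hu]
  have vv : ∀ w, v * (v * w) = c * w := fun w => by rw [← mul_assoc, hv]
  have sba : ∀ w, b * (a * w) = c * (a * (b * w)) := fun w => by
    rw [← mul_assoc, hba, mul_assoc, mul_assoc, hcc', hcc']
  have svu : ∀ w, v * (u * w) = c * (u * (v * w)) := fun w => by
    rw [← mul_assoc, hvu, mul_assoc, mul_assoc, hcc', hcc']
  have sua : ∀ w, u * (a * w) = a * (u * w) := fun w => by rw [← mul_assoc, ← hau, mul_assoc]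
  have sub : ∀ w, u * (b * w) = b * (u * w) := fun w => by rw [← mul_assoc, ← hbu, mul_assoc]
  have sva : ∀ w, v * (a * w) = a * (v * w) := fun w => by rw [← mul_assoc, ← hav, mul_assoc]
  have svb : ∀ w, v * (b * w) = b * (v * w) := fun w => by rw [← mul_assoc, ← hbv, mul_assoc]
  have hba' : b * a = c * (a * b) := by rw [hba, hcc]
  have hvu' : v * u = c * (u * v) := by rw [hvu, hcc]
  let s : Fin 4 → P := ![a, b, a * b * u, a * b * v]
  have hr : Rel s c := by
    refine ⟨hc1, hc2, fun i => hcc _, fun i => ?_, fun i j hij => ?_⟩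
    · fin_cases i <;>
        simp [s, mul_assoc, ha, hb, hu, hv, hc2, ac, aa, bb, uu, vv, sba, svu, sua, sub, sva, svb,
          hcc', hba', hvu', ← hau, ← hav, ← hbu, ← hbv]
    · fin_cases i <;> fin_cases j <;> first | exact absurd rfl hij |
        simp [s, mul_assoc, ha, hb, hu, hv, hc2, ac, aa, bb, uu, vv, sba, svu, sua, sub, sva, svb,
          hcc', hba', hvu', ← hau, ← hav, ← hbu, ← hbv, ← hcc]
  exact ⟨MulEquiv.ofBijective (toHom hr)
    ((Nat.bijective_iff_injective_and_card _).mpr ⟨toHom_injective hr, by rw [card_M, h32]⟩)⟩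

/-- The automorphism group. -/
theorem main (hex : Cfsg.IsExtraspecial 2 P) (h32 : Nat.card P = 32)
    (hminus : ∀ A : Subgroup P, Cfsg.IsElementaryAbelian 2 A → Nat.card ↥A ≤ 4) :
    Nat.card ↥(MulAut.conj : P →* MulAut P).range = 16 ∧ Nat.card (MulAut P) = 1920 ∧
      ∃ π : MulAut P →* Equiv.Perm (Fin 5), Function.Surjective π ∧
        (MulAut.conj : P →* MulAut P).range = π.ker := by
  obtain ⟨e⟩ := nonempty_model hex h32 hminus
  let T : MulAut P ≃* MulAut M :=
    MulEquiv.mk' ⟨fun α => e.trans (α.trans e.symm), fun β => e.symm.trans (β.trans e),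
      fun α => MulEquiv.ext fun m => by simp, fun β => MulEquiv.ext fun m => by simp⟩ fun α β => by
        apply MulEquiv.ext
        intro m
        simp [MulAut.mul_apply]
  let π := perm.comp T.toMonoidHom
  have hsurj : Function.Surjective π := perm_surjective.comp T.surjective
  have h16 : Nat.card ↥(MulAut.conj : P →* MulAut P).range = 16 := by
    rw [← Subgroup.index_ker]
    have hk : (MulAut.conj : P →* MulAut P).ker = center P := by
      ext g
      rw [MonoidHom.mem_ker, mem_center_iff]
      constructor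
      · intro h x
        have := DFunLike.congr_fun h x
        rw [MulAut.conj_apply, MulAut.one_apply, mul_inv_eq_iff_eq_mul] at this
        exact this.symm
      · intro h
        apply MulEquiv.ext
        intro x
        rw [MulAut.conj_apply, MulAut.one_apply, mul_inv_eq_iff_eq_mul]
        exact (h x).symm
    rw [hk]
    have := (center P).card_mul_index
    rw [h32, hex.2] at this
    omega
  have hle : (MulAut.conj : P →* MulAut P).range ≤ π.ker := by
    rintro _ ⟨g, rfl⟩
    rw [MonoidHom.mem_ker]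
    have : T (MulAut.conj g) = MulAut.conj (e.symm g) := by
      apply MulEquiv.ext
      intro m
      simp [T, MulEquiv.mk']
    show perm (T _) = 1
    rw [this, perm_conj]
  have hk16 : Nat.card π.ker ≤ 16 := by
    refine le_trans ?_ card_ker
    exact Nat.card_le_card_of_injective (fun α => (⟨T α.1, α.2⟩ : perm.ker))
      fun α β h => Subtype.ext (T.injective (congrArg Subtype.val h))
  have heq := Subgroup.eq_of_le_of_card_ge hle (by rw [h16]; exact hk16)
  refine ⟨h16, ?_, π, hsurj, heq⟩
  have hmul := π.ker.card_mul_index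
  rw [← heq, h16, heq, Subgroup.index_ker, MonoidHom.range_eq_top.mpr hsurj, Subgroup.card_top,
    Nat.card_perm, Nat.card_fin] at hmul
  rw [← hmul]
  decide

end Cfsg.Agent.H90.MinusExtra
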