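import Cfsg.Agent.H90.Oliver
import Cfsg.Agent.H90.Transvection

/-!
The centre of `S` when the unique abelian subgroup of index `p` is not essential and the core is
trivial.
-/

set_option autoImplicit false
set_option linter.unusedSectionVars false
set_option linter.style.haveILetI false

namespace Cfsg.Agent.H90.Oliver

open Cfsg Cfsg.FusionSystem Cfsg.Agent.FusionSys
open Cfsg.Agent.H90.CI (zc mem_zc zc_le autGroup_hom)
open scoped commutatorElement

variable {Ω : Type*} [Group Ω] {S : Subgroup Ω} [Finite S] {p : ℕ} [hp : Fact p.Prime]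

/-- The intersection of the centre and the derived group. -/
def D₀ (S : Subgroup Ω) : Subgroup Ω := zc S ⊓ ⁅S, S⁆

theorem aut_zc {β : MulAut ↥S} {z : Ω} (hz : z ∈ zc S) : autMap β z ∈ zc S := by
  refine mem_zc.2 ⟨autMap_mem β (zc_le hz), fun g hg => ?_⟩
  have := (mem_zc.1 hz).2 _ (autMap_mem β⁻¹ hg)
  have h' : β (β⁻¹ ⟨g, hg⟩ * ⟨z, zc_le hz⟩) = β (⟨z, zc_le hz⟩ * β⁻¹ ⟨g, hg⟩) := by
    congr 1
    refine Subtype.ext ?_
    rwa [autMap_apply _ hg] at this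
  rw [map_mul, map_mul, MulAut.apply_inv_self] at h'
  rw [autMap_apply _ (zc_le hz)]
  exact congrArg Subtype.val h'


theorem aut_D₀ {β : MulAut ↥S} {z : Ω} (hz : z ∈ D₀ S) : autMap β z ∈ D₀ S := by
  refine ⟨aut_zc hz.1, ?_⟩
  have h := hz.2
  rw [← der_eq] at h ⊢
  obtain ⟨w, hw, rfl⟩ := h
  refine ⟨β w, ?_, (autMap_coe β w).symm⟩
  exact Subgroup.characteristic_iff_le_comap.1
    (inferInstance : (commutator ↥S).Characteristic) β hw

section Maps

variable (hS : IsPGroup p S) {F : FusionSystem S} (hF : F.IsSaturated p)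
include hS hF

theorem exists_pow_inner {β : MulAut ↥S} (hβ : β ∈ F.autGroup S) :
    ∃ m : ℕ, ¬ p ∣ m ∧ ∃ g ∈ S, ∀ x ∈ S, autMap (β ^ m) x = g * x * g⁻¹ := by
  haveI := finite_autGroup F (le_refl S)
  obtain ⟨-, T, hT⟩ := isFullyAutomized_of_isFullyNormalized hS hF (isFullyNormalized_S F)
  rw [← inn_eq_autInducedBy_self] at hT
  haveI : (T : Subgroup (F.autGroup S)).Normal := hT ▸ inn_subgroupOf_normal S (F.autGroup S)
  refine ⟨(T : Subgroup (F.autGroup S)).index, T.not_dvd_index, ?_⟩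
  have := (T : Subgroup (F.autGroup S)).pow_index_mem ⟨β, hβ⟩
  rw [hT] at this
  obtain ⟨g, hg⟩ := this
  rw [hT]
  refine ⟨g, g.2, fun x hx => ?_⟩
  rw [show (β ^ _ : MulAut ↥S) = MulAut.conj g from hg.symm, autMap_apply _ hx]
  rfl


/-- Automorphisms of `S` fixing complements of the derived group with the same action on it have
the same complement. -/
theorem fixed_eq (hcard : Nat.card ↥(D₀ S) = p) {C C' : Subgroup Ω} (hC : C ≤ zc S) (hC' : C' ≤ zc S)
    (hdec' : ∀ z ∈ zc S, ∃ c ∈ C', ∃ a ∈ D₀ S, z = c * a)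
    {τ τ' : MulAut ↥S} (hτ : τ ∈ F.autGroup S) (hτ' : τ' ∈ F.autGroup S)
    (h1 : ∀ c ∈ C, autMap τ c = c) (h1' : ∀ c ∈ C', autMap τ' c = c)
    (h3 : ∀ a ∈ D₀ S, autMap τ a = a ^ 2) (h3' : ∀ a ∈ D₀ S, autMap τ' a = a ^ 2) :
    C ≤ C' := by
  have hDZ : D₀ S ≤ zc S := inf_le_left
  have hap : ∀ a ∈ D₀ S, a ^ p = 1 := fun a ha => by
    have h : (⟨a, ha⟩ : ↥(D₀ S)) ^ p = 1 := by
      conv_lhs => rw [← hcard]
      exact pow_card_eq_one'
    exact congrArg Subtype.val h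
  have hfix : ∀ {D : Subgroup Ω} {σ : MulAut ↥S}, (∀ z ∈ zc S, ∃ c ∈ D, ∃ a ∈ D₀ S, z = c * a) →
      (∀ c ∈ D, autMap σ c = c) → (∀ a ∈ D₀ S, autMap σ a = a ^ 2) → D ≤ zc S → σ ∈ F.autGroup S →
      ∀ z ∈ zc S, autMap σ z = z → z ∈ D := by
    intro D σ hD hc ha hle hσ z hz e
    obtain ⟨c, hcD, a, haD, rfl⟩ := hD z hz
    rw [((mem_autGroup_iff le_rfl).1 hσ).map_mul (zc_le (hle hcD)) (zc_le (hDZ haD)), hc c hcD,
      ha a haD, mul_left_cancel_iff, pow_two, mul_eq_left] at e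
    rwa [e, mul_one]
  intro c hc
  have hcS := zc_le (hC hc)
  obtain ⟨c', hc', a, ha, hce⟩ := hdec' c (hC hc)
  have hmul : ∀ {σ : MulAut ↥S}, σ ∈ F.autGroup S → ∀ {x y : Ω}, x ∈ S → y ∈ S →
      autMap σ (x * y) = autMap σ x * autMap σ y :=
    fun hσ x y hx hy => ((mem_autGroup_iff le_rfl).1 hσ).map_mul hx hy
  have hτ'c : autMap τ' c = c * a := by
    rw [hce, hmul hτ' (zc_le (hC' hc')) (zc_le (hDZ ha)), h1' c' hc', h3' a ha, pow_two, mul_assoc]
  -- the two maps commute on the centre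
  set d := (τ' * τ)⁻¹ * (τ * τ') with hd'
  have hdA : d ∈ F.autGroup S := (F.autGroup S).mul_mem
    ((F.autGroup S).inv_mem ((F.autGroup S).mul_mem hτ' hτ)) ((F.autGroup S).mul_mem hτ hτ')
  have hdD : ∀ b ∈ D₀ S, autMap d b = b := by
    intro b hb
    have hbS := zc_le (hDZ hb)
    have e : autMap (τ * τ') b = autMap (τ' * τ) b := by
      rw [autMap_mul _ _ hbS, autMap_mul _ _ hbS, h3' b hb, h3 b hb,
        h3 _ ((D₀ S).pow_mem hb 2), h3' _ ((D₀ S).pow_mem hb 2)]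
    rw [hd', autMap_mul _ _ hbS, e, ← autMap_mul _ _ hbS, inv_mul_cancel, autMap_apply _ hbS]
    rfl
  have haS := zc_le (hDZ ha)
  have hb : autMap (τ' * τ)⁻¹ a ∈ D₀ S := aut_D₀ ha
  set b := autMap (τ' * τ)⁻¹ a
  have hdc : autMap d c = c * b := by
    have e1 : autMap (τ * τ') c = autMap (τ' * τ) c * a := by
      rw [autMap_mul _ _ hcS, autMap_mul _ _ hcS, hτ'c, hmul hτ hcS haS, h1 c hc, h3 a ha, hτ'c,
        pow_two, mul_assoc]
    have hinv := (F.autGroup S).inv_mem ((F.autGroup S).mul_mem hτ' hτ)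
    rw [hd', autMap_mul _ _ hcS, e1, hmul hinv (autMap_mem _ hcS) haS,
      ← autMap_mul _ _ hcS, inv_mul_cancel, autMap_apply _ hcS]
    rfl
  have hbS := zc_le (hDZ hb)
  have hdn : ∀ n : ℕ, autMap (d ^ n) c = c * b ^ n := by
    intro n
    induction n with
    | zero => rw [pow_zero, autMap_apply _ hcS, pow_zero, mul_one]; rfl
    | succ n ih =>
      rw [pow_succ', autMap_mul _ _ hcS, ih, hmul hdA hcS (S.pow_mem hbS n), hdc,
        hdD _ ((D₀ S).pow_mem hb n), mul_assoc, ← pow_succ']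
  obtain ⟨m, hm, g, hg, hgm⟩ := exists_pow_inner hS hF hdA
  have hbm : b ^ m = 1 := by
    have := hdn m
    rwa [hgm c hcS, (mem_zc.1 (hC hc)).2 g hg, mul_inv_cancel_right, eq_comm, mul_eq_left] at this
  have hb1 : b = 1 := orderOf_eq_one_iff.1 (Nat.eq_one_of_dvd_coprimes
    (hp.out.coprime_iff_not_dvd.2 hm) (orderOf_dvd_of_pow_eq_one (hap b hb))
    (orderOf_dvd_of_pow_eq_one hbm))
  have ha1 : a = 1 := by
    have e := autMap_inv_apply (τ' * τ) haS
    rw [show autMap (τ' * τ)⁻¹ a = 1 from hb1] at e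
    rw [← e, autMap_apply _ (one_mem S)]
    exact congrArg Subtype.val (map_one (τ' * τ))
  exact hfix hdec' h1' h3' hC' hτ' c (hC hc) (by rw [hτ'c, ha1, mul_one])


/-- A map on the centre with values in the centre extends to an automorphism of `S`. -/
theorem extend_aut {P : Subgroup Ω} (hPS : P ≤ S) (hZP : zc S ≤ P) {α : MulAut ↥P}
    (hα : α ∈ F.autGroup P) (hinv : ∀ z ∈ zc S, autMap α z ∈ zc S) :
    ∃ β ∈ F.autGroup S, ∀ z ∈ zc S, autMap β z = autMap α z := by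
  haveI := finite_of_le (show zc S ≤ S from zc_le)
  have hfixZ : ∀ {g : Ω}, g ∈ S → ∀ u ∈ zc S, g * u * g⁻¹ = u := fun hg u hu => by
    rw [(mem_zc.1 hu).2 _ hg, mul_inv_cancel_right]
  have hn : ∀ g ∈ S, g ∈ Subgroup.normalizer (zc S : Set Ω) := fun g hg =>
    mem_normalizer_of_maps fun y hy => by rw [hfixZ hg y hy]; exact hy
  haveI := finite_of_le (show normalizerIn S (zc S) ≤ S from normalizerIn_le)
  have hfn : F.IsFullyNormalized (zc S) := ⟨zc_le, fun Q _ =>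
    Subgroup.card_le_of_le
      (show normalizerIn S Q ≤ normalizerIn S (zc S) from fun g hg => ⟨hg.1, hn g hg.1⟩)⟩
  have hm := ((mem_autGroup_iff hPS).1 hα).mono hZP
  have hi : IsIso F (zc S) (zc S) (autMap α) := ⟨hm, hm.image_eq_of_mapsTo hinv⟩
  obtain ⟨g, hg, hge⟩ := receptive_extend (receptive_of_isFullyNormalized hS hF hfn) hi
    (N := S) fun y hy => ⟨hy, hn y hy, 1, S.one_mem, fun z hz => by
      rw [hfixZ hy z hz, one_mul, inv_one, mul_one]⟩
  have hgS : IsMap F S g := hg.mono le_sup_left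
  obtain ⟨β, hβ, hβe⟩ := (IsIso.mk hgS
    (hgS.image_eq_of_mapsTo fun x hx => hgS.mem_S hx)).exists_aut
  exact ⟨β, hβ, fun z hz => (hβe z (zc_le hz)).trans (hge z hz)⟩

end Maps

variable {A : Subgroup Ω} {H : Setting S A p} {F : FusionSystem S}

/-- The data given by an abelian essential subgroup. -/
structure Compl (F : FusionSystem S) (C : Subgroup Ω) : Prop where
  le : C ≤ zc S
  disj : ∀ c ∈ C, c ∈ D₀ S → c = 1
  dec : ∀ z ∈ zc S, ∃ c ∈ C, ∃ a ∈ D₀ S, z = c * a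
  torus : ∃ τ ∈ F.autGroup S, (∀ c ∈ C, autMap τ c = c) ∧ ∀ a ∈ D₀ S, autMap τ a = a ^ 2

theorem exists_compl (hF : F.IsSaturated p) {P : Subgroup Ω} {x : Ω}
    (hP : F.IsEssential p P) (E : Ess H P x) (hab : P ⊓ A ≤ zc S) :
    ∃ C, Compl F C ∧ ∀ α ∈ F.autGroup P, ∀ c ∈ C, autMap α c ∈ C := by
  have hS := H.pgroup
  have hPS := hP.1.1
  haveI := finite_of_le hPS
  haveI := finite_of_le (show zc S ≤ S from zc_le)
  haveI := finite_mulAut_of_le (S := S) hPS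
  have hcomm := (E.abelian_iff hF hP).2 hab
  have hPA : P ⊓ A = zc S := le_antisymm hab (le_inf E.zle H.zc_le_A)
  have hPcard : Nat.card (zc S) * p = Nat.card P := hPA ▸ E.card_inf_mul hF hP
  obtain ⟨hNA, hz2⟩ := E.type_one hF hP hab
  obtain ⟨a₀, ha₀, ha₀P⟩ := E.exists_notMem
  letI : CommGroup ↥P :=
    { (inferInstance : Group ↥P) with mul_comm := fun a b => Subtype.ext (hcomm a a.2 b b.2) }
  set u : MulAut ↥P := conjAut ha₀.1.2 with hu
  have huA : u ∈ F.autGroup P := conjAut_mem_autGroup F hPS ha₀.1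
  let Z' : Subgroup ↥P := (zc S).subgroupOf P
  have hZi : Z'.index = p := by
    have h := Subgroup.card_mul_index Z'
    rw [Nat.card_congr (Subgroup.subgroupOfEquivOfLe E.zle).toEquiv, ← hPcard] at h
    exact Nat.eq_of_mul_eq_mul_left Nat.card_pos h
  have hind : autInducedBy S P ≤ Subgroup.zpowers u := by
    intro α hα
    obtain ⟨g, hg, hn, rfl⟩ := mem_autInducedBy.1 hα
    obtain ⟨a, ha, i, hgax⟩ := E.norm g ⟨hg, hn⟩
    have hzN : H.z2A ≤ normalizerIn S P := fun y hy => (hNA.ge hy).1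
    let ψ : ↥H.z2A →* MulAut ↥P := (conjAutIn S P).comp (Subgroup.inclusion hzN)
    have hzi : ((zc S).subgroupOf H.z2A).index = p := by
      have h := Subgroup.card_mul_index ((zc S).subgroupOf H.z2A)
      rw [Nat.card_congr (Subgroup.subgroupOfEquivOfLe H.zc_le_z2A).toEquiv, hz2, mul_comm p] at h
      exact Nat.eq_of_mul_eq_mul_left Nat.card_pos h
    have htop : (Subgroup.zpowers u).comap ψ = ⊤ :=
      eq_top_of_prime_index hzi (fun e he => by
        rw [Subgroup.mem_comap, show ψ e = 1 from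
          conjAutIn_eq_one_iff.2 (FusionSys.mem_centralizerIn.2
            ⟨H.le e.2.1, fun y hy => (mem_zc.1 he).2 y (hPS hy)⟩)]
        exact one_mem _) (s := ⟨a₀, hNA.le ha₀⟩) (fun h => ha₀P (E.zle h))
        (Subgroup.mem_zpowers u)
    have hxi : conjAutIn S P ⟨x ^ i, le_normalizerIn_self hPS (P.zpow_mem E.mem i)⟩ = 1 :=
      conjAutIn_eq_one_iff.2 (FusionSys.mem_centralizerIn.2
        ⟨S.zpow_mem E.memS i, fun y hy => hcomm y hy _ (P.zpow_mem E.mem i)⟩)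
    have hga : (⟨g, hg, hn⟩ : ↥(normalizerIn S P)) = Subgroup.inclusion hzN ⟨a, hNA.le ha⟩ *
        ⟨x ^ i, le_normalizerIn_self hPS (P.zpow_mem E.mem i)⟩ := Subtype.ext hgax
    show conjAutIn S P ⟨g, hg, hn⟩ ∈ _
    rw [hga, map_mul, hxi, mul_one]
    exact (htop.ge (Subgroup.mem_top _) : ψ ⟨a, hNA.le ha⟩ ∈ Subgroup.zpowers u)
  have hind' : Subgroup.zpowers u ≤ autInducedBy S P :=
    Subgroup.zpowers_le.2 (mem_autInducedBy.2 ⟨a₀, ha₀.1.1, ha₀.1.2, rfl⟩)
  have hfix : ∀ y : ↥P, u y = y ↔ y ∈ Z' := by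
    intro y
    constructor
    · intro h
      by_contra hy
      have hyA : (y : Ω) ∉ A := fun h' => hy (hab ⟨y.2, h'⟩)
      have h' : a₀ * (y : Ω) * a₀⁻¹ = y := congrArg Subtype.val h
      exact ha₀P (E.zle (H.mem_zc_of_comm (hPS y.2) hyA ha₀.2 (mul_inv_eq_iff_eq_mul.1 h').symm))
    · intro h
      refine Subtype.ext ?_
      have h' : a₀ * (y : Ω) = y * a₀ := (mem_zc.1 h).2 a₀ ha₀.1.1
      show a₀ * (y : Ω) * a₀⁻¹ = y
      rw [h', mul_inv_cancel_right]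
  have hu1 : u ≠ 1 := fun h => by
    have htop : Z' = ⊤ := eq_top_iff.2 fun y _ => (hfix y).1 (by rw [h]; rfl)
    rw [htop, Subgroup.index_top] at hZi
    exact hp.out.one_lt.ne hZi
  have hIP : Inn ↥P = ⊥ := eq_bot_iff.2 (by
    rintro _ ⟨e, rfl⟩
    refine MulEquiv.ext fun y => ?_
    show e * y * e⁻¹ = y
    rw [mul_comm e y, mul_inv_cancel_right])
  have hDP : D₀ S ≤ P := inf_le_left.trans E.zle
  have D : TransData p (F.autGroup P) u Z' ((D₀ S).subgroupOf P) := by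
    refine ⟨huA, hfix, fun y => ⟨?_, ?_⟩, Subgroup.comap_mono inf_le_left, ?_, hZi, ?_, ?_⟩
    · show (y : Ω)⁻¹ * (a₀ * y * a₀⁻¹) ∈ zc S
      have h1 := (hNA.le ha₀).2 y (hPS y.2)
      rw [show (y : Ω)⁻¹ * (a₀ * y * a₀⁻¹) = (y : Ω)⁻¹ * ⁅a₀, (y : Ω)⁆ * y by
          simp only [commutatorElement_def]; group,
        (mem_zc.1 h1).2 _ (S.inv_mem (hPS y.2)), inv_mul_cancel_right]
      exact h1
    · show (y : Ω)⁻¹ * (a₀ * y * a₀⁻¹) ∈ ⁅S, S⁆
      rw [show (y : Ω)⁻¹ * (a₀ * y * a₀⁻¹) = ⁅(y : Ω)⁻¹, a₀⁆ by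
        rw [commutatorElement_def, inv_inv]; simp only [mul_assoc]]
      exact Subgroup.commutator_mem_commutator (S.inv_mem (hPS y.2)) ha₀.1.1
    · rw [Nat.card_congr (Subgroup.subgroupOfEquivOfLe hDP).toEquiv]
      exact E.card_meet hF hP
    · intro R hRA hRp huR
      obtain ⟨-, T, hT⟩ := isFullyAutomized_of_isFullyNormalized hS hF hP.2.1
      obtain ⟨Q, hQ⟩ := (hRp.of_equiv (Subgroup.subgroupOfEquivOfLe hRA).symm).exists_le_sylow
      have h1 : Nat.card R ≤ Nat.card (Subgroup.zpowers u) := by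
        refine le_trans ?_ (Subgroup.card_le_of_le hind)
        rw [← Nat.card_congr (Subgroup.subgroupOfEquivOfLe hRA).toEquiv,
          ← Nat.card_congr (Subgroup.subgroupOfEquivOfLe (autInducedBy_le_autGroup F hPS)).toEquiv,
          ← hT]
        exact (Subgroup.card_le_of_le hQ).trans
          (Nat.card_congr (Sylow.equiv Q T).toEquiv).le
      exact (Subgroup.eq_of_le_of_card_ge (Subgroup.zpowers_le.2 huR) h1).ge
    · by_contra hn
      push Not at hn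
      have hUp : IsPGroup p (Subgroup.zpowers u) := (isPGroup_autInducedBy hS P).to_le hind'
      let U := (Subgroup.zpowers u).subgroupOf (F.autGroup P)
      have hUn : U.Normal := by
        refine ⟨fun y hy γ => ?_⟩
        obtain ⟨i, hi'⟩ := hy
        refine Subgroup.mem_subgroupOf.2 ?_
        show (γ : MulAut ↥P) * (y : MulAut ↥P) * (γ : MulAut ↥P)⁻¹ ∈ _
        rw [show (y : MulAut ↥P) = u ^ i from hi'.symm, ← conj_zpow]
        exact Subgroup.zpow_mem _ (hn γ γ.2) i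
      have hUle : U ≤ pCore p (F.autGroup P) := le_sSup
        ⟨hUn, hUp.of_equiv (Subgroup.subgroupOfEquivOfLe (Subgroup.zpowers_le.2 huA)).symm⟩
      have hmem : u ∈ (pCore p (F.autGroup P)).map (F.autGroup P).subtype :=
        ⟨⟨u, huA⟩, hUle (Subgroup.mem_subgroupOf.2 (Subgroup.mem_zpowers u)), rfl⟩
      rw [(isRadical_of_isEssential hS hP).2, hIP, Subgroup.mem_bot] at hmem
      exact hu1 hmem
  obtain ⟨C, W, K, hC1, hC2, hC3, hC4, -, -, -, -, htor⟩ := D.structure_thm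
  obtain ⟨t, ht, htZ, htC, htD⟩ := htor H.ne_two
  obtain ⟨τ, hτ, hτe⟩ := extend_aut hS hF hPS E.zle ht fun z hz => by
    rw [autMap_apply _ (E.zle hz)]
    exact htZ _ hz
  refine ⟨C.map P.subtype, ⟨?_, ?_, ?_, τ, hτ, ?_, ?_⟩, ?_⟩
  · rintro _ ⟨c, hc, rfl⟩
    exact hC1 hc
  · rintro _ ⟨c, hc, rfl⟩ hcD
    exact congrArg Subtype.val (hC2 c hc hcD)
  · intro z hz
    obtain ⟨c, hc, a, ha, e⟩ := hC3 ⟨z, E.zle hz⟩ hz
    exact ⟨c, ⟨c, hc, rfl⟩, a, ha, congrArg Subtype.val e⟩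
  · rintro _ ⟨c, hc, rfl⟩
    show autMap τ (c : Ω) = c
    rw [hτe (c : Ω) (hC1 hc), autMap_coe, htC c hc]
  · intro a ha
    rw [hτe a ha.1, autMap_apply _ (hDP ha), htD ⟨a, hDP ha⟩ ha]
    rfl
  · rintro α hα _ ⟨c, hc, rfl⟩
    exact ⟨α c, hC4 α hα c hc, (autMap_coe α c).symm⟩

/-- The complement is invariant under the automorphisms of `S`. -/
theorem Compl.inv (hS : IsPGroup p S) (hF : F.IsSaturated p) (hcard : Nat.card ↥(D₀ S) = p)
    {C : Subgroup Ω} (hC : Compl F C) {β : MulAut ↥S} (hβ : β ∈ F.autGroup S) {c : Ω} (hc : c ∈ C) :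
    autMap β c ∈ C := by
  obtain ⟨τ, hτ, h1, h2⟩ := hC.torus
  have hm := (mem_autGroup_iff le_rfl).1 hβ
  have hmono := hm.mono (hC.le.trans zc_le)
  refine fixed_eq hS hF hcard (C := imgSub (autMap β) C) ?_ hC.le hC.dec
    ((F.autGroup S).mul_mem ((F.autGroup S).mul_mem hβ hτ) ((F.autGroup S).inv_mem hβ)) hτ ?_ h1 ?_
    h2 (hmono.mem_imgSub.2 ⟨c, hc, rfl⟩)
  · intro y hy
    obtain ⟨b, hb, rfl⟩ := hmono.mem_imgSub.1 hy
    exact aut_zc (hC.le hb)
  · intro y hy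
    obtain ⟨b, hb, rfl⟩ := hmono.mem_imgSub.1 hy
    have hbS := zc_le (hC.le hb)
    rw [autMap_mul _ _ (autMap_mem _ hbS), ← autMap_mul β⁻¹ β hbS, inv_mul_cancel,
      show autMap (1 : MulAut ↥S) b = b by rw [autMap_apply _ hbS]; rfl,
      autMap_mul _ _ hbS, h1 b hb]
  · intro a ha
    have haS : a ∈ S := zc_le ha.1
    have hb := aut_D₀ (β := β⁻¹) ha
    rw [autMap_mul _ _ haS, autMap_mul _ _ (autMap_mem _ haS), h2 _ hb, pow_two,
      hm.map_mul (autMap_mem _ haS) (autMap_mem _ haS), autMap_inv_apply _ haS, pow_two]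

theorem exists_abelian_ess (H : Setting S A p) (hF : F.IsSaturated p) (hcore : F.core = ⊥)
    (hAe : ¬ F.IsEssential p A) :
    ∃ P x, F.IsEssential p P ∧ Ess H P x ∧ P ⊓ A ≤ zc S := by
  have hS := H.pgroup
  haveI := finite_of_le (show zc S ≤ S from zc_le)
  by_contra h
  push Not at h
  have hn : F.IsNormal (zc S) := by
    refine isNormal_of_essential hS hF fun P hP => ?_
    have hg : P ≤ S ∧ zc S ≤ P ∧ ∀ α ∈ F.autGroup P, ∀ z ∈ zc S, autMap α z ∈ zc S := by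
      rcases hP with rfl | hP
      · exact ⟨le_rfl, zc_le, fun α _ z hz => aut_zc hz⟩
      · obtain ⟨x, E⟩ := exists_ess H hF hP (fun e => hAe (e ▸ hP))
        exact ⟨hP.1.1, E.zle, fun α hα z hz => E.zc_inv hF hP (h P x hP E) hα hz⟩
    exact ⟨hg.2.1, fun α hα =>
      (((mem_autGroup_iff hg.1).1 hα).mono hg.2.1).image_eq_of_mapsTo (hg.2.2 α hα)⟩
  have hbot : zc S = ⊥ := eq_bot_iff.2 (hcore ▸ le_sSup hn)
  haveI : Nontrivial ↥S := by
    by_contra hc
    rw [not_nontrivial_iff_subsingleton] at hc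
    exact H.nonab ⟨⟨fun a b => Subsingleton.elim _ _⟩⟩
  haveI := hS.center_nontrivial
  obtain ⟨z, hz, hz1⟩ := (Subgroup.nontrivial_iff_exists_ne_one (Subgroup.center ↥S)).1 inferInstance
  have : (z : Ω) ∈ zc S := ⟨z, hz, rfl⟩
  rw [hbot, Subgroup.mem_bot] at this
  exact hz1 (Subtype.ext this)

theorem zc_eq_D₀ (H : Setting S A p) (hF : F.IsSaturated p) (hcore : F.core = ⊥)
    (hAe : ¬ F.IsEssential p A) : zc S = D₀ S := by
  have hS := H.pgroup
  obtain ⟨P, x, hP, E, hab⟩ := exists_abelian_ess H hF hcore hAe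
  have hcard : Nat.card ↥(D₀ S) = p := E.card_meet hF hP
  obtain ⟨C, hC, hinvP⟩ := exists_compl hF hP E hab
  haveI := finite_of_le (hC.le.trans zc_le)
  have hn : F.IsNormal C := by
    refine isNormal_of_essential hS hF fun Q hQ => ?_
    have hg : Q ≤ S ∧ C ≤ Q ∧ ∀ α ∈ F.autGroup Q, ∀ c ∈ C, autMap α c ∈ C := by
      rcases hQ with rfl | hQ
      · exact ⟨le_rfl, hC.le.trans zc_le, fun α hα c hc => hC.inv hS hF hcard hα hc⟩
      · obtain ⟨y, E'⟩ := exists_ess H hF hQ (fun e => hAe (e ▸ hQ))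
        refine ⟨hQ.1.1, hC.le.trans E'.zle, fun α hα c hc => ?_⟩
        by_cases hab' : Q ⊓ A ≤ zc S
        · obtain ⟨C', hC', hinv⟩ := exists_compl hF hQ E' hab'
          obtain ⟨τ, hτ, h1, h2⟩ := hC.torus
          obtain ⟨τ', hτ', h1', h2'⟩ := hC'.torus
          have e1 := fixed_eq hS hF hcard hC.le hC'.le hC'.dec hτ hτ' h1 h1' h2 h2'
          have e2 := fixed_eq hS hF hcard hC'.le hC.le hC.dec hτ' hτ h1' h1 h2' h2
          exact e2 (hinv α hα c (e1 hc))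
        · obtain ⟨β, hβ, hβe⟩ := extend_aut hS hF hQ.1.1 E'.zle hα
            fun z hz => E'.zc_inv hF hQ hab' hα hz
          rw [← hβe c (hC.le hc)]
          exact hC.inv hS hF hcard hβ hc
    exact ⟨hg.2.1, fun α hα =>
      (((mem_autGroup_iff hg.1).1 hα).mono hg.2.1).image_eq_of_mapsTo (hg.2.2 α hα)⟩
  have hbot : C = ⊥ := eq_bot_iff.2 (hcore ▸ le_sSup hn)
  refine le_antisymm (fun z hz => ?_) inf_le_left
  obtain ⟨c, hc, a, ha, rfl⟩ := hC.dec z hz
  rw [hbot, Subgroup.mem_bot] at hc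
  rw [hc, one_mul]
  exact ha

end Cfsg.Agent.H90.Oliver
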