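import Cfsg.Agent.H90.Transport
import Cfsg.Agent.Cores.PCore
import Cfsg.Agent.FusionSys.Group

/-!
Quadratic automorphisms and `p`-stability.
-/

set_option autoImplicit false

namespace Cfsg.Agent.H90

open Cfsg Cfsg.FusionSystem
open scoped commutatorElement

variable {Ω : Type*} [Group Ω] {S : Subgroup Ω}

/-- `χ` acts quadratically. -/
def Quad {Q : Subgroup Ω} (χ : MulAut ↥Q) : Prop :=
  ∀ a : ↥Q, (χ a⁻¹) * a * (χ a⁻¹) * (χ (χ a)) = 1

theorem quad_iff {Q : Subgroup Ω} (χ : MulAut ↥Q) :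
    Quad χ ↔ ∀ a : ↥Q, χ (a⁻¹ * χ a) = a⁻¹ * χ a := by
  refine forall_congr' fun a => ?_
  rw [map_mul, map_inv]
  constructor
  · intro h
    rw [mul_assoc, mul_eq_one_iff_inv_eq] at h
    rw [← h, mul_inv_rev, inv_inv]
  · intro h
    rw [mul_assoc, h]
    simp [mul_assoc]

theorem quad_congr {P Q : Subgroup Ω} (e : ↥P ≃* ↥Q) {χ : MulAut ↥P} (h : Quad χ) :
    Quad (MulAut.congr e χ) := by
  rw [quad_iff] at h ⊢
  intro a
  obtain ⟨a, rfl⟩ := e.surjective a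
  have h' := congrArg e (h a)
  show e (χ (e.symm ((e a)⁻¹ * e (χ (e.symm (e a)))))) = (e a)⁻¹ * e (χ (e.symm (e a)))
  rw [e.symm_apply_apply, ← map_inv, ← map_mul, e.symm_apply_apply]
  exact h'

/-- `p`-stability of a system at one automorphism. -/
def InCore (p : ℕ) {Q : Subgroup Ω} (A : Subgroup (MulAut ↥Q)) (χ : MulAut ↥Q) : Prop :=
  χ ∈ ((pCore p ↥A).map A.subtype : Subgroup (MulAut ↥Q))

theorem inCore_transfer [Finite S] {p : ℕ} (F : FusionSystem S) {Q : Subgroup Ω} {φ : ↥Q →* Ω}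
    (hφ : φ ∈ F.Hom Q) {χ : MulAut ↥Q} (hχ : χ ∈ F.autGroup Q)
    (h : InCore p (F.autGroup φ.range) (MulAut.congr (imgEquiv F hφ) χ)) :
    InCore p (F.autGroup Q) χ := by
  obtain ⟨z, hz, hze⟩ := h
  rw [← Cores.pCore_map_mulEquiv (autEquiv F hφ)] at hz
  obtain ⟨w, hw, rfl⟩ := hz
  refine ⟨w, hw, ?_⟩
  exact (MulAut.congr (imgEquiv F hφ)).injective hze

theorem isPStable_all [Finite S] {p : ℕ} (F : FusionSystem S)
    (hst : ∀ Q : Subgroup Ω, F.IsFullyNormalized Q → ∀ χ : MulAut ↥Q, χ ∈ F.autGroup Q →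
      Quad χ → InCore p (F.autGroup Q) χ)
    {Q : Subgroup Ω} (hQ : Q ≤ S) {χ : MulAut ↥Q} (hχ : χ ∈ F.autGroup Q) (hq : Quad χ) :
    InCore p (F.autGroup Q) χ := by
  obtain ⟨R, hc, hR⟩ := FusionSys.exists_isFullyNormalized F hQ
  obtain ⟨φ, hφ, rfl⟩ := hc
  exact inCore_transfer F hφ hχ (hst _ hR _ (congr_mem_autGroup F hφ hχ) (quad_congr _ hq))

theorem inCore_of_le [Finite S] {p : ℕ} {Q : Subgroup Ω} {A B : Subgroup (MulAut ↥Q)} (hBA : B ≤ A)
    {χ : MulAut ↥Q} (hχ : χ ∈ B) (h : InCore p A χ) : InCore p B χ := by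
  obtain ⟨z, hz, hze⟩ := h
  have hn : ((pCore p ↥A).comap (Subgroup.inclusion hBA)).Normal := inferInstance
  have hp : IsPGroup p ↥((pCore p ↥A).comap (Subgroup.inclusion hBA)) :=
    Cores.pCore_isPGroup.comap_of_injective _ (Subgroup.inclusion_injective hBA)
  refine ⟨⟨χ, hχ⟩, Cores.le_pCore hp (Subgroup.mem_comap.2 ?_), rfl⟩
  rwa [show Subgroup.inclusion hBA ⟨χ, hχ⟩ = z from Subtype.ext hze.symm]

theorem conjAutHom_apply (Q : Subgroup Ω) (g : ↥(Subgroup.normalizer (Q : Set Ω))) (x : ↥Q) :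
    (((FusionSys.conjAutHom Q g) x : ↥Q) : Ω) = (g : Ω) * x * (g : Ω)⁻¹ := rfl

theorem quad_iff_commutator (Q : Subgroup Ω) (g : ↥(Subgroup.normalizer (Q : Set Ω))) :
    Quad (FusionSys.conjAutHom Q g) ↔
      ⁅⁅Q, Subgroup.zpowers (g : Ω)⁆, Subgroup.zpowers (g : Ω)⁆ = ⊥ := by
  set χ := FusionSys.conjAutHom Q g with hχ
  rw [quad_iff, Subgroup.commutator_eq_bot_iff_le_centralizer]
  constructor
  · intro h
    have key : ∀ (k : ℤ) (a : ↥Q), χ (a⁻¹ * (χ ^ k) a) = a⁻¹ * (χ ^ k) a := by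
      intro k
      induction k using Int.induction_on with
      | zero => intro a; simp
      | succ k ih =>
        intro a
        rw [show a⁻¹ * (χ ^ ((k : ℤ) + 1)) a =
          (a⁻¹ * (χ ^ (k : ℤ)) a) * (((χ ^ (k : ℤ)) a)⁻¹ * χ ((χ ^ (k : ℤ)) a)) by
          rw [add_comm, zpow_one_add]; simp [MulAut.mul_apply, mul_assoc]]
        rw [map_mul, ih, h]
      | pred k ih =>
        intro a
        rw [show a⁻¹ * (χ ^ (-(k : ℤ) - 1)) a = (a⁻¹ * (χ ^ (-(k : ℤ))) a) *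
          (((χ ^ (-(k : ℤ) - 1)) a)⁻¹ * χ ((χ ^ (-(k : ℤ) - 1)) a))⁻¹ by
          rw [show χ ((χ ^ (-(k : ℤ) - 1)) a) = (χ ^ (-(k : ℤ))) a by
            rw [← MulAut.mul_apply, ← zpow_one_add, add_sub_cancel]]
          simp [mul_assoc]]
        rw [map_mul, map_inv, ih, h]
    refine Subgroup.commutator_le.2 fun a ha b hb => ?_
    obtain ⟨k, rfl⟩ := Subgroup.mem_zpowers_iff.1 hb
    refine Subgroup.mem_centralizer_iff.2 fun c hc => ?_
    obtain ⟨j, rfl⟩ := Subgroup.mem_zpowers_iff.1 hc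
    refine (Commute.zpow_left ?_ j).eq
    have h1 := congrArg Subtype.val (key k ⟨a⁻¹, inv_mem ha⟩)
    rw [hχ, ← map_zpow, conjAutHom_apply, Subgroup.coe_mul, conjAutHom_apply,
      Subgroup.coe_zpow] at h1
    simp only [Subgroup.coe_inv, inv_inv] at h1
    show (g : Ω) * ⁅a, (g : Ω) ^ k⁆ = ⁅a, (g : Ω) ^ k⁆ * (g : Ω)
    rw [commutatorElement_def]
    have h2 := congrArg (· * (g : Ω)) h1
    simpa [mul_assoc] using h2
  · intro h a
    refine Subtype.ext ?_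
    rw [hχ, conjAutHom_apply, Subgroup.coe_mul, conjAutHom_apply, Subgroup.coe_inv]
    have hc : ⁅((a : Ω))⁻¹, (g : Ω)⁆ ∈ Subgroup.centralizer (Subgroup.zpowers (g : Ω) : Set Ω) :=
      h (Subgroup.commutator_mem_commutator (Q.inv_mem a.2) (Subgroup.mem_zpowers _))
    have h2 := Subgroup.mem_centralizer_iff.1 hc _ (Subgroup.mem_zpowers _)
    rw [commutatorElement_def, inv_inv] at h2
    have h3 := congrArg (· * (g : Ω)⁻¹) h2
    simpa [mul_assoc] using h3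

theorem ker_conjAutHom (Q : Subgroup Ω) : (FusionSys.conjAutHom Q).ker =
    (Subgroup.centralizer (Q : Set Ω)).subgroupOf (Subgroup.normalizer (Q : Set Ω)) := by
  ext g
  rw [MonoidHom.mem_ker, Subgroup.mem_subgroupOf, Subgroup.mem_centralizer_iff]
  constructor
  · intro h y hy
    have h1 : (g : Ω) * y * (g : Ω)⁻¹ = y := by
      rw [← conjAutHom_apply Q g ⟨y, hy⟩, h]; rfl
    rw [mul_inv_eq_iff_eq_mul] at h1
    exact h1.symm
  · intro h
    refine MulEquiv.ext fun y => Subtype.ext ?_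
    rw [conjAutHom_apply, ← h y y.2, mul_inv_cancel_right]
    rfl

/-- The normalizer form of `p`-stability at `g`, through the automizer. -/
theorem inCore_iff_quotient {p : ℕ} (Q : Subgroup Ω) (g : ↥(Subgroup.normalizer (Q : Set Ω))) :
    InCore p (autInducedBy ⊤ Q) (FusionSys.conjAutHom Q g) ↔
      (QuotientGroup.mk g : ↥(Subgroup.normalizer (Q : Set Ω)) ⧸
        (Subgroup.centralizer (Q : Set Ω)).subgroupOf (Subgroup.normalizer (Q : Set Ω))) ∈
        pCore p (↥(Subgroup.normalizer (Q : Set Ω)) ⧸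
          (Subgroup.centralizer (Q : Set Ω)).subgroupOf (Subgroup.normalizer (Q : Set Ω))) := by
  rw [← FusionSys.range_conjAutHom Q]
  let e := (QuotientGroup.quotientMulEquivOfEq (ker_conjAutHom Q).symm).trans
    (QuotientGroup.quotientKerEquivRange (FusionSys.conjAutHom Q))
  have he : ((e (QuotientGroup.mk g) : ↥(FusionSys.conjAutHom Q).range) : MulAut ↥Q) =
      FusionSys.conjAutHom Q g := rfl
  constructor
  · rintro ⟨z, hz, hze⟩
    rw [← Cores.pCore_map_mulEquiv e] at hz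
    obtain ⟨w, hw, rfl⟩ := hz
    rwa [← e.injective (Subtype.ext (hze.trans he.symm))]
  · intro h
    exact ⟨_, (Cores.pCore_map_mulEquiv e).le ⟨_, h, rfl⟩, he⟩

end Cfsg.Agent.H90
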