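import Cfsg.Agent.H90.PPowerContain
import Cfsg.Prelude.Def_FusionReduction

/-!
The residual limit is unique, and is not changed by passing to a subsystem of `p`-power index.
-/

set_option autoImplicit false
set_option linter.unusedSectionVars false
set_option linter.style.haveILetI false
set_option maxHeartbeats 400000

namespace Cfsg.Agent.H90.RL

open Cfsg Cfsg.FusionSystem Cfsg.Agent.FusionSys

variable {Ω : Type*} [Group Ω] {p : ℕ}

theorem isMap_of_mem {S : Subgroup Ω} {F : FusionSystem S} {P : Subgroup Ω} {φ : P →* Ω}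
    (h : φ ∈ F.Hom P) : IsMap F P (homFun φ) := ⟨φ, h, fun x => (homFun_coe φ x).symm⟩

theorem autGroup_mono {S T : Subgroup Ω} {F : FusionSystem S} {E : FusionSystem T}
    (h : E.IsSubsystemOf F) {P : Subgroup Ω} (hT : P ≤ T) (hS : P ≤ S) :
    E.autGroup P ≤ F.autGroup P := fun _ ha => by
  obtain ⟨φ, hφ, hφe⟩ := (mem_autGroup_iff hT).1 ha
  exact (mem_autGroup_iff hS).2 ⟨φ, h P hφ, hφe⟩

theorem hyperfocal_le {S : Subgroup Ω} (F : FusionSystem S) : F.hyperfocalSubgroup p ≤ S := by
  refine (Subgroup.closure_le _).2 ?_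
  rintro y ⟨P, α, x, hP, -, rfl⟩
  exact S.mul_mem (S.inv_mem (hP x.2)) (hP ((α : MulAut P) x).2)

theorem eq_of_subsystem {S : Subgroup Ω} {F E : FusionSystem S} (h₁ : F.IsSubsystemOf E)
    (h₂ : E.IsSubsystemOf F) : F = E := le_antisymm' h₁ h₂

variable [hp : Fact p.Prime]

theorem residual_unique {S T₁ T₂ : Subgroup Ω} [Finite S] (hS : IsPGroup p S) {F : FusionSystem S}
    {E₁ : FusionSystem T₁} {E₂ : FusionSystem T₂} (hT : T₁ = T₂) (hTS : T₁ ≤ S)
    (h₁ : E₁.IsSaturated p) (h₁' : E₁.HasPPowerIndexIn F p) (h₂ : E₂.IsSaturated p)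
    (h₂' : E₂.HasPPowerIndexIn F p) :
    E₁.IsSubsystemOf E₂ ∧ E₂.IsSubsystemOf E₁ :=
  ⟨PPC.main hS hTS h₁ h₁'.1 hT.le h₂'.2.2, PPC.main hS (hT ▸ hTS) h₂ h₂'.1 hT.ge h₁'.2.2⟩

/-- The system is its own residual of both kinds. -/
def Stable {S : Subgroup Ω} (F : FusionSystem S) (p : ℕ) : Prop :=
  F.hyperfocalSubgroup p = S ∧ F.IsPPrimeResidual p F

theorem selfIndex {S : Subgroup Ω} (F : FusionSystem S) : F.HasPPowerIndexIn F p :=
  ⟨fun _ => Set.Subset.rfl, hyperfocal_le F, fun _ _ => Subgroup.map_subtype_le _⟩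

/-- Two systems over possibly different subgroups with the same maps. -/
def Same {T T' : Subgroup Ω} (E : FusionSystem T) (E' : FusionSystem T') : Prop :=
  ∀ P, E.Hom P = E'.Hom P

theorem eq_of_same {T T' : Subgroup Ω} {E : FusionSystem T} {E' : FusionSystem T'} (h : Same E E') :
    T = T' := by
  have : ∀ {A B : Subgroup Ω} {X : FusionSystem A} {Y : FusionSystem B}, Same X Y → A ≤ B := by
    intro A B X Y h
    have h1 := X.conj_mem (le_refl A) A.one_mem
    rw [h A] at h1
    exact (Y.le_of_mem h1).1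
  exact le_antisymm (this h) (this fun P => (h P).symm)

theorem limit_stable {T S : Subgroup Ω} {E : FusionSystem T} {F : FusionSystem S} {q : ℕ}
    (h : FusionSystem.IsResidualLimitOf E F q) :
    q = p → Finite ↥S → IsPGroup p S → F.IsSaturated q → Stable F q → Same E F := by
  induction h with
  | stable F q _ _ => exact fun _ _ _ _ _ P => rfl
  | @step S E F q D D' hD hD' _ ih =>
    rintro rfl hfin hS hF ⟨hh, hs⟩
    haveI := hfin
    obtain ⟨a, b⟩ := residual_unique hS hh (hyperfocal_le F) hD.1 hD.2 hF (selfIndex F)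
    have hsame : Same D F := fun P => Set.Subset.antisymm (a P) (b P)
    have key : ∀ {U : Subgroup Ω} (X X' : FusionSystem U), Same X F → X.IsPPrimeResidual q X' →
        Same X' F := by
      intro U X X' hX hX'
      obtain rfl := eq_of_same hX
      obtain rfl : X = F := le_antisymm' (fun P => (hX P).le) (fun P => (hX P).ge)
      exact fun P => Set.Subset.antisymm (hX'.2.1.1 P) (hs.2.2 X' hX'.1 hX'.2.1 P)
    have hsame' := key D D' hsame hD'
    have hfin' : Finite ↥(F.hyperfocalSubgroup q) := finite_of_le (hyperfocal_le F)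
    have key' : ∀ {U : Subgroup Ω} (X : FusionSystem U), Same X F → Stable X q := by
      intro U X hX
      obtain rfl := eq_of_same hX
      obtain rfl : X = F := le_antisymm' (fun P => (hX P).le) (fun P => (hX P).ge)
      exact ⟨hh, hs⟩
    exact fun P => (ih rfl hfin' (hS.to_le (hyperfocal_le F)) hD'.1 (key' D' hsame') P).trans
      (hsame' P)

theorem limit_unique {T S : Subgroup Ω} {E : FusionSystem T} {F : FusionSystem S} {q : ℕ}
    (h : FusionSystem.IsResidualLimitOf E F q) :
    q = p → Finite ↥S → IsPGroup p S → F.IsSaturated q →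
      ∀ {T' : Subgroup Ω} (E' : FusionSystem T'), FusionSystem.IsResidualLimitOf E' F q →
        Same E E' := by
  induction h with
  | stable F q hh hs =>
    rintro rfl hfin hS hF T' E' h' P
    exact (limit_stable h' rfl hfin hS hF ⟨hh, hs⟩ P).symm
  | @step S E F q D D' hD hD' hlim ih =>
    rintro rfl hfin hS hF T' E' h'
    haveI := hfin
    cases h' with
    | stable _ _ hh hs =>
      exact limit_stable (FusionSystem.IsResidualLimitOf.step F q D D' hD hD' hlim) rfl hfin hS hF
        ⟨hh, hs⟩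
    | step _ _ D₂ D₂' hD₂ hD₂' h₂ =>
      obtain rfl : D₂ = D := by
        obtain ⟨a, b⟩ := residual_unique hS rfl (hyperfocal_le F) hD₂.1 hD₂.2 hD.1 hD.2
        exact eq_of_subsystem a b
      obtain rfl : D₂' = D' := eq_of_subsystem (hD₂'.2.2 _ hD'.1 hD'.2.1) (hD'.2.2 _ hD₂'.1 hD₂'.2.1)
      exact ih rfl (finite_of_le (hyperfocal_le F)) (hS.to_le (hyperfocal_le F)) hD'.1 _ h₂

theorem pow_mem_of_coprime {G : Type*} [Group G] {H : Subgroup G} {a : G} {m : ℕ}
    (hc : (orderOf a).Coprime m) (h : a ^ m ∈ H) : a ∈ H := by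
  obtain ⟨j, hj⟩ := exists_pow_eq_self_of_coprime hc.symm
  rw [← hj]
  exact H.pow_mem h j

theorem hyperfocal_eq {S T : Subgroup Ω} [Finite S] (hS : IsPGroup p S) {F : FusionSystem S}
    (hTS : T ≤ S) (hcl : F.StronglyClosed T) {E : FusionSystem T} (hE : E.HasPPowerIndexIn F p) :
    E.hyperfocalSubgroup p = F.hyperfocalSubgroup p := by
  refine le_antisymm ((Subgroup.closure_le _).2 ?_) ((Subgroup.closure_le _).2 ?_)
  · rintro y ⟨P, α, x, hP, hα, rfl⟩
    haveI := finite_autGroup F (hP.trans hTS)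
    let j := Subgroup.inclusion (autGroup_mono hE.1 hP (hP.trans hTS))
    refine Subgroup.subset_closure ⟨P, j α, x, hP.trans hTS, ?_, rfl⟩
    have : pResidual p (E.autGroup P) ≤ (pResidual p (F.autGroup P)).comap j := by
      refine (Subgroup.closure_le _).2 fun g hg => Subgroup.subset_closure ?_
      show Nat.Coprime (orderOf (j g)) p
      rwa [orderOf_injective j (Subgroup.inclusion_injective _)]
    exact this hα
  · rintro y ⟨P, α, x, hP, hα, rfl⟩
    set Hh := E.hyperfocalSubgroup p
    haveI := finite_autGroup F hP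
    haveI := finite_of_le hP
    -- restrict to the elements whose commutators lie in the smaller hyperfocal subgroup
    suffices h : ∀ g ∈ pResidual p (F.autGroup P), ∀ x : P,
        (x : Ω)⁻¹ * ((g : MulAut P) x : P) ∈ Hh from h α hα x
    intro g hg
    induction hg using Subgroup.closure_induction with
    | one => intro x; simp
    | mul a b _ _ iha ihb =>
      intro x
      have := Hh.mul_mem (ihb x) (iha ((b : MulAut P) x))
      rwa [mul_assoc, mul_inv_cancel_left] at this
    | inv a _ ih =>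
      intro x
      have := Hh.inv_mem (ih (((a⁻¹ : F.autGroup P) : MulAut P) x))
      rw [mul_inv_rev, inv_inv, ← MulAut.mul_apply, ← Subgroup.coe_mul, mul_inv_cancel,
        Subgroup.coe_one, MulAut.one_apply] at this
      exact this
    | mem g hg =>
      intro x
      have hT : ∀ z : P, (z : Ω)⁻¹ * ((g : MulAut P) z : P) ∈ T := fun z =>
        hE.2.1 (Subgroup.subset_closure ⟨P, g, z, hP, Fusion.mem_pResidual hg, rfl⟩)
      have hm : IsMap F P (autMap (g : MulAut P)) := (mem_autGroup_iff hP).1 g.2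
      set R := P ⊓ T
      have hRP : R ≤ P := inf_le_left
      have hmR : IsMap F R (autMap (g : MulAut P)) := hm.mono hRP
      have hmaps : ∀ z ∈ R, autMap (g : MulAut P) z ∈ R := fun z hz => by
        refine ⟨autMap_mem _ hz.1, ?_⟩
        obtain ⟨φ, hφ, hφe⟩ := hmR
        exact hφe ⟨z, hz⟩ ▸ hcl.2 R inf_le_right φ hφ ⟨z, hz⟩
      haveI := finite_of_le (hRP.trans hP)
      obtain ⟨β, hβ, hβe⟩ := (IsIso.mk hmR (hmR.image_eq_of_mapsTo hmaps)).exists_aut
      set m := orderOf g
      have hgm : ∀ z : P, ((g : MulAut P) ^ m) z = z := fun z => by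
        have : (g : MulAut P) ^ m = 1 := congrArg Subtype.val (pow_orderOf_eq_one g)
        rw [this]; rfl
      have hβm : β ^ m = 1 := by
        refine aut_ext fun z hz => ?_
        have hit : ∀ k : ℕ, autMap (β ^ k) z = autMap ((g : MulAut P) ^ k) z := by
          intro k
          induction k with
          | zero => rw [autMap_apply _ hz, autMap_apply _ hz.1]; rfl
          | succ k ih =>
            rw [pow_succ', pow_succ', autMap_mul _ _ hz, autMap_mul _ _ hz.1,
              hβe _ (autMap_mem _ hz), ih]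
        rw [hit, autMap_apply _ hz.1, autMap_apply _ hz, hgm]
        rfl
      have hRT : R ≤ T := inf_le_right
      haveI := finite_autGroup F (hRP.trans hP)
      have hβc : Nat.Coprime (orderOf β) p := hg.coprime_dvd_left (orderOf_dvd_of_pow_eq_one hβm)
      have hβE : β ∈ E.autGroup R :=
        hE.2.2 R hRT ⟨⟨β, hβ⟩, Fusion.mem_pResidual (by rwa [Subgroup.orderOf_mk]), rfl⟩
      have hstep : ∀ z ∈ R, z⁻¹ * autMap (g : MulAut P) z ∈ Hh := fun z hz => by
        refine Subgroup.subset_closure ⟨R, ⟨β, hβE⟩, ⟨z, hz⟩, hRT,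
          Fusion.mem_pResidual (by rwa [Subgroup.orderOf_mk]), ?_⟩
        rw [← hβe z hz, autMap_apply _ hz]
      set f := autMap (g : MulAut P) with hf
      have haR : (x : Ω)⁻¹ * f x ∈ R := by
        refine ⟨P.mul_mem (P.inv_mem x.2) (autMap_mem _ x.2), ?_⟩
        rw [hf, autMap_coe]
        exact hT x
      set a := (x : Ω)⁻¹ * f x with ha
      have hiter : ∀ k : ℕ, ∃ h ∈ R, h ∈ Hh ∧ autMap ((g : MulAut P) ^ k) (x : Ω) = x * a ^ k * h := by
        intro k
        induction k with
        | zero => exact ⟨1, R.one_mem, Hh.one_mem, by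
            rw [pow_zero, pow_zero, mul_one, mul_one, autMap_apply _ x.2]; rfl⟩
        | succ k ih =>
          obtain ⟨h, hR, hH, he⟩ := ih
          have hak : a ^ k ∈ R := R.pow_mem haR k
          refine ⟨(a ^ k)⁻¹ * f (a ^ k) * f h,
            R.mul_mem (R.mul_mem (R.inv_mem hak) (hmaps _ hak)) (hmaps _ hR), ?_, ?_⟩
          · have h1 := Hh.mul_mem (hstep _ hak) (Hh.mul_mem hH (hstep h hR))
            rwa [mul_inv_cancel_left] at h1
          · rw [pow_succ', autMap_mul _ _ x.2, he, ← hf,
              hm.map_mul (P.mul_mem x.2 (hRP hak)) (hRP hR), hm.map_mul x.2 (hRP hak),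
              show f (x : Ω) = x * a by rw [ha, mul_inv_cancel_left], pow_succ']
            simp only [mul_assoc, mul_inv_cancel_left]
      obtain ⟨h, -, hH, he⟩ := hiter m
      rw [autMap_apply _ x.2, hgm, mul_assoc, left_eq_mul] at he
      have ham : a ^ m ∈ Hh := eq_inv_of_mul_eq_one_left he ▸ Hh.inv_mem hH
      rw [show ((x : Ω)⁻¹ * ((g : MulAut P) x : P)) = a by rw [ha, hf, autMap_coe]]
      refine pow_mem_of_coprime ?_ ham
      obtain ⟨k, hk⟩ := IsPGroup.iff_orderOf.1 hS ⟨a, hP (hRP haR)⟩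
      rw [Subgroup.orderOf_mk] at hk
      rw [hk]
      exact Nat.Coprime.pow_left k hg.symm

theorem main {S T : Subgroup Ω} [Finite S] (hS : IsPGroup p S) {F : FusionSystem S}
    (hF : F.IsSaturated p) (hTS : T ≤ S) (hcl : F.StronglyClosed T) {E : FusionSystem T}
    (hEs : E.IsSaturated p) (hE : E.HasPPowerIndexIn F p) {U V : Subgroup Ω} (Finf : FusionSystem U)
    (hFinf : Finf.IsResidualLimitOf F p) (Einf : FusionSystem V)
    (hEinf : Einf.IsResidualLimitOf E p) : ∀ P, Finf.Hom P = Einf.Hom P := by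
  have hyp := hyperfocal_eq hS hTS hcl hE
  have build : ∀ {W : Subgroup Ω} (D D' : FusionSystem W), W = F.hyperfocalSubgroup p →
      D.IsSaturated p → D.HasPPowerIndexIn F p → D.IsPPrimeResidual p D' →
      Einf.IsResidualLimitOf D' p → Einf.IsResidualLimitOf F p := by
    intro W D D' hW h1 h2 h3 h4
    subst hW
    exact FusionSystem.IsResidualLimitOf.step F p D D' ⟨h1, h2⟩ h3 h4
  have hlim : Einf.IsResidualLimitOf F p := by
    cases hEinf with
    | stable _ _ hh hs =>
      exact build E E (hh.symm.trans hyp) hEs hE hs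
        (FusionSystem.IsResidualLimitOf.stable E p hh hs)
    | step _ _ D D' hD hD' h =>
      refine build D D' hyp hD.1 ⟨fun P φ hφ => hE.1 P (hD.2.1 P hφ), hyp ▸ le_rfl, fun P hP => ?_⟩
        hD' h
      have hPT : P ≤ T := hP.trans (hyperfocal_le E)
      haveI := finite_autGroup F (hPT.trans hTS)
      refine Subgroup.map_le_iff_le_comap.2 ((Subgroup.closure_le _).2 fun g hg => ?_)
      have hgE : (g : MulAut P) ∈ E.autGroup P :=
        hE.2.2 P hPT ⟨g, Fusion.mem_pResidual hg, rfl⟩
      refine hD.2.2.2 P hP ⟨⟨g, hgE⟩, Fusion.mem_pResidual ?_, rfl⟩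
      rw [Subgroup.orderOf_mk, Subgroup.orderOf_coe]
      exact hg
  exact limit_unique hFinf rfl ‹_› hS hF Einf hlim

end Cfsg.Agent.H90.RL
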