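import Cfsg.Agent.H90.Normal
import Cfsg.Prelude.Def_KGroupFacts

/-!
The fusion system on a `p`-group given by a group of its automorphisms (that of a semidirect
product) and its saturation when the inner automorphisms form the Sylow `p`-subgroup.
-/

set_option autoImplicit false

namespace Cfsg.Agent.H90

open Cfsg Cfsg.FusionSystem

variable {Ω : Type*} [Group Ω] {R : Subgroup Ω}

/-- The fusion system over `R` whose maps are the restrictions of the elements of `A`. -/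
def autSystem (A : Subgroup (MulAut ↥R)) (hA : Inn ↥R ≤ A) : FusionSystem R where
  Hom P := {φ | ∃ h : P ≤ R, ∃ α ∈ A, ∀ x : ↥P, φ x = ((α ⟨x, h x.2⟩ : ↥R) : Ω)}
  le_of_mem := by
    rintro P φ ⟨hP, α, -, h⟩
    exact ⟨hP, fun x => (h x).symm ▸ (α _).2⟩
  injective_of_mem := by
    rintro P φ ⟨hP, α, -, h⟩ a b hab
    have h1 := α.injective (Subtype.ext (((h a).symm.trans hab).trans (h b)) :
      α ⟨a, hP a.2⟩ = α ⟨b, hP b.2⟩)
    exact Subtype.ext (congrArg (fun z : ↥R => (z : Ω)) h1)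
  conj_mem := by
    intro P g hP hg
    exact ⟨hP, MulAut.conj (⟨g, hg⟩ : ↥R), hA ⟨_, rfl⟩, fun x => rfl⟩
  comp_mem := by
    rintro P Q φ ψ ⟨hP, α, hα, h1⟩ ⟨hQ, β, hβ, h2⟩ hv
    refine ⟨hP, β * α, A.mul_mem hβ hα, fun x => ?_⟩
    refine (h2 ⟨φ x, hv x⟩).trans ?_
    exact congrArg (fun z => ((β z : ↥R) : Ω)) (Subtype.ext (h1 x))
  inv_mem := by
    rintro P φ ⟨hP, α, hα, h⟩
    have hr : φ.range ≤ R := by
      rintro _ ⟨x, rfl⟩
      exact (h x).symm ▸ (α _).2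
    refine ⟨R.subtype.comp ((α⁻¹ : MulAut ↥R).toMonoidHom.comp (Subgroup.inclusion hr)),
      ⟨hr, α⁻¹, A.inv_mem hα, fun x => rfl⟩, fun x => ?_⟩
    show ((α⁻¹ ⟨φ x, hr ⟨x, rfl⟩⟩ : ↥R) : Ω) = x
    rw [show (⟨φ x, hr ⟨x, rfl⟩⟩ : ↥R) = α ⟨x, hP x.2⟩ from Subtype.ext (h x)]
    exact congrArg Subtype.val (α.symm_apply_apply ⟨(x : Ω), hP x.2⟩)

theorem pow_restrict {α : MulAut ↥R} {P : Subgroup Ω} (hP : P ≤ R) {δ : MulAut ↥P}
    (h : ∀ x : ↥P, ((δ x : ↥P) : Ω) = ((α ⟨x, hP x.2⟩ : ↥R) : Ω)) (k : ℕ) (x : ↥P) :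
    (((δ ^ k) x : ↥P) : Ω) = (((α ^ k) ⟨x, hP x.2⟩ : ↥R) : Ω) := by
  induction k with
  | zero => rfl
  | succ k ih =>
    rw [pow_succ', pow_succ']
    exact (h _).trans (congrArg (fun z => ((α z : ↥R) : Ω)) (Subtype.ext ih))

theorem autSystem_autGroup [Finite ↥R] (A : Subgroup (MulAut ↥R)) (hA : Inn ↥R ≤ A) :
    (autSystem A hA).autGroup R = A := by
  refine le_antisymm (fun α hα => ?_)
    fun α hα => aut_mem_of_hom _ ⟨le_rfl, α, hα, fun x => rfl⟩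
  obtain ⟨_, β, hβ, h⟩ := hom_of_aut_mem (autSystem A hA) le_rfl hα
  rwa [show α = β from MulEquiv.ext fun x => Subtype.ext (h x)]

/-- If every element of `A` of `p`-power order modulo `Inn` is inner, the system is saturated. -/
theorem autSystem_isSaturated {p q : ℕ} [hp : Fact p.Prime] (hR : IsPGroup p R) [Finite ↥R]
    (A : Subgroup (MulAut ↥R)) (hA : Inn ↥R ≤ A) (hq : Nat.Coprime q p)
    (hAq : ∀ α ∈ A, α ^ q ∈ Inn ↥R) : (autSystem A hA).IsSaturated p := by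
  intro P hP
  refine ⟨P, ⟨_, subtype_mem (autSystem A hA) hP, Subgroup.range_subtype P⟩, ⟨hP, ?_⟩, hP, ?_⟩
  · have := finite_le hP
    have hIp : IsPGroup p ↥((autInducedBy R P).subgroupOf ((autSystem A hA).autGroup P)) :=
      (autInducedBy_isPGroup hR hP).comap_of_injective _ (Subgroup.subtype_injective _)
    obtain ⟨T, hT⟩ := hIp.exists_le_sylow
    refine ⟨T, le_antisymm (fun δ hδ => ?_) hT⟩
    obtain ⟨j, hj⟩ := T.isPGroup' ⟨δ, hδ⟩
    have hj' : (δ : MulAut ↥P) ^ p ^ j = 1 :=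
      (congrArg Subtype.val (congrArg Subtype.val hj) :)
    obtain ⟨_, α, hα, h⟩ := hom_of_aut_mem (autSystem A hA) hP δ.2
    obtain ⟨k, hk1, hk2⟩ := Nat.chineseRemainder ((hq.symm).pow_left j) 1 0
    have hkδ : (δ : MulAut ↥P) ^ k = (δ : MulAut ↥P) := by
      conv_rhs => rw [← pow_one (δ : MulAut ↥P)]
      exact pow_eq_pow_iff_modEq.2 (hk1.of_dvd (orderOf_dvd_of_pow_eq_one hj'))
    obtain ⟨c, hc⟩ := Nat.modEq_zero_iff_dvd.1 hk2
    have hin : α ^ k ∈ Inn ↥R := by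
      rw [hc, pow_mul]
      exact (Inn ↥R).pow_mem (hAq α hα) c
    obtain ⟨u, hu⟩ := hin
    refine Subgroup.mem_subgroupOf.2 ((mem_autInducedBy_iff hP).2 ⟨(u : Ω), u.2, fun x => ?_⟩)
    rw [← hkδ, pow_restrict hP h, ← hu]
    rfl
  · rintro P' φ ⟨hP', α, hα, h⟩ -
    have hle : extender R P' φ ≤ R := (extender_le P' φ).trans inf_le_left
    exact ⟨R.subtype.comp (α.toMonoidHom.comp (Subgroup.inclusion hle)),
      ⟨hle, α, hα, fun x => rfl⟩, fun x hx _ => (h ⟨x, hx⟩).symm⟩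

theorem autSystem_isSubsystemOf {S : Subgroup Ω} [Finite ↥S] (F : FusionSystem S) (hRS : R ≤ S)
    (A : Subgroup (MulAut ↥R)) (hA : Inn ↥R ≤ A) (h : A ≤ F.autGroup R) :
    (autSystem A hA).IsSubsystemOf F := by
  rintro P φ ⟨hP, α, hα, he⟩
  exact mem_of_agree F (res_mem F (hom_of_aut_mem F hRS (h hα)) hP) he

theorem inn_le_autGroup {S : Subgroup Ω} (F : FusionSystem S) (hRS : R ≤ S) :
    Inn ↥R ≤ F.autGroup R := by
  rintro _ ⟨u, rfl⟩
  exact aut_mem_of_hom F (mem_of_agree F (F.conj_mem hRS (hRS u.2)) fun x => rfl)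

theorem pow_mem_inn_sup_zpowers {β : MulAut ↥R} {q : ℕ} (hβ : β ^ q = 1) (α : MulAut ↥R)
    (hα : α ∈ Inn ↥R ⊔ Subgroup.zpowers β) : α ^ q ∈ Inn ↥R := by
  have hn : (Inn ↥R).Normal := ⟨by
    rintro _ ⟨u, rfl⟩ γ
    exact ⟨γ u, MulEquiv.ext fun x => by simp [MulAut.mul_apply, MulAut.conj_apply]⟩⟩
  rw [← SetLike.mem_coe, Subgroup.normal_mul] at hα
  obtain ⟨i, hi, b, ⟨k, rfl⟩, rfl⟩ := hα
  rw [← QuotientGroup.eq_one_iff]
  show (QuotientGroup.mk' (Inn ↥R)) ((i * β ^ k) ^ q) = 1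
  have hi' : (QuotientGroup.mk' (Inn ↥R)) i = 1 := (QuotientGroup.eq_one_iff i).2 hi
  rw [map_pow, map_mul, hi', one_mul, ← map_pow, ← zpow_natCast, ← zpow_mul, mul_comm, zpow_mul,
    zpow_natCast, hβ, one_zpow, map_one]

end Cfsg.Agent.H90
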