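import Cfsg.Agent.H54.SympSemisimple
import Mathlib.RingTheory.Polynomial.Cyclotomic.Factorization

/-!
An element of odd prime order of the symplectic group preserving no pair of complementary Lagrangians.
-/

set_option autoImplicit false
set_option linter.style.haveILetI false

namespace Cfsg.Agent.H90.SympDerangement

open Polynomial Module Cfsg.Agent.Symplectic

variable {F : Type*} [Field F] [Fintype F]

theorem expand_card_pow (j : ℕ) (f : F[X]) :
    expand F (Fintype.card F ^ j) f = f ^ (Fintype.card F ^ j) := by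
  induction j with
  | zero => simp
  | succ j ih =>
    rw [pow_succ, expand_mul, FiniteField.expand_card, map_pow, ih, ← pow_mul]

/-- A monic irreducible self-reciprocal polynomial of degree `2 j` dividing `X ^ r - 1`. -/
theorem exists_poly {p : ℕ} [Fact p.Prime] [CharP F p] {r : ℕ} [Fact r.Prime] (hr2 : r ≠ 2)
    (hrp : r ≠ p) {j : ℕ} (hj1 : 1 ≤ j) (hjr : r ∣ Fintype.card F ^ j + 1)
    (hjmin : ∀ i, 1 ≤ i → r ∣ Fintype.card F ^ i + 1 → j ≤ i) :
    ∃ m : F[X], m.Monic ∧ Irreducible m ∧ m.natDegree = 2 * j ∧ m ∣ X ^ r - 1 ∧ m.eval 1 ≠ 0 ∧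
      m.reverse = m := by
  obtain ⟨f, hp, hK⟩ := FiniteField.card F p
  have hr : r.Prime := Fact.out
  have hcop : p.Coprime r := (Nat.coprime_primes hp hr).mpr (Ne.symm hrp)
  have hne : ¬ IsUnit (cyclotomic r F) := by
    intro h
    have := natDegree_eq_zero_of_isUnit h
    rw [natDegree_cyclotomic, Nat.totient_prime hr] at this
    have := hr.two_le
    omega
  obtain ⟨m, hmmon, hmirr, hmdvd⟩ := exists_monic_irreducible_factor (cyclotomic r F) hne
  have hdeg := natDegree_of_dvd_cyclotomic_of_irreducible hK hcop hmdvd hmirr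
  set u := ZMod.unitOfCoprime _ (hcop.pow_left (f : ℕ)) with hu
  have hcast : ((u : ZMod r)) = (Fintype.card F : ZMod r) := by
    rw [hK, hu, ZMod.coe_unitOfCoprime]
  have hm1 : ∀ i, r ∣ Fintype.card F ^ i + 1 ↔ (u : ZMod r) ^ i = -1 := by
    intro i
    rw [hcast, ← ZMod.natCast_eq_zero_iff, Nat.cast_add, Nat.cast_pow, Nat.cast_one,
      add_eq_zero_iff_eq_neg]
  have h1neg : (1 : ZMod r) ≠ -1 := by
    intro h
    have h2 : ((2 : ℕ) : ZMod r) = 0 := by push_cast; linear_combination h
    rw [ZMod.natCast_eq_zero_iff] at h2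
    exact hr2 ((Nat.prime_dvd_prime_iff_eq hr Nat.prime_two).mp h2)
  have horder : orderOf u = 2 * j := by
    have hj := (hm1 j).mp hjr
    have he : orderOf u ∣ 2 * j := orderOf_dvd_of_pow_eq_one (Units.ext (by
      rw [Units.val_pow_eq_pow_val, Units.val_one, pow_mul', hj, neg_one_sq]))
    have hpe : (u : ZMod r) ^ orderOf u = 1 := by
      rw [← Units.val_pow_eq_pow_val, pow_orderOf_eq_one, Units.val_one]
    rcases Nat.even_or_odd (orderOf u) with ⟨t, ht⟩ | hodd
    · have ht1 : 1 ≤ t := by have := orderOf_pos u; omega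
      have hsq : (u : ZMod r) ^ t * (u : ZMod r) ^ t = 1 := by rw [← pow_add, ← ht, hpe]
      rcases mul_self_eq_one_iff.mp hsq with h | h
      · exfalso
        have hlt : orderOf u ∣ t := orderOf_dvd_of_pow_eq_one (Units.ext (by
          rw [Units.val_pow_eq_pow_val, Units.val_one, h]))
        have := Nat.le_of_dvd (by omega) hlt
        omega
      · have hjt := hjmin t ht1 ((hm1 t).mpr h)
        have := Nat.le_of_dvd (by omega) he
        omega
    · exfalso
      apply h1neg
      calc (1 : ZMod r) = ((u : ZMod r) ^ orderOf u) ^ j := by rw [hpe, one_pow]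
        _ = ((u : ZMod r) ^ j) ^ orderOf u := by rw [← pow_mul, ← pow_mul, mul_comm]
        _ = -1 := by rw [hj, hodd.neg_one_pow]
  rw [horder] at hdeg
  have hXr : m ∣ X ^ r - 1 := hmdvd.trans (cyclotomic.dvd_X_pow_sub_one r F)
  have hroot : ∀ c : F, m.eval c ≠ 0 := fun c hc => by
    have := degree_eq_one_of_irreducible_of_root hmirr hc
    rw [degree_eq_natDegree hmmon.ne_zero, hdeg] at this
    have h1 : 2 * j = 1 := by exact_mod_cast this
    omega
  refine ⟨m, hmmon, hmirr, hdeg, hXr, hroot 1, ?_⟩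
  haveI : Fact (Irreducible m) := ⟨hmirr⟩
  set α := AdjoinRoot.root m with hα
  have hαm : aeval α m = 0 := by rw [hα, AdjoinRoot.aeval_eq, AdjoinRoot.mk_self]
  have hαr : α ^ r = 1 := by
    have : aeval α (X ^ r - 1 : F[X]) = 0 := by
      obtain ⟨c, hc⟩ := hXr
      rw [hc, map_mul, hαm, zero_mul]
    rwa [map_sub, map_pow, aeval_X, map_one, sub_eq_zero] at this
  set β := α ^ (Fintype.card F ^ j) with hβ
  have hαβ : β * α = 1 := by
    obtain ⟨c, hc⟩ := hjr
    rw [hβ, ← pow_succ, hc, pow_mul, hαr, one_pow]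
  have hβm : aeval β m = 0 := by
    rw [hβ, ← expand_aeval, expand_card_pow, map_pow, hαm, zero_pow]
    exact (pow_pos Fintype.card_pos _).ne'
  letI : Invertible β := ⟨α, by rw [mul_comm]; exact hαβ, hαβ⟩
  have hrev : aeval α m.reverse = 0 := by
    have h := eval₂_reverse_mul_pow (algebraMap F (AdjoinRoot m)) β m
    rw [← aeval_def, ← aeval_def, hβm] at h
    have hb : β ^ m.natDegree ≠ 0 := pow_ne_zero _ (left_ne_zero_of_mul_eq_one hαβ)
    exact (mul_eq_zero.mp h).resolve_right hb
  have hdvd : m ∣ m.reverse := by rwa [hα, AdjoinRoot.aeval_eq, AdjoinRoot.mk_eq_zero] at hrev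
  obtain ⟨c, hc⟩ := hdvd
  have h0 : m.coeff 0 ≠ 0 := by rw [coeff_zero_eq_eval_zero]; exact hroot 0
  have hrne : m.reverse ≠ 0 := fun h => hmmon.ne_zero (reverse_eq_zero.mp h)
  have hcne : c ≠ 0 := fun h => hrne (by rw [hc, h, mul_zero])
  have hcdeg : c.natDegree = 0 := by
    have h1 := natDegree_mul hmmon.ne_zero hcne
    rw [← hc, reverse_natDegree, natTrailingDegree_eq_zero.mpr (Or.inr h0)] at h1
    omega
  obtain ⟨c₀, rfl⟩ := natDegree_eq_zero.mp hcdeg
  have heval : m.reverse.eval 1 = m.eval 1 := by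
    letI : Invertible (1 : F) := invertibleOne
    have h := eval₂_reverse_mul_pow (RingHom.id F) 1 m
    rwa [one_pow, mul_one, invOf_one, ← eval, ← eval] at h
  rw [hc, eval_mul, eval_C] at heval
  have : c₀ = 1 := mul_left_cancel₀ (hroot 1) (heval.trans (mul_one _).symm)
  rw [hc, this, map_one, mul_one]

/-- The derangement. -/
theorem exists_derangement {p : ℕ} [Fact p.Prime] [CharP F p] (d : ℕ) {r : ℕ} [Fact r.Prime]
    (hr2 : r ≠ 2) (hrp : r ≠ p) {i : ℕ} (hi1 : 1 ≤ i) (hid : i ≤ d)
    (hir : r ∣ Fintype.card F ^ i + 1) :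
    ∃ x : Matrix.symplecticGroup (Fin d) F, x ^ r = 1 ∧
      (∀ z : F, (x : Matrix (Fin d ⊕ Fin d) (Fin d ⊕ Fin d) F) ≠ z • (1 : Matrix _ _ F)) ∧
      ∀ U W : Submodule F (Fin d ⊕ Fin d → F), IsCompl U W →
        (∀ u ∈ U, ∀ v ∈ U, Cfsg.sympForm d F u v = 0) → (∀ u ∈ W, ∀ v ∈ W, Cfsg.sympForm d F u v = 0) →
        U.map (Matrix.toLin' (x : Matrix (Fin d ⊕ Fin d) (Fin d ⊕ Fin d) F)) ≤ U →
        W.map (Matrix.toLin' (x : Matrix (Fin d ⊕ Fin d) (Fin d ⊕ Fin d) F)) ≤ W → False := by
  classical
  have hex : ∃ j, 1 ≤ j ∧ r ∣ Fintype.card F ^ j + 1 := ⟨i, hi1, hir⟩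
  obtain ⟨hj1, hjr⟩ := Nat.find_spec hex
  set j := Nat.find hex with hjdef
  have hjd : j ≤ d := (Nat.find_min' hex ⟨hi1, hir⟩).trans hid
  obtain ⟨m, hmmon, hmirr, hmdeg, hmXr, hm1, hmrev⟩ := exists_poly hr2 hrp hj1 hjr
    fun t ht ht' => Nat.find_min' hex ⟨ht, ht'⟩
  -- the characteristic polynomial
  set P : F[X] := ((X - C 1) ^ 2) ^ (d - j) * m with hP
  have hPmon : P.Monic := (((monic_X_sub_C 1).pow 2).pow _).mul hmmon
  have hPdeg : P.natDegree = 2 * d := by
    rw [hP, natDegree_mul (pow_ne_zero _ (pow_ne_zero _ (X_sub_C_ne_zero 1))) hmmon.ne_zero,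
      natDegree_pow, natDegree_pow, natDegree_X_sub_C, hmdeg]
    omega
  have hPrev : P.reverse = P := by
    have hsq : ((X - C 1 : F[X]) ^ 2).reverse = (X - C 1) ^ 2 := by
      have hd2 : ((X - C 1 : F[X]) ^ 2).natDegree = 2 := by rw [natDegree_pow, natDegree_X_sub_C]
      ext n
      rw [coeff_reverse, hd2]
      rcases n with _ | _ | _ | n
      · rw [revAt_le (by omega)]; simp [sq, sub_mul, mul_sub, coeff_X, coeff_one]
      · rw [revAt_le (by omega)]
      · rw [revAt_le (by omega)]; simp [sq, sub_mul, mul_sub, coeff_X, coeff_one]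
      · rw [revAt_eq_self_of_lt (by omega : 2 < n + 1 + 1 + 1)]
    have hpow : ∀ k, (((X - C 1 : F[X]) ^ 2) ^ k).reverse = ((X - C 1) ^ 2) ^ k := by
      intro k
      induction k with
      | zero => rw [pow_zero, ← C_1, reverse_C]
      | succ k ih => rw [pow_succ, reverse_mul_of_domain, ih, hsq]
    rw [hP, reverse_mul_of_domain, hpow, hmrev]
  obtain ⟨g, hgp, hga⟩ := H54.SympSS.exists_coeff (n := d) p (fun k => P.coeff ((k : ℕ) + 1))
  set A : Matrix (Fin d ⊕ Fin d) (Fin d ⊕ Fin d) F := g.1 with hA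
  have hchar : A.charpoly = P := by
    have hd' : A.charpoly.natDegree = 2 * d := by
      rw [Matrix.charpoly_natDegree_eq_dim, Fintype.card_sum, Fintype.card_fin, two_mul]
    have hcoef : ∀ k ≤ 2 * d, P.coeff (2 * d - k) = P.coeff k := fun k hk => by
      conv_rhs => rw [← hPrev, coeff_reverse, hPdeg, revAt_le hk]
    have hlow : ∀ k ≤ d, A.charpoly.coeff k = P.coeff k := by
      intro k hk
      cases k with
      | zero =>
        rw [← H54.SympSS.coeff_charpoly_reciprocal p g 0 (by omega), ← hcoef 0 (by omega), Nat.sub_zero]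
        conv_lhs => rw [← hd', (Matrix.charpoly_monic _).coeff_natDegree]
        rw [← hPdeg, hPmon.coeff_natDegree]
      | succ k => exact hga ⟨k, hk⟩
    ext k
    rcases le_or_gt k d with hk | hk
    · exact hlow k hk
    rcases le_or_gt k (2 * d) with hk' | hk'
    · rw [← H54.SympSS.coeff_charpoly_reciprocal p g k hk', ← hcoef k hk']
      exact hlow _ (by omega)
    · rw [coeff_eq_zero_of_natDegree_lt (hd' ▸ hk'), coeff_eq_zero_of_natDegree_lt (hPdeg ▸ hk')]
  set T : Module.End F (Fin d ⊕ Fin d → F) := Matrix.toLin' A with hT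
  have hTchar : LinearMap.charpoly T = P := by rw [hT, Matrix.charpoly_toLin', hchar]
  -- semisimplicity
  set N := orderOf g
  have hN : (N : F) ≠ 0 := H54.PPrime.cast_orderOf_ne_zero hgp
  have hTN : T ^ N = 1 := H54.SympSS.toLin'_pow_eq_one (pow_orderOf_eq_one g)
  have hcop : IsCoprime (X - C 1 : F[X]) m :=
    (irreducible_X_sub_C (1 : F)).coprime_iff_not_dvd.mpr fun h => hm1 (dvd_iff_isRoot.mp h)
  have hmin : minpoly F T ∣ (X - C 1) * m := by
    have hsf : Squarefree (minpoly F T) :=
      ((separable_X_pow_sub_C (1 : F) hN one_ne_zero).squarefree).squarefree_of_dvd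
        (minpoly.dvd _ _ (by rw [map_sub, map_pow, aeval_X, map_one, map_one, hTN, sub_self]))
    refine hsf.isRadical ((d - j) * 2 + 1) _ ?_
    refine (LinearMap.minpoly_dvd_charpoly T).trans (hTchar ▸ ?_)
    rw [hP, ← pow_mul, mul_comm 2, mul_pow]
    exact mul_dvd_mul (pow_dvd_pow _ (Nat.le_succ _)) (dvd_pow_self _ (Nat.succ_ne_zero _))
  have hXr : (X - C 1) * m ∣ (X ^ r - 1 : F[X]) := hcop.mul_dvd (by simpa using sub_dvd_pow_sub_pow (X : F[X]) 1 r) hmXr
  have hTr : T ^ r = 1 := by
    obtain ⟨c, hc⟩ := hmin.trans hXr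
    have : aeval T (X ^ r - 1 : F[X]) = 0 := by rw [hc, map_mul, minpoly.aeval, zero_mul]
    rwa [map_sub, map_pow, aeval_X, map_one, sub_eq_zero] at this
  have hprod : aeval T ((X - C 1) * m) = 0 := by
    obtain ⟨c, hc⟩ := hmin
    rw [hc, map_mul, minpoly.aeval, zero_mul]
  set M := LinearMap.ker (aeval T m) with hM
  have hmult : P.rootMultiplicity 1 = 2 * (d - j) := by
    rw [hP, rootMultiplicity_mul (by rw [← hP]; exact hPmon.ne_zero), ← pow_mul,
      rootMultiplicity_X_sub_C_pow, rootMultiplicity_eq_zero hm1, add_zero]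
  have hMle : finrank F M ≤ 2 * j := by
    have hdis : Disjoint M (T.maxGenEigenspace 1) := by
      rw [Submodule.disjoint_def]
      intro v hv hv'
      obtain ⟨k, hk⟩ := (Module.End.mem_maxGenEigenspace T 1 v).mp hv'
      have h2 : v ∈ LinearMap.ker (aeval T ((X - C 1 : F[X]) ^ k)) := by
        rw [LinearMap.mem_ker, map_pow, map_sub, aeval_X, aeval_C, Algebra.algebraMap_eq_smul_one]
        exact hk
      exact (Submodule.disjoint_def.mp
        (disjoint_ker_aeval_of_isCoprime T ((hcop.symm).pow_right (n := k)))) v hv h2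
    have h1 := Submodule.finrank_sup_add_finrank_inf_eq M (T.maxGenEigenspace 1)
    rw [hdis.eq_bot, finrank_bot, add_zero, LinearMap.finrank_maxGenEigenspace_eq, hTchar, hmult] at h1
    have h2 := Submodule.finrank_le (M ⊔ T.maxGenEigenspace 1)
    rw [Module.finrank_pi, Fintype.card_sum, Fintype.card_fin] at h2
    omega
  have hMne : M ≠ ⊥ := by
    intro h
    have hinj := LinearMap.ker_eq_bot.mp (hM ▸ h)
    have hone : T = 1 := by
      refine LinearMap.ext fun v => sub_eq_zero.mp (hinj ?_)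
      rw [map_zero]
      have := LinearMap.congr_fun hprod v
      rw [mul_comm, map_mul, Module.End.mul_apply, map_sub, aeval_X, aeval_C] at this
      simpa [Algebra.algebraMap_eq_smul_one] using this
    have htop : T.maxGenEigenspace 1 = ⊤ := by
      rw [Submodule.eq_top_iff']
      intro v
      rw [Module.End.mem_maxGenEigenspace]
      exact ⟨1, by simp [hone]⟩
    have h1 := LinearMap.finrank_maxGenEigenspace_eq T (1 : F)
    rw [htop, finrank_top, Module.finrank_pi, Fintype.card_sum, Fintype.card_fin, hTchar, hmult] at h1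
    omega
  have hbig : ∀ N' : Submodule F (Fin d ⊕ Fin d → F), N' ≤ M → N'.map T ≤ N' → N' ≠ ⊥ →
      2 * j ≤ finrank F N' := by
    intro N' hle hinv hne
    obtain ⟨v, hv, hv0⟩ := Submodule.exists_mem_ne_zero_of_ne_bot hne
    have hall : ∀ f : F[X], aeval T f v ∈ N' := by
      intro f
      induction f using Polynomial.induction_on' with
      | add a b ha hb => rw [map_add, LinearMap.add_apply]; exact add_mem ha hb
      | monomial n a =>
        rw [aeval_monomial, Module.End.mul_apply, Module.algebraMap_end_apply]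
        refine N'.smul_mem _ ?_
        induction n with
        | zero => simpa using hv
        | succ n ih => rw [pow_succ', Module.End.mul_apply]; exact hinv ⟨_, ih, rfl⟩
    let L : degreeLT F (2 * j) →ₗ[F] N' :=
      LinearMap.codRestrict N' (((LinearMap.applyₗ v).comp (aeval T).toLinearMap).comp (degreeLT F (2 * j)).subtype)
        fun f => hall f
    have hLi : Function.Injective L := by
      rw [← LinearMap.ker_eq_bot, LinearMap.ker_eq_bot']
      rintro ⟨f, hf⟩ hL
      refine Subtype.ext (by_contra fun hf0 => hv0 ?_)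
      have hf' : aeval T f v = 0 := congrArg Subtype.val hL
      have hnd : ¬ m ∣ f := fun hd => by
        have := Polynomial.degree_le_of_dvd hd hf0
        rw [degree_eq_natDegree hmmon.ne_zero, hmdeg] at this
        exact absurd ((mem_degreeLT.mp hf).trans_le this) (lt_irrefl _)
      exact Submodule.disjoint_def.mp
        (disjoint_ker_aeval_of_isCoprime T (hmirr.coprime_iff_not_dvd.mpr hnd)) v (hle hv) hf'
    have := LinearMap.finrank_le_finrank_of_injective hLi
    rwa [(degreeLTEquiv F (2 * j)).finrank_eq, Module.finrank_fin_fun] at this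
  have hgr : g ^ r = 1 := by
    apply Subtype.ext
    apply Matrix.toLin'.injective
    rw [SubmonoidClass.coe_pow, Submonoid.coe_one, Matrix.toLin'_one]
    show Matrix.toLinAlgEquiv' (A ^ r) = _
    rw [map_pow]
    exact hTr
  refine ⟨g, hgr, fun z hz => ?_, fun U W hc hU hW hUT hWT => ?_⟩
  · obtain ⟨v, hv, hv0⟩ := Submodule.exists_mem_ne_zero_of_ne_bot hMne
    have hline : (Submodule.span F {v}).map T ≤ Submodule.span F {v} := by
      rw [Submodule.map_span, Submodule.span_le, Set.image_singleton, Set.singleton_subset_iff,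
        SetLike.mem_coe, Submodule.mem_span_singleton]
      exact ⟨z, by rw [hT, Matrix.toLin'_apply, hA, hz, Matrix.smul_mulVec, Matrix.one_mulVec]⟩
    have := hbig _ ((Submodule.span_singleton_le_iff_mem _ _).mpr hv) hline (by simpa using hv0)
    rw [finrank_span_singleton hv0] at this
    omega
  -- no fixed pair
  have hU' : ∀ u ∈ U, ∀ v ∈ U, spB d F u v = 0 := fun u hu v hv => (spB_apply u v).trans (hU u hu v hv)
  have hW' : ∀ u ∈ W, ∀ v ∈ W, spB d F u v = 0 := fun u hu v hv => (spB_apply u v).trans (hW u hu v hv)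
  have hstab : ∀ S : Submodule F (Fin d ⊕ Fin d → F), S.map T ≤ S → ∀ f : F[X], ∀ v ∈ S,
      aeval T f v ∈ S := by
    intro S hS f v hv
    induction f using Polynomial.induction_on' with
    | add a b ha hb => rw [map_add, LinearMap.add_apply]; exact add_mem ha hb
    | monomial n a =>
      rw [aeval_monomial, Module.End.mul_apply, Module.algebraMap_end_apply]
      refine S.smul_mem _ ?_
      induction n with
      | zero => simpa using hv
      | succ n ih => rw [pow_succ', Module.End.mul_apply]; exact hS ⟨_, ih, rfl⟩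
  have hMT : M.map T ≤ M := by
    rintro _ ⟨v, hv, rfl⟩
    rw [hM, LinearMap.mem_ker]
    have h1 : aeval T m (T v) = T (aeval T m v) := by
      conv_lhs => rw [← Module.End.mul_apply]
      conv_rhs => rw [← Module.End.mul_apply]
      have : aeval T m * T = T * aeval T m := by
        conv_lhs => arg 2; rw [← aeval_X (R := F) T]
        conv_rhs => arg 1; rw [← aeval_X (R := F) T]
        rw [← map_mul, ← map_mul, mul_comm]
      rw [this]
    rw [h1, LinearMap.mem_ker.mp hv, map_zero]
  -- `M` lies in `U` or in `W`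
  have key : ∀ U W : Submodule F (Fin d ⊕ Fin d → F), IsCompl U W →
      (∀ u ∈ U, ∀ v ∈ U, spB d F u v = 0) → U.map T ≤ U → W.map T ≤ W → M ⊓ W = ⊥ → False := by
    intro U W hc hU hUT hWT hMW
    have hMU : M ≤ U := by
      intro v hv
      obtain ⟨u, hu, w, hw, rfl⟩ := Submodule.mem_sup.mp
        (hc.sup_eq_top ▸ Submodule.mem_top : v ∈ U ⊔ W)
      rw [hM, LinearMap.mem_ker, map_add] at hv
      have h1 : aeval T m w ∈ U ⊓ W := ⟨by
        rw [SetLike.mem_coe, eq_neg_of_add_eq_zero_right hv]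
        exact neg_mem (hstab U hUT m u hu), hstab W hWT m w hw⟩
      rw [hc.inf_eq_bot, Submodule.mem_bot] at h1
      have hw0 : w ∈ M ⊓ W := ⟨LinearMap.mem_ker.mpr h1, hw⟩
      rw [hMW, Submodule.mem_bot] at hw0
      rw [hw0, add_zero]; exact hu
    obtain ⟨u, hu, hu0⟩ := Submodule.exists_mem_ne_zero_of_ne_bot hMne
    let Y := T ^ (Fintype.card F ^ j)
    have hTY : ∀ a, T (Y a) = a := fun a => by
      obtain ⟨c, hc⟩ := hjr
      rw [← Module.End.mul_apply, ← pow_succ', hc, pow_mul, hTr, one_pow, Module.End.one_apply]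
    have hadj : ∀ (f : F[X]) (a b : Fin d ⊕ Fin d → F),
        spB d F (aeval Y f a) b = spB d F a (aeval T f b) := by
      intro f
      induction f using Polynomial.induction_on' with
      | add a b ha hb =>
        intro x y
        simp only [map_add, LinearMap.add_apply, ha, hb]
      | monomial n c =>
        have hn : ∀ (n : ℕ) a b, spB d F ((Y ^ n) a) b = spB d F a ((T ^ n) b) := by
          intro n
          induction n with
          | zero => intro a b; rfl
          | succ n ih =>
            intro a b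
            rw [pow_succ, Module.End.mul_apply, ih, pow_succ', Module.End.mul_apply]
            conv_rhs => rw [← hTY a]
            exact (toLin'_mem_isom g.2 _ _).symm
        intro a b
        simp only [aeval_monomial, Module.End.mul_apply, Module.algebraMap_end_apply, map_smul,
          LinearMap.smul_apply, hn]
    have hYu : aeval Y m u = 0 := by
      show aeval (T ^ _) m u = 0
      rw [← expand_aeval, expand_card_pow, map_pow]
      obtain ⟨c, hc⟩ : ∃ c, Fintype.card F ^ j = c + 1 :=
        ⟨_, (Nat.succ_pred_eq_of_pos (pow_pos Fintype.card_pos _)).symm⟩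
      rw [hc, pow_succ, Module.End.mul_apply, LinearMap.mem_ker.mp hu, map_zero]
    let R : W →ₗ[F] W := LinearMap.restrict (aeval T m) fun w hw => hstab W hWT m w hw
    have hR : Function.Surjective R := by
      rw [← LinearMap.injective_iff_surjective, ← LinearMap.ker_eq_bot, LinearMap.ker_eq_bot']
      intro w hw
      have : (w : Fin d ⊕ Fin d → F) ∈ M ⊓ W := ⟨LinearMap.mem_ker.mpr (congrArg Subtype.val hw), w.2⟩
      rw [hMW, Submodule.mem_bot] at this
      exact Subtype.ext this
    refine hu0 ((spB_nondeg d F).1 u fun y => ?_)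
    obtain ⟨a, ha, b, hb, rfl⟩ := Submodule.mem_sup.mp
      (hc.sup_eq_top ▸ Submodule.mem_top : y ∈ U ⊔ W)
    obtain ⟨w, hw⟩ := hR ⟨b, hb⟩
    have hb' : aeval T m (w : Fin d ⊕ Fin d → F) = b := congrArg Subtype.val hw
    rw [map_add, hU u (hMU hu) a ha, zero_add, ← hb', ← hadj, hYu, map_zero, LinearMap.zero_apply]
  by_cases hMW : M ⊓ W = ⊥
  · exact key U W hc hU' hUT hWT hMW
  by_cases hMU : M ⊓ U = ⊥
  · exact key W U hc.symm hW' hWT hUT hMU
  have h1 := hbig (M ⊓ U) inf_le_left (le_inf ((Submodule.map_mono inf_le_left).trans hMT)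
    ((Submodule.map_mono inf_le_right).trans hUT)) hMU
  have h2 := hbig (M ⊓ W) inf_le_left (le_inf ((Submodule.map_mono inf_le_left).trans hMT)
    ((Submodule.map_mono inf_le_right).trans hWT)) hMW
  have h3 := Submodule.finrank_sup_add_finrank_inf_eq (M ⊓ U) (M ⊓ W)
  have h4 : (M ⊓ U) ⊓ (M ⊓ W) = ⊥ := by
    refine eq_bot_iff.mpr fun v hv => ?_
    rw [← hc.inf_eq_bot]
    exact ⟨hv.1.2, hv.2.2⟩
  rw [h4, finrank_bot, add_zero] at h3
  have h5 := Submodule.finrank_mono (sup_le inf_le_left inf_le_left : M ⊓ U ⊔ M ⊓ W ≤ M)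
  omega

end Cfsg.Agent.H90.SympDerangement
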