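import Cfsg.Agent.Symplectic.Parabolic

/-!
The number of ordered pairs of complementary Lagrangian subspaces.
-/

set_option autoImplicit false
set_option linter.style.haveILetI false
set_option linter.unusedSectionVars false
set_option linter.unusedSimpArgs false

namespace Cfsg.Agent.H90.SympPairs

open Cfsg.Agent.Symplectic Module
open scoped Matrix

variable {F : Type*} [Field F] [Fintype F] {d : ℕ}

local notation "V" => (Fin d ⊕ Fin d → F)

theorem span_iso {ι : Type*} {e : ι → V} (h : ∀ i j, spB d F (e i) (e j) = 0) :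
    ∀ u ∈ Submodule.span F (Set.range e), ∀ v ∈ Submodule.span F (Set.range e), spB d F u v = 0 := by
  intro u hu v hv
  induction hu using Submodule.span_induction with
  | mem x hx =>
    obtain ⟨i, rfl⟩ := hx
    induction hv using Submodule.span_induction with
    | mem y hy => obtain ⟨j, rfl⟩ := hy; exact h i j
    | zero => exact map_zero _
    | add y z _ _ hy hz => rw [map_add, hy, hz, add_zero]
    | smul c y _ hy => rw [map_smul, hy, smul_zero]
  | zero => rw [map_zero]; rfl
  | add y z _ _ hy hz => rw [map_add, LinearMap.add_apply, hy, hz, add_zero]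
  | smul c y _ hy => rw [map_smul, LinearMap.smul_apply, hy, smul_zero]

theorem eq_zero_of_perp {U W : Submodule F V} (hc : IsCompl U W) {x : V}
    (hU : ∀ u ∈ U, spB d F u x = 0) (hW : ∀ w ∈ W, spB d F w x = 0) : x = 0 := by
  refine (spB_nondeg d F).2 x fun y => ?_
  obtain ⟨u, hu, w, hw, rfl⟩ := Submodule.mem_sup.mp
    (hc.sup_eq_top ▸ Submodule.mem_top : y ∈ U ⊔ W)
  rw [map_add, LinearMap.add_apply, hU u hu, hW w hw, add_zero]

theorem finrank_le {U W : Submodule F V} (hc : IsCompl U W)
    (hU : ∀ u ∈ U, ∀ v ∈ U, spB d F u v = 0) : finrank F U ≤ finrank F W := by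
  let L : U →ₗ[F] Module.Dual F W := (W.subtype.dualMap).comp (LinearMap.comp (spB d F) U.subtype)
  have hinj : Function.Injective L := by
    rw [← LinearMap.ker_eq_bot, LinearMap.ker_eq_bot']
    intro u hu
    refine Subtype.ext (eq_zero_of_perp hc (fun v hv => hU v hv u u.2) fun w hw => ?_)
    have h : spB d F (u : V) w = 0 := LinearMap.congr_fun hu ⟨w, hw⟩
    rw [← LinearMap.IsAlt.neg (spB_alt d F) (u : V) w, h, neg_zero]
  calc finrank F U ≤ finrank F (Module.Dual F W) := LinearMap.finrank_le_finrank_of_injective hinj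
    _ = finrank F W := Subspace.dual_finrank_eq

theorem finrank_eq {U W : Submodule F V} (hc : IsCompl U W)
    (hU : ∀ u ∈ U, ∀ v ∈ U, spB d F u v = 0) (hW : ∀ u ∈ W, ∀ v ∈ W, spB d F u v = 0) :
    finrank F U = d ∧ finrank F W = d := by
  have h1 := finrank_le hc hU
  have h2 := finrank_le hc.symm hW
  have h3 := Submodule.finrank_add_eq_of_isCompl hc
  rw [Module.finrank_pi, Fintype.card_sum, Fintype.card_fin] at h3
  omega

/-- The standard hyperbolic system. -/
def stdE (i : Fin d) : V := Pi.single (Sum.inl i) 1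
/-- The standard hyperbolic system. -/
def stdF (i : Fin d) : V := -Pi.single (Sum.inr i) 1

theorem std_hyp : IsHypSystem (spB d F) (stdE (F := F) (d := d)) stdF := by
  refine ⟨fun i j => ?_, fun i j => ?_, fun i j => ?_⟩
  · rw [stdE, stdF, map_neg, spB_single]
    split_ifs with h <;> simp [Matrix.J, Matrix.one_apply, h]
  · rw [stdE, stdE, spB_single]; simp [Matrix.J]
  · rw [stdF, stdF, map_neg, map_neg, LinearMap.neg_apply, spB_single]; simp [Matrix.J]

/-- Complementary Lagrangian pairs. -/
abbrev Pairs (d : ℕ) (F : Type*) [Field F] :=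
  {P : Submodule F (Fin d ⊕ Fin d → F) × Submodule F (Fin d ⊕ Fin d → F) //
    IsCompl P.1 P.2 ∧ (∀ u ∈ P.1, ∀ v ∈ P.1, Cfsg.sympForm d F u v = 0) ∧
      (∀ u ∈ P.2, ∀ v ∈ P.2, Cfsg.sympForm d F u v = 0)}

/-- Hyperbolic systems. -/
abbrev Hyp (d : ℕ) (F : Type*) [Field F] :=
  {h : (Fin d → (Fin d ⊕ Fin d → F)) × (Fin d → (Fin d ⊕ Fin d → F)) //
    IsHypSystem (spB d F) h.1 h.2}

/-- The symplectic group acts simply transitively on hyperbolic systems. -/
theorem card_hyp : Nat.card (Hyp d F) = Nat.card (Matrix.symplecticGroup (Fin d) F) := by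
  classical
  let f : Matrix.symplecticGroup (Fin d) F → Hyp d F := fun g =>
    ⟨(fun i => (g : Matrix _ _ F) *ᵥ stdE i, fun i => (g : Matrix _ _ F) *ᵥ stdF i),
      fun i j => by rw [toLin'_mem_isom g.2]; exact std_hyp.1 i j,
      fun i j => by rw [toLin'_mem_isom g.2]; exact std_hyp.2.1 i j,
      fun i j => by rw [toLin'_mem_isom g.2]; exact std_hyp.2.2 i j⟩
  refine (Nat.card_eq_of_bijective f ⟨fun g g' hgg => ?_, fun h => ?_⟩).symm
  · have h1 := congrArg (fun h : Hyp d F => h.1.1) hgg
    have h2 := congrArg (fun h : Hyp d F => h.1.2) hgg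
    apply Subtype.ext
    refine Matrix.toLin'.injective ((Pi.basisFun F _).ext fun k => ?_)
    rw [Pi.basisFun_apply, Matrix.toLin'_apply, Matrix.toLin'_apply]
    rcases k with i | i
    · exact congrFun h1 i
    · have := congrFun h2 i
      simp only [f, stdF, Matrix.mulVec_neg, neg_inj] at this
      exact this
  · have hs := std_hyp (F := F) (d := d)
    have hh := h.2
    obtain ⟨g, hg⟩ := exists_sp_map (Sum.elim (stdE (F := F) (d := d)) stdF) (Sum.elim h.1.1 h.1.2)
      (hs.linearIndependent (spB_alt d F)) (hh.linearIndependent (spB_alt d F)) (fun i j => by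
        simp only [← spB_apply]
        rcases i with i | i <;> rcases j with j | j <;> simp only [Sum.elim_inl, Sum.elim_inr]
        · rw [hs.2.1, hh.2.1]
        · rw [hs.1, hh.1]
        · rw [← LinearMap.IsAlt.neg (spB_alt d F) (stdE j) (stdF i), hs.1, ← LinearMap.IsAlt.neg (spB_alt d F) (h.1.1 j) (h.1.2 i), hh.1]
        · rw [hs.2.2, hh.2.2])
    exact ⟨g, Subtype.ext (Prod.ext (funext fun i => hg (Sum.inl i)) (funext fun i => hg (Sum.inr i)))⟩

/-- The number of pairs times the order of `GL_d`. -/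
theorem card_pairs_mul :
    Nat.card (Pairs d F) * (∏ i : Fin d, (Fintype.card F ^ d - Fintype.card F ^ (i : ℕ))) =
      Nat.card (Matrix.symplecticGroup (Fin d) F) := by
  classical
  haveI : Finite (Submodule F V) := Finite.of_injective _ SetLike.coe_injective
  haveI : Fintype (Pairs d F) := Fintype.ofFinite _
  have hmk : ∀ h : Hyp d F, IsCompl (Submodule.span F (Set.range h.1.1)) (Submodule.span F (Set.range h.1.2)) := by
    intro h
    have hli := h.2.linearIndependent (spB_alt d F)
    obtain ⟨-, -, hdisj⟩ := linearIndependent_sum.mp hli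
    refine ⟨by simpa using hdisj, codisjoint_iff.mpr ?_⟩
    rw [← Submodule.span_union, ← Set.Sum.elim_range]
    exact hli.span_eq_top_of_card_eq_finrank' (by
      rw [Fintype.card_sum, Fintype.card_fin, Module.finrank_pi, Fintype.card_sum, Fintype.card_fin])
  let Φ : Hyp d F → Pairs d F := fun h =>
    ⟨(Submodule.span F (Set.range h.1.1), Submodule.span F (Set.range h.1.2)), hmk h,
      fun u hu v hv => (spB_apply u v).symm.trans (span_iso h.2.2.1 u hu v hv),
      fun u hu v hv => (spB_apply u v).symm.trans (span_iso h.2.2.2 u hu v hv)⟩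
  have hfib : ∀ P : Pairs d F, Nat.card {h : Hyp d F // Φ h = P} =
      ∏ i : Fin d, (Fintype.card F ^ d - Fintype.card F ^ (i : ℕ)) := by
    rintro ⟨⟨U, W⟩, hc, hU, hW⟩
    have hU' : ∀ u ∈ U, ∀ v ∈ U, spB d F u v = 0 := fun u hu v hv => (spB_apply u v).trans (hU u hu v hv)
    have hW' : ∀ u ∈ W, ∀ v ∈ W, spB d F u v = 0 := fun u hu v hv => (spB_apply u v).trans (hW u hu v hv)
    obtain ⟨hdU, hdW⟩ := finrank_eq hc hU' hW'
    rw [← card_bases_sub hdU]
    have span_eq : ∀ {c : Fin d → V} {X : Submodule F V}, LinearIndependent F c → (∀ i, c i ∈ X) →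
        finrank F X = d → Submodule.span F (Set.range c) = X := by
      intro c X hc hmem hX
      refine Submodule.eq_of_le_of_finrank_le (Submodule.span_le.mpr ?_) ?_
      · rintro _ ⟨i, rfl⟩; exact hmem i
      · rw [hX, finrank_span_eq_card hc, Fintype.card_fin]
    let ψ : {h : Hyp d F // Φ h = ⟨(U, W), hc, hU, hW⟩} → bases (k := d) U := fun h =>
      ⟨h.1.1.1, ((h.1.2.linearIndependent (spB_alt d F)).comp Sum.inl Sum.inl_injective), fun i => by
        have : Submodule.span F (Set.range h.1.1.1) = U := congrArg (fun P : Pairs d F => P.1.1) h.2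
        exact this.le (Submodule.subset_span ⟨i, rfl⟩)⟩
    refine Nat.card_eq_of_bijective ψ ⟨fun a b hab => ?_, fun c => ?_⟩
    · have he : a.1.1.1 = b.1.1.1 := congrArg Subtype.val hab
      have hWa : Submodule.span F (Set.range a.1.1.2) = W := congrArg (fun P : Pairs d F => P.1.2) a.2
      have hWb : Submodule.span F (Set.range b.1.1.2) = W := congrArg (fun P : Pairs d F => P.1.2) b.2
      have hUa : Submodule.span F (Set.range a.1.1.1) = U := congrArg (fun P : Pairs d F => P.1.1) a.2
      refine Subtype.ext (Subtype.ext (Prod.ext he (funext fun j => sub_eq_zero.mp ?_)))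
      have hm : a.1.1.2 j - b.1.1.2 j ∈ W :=
        sub_mem (hWa.le (Submodule.subset_span ⟨j, rfl⟩)) (hWb.le (Submodule.subset_span ⟨j, rfl⟩))
      refine eq_zero_of_perp hc (fun u hu => ?_) fun w hw => hW' w hw _ hm
      rw [← hUa] at hu
      induction hu using Submodule.span_induction with
      | mem x hx =>
        obtain ⟨i, rfl⟩ := hx
        rw [map_sub, a.1.2.1 i j, he, b.1.2.1 i j, sub_self]
      | zero => rw [map_zero]; rfl
      | add x y _ _ hx hy => rw [map_add, LinearMap.add_apply, hx, hy, add_zero]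
      | smul r x _ hx => rw [map_smul, LinearMap.smul_apply, hx, smul_zero]
    · have hspanU := span_eq c.2.1 c.2.2 hdU
      let L : W →ₗ[F] (Fin d → F) := LinearMap.pi fun k => (spB d F (c.1 k)).comp W.subtype
      have hinj : Function.Injective L := by
        rw [← LinearMap.ker_eq_bot, LinearMap.ker_eq_bot']
        intro w hw
        refine Subtype.ext (eq_zero_of_perp hc (fun u hu => ?_) fun v hv => hW' v hv w w.2)
        rw [← hspanU] at hu
        induction hu using Submodule.span_induction with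
        | mem x hx => obtain ⟨i, rfl⟩ := hx; exact congrFun hw i
        | zero => rw [map_zero]; rfl
        | add x y _ _ hx hy => rw [map_add, LinearMap.add_apply, hx, hy, add_zero]
        | smul r x _ hx => rw [map_smul, LinearMap.smul_apply, hx, smul_zero]
      have hsurj : Function.Surjective L :=
        (LinearMap.injective_iff_surjective_of_finrank_eq_finrank
          (by rw [hdW, Module.finrank_fin_fun])).mp hinj
      choose w hw using fun j : Fin d => hsurj (Pi.single j 1)
      have hhyp : IsHypSystem (spB d F) c.1 (fun j => (w j : V)) := by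
        refine ⟨fun i j => ?_, fun i j => hU' _ (c.2.2 i) _ (c.2.2 j), fun i j => hW' _ (w i).2 _ (w j).2⟩
        have := congrFun (hw j) i
        rw [Pi.single_apply] at this
        exact this
      have hspanW := span_eq ((hhyp.linearIndependent (spB_alt d F)).comp Sum.inr Sum.inr_injective)
        (fun j => (w j).2) hdW
      exact ⟨⟨⟨(c.1, fun j => (w j : V)), hhyp⟩, Subtype.ext (Prod.ext hspanU hspanW)⟩, rfl⟩
  rw [← card_hyp, ← Nat.card_congr (Equiv.sigmaFiberEquiv Φ), Nat.card_sigma]
  simp only [hfib, Finset.sum_const, Finset.card_univ, smul_eq_mul, Nat.card_eq_fintype_card]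

/-- A prime dividing the number of pairs divides some `q ^ i + 1`. -/
theorem exists_dvd_add_one (r : ℕ) (hr : r.Prime) (hrq : ¬ r ∣ Fintype.card F)
    (h : r ∣ Nat.card (Pairs d F)) : ∃ i, 1 ≤ i ∧ i ≤ d ∧ r ∣ Fintype.card F ^ i + 1 := by
  have hq1 : 1 < Fintype.card F := Fintype.one_lt_card
  have hpos : 0 < Fintype.card F := Fintype.card_pos
  have hc := card_pairs_mul (F := F) (d := d)
  rw [card_sp] at hc
  set q := Fintype.card F
  have hgl : (∏ i : Fin d, (q ^ d - q ^ (i : ℕ))) =
      (∏ i ∈ Finset.range d, q ^ i) * ∏ i ∈ Finset.range d, (q ^ (i + 1) - 1) := by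
    rw [← Finset.prod_range_reflect (fun i => q ^ (i + 1) - 1) d, ← Finset.prod_mul_distrib,
      Finset.prod_range]
    refine Finset.prod_congr rfl fun i _ => ?_
    rw [Nat.mul_sub, mul_one, ← pow_add]
    congr 2
    have := i.isLt
    omega
  have hsp : (∏ i ∈ Finset.range d, (q ^ (2 * (i + 1)) - 1)) =
      (∏ i ∈ Finset.range d, (q ^ (i + 1) + 1)) * ∏ i ∈ Finset.range d, (q ^ (i + 1) - 1) := by
    rw [← Finset.prod_mul_distrib]
    refine Finset.prod_congr rfl fun i _ => ?_
    rw [pow_mul', ← Nat.sq_sub_sq, one_pow]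
  rw [hgl, hsp, ← mul_assoc, ← mul_assoc] at hc
  have hne : (∏ i ∈ Finset.range d, (q ^ (i + 1) - 1)) ≠ 0 := by
    rw [Finset.prod_ne_zero_iff]
    intro i _
    have hlt : 1 < q ^ (i + 1) := Nat.one_lt_pow (by omega) hq1
    omega
  have hc' := mul_right_cancel₀ hne hc
  have hr' : r ∣ q ^ (d ^ 2) * ∏ i ∈ Finset.range d, (q ^ (i + 1) + 1) := hc' ▸ h.mul_right _
  rcases hr.dvd_mul.mp hr' with h1 | h1
  · exact absurd (hr.dvd_of_dvd_pow h1) hrq
  · obtain ⟨i, hi, hri⟩ := (hr.prime.dvd_finsetProd_iff _).mp h1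
    exact ⟨i + 1, Nat.le_add_left 1 i, Finset.mem_range.mp hi, hri⟩

end Cfsg.Agent.H90.SympPairs
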