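import Cfsg.Agent.H90.Tate
import Cfsg.Agent.H90.NormalizerSystem
import Cfsg.Agent.FusionSys.Alperin

/-!
Consequences of Tate's theorem: a saturated system with inner normalizer of `S` in which a subgroup
between `[S, S]` and `Φ(S)` is strongly closed is the inner system.
-/

set_option autoImplicit false

namespace Cfsg.Agent.H90

open Cfsg Cfsg.FusionSystem
open scoped commutatorElement

universe u

variable {Ω : Type u} [Group Ω] {S : Subgroup Ω}

/-- If every map of `F` moves elements only inside `Φ(S)`, every map is conjugation by an element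
of `S`. -/
theorem inner_of_focal_le {p : ℕ} [Fact p.Prime] [Finite S] (hS : IsPGroup p S)
    {F : FusionSystem S} (hF : F.IsSaturated p) (h : F.focalSubgroup ≤ (frattini ↥S).map S.subtype)
    (P : Subgroup Ω) : F.Hom P = (innerFusionSystem S).Hom P := by
  have hyp : F.hyperfocalSubgroup p = ⊥ :=
    hyp_eq_of_le_sup hS hF (fun g _ y hy => by simp [Subgroup.mem_bot.1 hy]) bot_le
      ((hyp_le_focal F p).trans (h.trans le_sup_left))
  ext φ
  constructor
  · intro hφ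
    obtain ⟨θ, hθ, hh⟩ := exists_modInner hS hF P φ hφ
    refine ⟨src_le F hφ, θ, hθ, fun x => ?_⟩
    have := hh x
    rw [hyp, Subgroup.mem_bot, inv_mul_eq_one] at this
    exact this.symm
  · rintro ⟨hP, g, hg, hh⟩
    exact mem_of_agree F (F.conj_mem hP hg) hh

/-- The automizer of `S` is inner when `N_F(S)` is the inner system. -/
theorem top_inner_of_normalizer [Finite S] {F : FusionSystem S}
    (hN : ∀ N : FusionSystem (normalizerIn S S), F.IsNormalizerSystem S N →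
      ∀ P : Subgroup Ω, N.Hom P = (innerFusionSystem (normalizerIn S S)).Hom P)
    {φ : ↥S →* Ω} (hφ : φ ∈ F.Hom S) : ∃ g ∈ S, ∀ x : ↥S, φ x = g * x * g⁻¹ := by
  have h : φ ∈ (normalizerSystem F (le_refl S)).Hom S :=
    (mem_normalizerHom_iff F le_rfl).2 ⟨hφ, le_normalizerIn le_rfl,
      fun x => le_normalizerIn le_rfl ((F.le_of_mem hφ).2 x), res φ (sup_idem S).le,
      res_mem F hφ _, fun x => rfl, fun x => (F.le_of_mem hφ).2 _⟩
  rw [hN _ (isNormalizerSystem_normalizerSystem F le_rfl)] at h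
  obtain ⟨-, g, hg, hh⟩ := h
  exact ⟨g, hg.1, hh⟩

/-- The maps moving elements only inside a strongly closed subgroup `Q ⊇ [S, S]` include all maps
as soon as they include the automizer of `S`. -/
theorem focal_le_of_stronglyClosed {p : ℕ} [Fact p.Prime] [Finite S] (hS : IsPGroup p S)
    {F : FusionSystem S} (hF : F.IsSaturated p) {Q : Subgroup Ω} (hQ : F.StronglyClosed Q)
    (hSS : ⁅S, S⁆ ≤ Q) (htop : ∀ φ ∈ F.Hom S, ∀ x : ↥S, (x : Ω)⁻¹ * φ x ∈ Q) :
    F.focalSubgroup ≤ Q := by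
  have hQc : ∀ {P : Subgroup Ω} {φ : ↥P →* Ω}, φ ∈ F.Hom P → ∀ x : ↥P, (x : Ω) ∈ Q → φ x ∈ Q := by
    intro P φ hφ x hx
    exact hQ.2 _ inf_le_right (res φ (inf_le_left : P ⊓ Q ≤ P)) (res_mem F hφ _) ⟨x, x.2, hx⟩
  suffices H : ∀ (P : Subgroup Ω) (φ : ↥P →* Ω), φ ∈ F.Hom P → ∀ x : ↥P, (x : Ω)⁻¹ * φ x ∈ Q by
    refine (Subgroup.closure_le _).2 ?_
    rintro _ ⟨P, φ, x, hφ, rfl⟩
    exact H P φ hφ x
  refine induction hS hF (fun P φ => ∀ x : ↥P, (x : Ω)⁻¹ * φ x ∈ Q) ⟨?_, ?_, ?_⟩ ?_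
  · intro P R φ _ h hle x
    exact h ⟨x, hle x.2⟩
  · intro P R φ ψ _ _ h h1 h2 x
    have := Q.mul_mem (h1 x) (h2 ⟨φ x, h x⟩)
    rw [comp₂_apply]
    simpa [mul_assoc] using this
  · rintro P R φ ψ - - hr hl h1 ⟨y, hy⟩
    obtain ⟨x, rfl⟩ : y ∈ φ.range := hr.symm ▸ hy
    rw [hl x hy]
    simpa using Q.inv_mem (h1 x)
  intro R hR hA hRec big α hα
  rcases hR.eq_or_lt with rfl | hlt
  · exact htop _ (hom_of_aut_mem F le_rfl hα)
  let M : Subgroup ↥(F.autGroup R) :=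
    { carrier := {a | ∀ x : ↥R, (x : Ω)⁻¹ * ((a : MulAut ↥R) x : Ω) ∈ Q}
      one_mem' := fun x => by simp
      mul_mem' := fun {a b} ha hb x => by
        have := Q.mul_mem (hb x) (ha ((b : MulAut ↥R) x))
        rw [mul_assoc, mul_inv_cancel_left] at this
        exact this
      inv_mem' := fun {a} ha x => by
        have := Q.inv_mem (ha ((a : MulAut ↥R)⁻¹ x))
        rw [show (a : MulAut ↥R) ((a : MulAut ↥R)⁻¹ x) = x from
          (a : MulAut ↥R).apply_symm_apply x, mul_inv_rev, inv_inv] at this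
        exact this }
  have hM : M.Normal := ⟨fun a ha b x => by
    set y := (b : MulAut ↥R)⁻¹ x with hy
    have h1 := hQc (hom_of_aut_mem F hR b.2) (y⁻¹ * (a : MulAut ↥R) y) (ha y)
    have e : (b : MulAut ↥R) (y⁻¹ * (a : MulAut ↥R) y) =
        x⁻¹ * ((b * a * b⁻¹ : ↥(F.autGroup R)) : MulAut ↥R) x := by
      rw [map_mul, map_inv, show (b : MulAut ↥R) y = x from
        (b : MulAut ↥R).apply_symm_apply x]
      rfl
    show ((x⁻¹ * ((b * a * b⁻¹ : ↥(F.autGroup R)) : MulAut ↥R) x : ↥R) : Ω) ∈ Q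
    rw [← e]
    exact h1⟩
  obtain ⟨m, n, hm, he, X, hRX, hX, ψ, hψ, hext⟩ := aut_decomp hA hRec M hM ⟨α, hα⟩
  have hNX : normalizerIn S R ≤ X := fun g hg =>
    hX g hg.1 hg.2 (normAut_mem_aut F hR hg.1 hg.2) fun x => by
      rw [normAut_coe]
      refine hSS ?_
      rw [show (x : Ω)⁻¹ * (g * x * g⁻¹) = ⁅(x : Ω)⁻¹, g⁆ by rw [commutatorElement_def]; group]
      exact Subgroup.commutator_mem_commutator (S.inv_mem (hR x.2)) hg.1
  have hn : n ∈ M := fun x => by
    rw [← hext x]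
    exact big X ψ hψ ((card_lt_of_lt inf_le_left (lt_normalizerIn hS hlt)).trans_le
      (@Subgroup.card_le_of_le _ _ _ _ (finite_le (src_le F hψ)) hNX)) ⟨x, hRX x.2⟩
  have hmem : (⟨α, hα⟩ : ↥(F.autGroup R)) ∈ M := he ▸ M.mul_mem hm hn
  exact hmem

end Cfsg.Agent.H90
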