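import Cfsg.Agent.H90.Biset
import Mathlib.GroupTheory.Transfer

/-!
Transfer for a saturated fusion system: if every map is inner modulo a normal subgroup `T` of `S`
whose image in `S / N` is central, then `x ↦ x ^ k t(x)` on `T` is invariant under the system for a
homomorphism `t` built from the transfers along a stable biset.
-/

set_option autoImplicit false

namespace Cfsg.Agent.H90

open Cfsg Cfsg.FusionSystem MulAction
open scoped IsMulCommutative

universe u

/-- Data computing a monomial product along a transversal of the free right action. -/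
structure Monomial {A : Type*} [Group A] {X : Type*} [MulAction (A × A) X] (T : Subgroup A)
    (x : A) (Q : Type*) where
  /-- the transversal -/
  σ : Q → X
  /-- the permutation induced by `x` -/
  e : Q ≃ Q
  /-- the labels -/
  l : Q → A
  mem : ∀ q, l q ∈ T
  unique : ∀ ω : X, ∃! y : Q × A, ((1 : A), y.2) • σ y.1 = ω
  step : ∀ q, (x, (1 : A)) • σ q = ((1 : A), l q) • σ (e q)

theorem monomial_prod_eq {A : Type*} [Group A] {E : Type*} [Group E] (mkE : A →* E) {X : Type*}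
    [MulAction (A × A) X] {T : Subgroup A} (hC : ∀ y ∈ T, mkE y ∈ Subgroup.center E) {x : A}
    {Q Q' : Type*} [Fintype Q] [Fintype Q'] (m : Monomial (X := X) T x Q)
    (m' : Monomial (X := X) T x Q') :
    ∏ q, (⟨mkE (m'.l q), hC _ (m'.mem q)⟩ : ↥(Subgroup.center E)) =
      ∏ q, (⟨mkE (m.l q), hC _ (m.mem q)⟩ : ↥(Subgroup.center E)) := by
  classical
  choose y hy hy' using fun q => m.unique (m'.σ q)
  set f : Q' → Q := fun q => (y q).1
  set τ : Q' → A := fun q => (y q).2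
  have hστ : ∀ q, ((1 : A), τ q) • m.σ (f q) = m'.σ q := hy
  have hinj : ∀ a b, ∀ s s' : A, ((1 : A), s) • m.σ a = ((1 : A), s') • m.σ b →
      a = b ∧ s = s' := fun a b s s' h => by
    obtain ⟨z, -, hz⟩ := m.unique (((1 : A), s') • m.σ b)
    have := (hz (a, s) h).trans (hz (b, s') rfl).symm
    exact ⟨congrArg Prod.fst this, congrArg Prod.snd this⟩
  have hcomp : ∀ (s s' : A) (ω : X), ((1 : A), s) • ((1 : A), s') • ω = ((1 : A), s * s') • ω :=
    fun s s' ω => by rw [← mul_smul, Prod.mk_mul_mk, one_mul]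
  have hfbij : Function.Bijective f := by
    constructor
    · intro a b hab
      have h : ((1 : A), τ a * (τ b)⁻¹) • m'.σ b = ((1 : A), (1 : A)) • m'.σ a := by
        rw [← hστ a, ← hστ b, hcomp, hcomp, hab]
        simp
      obtain ⟨z, -, hz⟩ := m'.unique (((1 : A), (1 : A)) • m'.σ a)
      exact (congrArg Prod.fst ((hz (a, 1) rfl).trans (hz (b, τ a * (τ b)⁻¹) h).symm))
    · intro q
      obtain ⟨⟨q', s⟩, hs, -⟩ := m'.unique (m.σ q)
      refine ⟨q', (hinj (f q') q (s * τ q') 1 ?_).1⟩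
      rw [← hcomp, hστ, hs]
      simp [show ((1 : A), (1 : A)) = (1 : A × A) from rfl]
  have hstep : ∀ q, m.e (f q) = f (m'.e q) ∧ τ q * m.l (f q) = m'.l q * τ (m'.e q) := fun q => by
    refine hinj _ _ _ _ ?_
    rw [← hcomp, ← m.step (f q), ← mul_smul, Prod.mk_mul_mk, one_mul, mul_one, ← hcomp, hστ,
      ← m'.step q, ← hστ q, ← mul_smul, Prod.mk_mul_mk, mul_one, one_mul]
  -- central parts of the values of `τ`
  let r : E → E := fun a => (QuotientGroup.mk a : E ⧸ Subgroup.center E).out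
  have hr : ∀ a, (r a)⁻¹ * a ∈ Subgroup.center E := fun a => by
    rw [← QuotientGroup.eq]
    exact QuotientGroup.out_eq' _
  let zl : Q → ↥(Subgroup.center E) := fun q => ⟨mkE (m.l q), hC _ (m.mem q)⟩
  let zl' : Q' → ↥(Subgroup.center E) := fun q => ⟨mkE (m'.l q), hC _ (m'.mem q)⟩
  let z : Q' → ↥(Subgroup.center E) := fun q => ⟨(r (mkE (τ q)))⁻¹ * mkE (τ q), hr _⟩
  have hz : ∀ q, z (m'.e q) * zl' q = z q * zl (f q) := by
    intro q
    have h := congrArg mkE (hstep q).2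
    rw [map_mul, map_mul] at h
    have hc : ∀ a : E, a * mkE (m'.l q) = mkE (m'.l q) * a :=
      Subgroup.mem_center_iff.1 (hC _ (m'.mem q))
    have hrr : r (mkE (τ (m'.e q))) = r (mkE (τ q)) := by
      refine congrArg Quotient.out (QuotientGroup.eq.2 ?_)
      rw [show (mkE (τ (m'.e q)))⁻¹ * mkE (τ q) = mkE (m'.l q) * (mkE (m.l (f q)))⁻¹ by
        rw [eq_mul_inv_iff_mul_eq, mul_assoc, h, ← hc (mkE (τ (m'.e q))), inv_mul_cancel_left]]
      exact mul_mem (hC _ (m'.mem q)) (inv_mem (hC _ (m.mem _)))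
    refine Subtype.ext ?_
    show (r (mkE (τ (m'.e q))))⁻¹ * mkE (τ (m'.e q)) * mkE (m'.l q) =
      (r (mkE (τ q)))⁻¹ * mkE (τ q) * mkE (m.l (f q))
    rw [hrr, mul_assoc, mul_assoc, hc, h]
  have e1 : ∏ q, z (m'.e q) = ∏ q, z q := Equiv.prod_comp m'.e z
  have e2 : ∏ q, zl (f q) = ∏ q, zl q := Equiv.prod_comp (Equiv.ofBijective f hfbij) zl
  have e3 := Finset.prod_congr (s₁ := (Finset.univ : Finset Q')) rfl fun q _ => hz q
  rw [Finset.prod_mul_distrib, Finset.prod_mul_distrib, e1, e2] at e3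
  exact mul_left_cancel e3

theorem exists_section {A : Type*} [Group A] (T : Subgroup A) [T.Normal] (P : Subgroup A) :
    ∃ (σ R : A ⧸ P → A), (∀ q, QuotientGroup.mk (σ q) = q) ∧
      (∀ q, (R q)⁻¹ * σ q ∈ T) ∧ ∀ (x : A), x ∈ T → ∀ q, R (x • q) = R q := by
  classical
  let R : A ⧸ P → A := fun q =>
    (QuotientGroup.mk (s := T ⊔ P) q.out).out
  have hR : ∀ q, ∃ a, QuotientGroup.mk (s := P) a = q ∧ (R q)⁻¹ * a ∈ T := by
    intro q
    have h : (R q)⁻¹ * q.out ∈ T ⊔ P := QuotientGroup.eq.1 (QuotientGroup.out_eq' _)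
    rw [← SetLike.mem_coe, Subgroup.normal_mul] at h
    obtain ⟨t, ht, v, hv, he⟩ := h
    refine ⟨R q * t, ?_, by simpa using ht⟩
    refine Eq.trans (QuotientGroup.eq.2 ?_) q.out_eq'
    have : (R q * t)⁻¹ * q.out = v := by
      rw [mul_inv_rev, mul_assoc, ← he, inv_mul_cancel_left]
    rwa [this]
  choose σ hσ hσT using hR
  refine ⟨σ, R, hσ, hσT, fun x hx q => congrArg Quotient.out (QuotientGroup.eq.2 ?_)⟩
  obtain ⟨v, hv⟩ := QuotientGroup.mk_out_eq_mul P (x * q.out)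
  have e : (x • q) = QuotientGroup.mk (x * q.out) := by
    conv_lhs => rw [← q.out_eq']
    rfl
  rw [e, hv, mul_inv_rev, mul_inv_rev, mul_assoc, mul_assoc]
  refine mul_mem (Subgroup.mem_sup_right (P.inv_mem v.2)) (Subgroup.mem_sup_left ?_)
  simpa [mul_assoc] using ‹T.Normal›.conj_mem x⁻¹ (T.inv_mem hx) q.out⁻¹

variable {Ω : Type u} [Group Ω] {S : Subgroup Ω} {F : FusionSystem S}

theorem exists_transfer {p : ℕ} [Fact p.Prime] [Finite S] (hS : IsPGroup p S)
    (hF : F.IsSaturated p) (T : Subgroup ↥S) [T.Normal] {E : Type u} [Group E] (mkE : ↥S →* E)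
    (hC : ∀ y ∈ T, mkE y ∈ Subgroup.center E)
    (hθ : ∀ (P : Subgroup Ω) (φ : ↥P →* Ω) (hφ : φ ∈ F.Hom P), ∃ θ : ↥S, ∀ u : ↥P,
      (θ * ⟨u, src_le F hφ u.2⟩ * θ⁻¹)⁻¹ * ⟨φ u, (F.le_of_mem hφ).2 u⟩ ∈ T) :
    ∃ (k : ℕ) (t : ↥S →* ↥(Subgroup.center E)), ¬ p ∣ k ∧
      (∀ (R : Subgroup Ω) (ψ : ↥R →* Ω) (hψ : ψ ∈ F.Hom R) (u : ↥R),
        (⟨u, src_le F hψ u.2⟩ : ↥S) ∈ T →
          mkE ⟨u, src_le F hψ u.2⟩ ^ k * t ⟨u, src_le F hψ u.2⟩ =
            mkE ⟨ψ u, (F.le_of_mem hψ).2 u⟩ ^ k * t ⟨ψ u, (F.le_of_mem hψ).2 u⟩) ∧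
      (∀ m : ℕ, (∀ y ∈ T, mkE y ^ m = 1) → ∀ s, t s ^ m = 1) ∧
      ∀ x : ↥S, (∀ g : ↥S, x * g = g * x) → (∀ (P : Subgroup Ω) (φ : ↥P →* Ω), φ ∈ F.Hom P →
        ∀ (n : ℕ) (h : (x : Ω) ^ n ∈ P), φ ⟨_, h⟩ = (x : Ω) ^ n) → t x = 1 := by
  classical
  obtain ⟨ι, hι, D, hD, hk, hstab⟩ := exists_biset hS hF
  choose φ hφ hφD using hD
  let P : ι → Subgroup ↥S := fun i => (src (D i)).subgroupOf S
  let φ' : ∀ i, ↥(P i) →* ↥S := fun i =>
    ((φ i).comp ((S.subtype.comp (P i).subtype).codRestrict _ fun u => u.2)).codRestrict S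
      fun u => (F.le_of_mem (hφ i)).2 _
  have hmem : ∀ i (u : ↥(P i)), ((u : ↥S), φ' i u) ∈ D i := by
    intro i u
    obtain ⟨k, hk, he⟩ : ((u : ↥S) : Ω) ∈ src (D i) := u.2
    have h1 : k.1 = u := Subtype.ext he
    have h2 : k.2 = φ' i u :=
      Subtype.ext ((hφD i k hk).symm.trans (congrArg (φ i) (Subtype.ext he)))
    have h3 : k = ((u : ↥S), φ' i u) := Prod.ext h1 h2
    rwa [← h3]
  have huniq : ∀ i (a b : ↥S), (a, b) ∈ D i → ∃ ha : a ∈ P i, b = φ' i ⟨a, ha⟩ :=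
    fun i a b h => ⟨fst_mem_src h, Subtype.ext (hφD i _ h).symm⟩
  choose θ hθ' using fun i => hθ (src (D i)) (φ i) (hφ i)
  have hθT : ∀ i (u : ↥(P i)), (θ i * u * (θ i)⁻¹)⁻¹ * φ' i u ∈ T := fun i u => hθ' i ⟨_, u.2⟩
  have hφT : ∀ i (u : ↥(P i)), (u : ↥S) ∈ T → φ' i u ∈ T := fun i u hu => by
    have := T.mul_mem (‹T.Normal›.conj_mem _ hu (θ i)) (hθT i u)
    rwa [mul_inv_cancel_left] at this
  have hcen : ∀ a ∈ T, ∀ b, b * mkE a = mkE a * b := fun a ha =>
    Subgroup.mem_center_iff.1 (hC a ha)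
  let d : ∀ i, ↥(P i) →* ↥(Subgroup.center E) := fun i =>
    { toFun := fun u => ⟨mkE ((θ i * u * (θ i)⁻¹)⁻¹ * φ' i u), hC _ (hθT i u)⟩
      map_one' := Subtype.ext (by simp)
      map_mul' := fun u v => by
        refine Subtype.ext ?_
        show mkE _ = mkE _ * mkE _
        have hc := hcen _ (hθT i u) (mkE (θ i * v * (θ i)⁻¹)⁻¹)
        rw [map_mul (φ' i), Subgroup.coe_mul,
          show (θ i * (u * v) * (θ i)⁻¹)⁻¹ * (φ' i u * φ' i v) = (θ i * v * (θ i)⁻¹)⁻¹ *
            ((θ i * u * (θ i)⁻¹)⁻¹ * φ' i u) * φ' i v by group,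
          map_mul, map_mul, hc, mul_assoc, ← map_mul] }
  have hd : ∀ i (u : ↥(P i)), (u : ↥S) ∈ T → mkE (φ' i u) = mkE u * (d i u : E) := by
    intro i u hu
    show _ = mkE u * mkE _
    have := hcen _ hu (mkE (θ i))
    rw [map_mul, map_inv, map_mul, map_mul, this, map_inv, mul_inv_cancel_right,
      mul_inv_cancel_left]
  let t : ↥S →* ↥(Subgroup.center E) := ∏ i, MonoidHom.transfer (d i)
  have ht : ∀ s, t s = ∏ i, MonoidHom.transfer (d i) s := fun s => MonoidHom.finsetProd_apply _ _ _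
  choose σ R hσ hσT hRx using fun i => exists_section T (P i)
  -- the labels
  have hu : ∀ i (x : ↥S) (q : ↥S ⧸ P i), (σ i (x • q))⁻¹ * x * σ i q ∈ P i := by
    intro i x q
    rw [mul_assoc, ← QuotientGroup.eq, hσ]
    conv_lhs => rw [← hσ i q]
    rfl
  have huT : ∀ i (x : ↥S), x ∈ T → ∀ q : ↥S ⧸ P i, (σ i (x • q))⁻¹ * x * σ i q ∈ T := by
    intro i x hx q
    have e : (σ i (x • q))⁻¹ * x * σ i q = ((R i (x • q))⁻¹ * σ i (x • q))⁻¹ *
        ((R i q)⁻¹ * x * R i q) * ((R i q)⁻¹ * σ i q) := by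
      rw [hRx i x hx]; group
    rw [e]
    exact T.mul_mem (T.mul_mem (T.inv_mem (hσT i _))
      (by simpa using ‹T.Normal›.conj_mem x hx (R i q)⁻¹)) (hσT i q)
  let lab : ∀ i, ↥S → ↥S ⧸ P i → ↥S := fun i x q => φ' i ⟨_, hu i x q⟩
  let Q := Σ i, ↥S ⧸ P i
  letI : ∀ i, Fintype (↥S ⧸ P i) := fun i => Subgroup.fintypeQuotientOfFiniteIndex
  have hlab : ∀ x : ↥S, x ∈ T → ∀ q : Q, (lab q.1 x q.2)⁻¹ ∈ T := fun x hx q =>
    T.inv_mem (hφT _ _ (huT _ x hx q.2))
  let can : ∀ x : ↥S, x ∈ T → Monomial (X := BiSet D) T x Q := fun x hx =>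
    { σ := fun q => ⟨q.1, QuotientGroup.mk (σ q.1 q.2, 1)⟩
      e := Equiv.sigmaCongrRight fun _ => MulAction.toPerm x
      l := fun q => (lab q.1 x q.2)⁻¹
      mem := hlab x hx
      unique := by
        rintro ⟨i, ω⟩
        induction ω using QuotientGroup.induction_on with
        | _ ab =>
          obtain ⟨a, b⟩ := ab
          have hv : (σ i (QuotientGroup.mk a))⁻¹ * a ∈ P i := QuotientGroup.eq.1 (hσ i _)
          refine ⟨(⟨i, QuotientGroup.mk a⟩, b * (φ' i ⟨_, hv⟩)⁻¹), ?_, ?_⟩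
          · refine congrArg (Sigma.mk i) (QuotientGroup.eq.2 ?_)
            convert hmem i ⟨_, hv⟩ using 1
            simp
          · rintro ⟨⟨j, q⟩, s⟩ hy
            obtain ⟨rfl, h⟩ := Sigma.mk.inj hy
            have h' := QuotientGroup.eq.1 (eq_of_heq h)
            obtain ⟨ha, hb⟩ := huniq _ ((1 * σ j q)⁻¹ * a) ((s * 1)⁻¹ * b) h'
            have hq : q = QuotientGroup.mk a := by
              rw [← hσ j q]
              exact QuotientGroup.eq.2 (by simpa using ha)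
            subst hq
            refine Prod.ext rfl ?_
            simp only [one_mul, mul_one] at hb
            show s = b * (φ' j ⟨(σ j (QuotientGroup.mk a))⁻¹ * a, _⟩)⁻¹
            rw [← hb]
            group
      step := fun q => by
        refine congrArg (Sigma.mk q.1) (QuotientGroup.eq.2 ?_)
        have h := (D q.1).inv_mem (hmem q.1 ⟨_, hu q.1 x q.2⟩)
        convert h using 1
        refine Prod.ext ?_ ?_
        · show (x * σ q.1 q.2)⁻¹ * (1 * σ q.1 (x • q.2)) = _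
          simp [mul_assoc]
        · show ((1 : ↥S) * 1)⁻¹ * ((lab q.1 x q.2)⁻¹ * 1) = _
          simp [lab] }
  -- evaluation of the canonical product
  have hW : ∀ (x : ↥S) (hx : x ∈ T),
      (∏ q, (⟨mkE ((can x hx).l q), hC _ ((can x hx).mem q)⟩ : ↥(Subgroup.center E))) =
        ((⟨mkE x, hC x hx⟩ : ↥(Subgroup.center E)) ^ (∑ i, (P i).index) * t x)⁻¹ := by
    intro x hx
    rw [Fintype.prod_sigma, ht, ← Finset.prod_pow_eq_pow_sum, ← Finset.prod_mul_distrib,
      ← Finset.prod_inv_distrib]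
    refine Finset.prod_congr rfl fun i _ => ?_
    let zu : ↥S ⧸ P i → ↥(Subgroup.center E) := fun q =>
      ⟨mkE ((σ i (x • q))⁻¹ * x * σ i q), hC _ (huT i x hx q)⟩
    have e1 : ∀ q : ↥S ⧸ P i, (⟨mkE (lab i x q)⁻¹, hC _ (hlab x hx ⟨i, q⟩)⟩ :
        ↥(Subgroup.center E)) = (zu q * d i ⟨_, hu i x q⟩)⁻¹ := by
      intro q
      refine Subtype.ext ?_
      show mkE (lab i x q)⁻¹ = _
      rw [map_inv, Subgroup.coe_inv, Subgroup.coe_mul]
      exact congrArg _ (hd i _ (huT i x hx q))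
    refine (Finset.prod_congr rfl fun q _ => e1 q).trans ?_
    rw [Finset.prod_inv_distrib, Finset.prod_mul_distrib]
    congr 2
    · let za : ↥S ⧸ P i → ↥(Subgroup.center E) := fun q =>
        ⟨mkE ((R i q)⁻¹ * σ i q), hC _ (hσT i q)⟩
      have e2 : ∀ q, zu q = (za (x • q))⁻¹ * ⟨mkE x, hC x hx⟩ * za q := by
        intro q
        refine Subtype.ext ?_
        have hc : mkE ((R i q)⁻¹ * x * R i q) = mkE x := by
          rw [map_mul, map_mul, hcen x hx, mul_assoc, ← map_mul, inv_mul_cancel, map_one, mul_one]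
        show mkE _ = (mkE _)⁻¹ * mkE x * mkE _
        rw [← hc, ← map_inv, ← map_mul, ← map_mul, hRx i x hx]
        congr 1
        group
      rw [Finset.prod_congr rfl fun q _ => e2 q, Finset.prod_mul_distrib, Finset.prod_mul_distrib,
        Finset.prod_const, Finset.card_univ, ← Nat.card_eq_fintype_card, ← Subgroup.index_eq_card (P i),
        Finset.prod_inv_distrib]
      rw [show ∏ q, za (x • q) = ∏ q, za q from Equiv.prod_comp (MulAction.toPerm x) za]
      rw [mul_comm (∏ q, za q)⁻¹, inv_mul_cancel_right]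
    · let T₀ : (P i).LeftTransversal :=
        ⟨Set.range (σ i), Subgroup.isComplement_range_left (hσ i)⟩
      rw [MonoidHom.transfer_def (d i) T₀]
      simp only [Subgroup.leftTransversals.diff]
      refine Fintype.prod_equiv (MulAction.toPerm x) _ _ fun q => ?_
      refine congrArg (d i) (Subtype.ext ?_)
      show (σ i (x • q))⁻¹ * x * σ i q = _⁻¹ * _
      rw [Subgroup.smul_apply_eq_smul_apply_inv_smul, MulAction.toPerm_apply, inv_smul_smul,
        smul_eq_mul, Subgroup.IsComplement.leftQuotientEquiv_apply (hσ i) q,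
        Subgroup.IsComplement.leftQuotientEquiv_apply (hσ i) (x • q), mul_assoc]
  refine ⟨∑ i, (P i).index, t, hk, ?_, ?_, ?_⟩
  · intro R₀ ψ hψ u hu₀
    obtain ⟨θ₀, hθ₀⟩ := hstab R₀ (src_le F hψ) ψ hψ
    have hv : (⟨ψ u, (F.le_of_mem hψ).2 u⟩ : ↥S) ∈ T := by
      obtain ⟨a, ha⟩ := hθ R₀ ψ hψ
      have := T.mul_mem (‹T.Normal›.conj_mem _ hu₀ a) (ha u)
      rwa [mul_inv_cancel_left] at this
    have hone : ∀ (s : ↥S) (ω : BiSet D), θ₀ (((1 : ↥S), s) • ω) = ((1 : ↥S), s) • θ₀ ω := by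
      intro s ω
      have := hθ₀ 1 s ω
      simp only [map_one, OneMemClass.coe_one] at this
      exact this
    let m := can _ hu₀
    let m' : Monomial (X := BiSet D) T (⟨ψ u, (F.le_of_mem hψ).2 u⟩ : ↥S) Q :=
      { σ := fun q => θ₀ (m.σ q)
        e := m.e
        l := m.l
        mem := m.mem
        unique := fun ω => by
          obtain ⟨y, hy, hy'⟩ := m.unique (θ₀.symm ω)
          refine ⟨y, ?_, fun z hz => hy' z ?_⟩
          · show ((1 : ↥S), y.2) • θ₀ (m.σ y.1) = ω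
            rw [← hone, hy, Equiv.apply_symm_apply]
          · show ((1 : ↥S), z.2) • m.σ z.1 = θ₀.symm ω
            rw [← hz, ← hone, Equiv.symm_apply_apply]
        step := fun q => by rw [← hθ₀, m.step, hone] }
    have h := monomial_prod_eq mkE hC (can _ hv) m'
    have h' := ((hW _ hu₀).symm.trans h).trans (hW _ hv)
    rw [inv_inj] at h'
    simpa using congrArg Subtype.val h'
  · intro m hm s
    rw [ht, ← Finset.prod_pow]
    refine Finset.prod_eq_one fun i _ => ?_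
    let T₀ : (P i).LeftTransversal :=
      ⟨Set.range (σ i), Subgroup.isComplement_range_left (hσ i)⟩
    rw [MonoidHom.transfer_def (d i) T₀]
    simp only [Subgroup.leftTransversals.diff]
    rw [← Finset.prod_pow]
    exact Finset.prod_eq_one fun q _ => Subtype.ext (by
      rw [SubgroupClass.coe_pow]; exact hm _ (hθT i _))
  · intro x hx hfix
    rw [ht]
    refine Finset.prod_eq_one fun i _ => ?_
    rw [MonoidHom.transfer_eq_pow (d i) x fun n g₀ _ => by
      rw [mul_assoc, ((show Commute x g₀ from hx g₀).pow_left n).eq, inv_mul_cancel_left]]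
    refine Subtype.ext ?_
    show mkE ((θ i * x ^ (P i).index * (θ i)⁻¹)⁻¹ * φ' i ⟨x ^ (P i).index, _⟩) = 1
    have hy : ∀ h : x ^ (P i).index ∈ P i, φ' i ⟨_, h⟩ = x ^ (P i).index := fun h => by
      refine Subtype.ext ?_
      rw [SubgroupClass.coe_pow]
      exact (congrArg (φ i) (Subtype.ext (SubgroupClass.coe_pow x _))).trans
        (hfix _ _ (hφ i) _ (by rw [← SubgroupClass.coe_pow]; exact h))
    rw [hy, show θ i * x ^ (P i).index * (θ i)⁻¹ = x ^ (P i).index from by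
      rw [← ((show Commute x (θ i) from hx (θ i)).pow_left _).eq, mul_inv_cancel_right],
      inv_mul_cancel, map_one]

end Cfsg.Agent.H90
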