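import Cfsg.Agent.H90.Supersoluble
import Cfsg.Agent.FusionSys.Alperin
import Cfsg.Agent.FusionSys.Transport
import Cfsg.Agent.PGroups.TwoGroups
import Cfsg.Agent.H39.SemiDihedral
import Cfsg.Agent.H27.QuaternionSylow
import Mathlib.NumberTheory.LSeries.PrimesInAP
import Mathlib.LinearAlgebra.Matrix.GeneralLinearGroup.Card

/-!
Saturated fusion systems that are not supersoluble over dihedral, quaternion and semidihedral groups.
-/

set_option autoImplicit false
set_option linter.unusedSectionVars false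
set_option linter.style.haveILetI false

namespace Cfsg.Agent.H90.TwoWitness

open Cfsg Cfsg.FusionSystem Cfsg.Agent.FusionSys

variable {Ω : Type*} [Group Ω] {S : Subgroup Ω}

/-- The system on `S` induced by an injective homomorphism into a group. -/
def pullSystem {G : Type*} [Group G] (ι : ↥S →* G) (hι : Function.Injective ι) : FusionSystem S where
  Hom P := {φ | P ≤ S ∧ ∃ g : G, ∀ x : P, ∃ (h1 : (x : Ω) ∈ S) (h2 : φ x ∈ S),
    ι ⟨φ x, h2⟩ = g * ι ⟨x, h1⟩ * g⁻¹}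
  le_of_mem h := ⟨h.1, fun x => let ⟨_, hg⟩ := h.2; (hg x).2.1⟩
  injective_of_mem := by
    rintro P φ ⟨-, g, hg⟩ a b hab
    obtain ⟨ha1, ha2, ha⟩ := hg a
    obtain ⟨hb1, hb2, hb⟩ := hg b
    have h : (⟨φ a, ha2⟩ : ↥S) = ⟨φ b, hb2⟩ := Subtype.ext hab
    rw [h, hb] at ha
    exact Subtype.ext (congrArg Subtype.val (hι (mul_left_cancel (mul_right_cancel ha)))).symm
  conj_mem := by
    intro P g hP hg
    refine ⟨hP, ι ⟨g, hg⟩, fun x => ⟨hP x.2, S.mul_mem (S.mul_mem hg (hP x.2)) (S.inv_mem hg), ?_⟩⟩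
    rw [← map_mul, ← map_inv, ← map_mul]
    rfl
  comp_mem := by
    rintro P Q φ ψ ⟨hP, g, hg⟩ ⟨-, k, hk⟩ h
    refine ⟨hP, k * g, fun x => ?_⟩
    obtain ⟨h1, h2, e⟩ := hg x
    obtain ⟨h3, h4, e'⟩ := hk ⟨φ x, h x⟩
    refine ⟨h1, h4, ?_⟩
    show ι ⟨ψ ⟨φ x, h x⟩, h4⟩ = _
    rw [e', e]
    group
  inv_mem := by
    intro P φ hφ
    obtain ⟨hP, g, hg⟩ := hφ
    have hinj : Function.Injective φ := fun a b hab => by
      obtain ⟨ha1, ha2, ha⟩ := hg a
      obtain ⟨hb1, hb2, hb⟩ := hg b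
      have h : (⟨φ a, ha2⟩ : ↥S) = ⟨φ b, hb2⟩ := Subtype.ext hab
      rw [h, hb] at ha
      exact Subtype.ext (congrArg Subtype.val (hι (mul_left_cancel (mul_right_cancel ha)))).symm
    refine ⟨P.subtype.comp (MonoidHom.ofInjective hinj).symm.toMonoidHom, ⟨?_, g⁻¹, ?_⟩, ?_⟩
    · rintro _ ⟨x, rfl⟩
      exact (hg x).2.1
    · intro y
      obtain ⟨x, rfl⟩ := (MonoidHom.ofInjective hinj).surjective y
      obtain ⟨h1, h2, e⟩ := hg x
      have e2 : (P.subtype.comp (MonoidHom.ofInjective hinj).symm.toMonoidHom)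
          (MonoidHom.ofInjective hinj x) = x := by simp
      refine ⟨h2, e2 ▸ h1, ?_⟩
      simp only [e2]
      show ι ⟨(x : Ω), h1⟩ = g⁻¹ * ι ⟨φ x, h2⟩ * g⁻¹⁻¹
      rw [e]
      group
    · intro x
      show (((MonoidHom.ofInjective hinj).symm (MonoidHom.ofInjective hinj x) : ↥P) : Ω) = x
      rw [MulEquiv.symm_apply_apply]

theorem pullSystem_realized {G : Type*} [Group G] (ι : ↥S →* G) (hι : Function.Injective ι) :
    (pullSystem ι hι).IsRealizedBy ι :=
  ⟨hι, fun _ hP _ _ => ⟨fun ⟨_, g, hg⟩ => ⟨g, fun x => (hg x).2.2⟩,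
    fun ⟨g, hg⟩ => ⟨hP, g, fun x => ⟨hP x.2, _, hg x⟩⟩⟩⟩

/-- Fusion of a group not controlled by its Sylow 2-subgroup gives a system that is not supersoluble. -/
theorem not_supersoluble [Finite S] (hS : IsPGroup 2 S) {G : Type*} [Group G] [Finite G] (T : Sylow 2 G)
    (e : ↥S ≃* ↥(T : Subgroup G)) {C : Subgroup G} (hC : ∀ t ∈ (T : Subgroup G), ∀ c ∈ C, t * c * t⁻¹ ∈ C)
    {a g : G} (ha : a ∈ C) (haT : a ∈ (T : Subgroup G)) (hb : g * a * g⁻¹ ∈ (T : Subgroup G))
    (hbC : g * a * g⁻¹ ∉ C) :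
    ¬ ∀ F : FusionSystem S, F.IsSaturated 2 → IsSupersolubleSystem F := by
  haveI : Fact (Nat.Prime 2) := ⟨Nat.prime_two⟩
  intro hall
  obtain ⟨hnorm, htame⟩ := (forall_supersoluble_iff hS).1 hall
  let ι : ↥S →* G := (T : Subgroup G).subtype.comp e.toMonoidHom
  have hι : Function.Injective ι := (T : Subgroup G).subtype_injective.comp e.injective
  set F := pullSystem ι hι with hFdef
  have hF : F.IsSaturated 2 := isSaturated_of_realized hS (pullSystem_realized ι hι) ⟨T, by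
    rw [show ι.range = (⊤ : Subgroup ↥(T : Subgroup G)).map (T : Subgroup G).subtype by
      rw [MonoidHom.range_eq_map, ← Subgroup.map_map, Subgroup.map_top_of_surjective e.toMonoidHom
        e.surjective], ← MonoidHom.range_eq_map, Subgroup.range_subtype]⟩
  set x : ↥S := e.symm ⟨a, haT⟩ with hx
  set z : ↥S := e.symm ⟨g * a * g⁻¹, hb⟩ with hz
  have hιx : ι x = a := by show ((e x : ↥(T : Subgroup G)) : G) = a; rw [hx, e.apply_symm_apply]
  have hιz : ι z = g * a * g⁻¹ := by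
    show ((e z : ↥(T : Subgroup G)) : G) = _; rw [hz, e.apply_symm_apply]
  -- the automorphisms of `S` in the system are inner
  haveI := finite_autGroup F (le_refl S)
  have hp : IsPGroup 2 ↥(F.autGroup S) := by
    refine IsPGroup.of_card (Nat.eq_prime_pow_of_unique_prime_dvd Nat.card_pos.ne' fun {d} hd hdd => ?_)
    by_contra hne
    haveI := Fact.mk hd
    obtain ⟨β, hβ⟩ := exists_prime_orderOf_dvd_card' d hdd
    have hcop : (Nat.card (Subgroup.zpowers (β : MulAut ↥S))).Coprime 2 := by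
      rw [Nat.card_zpowers, Subgroup.orderOf_coe, hβ]
      exact (Nat.coprime_primes hd Nat.prime_two).2 hne
    have h1 := (htame _ hcop).2 _ (Subgroup.mem_zpowers _)
    rw [show 2 - 1 = 1 from rfl, pow_one] at h1
    rw [← Subgroup.orderOf_coe, h1, orderOf_one] at hβ
    exact hd.one_lt.ne hβ
  have hinn : ∀ α ∈ F.autGroup S, α ∈ Inn ↥S := by
    obtain ⟨-, R, hR⟩ := isFullyAutomized_of_isFullyNormalized hS hF (isFullyNormalized_S F)
    intro α hα
    rw [inn_eq_autInducedBy_self]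
    have htop : (R : Subgroup ↥(F.autGroup S)) = ⊤ :=
      (R.is_maximal' (hp.to_subgroup ⊤) le_top).symm
    exact (hR ▸ htop).ge (Subgroup.mem_top (⟨α, hα⟩ : ↥(F.autGroup S)))
  -- the map sending `x` to `z`
  have hmap : IsMap F (Subgroup.zpowers (x : Ω))
      (homFun (S.subtype.comp (e.symm.toMonoidHom.comp
        (((MulAut.conj g).toMonoidHom.comp (Subgroup.zpowers a).subtype).codRestrict
          (T : Subgroup G) fun y => by
            obtain ⟨i, hi⟩ := y.2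
            show g * (y : G) * g⁻¹ ∈ _
            rw [show (y : G) = a ^ i from hi.symm, ← conj_zpow]
            exact zpow_mem hb i))) ∘ homFun ι) := by
    refine (isMap_realized_iff (pullSystem_realized ι hι)).2 ⟨Subgroup.zpowers_le.2 x.2, g,
      fun w hw => ?_⟩
    obtain ⟨i, hi⟩ := hw
    have hw' : w = x ^ i := Subtype.ext (hi.symm.trans (by simp))
    have hwa : ι w ∈ Subgroup.zpowers a := by
      rw [hw', map_zpow, hιx]; exact zpow_mem (Subgroup.mem_zpowers a) i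
    rw [Function.comp_apply, homFun_mem ι w.2, homFun_mem _ hwa]
    refine ⟨Subtype.prop _, ?_⟩
    show ((e (e.symm _) : ↥(T : Subgroup G)) : G) = _
    rw [MulEquiv.apply_symm_apply]
    rfl
  set f := homFun (S.subtype.comp (e.symm.toMonoidHom.comp
    (((MulAut.conj g).toMonoidHom.comp (Subgroup.zpowers a).subtype).codRestrict
      (T : Subgroup G) fun y => by
        obtain ⟨i, hi⟩ := y.2
        show g * (y : G) * g⁻¹ ∈ _
        rw [show (y : G) = a ^ i from hi.symm, ← conj_zpow]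
        exact zpow_mem hb i))) ∘ homFun ι with hf
  have hfx : f x = z := by
    rw [hf, Function.comp_apply, homFun_mem ι x.2, homFun_mem _ (show ι ⟨(x : Ω), x.2⟩ ∈
      Subgroup.zpowers a by rw [Subtype.coe_eta, hιx]; exact Subgroup.mem_zpowers a), hz]
    show ((e.symm _ : ↥S) : Ω) = _
    congr 2
    exact Subtype.ext (show g * ι ⟨(x : Ω), x.2⟩ * g⁻¹ = _ by rw [Subtype.coe_eta, hιx])
  obtain ⟨hSS, hext⟩ := isNormal_iff.1 (hnorm F hF)
  obtain ⟨g', hg', heq, himg⟩ := hext _ f hmap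
  have hg'S : IsMap F S g' := hg'.mono le_sup_right
  obtain ⟨α, hα, hαe⟩ := (IsIso.mk hg'S himg).exists_aut
  obtain ⟨s, hs⟩ := hinn α hα
  have hsx : (s : Ω) * x * (s : Ω)⁻¹ = z := by
    have h2 : autMap α (x : Ω) = z := by
      rw [hαe _ x.2, heq _ (Subgroup.mem_zpowers _), hfx]
    rw [autMap_apply _ x.2, ← hs] at h2
    exact h2
  have hsT : ι (s * x * s⁻¹) = ι z := congrArg ι (Subtype.ext hsx)
  rw [map_mul, map_mul, map_inv, hιx, hιz] at hsT
  exact hbC (hsT ▸ hC _ (e s).2 a ha)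

/-- The subgroup generated by `a` and `b` with `b ^ 2` and `b a b⁻¹` in `⟨a⟩`. -/
theorem exists_gen_two {G : Type*} [Group G] [Finite G] {a b : G} (hb2 : b ^ 2 ∈ Subgroup.zpowers a)
    (hconj : b * a * b⁻¹ ∈ Subgroup.zpowers a) (hb : b ∉ Subgroup.zpowers a) :
    ∃ T : Subgroup G, a ∈ T ∧ b ∈ T ∧ Nat.card T = 2 * orderOf a ∧
      ∀ t ∈ T, ∀ c ∈ Subgroup.zpowers a, t * c * t⁻¹ ∈ Subgroup.zpowers a := by
  haveI : Fact (Nat.Prime 2) := ⟨Nat.prime_two⟩
  let N := Subgroup.normalizer ((Subgroup.zpowers a : Subgroup G) : Set G)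
  have hbN : b ∈ N := mem_normalizer_of_maps (by
    rintro _ ⟨i, rfl⟩
    rw [← conj_zpow]
    exact zpow_mem hconj i)
  have hc := PGroups.card_sup_zpowers (p := 2) ((Subgroup.zpowers a).subgroupOf N) (x := ⟨b, hbN⟩)
    (fun h => hb h) hb2
  rw [Nat.card_congr (Subgroup.subgroupOfEquivOfLe Subgroup.le_normalizer).toEquiv,
    Nat.card_zpowers] at hc
  refine ⟨((Subgroup.zpowers a).subgroupOf N ⊔ Subgroup.zpowers ⟨b, hbN⟩).map N.subtype,
    ⟨⟨a, Subgroup.le_normalizer (Subgroup.mem_zpowers a)⟩,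
      Subgroup.mem_sup_left (Subgroup.mem_zpowers a), rfl⟩,
    ⟨⟨b, hbN⟩, Subgroup.mem_sup_right (Subgroup.mem_zpowers _), rfl⟩,
    (Subgroup.card_map_of_injective N.subtype_injective).trans hc, ?_⟩
  rintro _ ⟨t, -, rfl⟩ c hc'
  exact (Subgroup.mem_normalizer_iff.1 t.2 c).1 hc'

theorem factorization_two {c j m : ℕ} (hc : c = 2 ^ j * m) (hm : Odd m) : c.factorization 2 = j := by
  rw [hc, Nat.factorization_mul (by positivity) (by rintro rfl; simp at hm), Finsupp.add_apply,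
    Nat.Prime.factorization_pow Nat.prime_two, Finsupp.single_eq_same,
    Nat.factorization_eq_zero_of_not_dvd hm.not_two_dvd_nat, add_zero]

theorem exists_prime_mod {j r : ℕ} (hj : 1 ≤ j) (hr : Odd r) :
    ∃ q, q.Prime ∧ 2 < q ∧ q ≡ r [MOD 2 ^ j] := by
  obtain ⟨q, hq1, hq2, hq3⟩ := Nat.forall_exists_prime_gt_and_modEq 2 (q := 2 ^ j) (a := r)
    (by positivity) ((Nat.coprime_pow_right_iff (by omega) r 2).2 (Nat.coprime_two_right.2 hr))
  exact ⟨q, hq2, hq1, hq3⟩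

section SL

open Matrix

variable {q : ℕ} [hq : Fact q.Prime]

local notation "K" => ZMod q

/-- The diagonal element of `SL₂`. -/
def diagHom : (ZMod q)ˣ →* Matrix.SpecialLinearGroup (Fin 2) (ZMod q) :=
  MonoidHom.mk' (fun u => ⟨!![(u : K), 0; 0, ((u⁻¹ : (ZMod q)ˣ) : K)], by
      rw [Matrix.det_fin_two_of, mul_zero, sub_zero, ← Units.val_mul, mul_inv_cancel, Units.val_one]⟩)
    fun u v => Subtype.ext (by
      show !![((u * v : (ZMod q)ˣ) : K), 0; 0, (((u * v)⁻¹ : (ZMod q)ˣ) : K)] =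
        !![(u : K), 0; 0, ((u⁻¹ : (ZMod q)ˣ) : K)] * !![(v : K), 0; 0, ((v⁻¹ : (ZMod q)ˣ) : K)]
      rw [Matrix.mul_fin_two, _root_.mul_inv, Units.val_mul, Units.val_mul]
      simp only [mul_zero, zero_mul, add_zero, zero_add])

theorem diagHom_injective : Function.Injective (diagHom (q := q)) := fun u v h => Units.ext (by
  have := congrArg (fun M : Matrix.SpecialLinearGroup (Fin 2) (ZMod q) => M.1 0 0) h
  exact this)

theorem diagHom_val (u : (ZMod q)ˣ) :
    (diagHom u).1 = !![(u : K), 0; 0, ((u⁻¹ : (ZMod q)ˣ) : K)] := rfl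

/-- The Weyl element of `SL₂`. -/
def weyl : Matrix.SpecialLinearGroup (Fin 2) (ZMod q) :=
  ⟨!![0, 1; -1, 0], by simp [Matrix.det_fin_two_of]⟩

/-- A Sylow subgroup of `SL₂(q)` that is quaternion, with fused elements of order four. -/
theorem sl_data {j : ℕ} (hj : 1 ≤ j) (hmod : q ≡ 1 + 2 ^ (j + 1) [MOD 2 ^ (j + 2)]) :
    ∃ (T : Sylow 2 (Matrix.SpecialLinearGroup (Fin 2) K))
      (a b i₀ g : Matrix.SpecialLinearGroup (Fin 2) K),
      Nat.card T.toSubgroup = 4 * 2 ^ j ∧ a ∈ T.toSubgroup ∧ b ∈ T.toSubgroup ∧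
      orderOf a = 2 * 2 ^ j ∧ b ∉ Subgroup.zpowers a ∧ b * a * b⁻¹ = a⁻¹ ∧ b ^ 2 = a ^ 2 ^ j ∧
      i₀ ∈ Subgroup.zpowers a ∧ g * i₀ * g⁻¹ = b ∧ (a ^ 2 ^ j).1 = -1 ∧
      (∀ t ∈ T.toSubgroup, ∀ c ∈ Subgroup.zpowers a, t * c * t⁻¹ ∈ Subgroup.zpowers a) ∧
      ∃ m, Odd m ∧ Nat.card (Matrix.SpecialLinearGroup (Fin 2) K) = 2 ^ (j + 2) * m := by
  obtain ⟨l, hl⟩ : ∃ l, q = 2 ^ (j + 1) * (2 * l + 1) + 1 := by
    have h1 : q % 2 ^ (j + 2) = 1 + 2 ^ (j + 1) := by
      rw [hmod]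
      refine Nat.mod_eq_of_lt ?_
      rw [pow_succ 2 (j + 1)]
      have : 2 ≤ 2 ^ (j + 1) := Nat.le_self_pow (by omega) 2
      omega
    refine ⟨q / 2 ^ (j + 2), ?_⟩
    have := Nat.div_add_mod q (2 ^ (j + 2))
    rw [h1] at this
    conv_lhs => rw [← this]
    ring
  have h2q : q ≠ 2 := by
    have : 2 ≤ 2 ^ (j + 1) := Nat.le_self_pow (by omega) 2
    rw [hl]; nlinarith
  obtain ⟨γ, hγ⟩ := IsCyclic.exists_generator (α := (ZMod q)ˣ)
  have hγo : orderOf γ = 2 ^ (j + 1) * (2 * l + 1) := by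
    rw [orderOf_eq_card_of_forall_mem_zpowers hγ, Nat.card_eq_fintype_card, ZMod.card_units, hl]
    omega
  set ζ := γ ^ (2 * l + 1) with hζ
  have hζo : orderOf ζ = 2 * 2 ^ j := by
    rw [hζ, orderOf_pow_of_dvd (by omega) (hγo ▸ dvd_mul_left _ _), hγo,
      Nat.mul_div_cancel _ (by omega), pow_succ']
  set a := diagHom ζ with ha
  have hao : orderOf a = 2 * 2 ^ j := by rw [ha, orderOf_injective diagHom diagHom_injective, hζo]
  have hconj : weyl * a * weyl⁻¹ = a⁻¹ := by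
    rw [mul_inv_eq_iff_eq_mul, ha, ← map_inv]
    refine Subtype.ext ?_
    show !![(0 : K), 1; -1, 0] * (diagHom ζ).1 = (diagHom ζ⁻¹).1 * !![(0 : K), 1; -1, 0]
    rw [diagHom_val, diagHom_val, inv_inv, Matrix.mul_fin_two, Matrix.mul_fin_two]
    simp only [mul_zero, zero_mul, add_zero, zero_add, one_mul, mul_one, neg_mul, mul_neg, neg_zero]
  have hwnot : weyl ∉ Subgroup.zpowers a := by
    rintro ⟨i, hi⟩
    have hi' : diagHom (ζ ^ i) = weyl := by rw [map_zpow]; exact hi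
    have := congrArg (fun M : Matrix.SpecialLinearGroup (Fin 2) (ZMod q) => M.1 0 0) hi'
    exact Units.ne_zero _ (this : ((ζ ^ i : (ZMod q)ˣ) : K) = 0)
  have hζ2 : ((ζ ^ 2 ^ j : (ZMod q)ˣ) : K) = -1 := by
    have hne : ζ ^ 2 ^ j ≠ 1 := fun h => by
      have h1 := orderOf_dvd_of_pow_eq_one h
      rw [hζo] at h1
      have := Nat.le_of_dvd (by positivity) h1
      have : 0 < 2 ^ j := by positivity
      omega
    have hsq : ((ζ ^ 2 ^ j : (ZMod q)ˣ) : K) * ((ζ ^ 2 ^ j : (ZMod q)ˣ) : K) = 1 := by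
      rw [← Units.val_mul, ← pow_add, ← two_mul, ← hζo, pow_orderOf_eq_one, Units.val_one]
    rcases mul_self_eq_one_iff.1 hsq with h | h
    · exact absurd (Units.ext h) hne
    · exact h
  have haneg : (a ^ 2 ^ j).1 = -1 := by
    rw [ha, ← map_pow]
    have hinv : (ζ ^ 2 ^ j)⁻¹ = ζ ^ 2 ^ j :=
      inv_eq_of_mul_eq_one_right (by rw [← pow_add, ← two_mul, ← hζo, pow_orderOf_eq_one])
    show !![((ζ ^ 2 ^ j : (ZMod q)ˣ) : K), 0; 0, (((ζ ^ 2 ^ j)⁻¹ : (ZMod q)ˣ) : K)] = -1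
    rw [hinv, hζ2]
    ext i l
    fin_cases i <;> fin_cases l <;> simp
  have hw2 : weyl ^ 2 = a ^ 2 ^ j := by
    refine Subtype.ext ?_
    rw [haneg, pow_two, Matrix.SpecialLinearGroup.coe_mul]
    ext i l
    fin_cases i <;> fin_cases l <;> simp [weyl, Matrix.mul_apply, Fin.sum_univ_two]
  obtain ⟨T, haT, hbT, hTc, hTn⟩ := exists_gen_two (a := a) (b := weyl)
    (hw2 ▸ Subgroup.npow_mem_zpowers a _) (hconj ▸ inv_mem (Subgroup.mem_zpowers a)) hwnot
  have hcard : Nat.card (Matrix.SpecialLinearGroup (Fin 2) K) =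
      2 ^ (j + 2) * (q * (2 * l + 1) * (2 ^ j * (2 * l + 1) + 1)) := by
    rw [Cfsg.Agent.Linear.card_SL_two, ZMod.card, hl,
      Nat.sub_eq_of_eq_add (b := 1) (show (2 ^ (j + 1) * (2 * l + 1) + 1) ^ 2 =
        2 ^ (j + 2) * ((2 * l + 1) * (2 ^ j * (2 * l + 1) + 1)) + 1 by ring)]
    ring
  have hodd : Odd (q * (2 * l + 1) * (2 ^ j * (2 * l + 1) + 1)) := by
    refine (Odd.mul (hq.out.odd_of_ne_two h2q) ⟨l, rfl⟩).mul (Even.add_one ?_)
    exact ((Nat.even_pow.2 ⟨even_two, by omega⟩).mul_right _)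
  have hTc' : Nat.card T = 2 ^ (Nat.card (Matrix.SpecialLinearGroup (Fin 2) K)).factorization 2 := by
    rw [factorization_two hcard hodd, hTc, hao, pow_succ', pow_succ']
  -- `diag (i, -i)` is conjugate to the Weyl element
  set ι := ((ζ ^ 2 ^ (j - 1) : (ZMod q)ˣ) : K) with hι
  have hι2 : ι * ι = -1 := by
    rw [hι, ← Units.val_mul, ← pow_add, show 2 ^ (j - 1) + 2 ^ (j - 1) = 2 ^ j by
      rw [← two_mul, ← pow_succ', Nat.sub_add_cancel hj], hζ2]
  have hιinv : (((ζ ^ 2 ^ (j - 1))⁻¹ : (ZMod q)ˣ) : K) = -ι := by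
    have h1 : ι * (((ζ ^ 2 ^ (j - 1))⁻¹ : (ZMod q)ˣ) : K) = 1 := by
      rw [hι, ← Units.val_mul, mul_inv_cancel, Units.val_one]
    linear_combination (-ι) * h1 + (((ζ ^ 2 ^ (j - 1))⁻¹ : (ZMod q)ˣ) : K) * hι2
  have h2 : (2 : K) ≠ 0 := by
    intro h
    have h' : ((2 : ℕ) : K) = 0 := by exact_mod_cast h
    rw [ZMod.natCast_eq_zero_iff] at h'
    exact h2q ((Nat.prime_dvd_prime_iff_eq hq.out Nat.prime_two).1 h')
  let g : Matrix.SpecialLinearGroup (Fin 2) K := ⟨!![1, ι / 2; ι, -ι * (ι / 2)], by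
    rw [Matrix.det_fin_two_of]
    field_simp
    linear_combination (-2 : K) * hι2⟩
  refine ⟨Sylow.ofCard T hTc', a, weyl, a ^ 2 ^ (j - 1), g, ?_, haT, hbT, hao, hwnot, hconj, hw2,
    Subgroup.npow_mem_zpowers a _, ?_, haneg, hTn, _, hodd, hcard⟩
  · show Nat.card T = _
    rw [hTc, hao]; ring
  · rw [mul_inv_eq_iff_eq_mul, ha, ← map_pow]
    refine Subtype.ext ?_
    show !![1, ι / 2; ι, -ι * (ι / 2)] * !![ι, 0; 0, (((ζ ^ 2 ^ (j - 1))⁻¹ : (ZMod q)ˣ) : K)] =
      !![0, 1; -1, 0] * !![1, ι / 2; ι, -ι * (ι / 2)]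
    rw [hιinv]
    ext i l
    fin_cases i <;> fin_cases l <;> simp [Matrix.mul_apply, Fin.sum_univ_two]
    all_goals first | linear_combination hι2 | linear_combination (ι / 2) * hι2 | ring

end SL

/-- Quaternion groups. -/
theorem quaternion [Finite S] (hS : IsPGroup 2 S) {n : ℕ} (hn : 2 ≤ n)
    (e : ↥S ≃* QuaternionGroup n) :
    ¬ ∀ F : FusionSystem S, F.IsSaturated 2 → IsSupersolubleSystem F := by
  haveI : Fact (Nat.Prime 2) := ⟨Nat.prime_two⟩
  haveI : NeZero n := ⟨by omega⟩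
  obtain ⟨d, hd⟩ := IsPGroup.iff_card.mp hS
  rw [Nat.card_congr e.toEquiv, Nat.card_eq_fintype_card, QuaternionGroup.card] at hd
  obtain ⟨j, -, rfl⟩ := (Nat.dvd_prime_pow Nat.prime_two).1 (hd ▸ dvd_mul_left n 4)
  have hj : 1 ≤ j := by
    rcases Nat.eq_zero_or_pos j with rfl | h
    · norm_num at hn
    · exact h
  obtain ⟨q, hqp, -, hq⟩ := exists_prime_mod (j := j + 2) (r := 1 + 2 ^ (j + 1)) (by omega)
    ⟨2 ^ j, by rw [pow_succ']; ring⟩
  haveI := Fact.mk hqp
  obtain ⟨T, a, b, i₀, g, hc, haT, hbT, hao, hbn, hconj, hb2, hi₀, hg, -, hn', -⟩ := sl_data hj hq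
  obtain ⟨e'⟩ := PGroups.nonempty_mulEquiv_quaternion (G := ↥T.toSubgroup) (c := ⟨a, haT⟩)
    (y := ⟨b, hbT⟩) (n := 2 ^ j) (by rw [Subgroup.orderOf_mk, hao])
    (fun ⟨i, hi⟩ => hbn ⟨i, by simpa using congrArg Subtype.val hi⟩)
    (Subtype.ext (by simpa using hb2)) (Subtype.ext (by simpa using hconj)) hc
  exact not_supersoluble hS T (e.trans e'.symm) hn' hi₀ (Subgroup.zpowers_le.2 haT hi₀)
    (hg ▸ hbT) (hg ▸ hbn)

/-- Dihedral groups. -/
theorem dihedral [Finite S] (hS : IsPGroup 2 S) {n : ℕ} (hn : 3 ≤ n) (e : ↥S ≃* DihedralGroup n) :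
    ¬ ∀ F : FusionSystem S, F.IsSaturated 2 → IsSupersolubleSystem F := by
  haveI : Fact (Nat.Prime 2) := ⟨Nat.prime_two⟩
  haveI : NeZero n := ⟨by omega⟩
  obtain ⟨d, hd⟩ := IsPGroup.iff_card.mp hS
  rw [Nat.card_congr e.toEquiv, DihedralGroup.nat_card] at hd
  obtain ⟨j, -, rfl⟩ := (Nat.dvd_prime_pow Nat.prime_two).1 (hd ▸ dvd_mul_left n 2)
  have hj : 2 ≤ j := by
    by_contra h
    interval_cases j <;> norm_num at hn
  obtain ⟨q, hqp, -, hq⟩ := exists_prime_mod (j := j + 2) (r := 1 + 2 ^ (j + 1)) (by omega)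
    ⟨2 ^ j, by rw [pow_succ']; ring⟩
  haveI := Fact.mk hqp
  obtain ⟨T, a, b, i₀, g, hc, haT, hbT, hao, hbn, hconj, hb2, hi₀, hg, hneg, hn', m, hm, hG⟩ :=
    sl_data (show 1 ≤ j by omega) hq
  set c := a ^ 2 ^ j with hc'
  have hcen : ∀ x : Matrix.SpecialLinearGroup (Fin 2) (ZMod q), x * c = c * x := fun x =>
    Subtype.ext (by
      show x.1 * c.1 = c.1 * x.1
      rw [hneg, mul_neg, mul_one, neg_mul, one_mul])
  have hco : orderOf c = 2 := by
    rw [hc', orderOf_pow_of_dvd (by positivity) (hao ▸ dvd_mul_left _ _), hao,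
      Nat.mul_div_cancel _ (by positivity)]
  set Z := Subgroup.zpowers c
  haveI : Z.Normal := ⟨fun y hy x => by
    obtain ⟨i, rfl⟩ := hy
    rw [((show Commute x c from hcen x).zpow_right i).eq, mul_inv_cancel_right]
    exact zpow_mem (Subgroup.mem_zpowers c) i⟩
  let π := QuotientGroup.mk' Z
  have hZa : Z ≤ Subgroup.zpowers a := Subgroup.zpowers_le.2 (Subgroup.npow_mem_zpowers a _)
  have hao' : orderOf (π a) = 2 ^ j := by
    refine orderOf_eq_prime_pow (x := π a) ?_ ?_ |>.trans (by rw [Nat.sub_add_cancel (show 1 ≤ j by omega)])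
    · intro h
      rw [← map_pow] at h
      have h' := (QuotientGroup.eq_one_iff _).1 h
      obtain ⟨i, hi⟩ := h'
      have hi' : c ^ i = a ^ 2 ^ (j - 1) := hi
      have h4 : a ^ (2 ^ (j - 1) * 2) = 1 := by
        rw [pow_mul, ← hi', ← zpow_natCast, ← zpow_mul, mul_comm, zpow_mul, zpow_natCast,
          orderOf_dvd_iff_pow_eq_one.1 hco.dvd, one_zpow]
      rw [← pow_succ, Nat.sub_add_cancel (show 1 ≤ j by omega)] at h4
      have := orderOf_dvd_of_pow_eq_one h4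
      rw [hao] at this
      have := Nat.le_of_dvd (by positivity) this
      have : 0 < 2 ^ j := by positivity
      omega
    · rw [← map_pow, Nat.sub_add_cancel (show 1 ≤ j by omega)]
      exact (QuotientGroup.eq_one_iff _).2 (Subgroup.mem_zpowers c)
  have hbn' : π b ∉ Subgroup.zpowers (π a) := by
    rintro ⟨i, hi⟩
    have h : π (a ^ i) = π b := (map_zpow π a i).trans hi
    have := hZa (QuotientGroup.eq.1 h)
    exact hbn (by simpa using mul_mem (zpow_mem (Subgroup.mem_zpowers a) i) this)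
  have hconj' : π b * π a * (π b)⁻¹ = (π a)⁻¹ := by rw [← map_inv, ← map_mul, ← map_mul, hconj, map_inv]
  have hb2' : π b ^ 2 = 1 := by
    rw [← map_pow, hb2]
    exact (QuotientGroup.eq_one_iff _).2 (Subgroup.mem_zpowers c)
  obtain ⟨T', haT', hbT', hTc', hTn'⟩ := exists_gen_two (a := π a) (b := π b)
    (hb2'.symm ▸ one_mem _) (hconj'.symm ▸ inv_mem (Subgroup.mem_zpowers _)) hbn'
  have hcardQ : Nat.card (Matrix.SpecialLinearGroup (Fin 2) (ZMod q) ⧸ Z) = 2 ^ (j + 1) * m := by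
    have h := Z.card_eq_card_quotient_mul_card_subgroup
    rw [hG, Nat.card_zpowers, hco] at h
    refine Nat.eq_of_mul_eq_mul_right two_pos (h.symm.trans ?_)
    ring
  let T₂ : Sylow 2 (Matrix.SpecialLinearGroup (Fin 2) (ZMod q) ⧸ Z) := Sylow.ofCard T' (by
    rw [factorization_two hcardQ hm, hTc', hao', ← pow_succ'])
  obtain ⟨e'⟩ := PGroups.nonempty_mulEquiv_dihedral (G := ↥T') (c := ⟨π a, haT'⟩)
    (y := ⟨π b, hbT'⟩) (n := 2 ^ j) (by rw [Subgroup.orderOf_mk, hao'])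
    (fun ⟨i, hi⟩ => hbn' ⟨i, by simpa using congrArg Subtype.val hi⟩)
    (Subtype.ext (by simpa using hb2')) (Subtype.ext (by simpa using hconj'))
    (by rw [hTc', hao'])
  have hi' : π i₀ ∈ Subgroup.zpowers (π a) := by
    obtain ⟨i, rfl⟩ := hi₀
    exact ⟨i, (map_zpow π a i).symm⟩
  have hg' : π g * π i₀ * (π g)⁻¹ = π b := by rw [← map_inv, ← map_mul, ← map_mul, hg]
  exact not_supersoluble hS T₂ (e.trans e'.symm) hTn' hi' (Subgroup.zpowers_le.2 haT' hi')
    (hg'.symm ▸ hbT') (hg'.symm ▸ hbn')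

open Classical in
/-- Two semidihedral groups of the same order are isomorphic. -/
theorem sd_iso {A B : Type*} [Group A] [Group B] [Finite A] [Finite B] {m : ℕ} {x y : A} {X Y : B}
    (hA : H39.SDGen m x y) (hB : H39.SDGen m X Y) : Nonempty (A ≃* B) := by
  let f : A → B := fun g =>
    if h : ∃ i : ℤ, g = x ^ i then X ^ h.choose
    else if h' : ∃ i : ℤ, g = x ^ i * y then X ^ h'.choose * Y else 1
  have hin : ∀ i : ℤ, f (x ^ i) = X ^ i := fun i => by
    have h : ∃ l : ℤ, x ^ i = x ^ l := ⟨i, rfl⟩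
    simp only [f, dif_pos h]
    exact (hB.zpow_eq).2 (hA.zpow_eq.1 h.choose_spec.symm)
  have hout : ∀ i : ℤ, f (x ^ i * y) = X ^ i * Y := fun i => by
    have h : ¬ ∃ l : ℤ, x ^ i * y = x ^ l := fun ⟨l, hl⟩ => hA.out_ne_in i l hl
    have h' : ∃ l : ℤ, x ^ i * y = x ^ l * y := ⟨i, rfl⟩
    simp only [f, dif_neg h, dif_pos h']
    exact hB.out_eq_out.2 (hA.out_eq_out.1 h'.choose_spec.symm)
  let φ : A →* B := MonoidHom.mk' f fun g k => by
    rcases hA.cases_elem g with ⟨i, rfl⟩ | ⟨i, rfl⟩ <;>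
      rcases hA.cases_elem k with ⟨l, rfl⟩ | ⟨l, rfl⟩
    · rw [← zpow_add, hin, hin, hin, zpow_add]
    · rw [H39.SDGen.in_mul_out, hin, hout, hout, H39.SDGen.in_mul_out]
    · rw [hA.out_mul_in, hout, hin, hout, hB.out_mul_in]
    · rw [hA.out_mul_out, hout, hout, hin, hB.out_mul_out]
  have hinj : Function.Injective φ := by
    intro g k hgk
    rcases hA.cases_elem g with ⟨i, rfl⟩ | ⟨i, rfl⟩ <;>
      rcases hA.cases_elem k with ⟨l, rfl⟩ | ⟨l, rfl⟩
    · exact hA.zpow_eq.2 (hB.zpow_eq.1 ((hin i).symm.trans (hgk.trans (hin l))))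
    · exact absurd ((hin i).symm.trans (hgk.trans (hout l))).symm (hB.out_ne_in l i)
    · exact absurd ((hout i).symm.trans (hgk.trans (hin l))) (hB.out_ne_in i l)
    · exact hA.out_eq_out.2 (hB.out_eq_out.1 ((hout i).symm.trans (hgk.trans (hout l))))
  exact ⟨MulEquiv.ofBijective φ (hinj.bijective_of_nat_card_le (by rw [hA.card, hB.card]))⟩

section GLq

open Matrix

variable {q : ℕ} [hq : Fact q.Prime]

local notation "K" => ZMod q

/-- A Sylow subgroup of `GL₂(q)` that is semidihedral, with fused elements of order four. -/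
theorem gl_data {m : ℕ} (hmod : q ≡ 2 ^ (m + 2) - 1 [MOD 2 ^ (m + 3)]) :
    ∃ (T : Sylow 2 (GL (Fin 2) K)) (X Y : ↥T.toSubgroup) (a g : GL (Fin 2) K),
      H39.SDGen m X Y ∧ a ∈ Subgroup.zpowers (X : GL (Fin 2) K) ∧
      g * a * g⁻¹ ∈ T.toSubgroup ∧ g * a * g⁻¹ ∉ Subgroup.zpowers (X : GL (Fin 2) K) ∧
      ∀ t ∈ T.toSubgroup, ∀ c ∈ Subgroup.zpowers (X : GL (Fin 2) K),
        t * c * t⁻¹ ∈ Subgroup.zpowers (X : GL (Fin 2) K) := by
  obtain ⟨l, hl⟩ : ∃ l, q + 1 = 2 ^ (m + 2) * (2 * l + 1) := by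
    have hpos : 2 ≤ 2 ^ (m + 2) := Nat.le_self_pow (by omega) 2
    have h1 : q % 2 ^ (m + 3) = 2 ^ (m + 2) - 1 := by
      rw [hmod]
      refine Nat.mod_eq_of_lt ?_
      rw [pow_succ 2 (m + 2)]
      omega
    refine ⟨q / 2 ^ (m + 3), ?_⟩
    have := Nat.div_add_mod q (2 ^ (m + 3))
    rw [h1] at this
    have e : 2 ^ (m + 2) * (2 * (q / 2 ^ (m + 3)) + 1) =
        2 ^ (m + 3) * (q / 2 ^ (m + 3)) + 2 ^ (m + 2) := by ring
    omega
  obtain ⟨k, hk⟩ : ∃ k, q = 4 * k + 3 := by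
    refine ⟨2 ^ m * (2 * l + 1) - 1, ?_⟩
    have e : 2 ^ (m + 2) * (2 * l + 1) = 4 * (2 ^ m * (2 * l + 1)) := by ring
    have hpos : 0 < 2 ^ m * (2 * l + 1) := by positivity
    omega
  have hnsq : ∀ x : K, x * x ≠ -1 := fun x hx =>
    (ZMod.exists_sq_eq_neg_one_iff (p := q)).1 ⟨x, hx.symm⟩ (by omega)
  have hnz : ∀ a b : K, a * a + b * b = 0 → a = 0 ∧ b = 0 := fun a b h => by
    by_cases hb : b = 0
    · subst hb
      rw [mul_zero, add_zero, mul_self_eq_zero] at h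
      exact ⟨h, rfl⟩
    · exact absurd (by field_simp; linear_combination h) (hnsq (a / b))
  have h2 : (2 : K) ≠ 0 := by
    intro h
    have h' : ((2 : ℕ) : K) = 0 := by exact_mod_cast h
    rw [ZMod.natCast_eq_zero_iff] at h'
    have := Nat.le_of_dvd two_pos h'
    omega
  let mk : ∀ a b : K, (a, b) ≠ 0 → GL (Fin 2) K := fun a b h =>
    Matrix.GeneralLinearGroup.mkOfDetNeZero !![a, -b; b, a] (by
      rw [Matrix.det_fin_two_of]
      intro h0
      obtain ⟨rfl, rfl⟩ := hnz a b (by linear_combination h0)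
      exact h rfl)
  let I : GL (Fin 2) K := mk 0 1 (by simp)
  have hI : I.1 = !![0, -1; 1, 0] := rfl
  let U : Subgroup (GL (Fin 2) K) := Subgroup.centralizer {I}
  have hUmem : ∀ {u : GL (Fin 2) K}, u ∈ U ↔ ∃ a b : K, u.1 = !![a, -b; b, a] := by
    intro u
    rw [Subgroup.mem_centralizer_singleton_iff]
    constructor
    · intro h
      have h' : u.1 * I.1 = I.1 * u.1 := congrArg Units.val h
      have e00 := congrFun (congrFun h' 0) 0
      have e01 := congrFun (congrFun h' 0) 1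
      simp [hI, Matrix.mul_apply, Fin.sum_univ_two] at e00 e01
      refine ⟨u.1 0 0, u.1 1 0, ?_⟩
      ext i j
      fin_cases i <;> fin_cases j <;> simp
      · linear_combination e00
      · linear_combination -e01
    · rintro ⟨a, b, h⟩
      refine Units.ext ?_
      show u.1 * I.1 = I.1 * u.1
      rw [h, hI, Matrix.mul_fin_two, Matrix.mul_fin_two]
      ext i j
      fin_cases i <;> fin_cases j <;> simp
  have hUcard : Nat.card U = q ^ 2 - 1 := by
    have e : {v : K × K // v ≠ 0} ≃ ↥U :=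
      Equiv.ofBijective (fun v => ⟨mk v.1.1 v.1.2 v.2, hUmem.2 ⟨_, _, rfl⟩⟩) ⟨fun v w h => by
        have h' := congrArg (fun z : ↥U => (z : GL (Fin 2) K).1) h
        have e0 := congrFun (congrFun h' 0) 0
        have e1 := congrFun (congrFun h' 1) 0
        exact Subtype.ext (Prod.ext e0 e1), fun u => by
        obtain ⟨a, b, h⟩ := hUmem.1 u.2
        have hne : (a, b) ≠ 0 := fun h0 => by
          obtain ⟨rfl, rfl⟩ := Prod.mk_eq_zero.1 h0
          have := Matrix.GeneralLinearGroup.det_ne_zero (u : GL (Fin 2) K)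
          rw [h] at this
          simp [Matrix.det_fin_two_of] at this
        exact ⟨⟨(a, b), hne⟩, Subtype.ext (Units.ext h.symm)⟩⟩
    classical
    rw [← Nat.card_congr e, Nat.card_eq_fintype_card, Fintype.card_subtype_compl, Fintype.card_prod,
      ZMod.card, Fintype.card_subtype_eq, pow_two]
  have hUc : ∀ u ∈ U, ∀ v ∈ U, u * v = v * u := by
    intro u hu v hv
    obtain ⟨a, b, h⟩ := hUmem.1 hu
    obtain ⟨c, d, h'⟩ := hUmem.1 hv
    refine Units.ext ?_
    show u.1 * v.1 = v.1 * u.1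
    rw [h, h', Matrix.mul_fin_two, Matrix.mul_fin_two]
    ext i j
    fin_cases i <;> fin_cases j <;> simp <;> ring
  have hU2 : ∀ u ∈ U, u ^ 2 = 1 → u = 1 ∨ u.1 = -1 := by
    intro u hu h
    obtain ⟨a, b, hab⟩ := hUmem.1 hu
    have h' : u.1 * u.1 = 1 := by rw [← pow_two]; exact congrArg Units.val h
    rw [hab, Matrix.mul_fin_two] at h'
    have e00 := congrFun (congrFun h' 0) 0
    have e10 := congrFun (congrFun h' 1) 0
    simp at e00 e10
    have hb : b = 0 := by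
      have : (2 : K) * (a * b) = 0 := by linear_combination e10
      rcases mul_eq_zero.1 ((mul_eq_zero.1 this).resolve_left h2) with rfl | hb
      · exact absurd (by linear_combination -e00) (hnsq b)
      · exact hb
    subst hb
    rcases mul_self_eq_one_iff.1 (show a * a = 1 by linear_combination e00) with rfl | rfl
    · left
      refine Units.ext (hab.trans ?_)
      ext i j
      fin_cases i <;> fin_cases j <;> simp
    · right
      refine hab.trans ?_
      ext i j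
      fin_cases i <;> fin_cases j <;> simp
  -- an element of order `2 ^ (m + 3)`
  have hodd1 : Odd ((2 * l + 1) * (2 * k + 1)) := Odd.mul ⟨l, rfl⟩ ⟨k, rfl⟩
  have hUfac : Nat.card U = 2 ^ (m + 3) * ((2 * l + 1) * (2 * k + 1)) := by
    rw [hUcard, show q ^ 2 - 1 = (q + 1) * (q - 1) by simpa using Nat.sq_sub_sq q 1, hl,
      show q - 1 = 2 * (2 * k + 1) by omega]
    ring
  haveI : Fact (Nat.Prime 2) := ⟨Nat.prime_two⟩
  obtain ⟨P₀⟩ : Nonempty (Sylow 2 ↥U) := inferInstance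
  let P : Subgroup (GL (Fin 2) K) := (P₀ : Subgroup ↥U).map U.subtype
  have hPU : P ≤ U := Subgroup.map_subtype_le _
  have hPc : Nat.card P = 2 ^ (m + 3) := by
    rw [Subgroup.card_map_of_injective U.subtype_injective, Sylow.card_eq_multiplicity,
      factorization_two hUfac hodd1]
  have hPcy : IsCyclic P := by
    let N1 : GL (Fin 2) K := mk (-1) 0 (by simp)
    have hN1 : N1.1 = -1 := by
      show !![(-1 : K), -0; 0, -1] = -1
      ext i j
      fin_cases i <;> fin_cases j <;> simp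
    have := PGroups.isCyclic_of_small_omega (G := ↥P) (p := 2) (IsPGroup.of_card hPc) (A := ⊤)
      ⟨⟨fun u v => Subtype.ext (Subtype.ext (hUc _ (hPU (u : ↥P).2) _ (hPU (v : ↥P).2)))⟩⟩
      ((Subgroup.zpowers N1).subgroupOf P) (fun u _ hu => by
        rcases hU2 _ (hPU u.2) (congrArg Subtype.val hu) with h | h
        · show (u : GL (Fin 2) K) ∈ Subgroup.zpowers N1
          rw [h]; exact one_mem _
        · show (u : GL (Fin 2) K) ∈ Subgroup.zpowers N1
          rw [show (u : GL (Fin 2) K) = N1 from Units.ext (h.trans hN1.symm)]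
          exact Subgroup.mem_zpowers _)
      (by
        refine (Nat.card_le_card_of_injective (fun w : ↥((Subgroup.zpowers N1).subgroupOf P) =>
          (⟨((w : ↥P) : GL (Fin 2) K), w.2⟩ :
          ↥(Subgroup.zpowers N1))) fun a b h => Subtype.ext (Subtype.ext (congrArg
            (fun z : ↥(Subgroup.zpowers N1) => (z : GL (Fin 2) K)) h))).trans ?_
        rw [Nat.card_zpowers]
        exact Nat.le_of_dvd two_pos (orderOf_dvd_of_pow_eq_one
          (Units.ext (by rw [Units.val_pow_eq_pow_val, hN1]; simp))))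
    exact isCyclic_of_surjective (Subgroup.topEquiv (G := ↥P)).toMonoidHom Subgroup.topEquiv.surjective
  obtain ⟨⟨X, hXP⟩, hXgen⟩ := IsCyclic.exists_generator (α := ↥P)
  have hXo : orderOf X = 2 ^ (m + 3) := by
    rw [← hPc, ← orderOf_eq_card_of_forall_mem_zpowers hXgen, Subgroup.orderOf_mk]
  have hXU : X ∈ U := hPU hXP
  set e₀ := X ^ 2 ^ (m + 1) with he₀
  have hX4 : X ^ 2 ^ (m + 2) ≠ 1 := fun h => by
    have h1 := orderOf_dvd_of_pow_eq_one h
    rw [hXo, Nat.pow_dvd_pow_iff_le_right one_lt_two] at h1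
    omega
  have hXm : (X ^ 2 ^ (m + 2)).1 = -1 := (hU2 _ (U.pow_mem hXU _) (by
    rw [← pow_mul, ← pow_succ, ← hXo, pow_orderOf_eq_one])).resolve_left hX4
  have he₀sq : e₀.1 * e₀.1 = -1 := by
    rw [← Units.val_mul, ← pow_add, ← two_mul, ← pow_succ', hXm]
  obtain ⟨a, b, hab⟩ := hUmem.1 (U.pow_mem hXU (2 ^ (m + 1)) : e₀ ∈ U)
  have hIX : I ∈ Subgroup.zpowers X := by
    have h' := he₀sq
    rw [hab, Matrix.mul_fin_two] at h'
    have e00 := congrFun (congrFun h' 0) 0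
    have e10 := congrFun (congrFun h' 1) 0
    simp at e00 e10
    have ha : a = 0 := by
      have : (2 : K) * (a * b) = 0 := by linear_combination e10
      rcases mul_eq_zero.1 ((mul_eq_zero.1 this).resolve_left h2) with ha | rfl
      · exact ha
      · exact absurd (by linear_combination e00) (hnsq a)
    subst ha
    rcases mul_self_eq_one_iff.1 (show b * b = 1 by linear_combination -e00) with rfl | rfl
    · rw [show I = e₀ from Units.ext (hI.trans (hab.trans (by simp)).symm)]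
      exact Subgroup.npow_mem_zpowers X _
    · rw [show I = X ^ 2 ^ (m + 2) * e₀ from Units.ext (by
        rw [Units.val_mul, hXm, hab, hI, neg_one_mul]
        ext i j
        fin_cases i <;> fin_cases j <;> simp)]
      exact mul_mem (Subgroup.npow_mem_zpowers X _) (Subgroup.npow_mem_zpowers X _)
  -- the Frobenius element
  let Y : GL (Fin 2) K := Matrix.GeneralLinearGroup.mkOfDetNeZero !![1, 0; 0, -1]
    (by rw [Matrix.det_fin_two_of]; simp)
  have hYval : Y.1 = !![1, 0; 0, -1] := rfl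
  have hY2 : Y ^ 2 = 1 := by
    refine Units.ext ?_
    rw [Units.val_pow_eq_pow_val, pow_two, hYval, Matrix.mul_fin_two, Units.val_one]
    ext i j
    fin_cases i <;> fin_cases j <;> simp
  have hYU : Y ∉ U := fun h => by
    obtain ⟨c, d, hcd⟩ := hUmem.1 h
    rw [hYval] at hcd
    have e0 := congrFun (congrFun hcd 0) 0
    have e1 := congrFun (congrFun hcd 1) 1
    simp at e0 e1
    exact h2 (by linear_combination e0 - e1)
  have hfrob : Y * X * Y⁻¹ = X ^ q := by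
    obtain ⟨c, d, hcd⟩ := hUmem.1 hXU
    rw [mul_inv_eq_iff_eq_mul]
    refine Units.ext ?_
    rw [Units.val_mul, Units.val_mul, Units.val_pow_eq_pow_val, hcd, hYval]
    have hsplit : !![c, -d; d, c] = c • (1 : Matrix (Fin 2) (Fin 2) K) + d • I.1 := by
      rw [hI]
      ext i j
      fin_cases i <;> fin_cases j <;> simp
    have hI2 : I.1 * I.1 = -1 := by
      rw [hI, Matrix.mul_fin_two]
      ext i j
      fin_cases i <;> fin_cases j <;> simp
    have hIq : I.1 ^ q = -I.1 := by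
      rw [show I.1 ^ q = I.1 ^ (4 * k + 3) from congrArg (fun n => I.1 ^ n) hk, pow_add, show 4 * k = 2 * (2 * k) by ring, pow_mul, pow_two, hI2,
        Even.neg_one_pow ⟨k, two_mul k⟩, one_mul, pow_succ, pow_two, hI2, neg_one_mul]
    have hpow : !![c, -d; d, c] ^ q = c • (1 : Matrix (Fin 2) (Fin 2) K) + d • (-I.1) := by
      rw [hsplit, add_pow_char_of_commute (R := Matrix (Fin 2) (Fin 2) K) q
        ((Commute.one_left _).smul_left c |>.smul_right d), smul_pow, smul_pow, one_pow, ZMod.pow_card,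
        ZMod.pow_card, hIq]
    rw [hpow, hI]
    ext i j
    fin_cases i <;> fin_cases j <;> simp [Matrix.mul_apply, Fin.sum_univ_two]
  have hq2 : q % 2 ^ (m + 3) = 2 ^ (m + 2) - 1 := by
    rw [hmod]
    refine Nat.mod_eq_of_lt ?_
    have : 2 ≤ 2 ^ (m + 2) := Nat.le_self_pow (by omega) 2
    rw [pow_succ 2 (m + 2)]
    omega
  have hconj : Y * X * Y⁻¹ = X ^ (2 ^ (m + 2) - 1) := by
    rw [hfrob, ← pow_mod_orderOf X q, hXo, hq2]
  have hYX : Y ∉ Subgroup.zpowers X := fun h => hYU (Subgroup.zpowers_le.2 hXU h)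
  obtain ⟨T, hXT, hYT, hTc, hTn⟩ := exists_gen_two (a := X) (b := Y) (hY2.symm ▸ one_mem _)
    (hconj ▸ Subgroup.npow_mem_zpowers X _) hYX
  have hGcard : Nat.card (GL (Fin 2) K) = 2 ^ (m + 4) * (q * (2 * k + 1) * ((2 * k + 1) * (2 * l + 1))) := by
    rw [Matrix.card_GL_field]
    simp only [Fin.prod_univ_two, ZMod.card, Fin.val_zero, Fin.val_one, pow_zero, pow_one]
    rw [show q ^ 2 - q = q * (q - 1) by rw [Nat.mul_sub_one, pow_two],
      show q ^ 2 - 1 = (q + 1) * (q - 1) by simpa using Nat.sq_sub_sq q 1, hl,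
      show q - 1 = 2 * (2 * k + 1) by omega]
    ring
  have hGodd : Odd (q * (2 * k + 1) * ((2 * k + 1) * (2 * l + 1))) :=
    (Odd.mul ⟨2 * k + 1, by omega⟩ ⟨k, rfl⟩).mul (Odd.mul ⟨k, rfl⟩ ⟨l, rfl⟩)
  have hTc' : Nat.card T = 2 ^ (Nat.card (GL (Fin 2) K)).factorization 2 := by
    rw [factorization_two hGcard hGodd, hTc, hXo, ← pow_succ']
  set J := X * Y with hJ
  have hJ2 : J.1 * J.1 = -1 := by
    have hJJ : J * J = X ^ 2 ^ (m + 2) := by
      have e : X * (Y * X * Y⁻¹) * Y ^ 2 = X ^ 2 ^ (m + 2) := by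
        rw [hconj, hY2, mul_one, ← pow_succ', Nat.sub_add_cancel Nat.one_le_two_pow]
      rw [← e, hJ, pow_two]
      group
    rw [← Units.val_mul, hJJ, hXm]
  have hJ10 : J.1 1 0 ≠ 0 := fun h => by
    have e := congrFun (congrFun hJ2 0) 0
    simp [Matrix.mul_apply, Fin.sum_univ_two, h] at e
    exact hnsq _ e
  let g : GL (Fin 2) K := Matrix.GeneralLinearGroup.mkOfDetNeZero !![1, J.1 0 0; 0, J.1 1 0]
    (by rw [Matrix.det_fin_two_of]; simpa using hJ10)
  have hg : g * I * g⁻¹ = J := by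
    rw [mul_inv_eq_iff_eq_mul]
    refine Units.ext ?_
    show g.1 * I.1 = J.1 * g.1
    have e00 := congrFun (congrFun hJ2 0) 0
    have e10 := congrFun (congrFun hJ2 1) 0
    simp [Matrix.mul_apply, Fin.sum_univ_two] at e00 e10
    rw [hI, show g.1 = !![1, J.1 0 0; 0, J.1 1 0] from rfl]
    ext i j
    fin_cases i <;> fin_cases j <;> simp [Matrix.mul_apply, Fin.sum_univ_two]
    · linear_combination -e00
    · linear_combination -e10
  refine ⟨Sylow.ofCard T hTc', ⟨X, hXT⟩, ⟨Y, hYT⟩, I, g, ⟨?_, ?_, ?_, ?_⟩, hIX, ?_, ?_, hTn⟩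
  · show Nat.card T = _
    rw [hTc, hXo, ← pow_succ']
  · exact (Subgroup.orderOf_coe _).symm.trans hXo
  · exact (Subgroup.orderOf_coe _).symm.trans (orderOf_eq_prime hY2 fun h => hYX (by rw [show Y = 1 from h]; exact one_mem _))
  · exact Subtype.ext hconj
  · rw [hg]
    exact T.mul_mem hXT hYT
  · rw [hg]
    exact fun h => hYX (by simpa [hJ] using mul_mem (inv_mem (Subgroup.mem_zpowers X)) h)

end GLq

/-- Semidihedral groups. -/
theorem quasiDihedral [Finite S] (hS : IsPGroup 2 S) (h : Cfsg.IsQuasiDihedral ↥S) :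
    ¬ ∀ F : FusionSystem S, F.IsSaturated 2 → IsSupersolubleSystem F := by
  haveI : Fact (Nat.Prime 2) := ⟨Nat.prime_two⟩
  obtain ⟨m, x, y, hxy⟩ := H39.exists_sdGen h
  obtain ⟨q, hqp, -, hq⟩ := exists_prime_mod (j := m + 3) (r := 2 ^ (m + 2) - 1) (by omega)
    (Nat.Even.sub_odd Nat.one_le_two_pow (Nat.even_pow.2 ⟨even_two, by omega⟩) odd_one)
  haveI := Fact.mk hqp
  obtain ⟨T, X, Y, a, g, hT, ha, hg, hgn, hn⟩ := gl_data (m := m) hq
  obtain ⟨e⟩ := sd_iso hxy hT
  exact not_supersoluble hS T e hn ha (Subgroup.zpowers_le.2 X.2 ha) hg hgn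

end Cfsg.Agent.H90.TwoWitness
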